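import Mathlib.RingTheory.Length
import Mathlib.Algebra.BigOperators.Finprod
import Mathlib.Algebra.Exact.Basic
import Mathlib.Tactic.Ring
import Mathlib.Tactic.Linarith

/-!
# Euler characteristics of long exact sequences of finite length modules

`il A M` is the length of `M` truncated to an integer, `eu l = ∑ᶠ i, (-1)^i l i`.
Main result `eu_les`: additivity of Euler characteristics in a (homologically indexed, first
quadrant) long exact sequence of modules of finite length vanishing in large degrees.
-/

set_option autoImplicit false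

universe u v w x

namespace Groth.Agent.CycA.EulerLen

open LinearMap

/-- The length of a module as an integer (infinite length is read as zero). -/
noncomputable def il (A : Type u) [Ring A] (M : Type v) [AddCommGroup M] [Module A M] : ℤ :=
  ((Module.length A M).toNat : ℤ)

/-- The alternating sum of a sequence of integers. -/
noncomputable def eu (l : ℕ → ℤ) : ℤ := ∑ᶠ i : ℕ, (-1 : ℤ) ^ i * l i

theorem eu_eq_sum (l : ℕ → ℤ) (d : ℕ) (h : ∀ i, d < i → l i = 0) :
    eu l = ∑ i ∈ Finset.range (d + 1), (-1 : ℤ) ^ i * l i := by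
  unfold eu
  rw [finsum_eq_sum_of_support_subset]
  intro i hi
  simp only [Function.mem_support] at hi
  simp only [Finset.coe_range, Set.mem_Iio]
  by_contra hlt
  exact hi (by rw [h i (by omega), mul_zero])

theorem eu_congr {l l' : ℕ → ℤ} (h : ∀ i, l i = l' i) : eu l = eu l' := by
  have : l = l' := funext h
  rw [this]

theorem eu_zero : eu (fun _ => 0) = 0 := by
  simp [eu]

theorem eu_of_zero {l : ℕ → ℤ} (h : ∀ i, l i = 0) : eu l = 0 := by
  rw [eu_congr h, eu_zero]

/-- If the sequence vanishes in positive degrees, its Euler characteristic is the zeroth term. -/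
theorem eu_eq_zeroth {l : ℕ → ℤ} (h : ∀ i, 0 < i → l i = 0) : eu l = l 0 := by
  rw [eu_eq_sum l 0 h]
  simp

theorem eu_add (l l' : ℕ → ℤ) (d : ℕ) (h : ∀ i, d < i → l i = 0) (h' : ∀ i, d < i → l' i = 0) :
    eu (fun i => l i + l' i) = eu l + eu l' := by
  rw [eu_eq_sum l d h, eu_eq_sum l' d h', eu_eq_sum _ d (fun i hi => by rw [h i hi, h' i hi, add_zero]),
    ← Finset.sum_add_distrib]
  exact Finset.sum_congr rfl fun i _ => by ring

theorem eu_sub (l l' : ℕ → ℤ) (d : ℕ) (h : ∀ i, d < i → l i = 0) (h' : ∀ i, d < i → l' i = 0) :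
    eu (fun i => l i - l' i) = eu l - eu l' := by
  rw [eu_eq_sum l d h, eu_eq_sum l' d h', eu_eq_sum _ d (fun i hi => by rw [h i hi, h' i hi, sub_zero]),
    ← Finset.sum_sub_distrib]
  exact Finset.sum_congr rfl fun i _ => by ring

theorem eu_mul (l : ℕ → ℤ) (c : ℤ) (d : ℕ) (h : ∀ i, d < i → l i = 0) :
    eu (fun i => c * l i) = c * eu l := by
  rw [eu_eq_sum l d h, eu_eq_sum _ d (fun i hi => by rw [h i hi, mul_zero]), Finset.mul_sum]
  exact Finset.sum_congr rfl fun i _ => by ring

/-- `∑_i (-1)^i c_i + ∑_i (-1)^(i+1) c_i = 0`. -/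
theorem eu_shift (c : ℕ → ℤ) (l : ℕ → ℤ) (d : ℕ) (h : ∀ i, d < i → c i = 0)
    (h0 : l 0 = 0) (hl : ∀ i, l (i + 1) = c i) : eu c + eu l = 0 := by
  have hl' : ∀ i, d + 1 < i → l i = 0 := by
    intro i hi
    obtain ⟨j, rfl⟩ : ∃ j, i = j + 1 := ⟨i - 1, by omega⟩
    rw [hl, h j (by omega)]
  rw [eu_eq_sum c d h, eu_eq_sum l (d + 1) hl', Finset.sum_range_succ' (fun i => (-1 : ℤ) ^ i * l i)]
  simp only [h0, mul_zero, add_zero, hl]
  rw [← Finset.sum_add_distrib]
  exact Finset.sum_eq_zero fun i _ => by ring

section Modules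

variable {A : Type u} [Ring A]

theorem il_of_subsingleton (M : Type v) [AddCommGroup M] [Module A M] [Subsingleton M] :
    il A M = 0 := by
  simp [il, Module.length_eq_zero]

theorem il_congr {M : Type v} {N : Type w} [AddCommGroup M] [Module A M] [AddCommGroup N]
    [Module A N] (e : M ≃ₗ[A] N) : il A M = il A N := by
  simp [il, e.length_eq]

theorem il_nonneg (M : Type v) [AddCommGroup M] [Module A M] : 0 ≤ il A M := by
  simp [il]

theorem coe_il {M : Type v} [AddCommGroup M] [Module A M] (h : Module.length A M ≠ ⊤) :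
    ((il A M).toNat : ℕ∞) = Module.length A M := by
  simp only [il, Int.toNat_natCast]
  exact ENat.natCast_toNat h

theorem il_eq_add_of_exact {M : Type v} {N : Type w} {P : Type x} [AddCommGroup M] [Module A M]
    [AddCommGroup N] [Module A N] [AddCommGroup P] [Module A P] (f : M →ₗ[A] N) (g : N →ₗ[A] P)
    (hf : Function.Injective f) (hg : Function.Surjective g) (h : Function.Exact f g)
    (hN : Module.length A N ≠ ⊤) : il A N = il A M + il A P := by
  have h1 := Module.length_eq_add_of_exact f g hf hg h
  have hM : Module.length A M ≠ ⊤ := by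
    intro h'; rw [h', top_add] at h1; exact hN h1
  have hP : Module.length A P ≠ ⊤ := by
    intro h'; rw [h', add_top] at h1; exact hN h1
  unfold il
  rw [h1, ENat.toNat_add hM hP, Nat.cast_add]

theorem length_eq_ker_add_range {M : Type v} {N : Type w} [AddCommGroup M] [Module A M]
    [AddCommGroup N] [Module A N] (f : M →ₗ[A] N) :
    Module.length A M = Module.length A (ker f) + Module.length A (range f) :=
  Module.length_eq_add_of_exact (ker f).subtype f.rangeRestrict (ker f).injective_subtype
    f.surjective_rangeRestrict (by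
      intro x
      constructor
      · intro hx
        exact ⟨⟨x, by simpa [Subtype.ext_iff] using hx⟩, rfl⟩
      · rintro ⟨y, rfl⟩
        exact Subtype.ext y.2)

theorem il_eq_ker_add_range {M : Type v} {N : Type w} [AddCommGroup M] [Module A M]
    [AddCommGroup N] [Module A N] (f : M →ₗ[A] N) (hM : Module.length A M ≠ ⊤) :
    il A M = il A (ker f) + il A (range f) := by
  refine il_eq_add_of_exact (ker f).subtype f.rangeRestrict (ker f).injective_subtype
    f.surjective_rangeRestrict (fun x => ?_) hM
  constructor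
  · intro hx
    exact ⟨⟨x, by simpa [Subtype.ext_iff] using hx⟩, rfl⟩
  · rintro ⟨y, rfl⟩
    exact Subtype.ext y.2

theorem il_quot_add {M : Type v} [AddCommGroup M] [Module A M] (S : Submodule A M)
    (hM : Module.length A M ≠ ⊤) : il A M = il A S + il A (M ⧸ S) :=
  il_eq_add_of_exact S.subtype S.mkQ S.injective_subtype S.mkQ_surjective
    (LinearMap.exact_subtype_mkQ S) hM

/-- In an exact sequence `M → N → P` with outer terms of finite length the middle one has finite
length. -/
theorem length_ne_top_of_exact {M : Type v} {N : Type w} {P : Type x} [AddCommGroup M] [Module A M]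
    [AddCommGroup N] [Module A N] [AddCommGroup P] [Module A P] (f : M →ₗ[A] N) (g : N →ₗ[A] P)
    (h : Function.Exact f g) (hM : Module.length A M ≠ ⊤) (hP : Module.length A P ≠ ⊤) :
    Module.length A N ≠ ⊤ := by
  rw [length_eq_ker_add_range g]
  have h1 : Module.length A (ker g) ≤ Module.length A M := by
    rw [LinearMap.exact_iff.mp h]
    exact Module.length_le_of_surjective f.rangeRestrict f.surjective_rangeRestrict
  have h2 : Module.length A (range g) ≤ Module.length A P :=
    Module.length_le_of_injective (range g).subtype (range g).injective_subtype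
  exact WithTop.add_ne_top.mpr ⟨ne_top_of_le_ne_top hM h1, ne_top_of_le_ne_top hP h2⟩

end Modules

section LES

variable {A : Type u} [Ring A] {TA TB TC : ℕ → Type v}
  [∀ i, AddCommGroup (TA i)] [∀ i, Module A (TA i)]
  [∀ i, AddCommGroup (TB i)] [∀ i, Module A (TB i)]
  [∀ i, AddCommGroup (TC i)] [∀ i, Module A (TC i)]

/-- Additivity of the Euler characteristic in a long exact sequence
`⋯ → TA (i+1) → TB (i+1) → TC (i+1) → TA i → TB i → TC i → ⋯ → TC 0 → 0`. -/
theorem eu_les (f : ∀ i, TA i →ₗ[A] TB i) (g : ∀ i, TB i →ₗ[A] TC i)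
    (δ : ∀ i, TC (i + 1) →ₗ[A] TA i)
    (h₁ : ∀ i, Function.Exact (f i) (g i)) (h₂ : ∀ i, Function.Exact (g (i + 1)) (δ i))
    (h₃ : ∀ i, Function.Exact (δ i) (f i)) (h₀ : Function.Surjective (g 0))
    (hA : ∀ i, Module.length A (TA i) ≠ ⊤) (hB : ∀ i, Module.length A (TB i) ≠ ⊤)
    (hC : ∀ i, Module.length A (TC i) ≠ ⊤) (d : ℕ) (dA : ∀ i, d < i → Subsingleton (TA i))
    (dB : ∀ i, d < i → Subsingleton (TB i)) (dC : ∀ i, d < i → Subsingleton (TC i)) :
    eu (fun i => il A (TB i)) = eu (fun i => il A (TA i)) + eu (fun i => il A (TC i)) := by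
  have eB : ∀ i, il A (TB i) = il A (range (f i)) + il A (range (g i)) := fun i => by
    rw [il_eq_ker_add_range (g i) (hB i), LinearMap.exact_iff.mp (h₁ i)]
  have eA : ∀ i, il A (TA i) = il A (range (δ i)) + il A (range (f i)) := fun i => by
    rw [il_eq_ker_add_range (f i) (hA i), LinearMap.exact_iff.mp (h₃ i)]
  have eC : ∀ i, il A (TC (i + 1)) = il A (range (g (i + 1))) + il A (range (δ i)) := fun i => by
    rw [il_eq_ker_add_range (δ i) (hC (i + 1)), LinearMap.exact_iff.mp (h₂ i)]
  have eC0 : il A (TC 0) = il A (range (g 0)) := by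
    rw [LinearMap.range_eq_top.mpr h₀]
    exact (il_congr (Submodule.topEquiv)).symm
  have zf : ∀ i, d < i → il A (range (f i)) = 0 := fun i hi => by
    have := dA i hi
    have : Subsingleton (range (f i)) := by
      refine ⟨?_⟩
      rintro ⟨_, x, rfl⟩ ⟨_, y, rfl⟩
      exact Subtype.ext (congrArg (f i) (Subsingleton.elim x y))
    exact il_of_subsingleton _
  have zg : ∀ i, d < i → il A (range (g i)) = 0 := fun i hi => by
    have := dB i hi
    have : Subsingleton (range (g i)) := by
      refine ⟨?_⟩
      rintro ⟨_, x, rfl⟩ ⟨_, y, rfl⟩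
      exact Subtype.ext (congrArg (g i) (Subsingleton.elim x y))
    exact il_of_subsingleton _
  have zδ : ∀ i, d < i → il A (range (δ i)) = 0 := fun i hi => by
    have := dC (i + 1) (by omega)
    have : Subsingleton (range (δ i)) := by
      refine ⟨?_⟩
      rintro ⟨_, x, rfl⟩ ⟨_, y, rfl⟩
      exact Subtype.ext (congrArg (δ i) (Subsingleton.elim x y))
    exact il_of_subsingleton _
  rw [eu_congr eB, eu_congr eA, eu_add _ _ d zf zg, eu_add _ _ d zδ zf]
  set l : ℕ → ℤ := fun i => Nat.casesOn i 0 (fun j => il A (range (δ j))) with hl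
  have eC' : ∀ i, il A (TC i) = il A (range (g i)) + l i := by
    intro i
    cases i with
    | zero => rw [eC0]; simp [hl]
    | succ j => rw [eC j]
  have hs := eu_shift (fun i => il A (range (δ i))) l d zδ (by simp [hl]) (fun i => by simp [hl])
  rw [eu_congr eC', eu_add _ _ (d + 1) (fun i hi => zg i (by omega)) (by
    intro i hi
    obtain ⟨j, rfl⟩ : ∃ j, i = j + 1 := ⟨i - 1, by omega⟩
    exact zδ j (by omega))]
  linarith

end LES

end Groth.Agent.CycA.EulerLen
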