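import Mathlib.RingTheory.Length
import Mathlib.Algebra.Exact.Basic
import Mathlib.Algebra.Module.Submodule.Range

/-!
# Length calculus for subquotients

`sl A B` is the length of `A / (A ⊓ B)` (used for `B ≤ A`). Two rules suffice for most
computations: additivity `sl_add` and invariance under images `sl_map`.
-/

set_option autoImplicit false

universe u v w

namespace Groth.Agent.CycA.LengthCalc

open LinearMap

variable {R : Type u} [Ring R] {M : Type v} {N : Type w} [AddCommGroup M] [Module R M]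
  [AddCommGroup N] [Module R N]

/-- The length of `A / (A ⊓ B)`. -/
noncomputable def sl (A B : Submodule R M) : ℕ∞ := Module.length R (↥A ⧸ B.submoduleOf A)

/-- A general comparison principle: a linear map surjecting onto the target with kernel the given
submodule computes the length of the quotient. -/
theorem length_quot_eq_of_surjective {P : Type v} {Q : Type w} [AddCommGroup P] [Module R P]
    [AddCommGroup Q] [Module R Q] (g : P →ₗ[R] Q) (hg : Function.Surjective g)
    (K : Submodule R P) (hK : ker g = K) : Module.length R (P ⧸ K) = Module.length R Q := by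
  subst hK
  exact (g.quotKerEquivOfSurjective hg).length_eq

theorem mem_submoduleOf {A B : Submodule R M} {x : A} : x ∈ B.submoduleOf A ↔ (x : M) ∈ B :=
  Iff.rfl

theorem sl_add {A B C : Submodule R M} (h₁ : C ≤ B) (h₂ : B ≤ A) :
    sl A C = sl A B + sl B C := by
  unfold sl
  -- exact sequence 0 → B/C → A/C → A/B → 0
  let i : (↥B ⧸ C.submoduleOf B) →ₗ[R] (↥A ⧸ C.submoduleOf A) :=
    Submodule.mapQ _ _ (Submodule.inclusion h₂) (by
      intro x hx
      exact hx)
  let p : (↥A ⧸ C.submoduleOf A) →ₗ[R] (↥A ⧸ B.submoduleOf A) :=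
    Submodule.mapQ _ _ LinearMap.id (by
      intro x hx
      exact h₁ hx)
  have hi : Function.Injective i := by
    rw [← LinearMap.ker_eq_bot, eq_bot_iff]
    intro x hx
    obtain ⟨x, rfl⟩ := Submodule.Quotient.mk_surjective _ x
    have hx' : (Submodule.Quotient.mk (Submodule.inclusion h₂ x) : ↥A ⧸ C.submoduleOf A) = 0 := hx
    rw [Submodule.Quotient.mk_eq_zero] at hx'
    rw [Submodule.mem_bot, Submodule.Quotient.mk_eq_zero]
    exact hx'
  have hp : Function.Surjective p := by
    intro y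
    obtain ⟨y, rfl⟩ := Submodule.Quotient.mk_surjective _ y
    exact ⟨Submodule.Quotient.mk y, rfl⟩
  have hex : Function.Exact i p := by
    intro y
    obtain ⟨y, rfl⟩ := Submodule.Quotient.mk_surjective _ y
    constructor
    · intro hy
      have hy' : (Submodule.Quotient.mk y : ↥A ⧸ B.submoduleOf A) = 0 := hy
      rw [Submodule.Quotient.mk_eq_zero] at hy'
      exact ⟨Submodule.Quotient.mk ⟨(y : M), hy'⟩, rfl⟩
    · rintro ⟨z, hz⟩
      obtain ⟨z, rfl⟩ := Submodule.Quotient.mk_surjective _ z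
      rw [← hz]
      change (Submodule.Quotient.mk (Submodule.inclusion h₂ z) : ↥A ⧸ B.submoduleOf A) = 0
      rw [Submodule.Quotient.mk_eq_zero]
      exact z.2
  rw [Module.length_eq_add_of_exact i p hi hp hex, add_comm]

theorem sl_map (f : M →ₗ[R] N) {A B : Submodule R M} (h : B ≤ A) (hk : A ⊓ ker f ≤ B) :
    sl (A.map f) (B.map f) = sl A B := by
  unfold sl
  let g : ↥A →ₗ[R] (↥(A.map f) ⧸ (B.map f).submoduleOf (A.map f)) :=
    (Submodule.mkQ _).comp (f.submoduleMap A)
  symm
  refine length_quot_eq_of_surjective g ?_ _ ?_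
  · exact (Submodule.mkQ_surjective _).comp (f.submoduleMap_surjective A)
  · ext x
    rw [LinearMap.mem_ker, LinearMap.comp_apply, Submodule.mkQ_apply, Submodule.Quotient.mk_eq_zero,
      mem_submoduleOf, mem_submoduleOf]
    constructor
    · rintro ⟨b, hb, hbx⟩
      have hbx' : f b = f x := hbx
      have : (x : M) - b ∈ B := hk ⟨A.sub_mem x.2 (h hb), LinearMap.mem_ker.mpr (by
        rw [map_sub, hbx', sub_self])⟩
      have h2 := B.add_mem this hb
      rwa [sub_add_cancel] at h2
    · intro hx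
      exact ⟨x, hx, rfl⟩

/-- Two linear maps out of `M`; same "kernel" on `A` relative to the targets. -/
theorem sl_comap (f : M →ₗ[R] N) {A B : Submodule R N} (h : B ≤ A) (hr : A ≤ B ⊔ range f) :
    sl (A.comap f) (B.comap f) = sl A B := by
  unfold sl
  let g : ↥(A.comap f) →ₗ[R] (↥A ⧸ B.submoduleOf A) :=
    (Submodule.mkQ _).comp ((f.domRestrict (A.comap f)).codRestrict A (fun x => x.2))
  refine length_quot_eq_of_surjective g ?_ _ ?_
  · intro y
    obtain ⟨⟨y, hy⟩, rfl⟩ := Submodule.Quotient.mk_surjective _ y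
    obtain ⟨b, hb, c, ⟨m, rfl⟩, hbc⟩ := Submodule.mem_sup.mp (hr hy)
    have hm : f m ∈ A := by
      have : f m = y - b := by rw [← hbc]; abel
      rw [this]
      exact A.sub_mem hy (h hb)
    refine ⟨⟨m, hm⟩, ?_⟩
    change (Submodule.Quotient.mk _ : ↥A ⧸ B.submoduleOf A) = _
    rw [Submodule.Quotient.eq]
    change f m - y ∈ B
    have : f m - y = -b := by rw [← hbc]; abel
    rw [this]
    exact B.neg_mem hb
  · ext x
    rw [LinearMap.mem_ker, LinearMap.comp_apply, Submodule.mkQ_apply, Submodule.Quotient.mk_eq_zero,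
      mem_submoduleOf, mem_submoduleOf]
    rfl

/-- Second isomorphism theorem for lengths. -/
theorem sl_sup (A B : Submodule R M) : sl (A ⊔ B) B = sl A B := by
  unfold sl
  symm
  refine length_quot_eq_of_surjective
    ((Submodule.mkQ (B.submoduleOf (A ⊔ B))).comp (Submodule.inclusion (le_sup_left))) ?_ _ ?_
  · intro y
    obtain ⟨⟨y, hy⟩, rfl⟩ := Submodule.Quotient.mk_surjective _ y
    obtain ⟨a, ha, b, hb, rfl⟩ := Submodule.mem_sup.mp hy
    refine ⟨⟨a, ha⟩, ?_⟩
    change (Submodule.Quotient.mk _ : ↥(A ⊔ B) ⧸ B.submoduleOf (A ⊔ B)) = _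
    rw [Submodule.Quotient.eq]
    change a - (a + b) ∈ B
    have : a - (a + b) = -b := by abel
    rw [this]
    exact B.neg_mem hb
  · ext x
    rw [LinearMap.mem_ker, LinearMap.comp_apply, Submodule.mkQ_apply, Submodule.Quotient.mk_eq_zero,
      mem_submoduleOf, mem_submoduleOf]
    rfl

theorem sl_inf (A B : Submodule R M) : sl A (A ⊓ B) = sl A B := by
  unfold sl
  have : (A ⊓ B).submoduleOf A = B.submoduleOf A := by
    ext x
    rw [mem_submoduleOf, mem_submoduleOf]
    exact ⟨fun h => h.2, fun h => ⟨x.2, h⟩⟩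
  rw [this]

theorem sl_self (A : Submodule R M) : sl A A = 0 := by
  unfold sl
  rw [Submodule.submoduleOf_self]
  exact Module.length_eq_zero

theorem sl_bot (A : Submodule R M) : sl A ⊥ = Module.length R A := by
  unfold sl
  refine length_quot_eq_of_surjective LinearMap.id Function.surjective_id _ ?_
  ext x
  rw [LinearMap.mem_ker, mem_submoduleOf, Submodule.mem_bot, LinearMap.id_apply]
  exact Subtype.coe_injective.eq_iff' rfl |>.symm

theorem sl_top (B : Submodule R M) : sl ⊤ B = Module.length R (M ⧸ B) := by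
  unfold sl
  refine length_quot_eq_of_surjective ((Submodule.mkQ B).comp (Submodule.subtype ⊤)) ?_ _ ?_
  · intro y
    obtain ⟨y, rfl⟩ := Submodule.Quotient.mk_surjective _ y
    exact ⟨⟨y, trivial⟩, rfl⟩
  · ext x
    rw [LinearMap.mem_ker, LinearMap.comp_apply, Submodule.mkQ_apply, Submodule.Quotient.mk_eq_zero,
      mem_submoduleOf]
    rfl

/-- For any linear map, `ℓ(A/B) = ℓ(f A / f B) + ℓ((A ⊓ ker f) / (B ⊓ ker f))`. -/
theorem sl_map_add (f : M →ₗ[R] N) {A B : Submodule R M} (h : B ≤ A) :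
    sl A B = sl (A.map f) (B.map f) + sl (A ⊓ ker f) (B ⊓ ker f) := by
  have h1 : B ⊔ A ⊓ ker f ≤ A := sup_le h inf_le_left
  rw [sl_add (le_sup_left : B ≤ B ⊔ A ⊓ ker f) h1]
  congr 1
  · rw [← sl_map f h1 le_sup_right, Submodule.map_sup]
    congr 1
    rw [sup_eq_left]
    rintro _ ⟨x, ⟨_, hx⟩, rfl⟩
    have hx' : f x = 0 := hx
    rw [hx']
    exact Submodule.zero_mem _
  · rw [sup_comm, sl_sup, ← sl_inf (A ⊓ ker f) B]
    congr 1
    ext x
    constructor
    · rintro ⟨⟨_, h1⟩, h2⟩
      exact ⟨h2, h1⟩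
    · rintro ⟨h1, h2⟩
      exact ⟨⟨h h1, h2⟩, h1⟩

/-- Monotonicity in the denominator. -/
theorem sl_anti {A B C : Submodule R M} (h₁ : C ≤ B) (h₂ : B ≤ A) : sl A B ≤ sl A C := by
  rw [sl_add h₁ h₂]
  exact le_self_add

/-- Monotonicity in the numerator. -/
theorem sl_mono {A B C : Submodule R M} (h₁ : C ≤ B) (h₂ : B ≤ A) : sl B C ≤ sl A C := by
  rw [sl_add h₁ h₂]
  exact le_add_self

end Groth.Agent.CycA.LengthCalc
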