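import Mathlib.RingTheory.Length
import Mathlib.RingTheory.KrullDimension.Module
import Mathlib.RingTheory.HopkinsLevitzki
import Mathlib.Algebra.Module.Torsion.Basic
import Mathlib.Algebra.Module.Submodule.Pointwise
import Mathlib.RingTheory.Ideal.Quotient.Noetherian
import Groth.Agent.CycA.LengthCalc

/-!
# Finite length criteria

* `length_lt_top_of_supportDim_le_zero`: a finite module over a Noetherian ring with support of
  dimension `≤ 0` has finite length.
* `length_ker_lt_top`: if `N` is a Noetherian module and `N / xN` has finite length then
  `ker (x : N → N)` has finite length; more generally for any endomorphism.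
-/

set_option autoImplicit false

universe u v

namespace Groth.Agent.CycA.FiniteLen

open LinearMap Groth.Agent.CycA.LengthCalc

/-- A finite module over a Noetherian ring, with support of dimension `≤ 0`, has finite length. -/
theorem length_lt_top_of_supportDim_le_zero {R : Type u} [CommRing R] [IsNoetherianRing R]
    {M : Type v} [AddCommGroup M] [Module R M] [Module.Finite R M]
    (h : Module.supportDim R M ≤ 0) : Module.length R M < ⊤ := by
  let _ : Module (R ⧸ Module.annihilator R M) M := Module.quotientAnnihilator
  have : IsScalarTower R (R ⧸ Module.annihilator R M) M := by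
    constructor
    intro r s m
    obtain ⟨s, rfl⟩ := Ideal.Quotient.mk_surjective s
    change ((Ideal.Quotient.mk _ (r * s)) • m) = _
    change (r * s) • m = r • (s • m)
    rw [mul_smul]
  rw [Module.supportDim_eq_ringKrullDim_quotient_annihilator] at h
  have : Ring.KrullDimLE 0 (R ⧸ Module.annihilator R M) := by
    rw [Ring.KrullDimLE, Order.krullDimLE_iff]
    exact h
  have : IsArtinianRing (R ⧸ Module.annihilator R M) :=
    isArtinianRing_iff_krullDimLE_zero.mpr inferInstance
  have : Module.Finite (R ⧸ Module.annihilator R M) M := Module.Finite.of_restrictScalars_finite R _ _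
  have := Module.length_eq_of_surjective (S := R) (R := R ⧸ Module.annihilator R M) (M := M)
    (Ideal.Quotient.mk_surjective)
  rw [this]
  exact (Module.length_ne_top).lt_top

variable {R : Type u} [Ring R] {M : Type v} [AddCommGroup M] [Module R M]

/-- If `N / xN` has finite length, so has `N / xⁿN`. -/
theorem length_quot_pow_lt_top (x : M →ₗ[R] M) (h : Module.length R (M ⧸ range x) < ⊤) (n : ℕ) :
    Module.length R (M ⧸ range (x ^ n)) < ⊤ := by
  induction n with
  | zero =>
    have : range (x ^ 0) = ⊤ := by
      rw [pow_zero]; exact LinearMap.range_id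
    rw [this, ← sl_top, sl_self]
    exact ENat.top_pos
  | succ n ih =>
    rw [← sl_top] at ih h ⊢
    have hr : range (x ^ (n + 1)) = (range x).map (x ^ n) := by
      rw [pow_succ, Module.End.mul_eq_comp, LinearMap.range_comp]
    have hr' : range (x ^ n) = (⊤ : Submodule R M).map (x ^ n) := by
      rw [Submodule.map_top]
    have hle : range (x ^ (n + 1)) ≤ range (x ^ n) := by
      rw [hr, hr']
      exact Submodule.map_mono le_top
    rw [sl_add hle le_top, ENat.add_lt_top]
    refine ⟨ih, ?_⟩
    rw [hr, hr']
    refine lt_of_le_of_lt ?_ h
    rw [sl_map_add (x ^ n) (A := (⊤ : Submodule R M)) (B := range x) le_top]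
    exact le_self_add

/-- If `N` is Noetherian and `N/xN` has finite length then the kernel of `x` has finite length. -/
theorem length_ker_lt_top [IsNoetherian R M] (x : M →ₗ[R] M)
    (h : Module.length R (M ⧸ range x) < ⊤) : Module.length R (ker x) < ⊤ := by
  obtain ⟨n, hn⟩ := (Module.End.eventually_disjoint_ker_pow_range_pow (R := R) x).exists_forall_of_atTop
  have hn' : Disjoint (ker (x ^ (n + 1))) (range (x ^ (n + 1))) := hn (n + 1) (Nat.le_succ n)
  have hle : ker x ≤ ker (x ^ (n + 1)) := by
    intro y hy
    have hy' : x y = 0 := hy
    change (x ^ (n + 1)) y = 0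
    rw [pow_succ, Module.End.mul_apply, hy', map_zero]
  have hinj : Function.Injective ((range (x ^ (n + 1))).mkQ.comp (ker x).subtype) := by
    rw [← LinearMap.ker_eq_bot, eq_bot_iff]
    intro y hy
    rw [LinearMap.mem_ker, LinearMap.comp_apply, Submodule.mkQ_apply,
      Submodule.Quotient.mk_eq_zero] at hy
    have := Submodule.disjoint_def.mp hn' y (hle y.2) hy
    rw [Submodule.mem_bot]
    exact Subtype.ext this
  exact lt_of_le_of_lt (Module.length_le_of_injective _ hinj)
    (length_quot_pow_lt_top x h (n + 1))

end Groth.Agent.CycA.FiniteLen
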