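import Groth.Prelude.Def_IntMult
import Groth.Agent.CycA.EulerLen
import Groth.Agent.CycA.FiniteLen
import Groth.Agent.CycA.TorShift
import Mathlib.RingTheory.Support
import Mathlib.RingTheory.KrullDimension.Regular
import Mathlib.RingTheory.Ideal.AssociatedPrime.Finiteness

set_option autoImplicit false

universe u

namespace Groth.Agent.CycA.ChiRec

open DRing EulerLen LinearMap TorBasic TorShift IsLocalRing

section Basic

variable {A : Type u} [CommRing A]

theorem chi_eq_eu (M N : Type u) [AddCommGroup M] [Module A M] [AddCommGroup N] [Module A N] :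
    IntMult.chi A M N = eu (fun i => il A (Tor A i M N)) := rfl

/-- The supports of the two modules only meet in maximal ideals. -/
def Meets (A : Type u) [CommRing A] (M N : Type u) [AddCommGroup M] [Module A M] [AddCommGroup N]
    [Module A N] : Prop :=
  ∀ p : PrimeSpectrum A, p ∈ Module.support A M → p ∈ Module.support A N → p.asIdeal.IsMaximal

/-- `Tor_i(M,N) = 0` for `i > d`. -/
def TorBd (A : Type u) [CommRing A] (M N : Type u) [AddCommGroup M] [Module A M] [AddCommGroup N]
    [Module A N] (d : ℕ) : Prop :=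
  ∀ i, d < i → Subsingleton (Tor A i M N)

theorem TorBd.mono {M N : Type u} [AddCommGroup M] [Module A M] [AddCommGroup N] [Module A N]
    {d e : ℕ} (h : TorBd A M N d) (hde : d ≤ e) : TorBd A M N e :=
  fun i hi => h i (lt_of_le_of_lt hde hi)

variable {M N : Type u} [AddCommGroup M] [Module A M] [AddCommGroup N] [Module A N]

theorem smul_tor_eq_zero_of_fst (a : A) (ha : ∀ m : M, a • m = 0) (i : ℕ) (z : Tor A i M N) :
    a • z = 0 := by
  have h1 : (a • LinearMap.id : M →ₗ[A] M) = (0 : A) • LinearMap.id := by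
    ext m; simp [ha m]
  have h2 := mapL_smul_id a M i N
  rw [h1, mapL_smul_id (0 : A) M i N] at h2
  have := LinearMap.congr_fun h2 z
  rw [LinearMap.smul_apply, LinearMap.smul_apply, LinearMap.id_apply, zero_smul] at this
  exact this.symm

theorem smul_tor_eq_zero_of_snd (a : A) (ha : ∀ n : N, a • n = 0) (i : ℕ) (z : Tor A i M N) :
    a • z = 0 := by
  have h1 : (a • LinearMap.id : N →ₗ[A] N) = (0 : A) • LinearMap.id := by
    ext m; simp [ha m]
  have h2 := mapR_smul_id a i M N
  rw [h1, mapR_smul_id (0 : A) i M N] at h2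
  have := LinearMap.congr_fun h2 z
  rw [LinearMap.smul_apply, LinearMap.smul_apply, LinearMap.id_apply, zero_smul] at this
  exact this.symm

/-- The long exact sequence in the first variable, with its surjective end. -/
theorem les_fst {M₁ M₂ M₃ : Type u} [AddCommGroup M₁] [Module A M₁] [AddCommGroup M₂]
    [Module A M₂] [AddCommGroup M₃] [Module A M₃] (f : M₁ →ₗ[A] M₂) (g : M₂ →ₗ[A] M₃)
    (hf : Function.Injective f) (hg : Function.Surjective g) (h : Function.Exact f g)
    (N : Type u) [AddCommGroup N] [Module A N] :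
    ∃ δ : ∀ i, Tor A (i + 1) M₃ N →ₗ[A] Tor A i M₁ N,
      (∀ i, Function.Exact (mapL f i N) (mapL g i N)) ∧
      (∀ i, Function.Exact (mapL g (i + 1) N) (δ i)) ∧
      (∀ i, Function.Exact (δ i) (mapL f i N)) ∧ Function.Surjective (mapL g 0 N) := by
  obtain ⟨δ, h1, h2, h3⟩ := exists_les f g hf h hg N
  refine ⟨δ, h1, h2, h3, fun z => ?_⟩
  obtain ⟨y, hy⟩ := LinearMap.rTensor_surjective N hg (zeroEquiv A M₃ N z)
  refine ⟨(zeroEquiv A M₂ N).symm y, ?_⟩
  apply (zeroEquiv A M₃ N).injective
  rw [zeroEquiv_mapL, LinearEquiv.apply_symm_apply, hy]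

/-- `Tor_i(M,N)` is finite for finite modules over a Noetherian ring. -/
theorem tor_finite [IsNoetherianRing A] (i : ℕ) : ∀ (M N : Type u) [AddCommGroup M] [Module A M]
    [AddCommGroup N] [Module A N] [Module.Finite A M] [Module.Finite A N],
    Module.Finite A (Tor A i M N) := by
  induction i with
  | zero =>
    intro M N _ _ _ _ _ _
    exact Module.Finite.equiv (zeroEquiv A M N).symm
  | succ i ih =>
    intro M N _ _ _ _ _ _
    obtain ⟨n, g, hg⟩ := Module.Finite.exists_fin' A M
    obtain ⟨P, _, _, _, _, g', hg'⟩ : ∃ (P : Type u) (_ : AddCommGroup P) (_ : Module A P)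
        (_ : Module.Free A P) (_ : Module.Finite A P) (g' : P →ₗ[A] M), Function.Surjective g' :=
      ⟨ULift.{u} (Fin n → A), inferInstance, inferInstance,
        Module.Free.of_equiv ULift.moduleEquiv.symm, Module.Finite.equiv ULift.moduleEquiv.symm,
        g ∘ₗ ULift.moduleEquiv.toLinearMap, hg.comp ULift.moduleEquiv.surjective⟩
    have hex : Function.Exact (ker g').subtype g' := fun x => by simp
    have hK : Module.Finite A (ker g') := inferInstance
    cases i with
    | zero =>
      obtain ⟨e⟩ := shiftL_one (ker g').subtype g' Subtype.val_injective hex hg' N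
      exact Module.Finite.equiv e.symm
    | succ i =>
      obtain ⟨e⟩ := shiftL (ker g').subtype g' Subtype.val_injective hex hg' i N
      have := ih (ker g') N
      exact Module.Finite.equiv e.symm

theorem torBd_symm {d : ℕ} (h : TorBd A M N d) : TorBd A N M d := fun i hi => by
  obtain ⟨e⟩ := comm (A := A) i N M
  have := h i hi
  exact e.toEquiv.subsingleton

theorem chi_symm (M N : Type u) [AddCommGroup M] [Module A M] [AddCommGroup N] [Module A N] :
    IntMult.chi A M N = IntMult.chi A N M := by
  rw [chi_eq_eu, chi_eq_eu]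
  refine eu_congr fun i => ?_
  obtain ⟨e⟩ := comm (A := A) i M N
  exact il_congr e

theorem annihilator_le_fst (i : ℕ) : Module.annihilator A M ≤ Module.annihilator A (Tor A i M N) :=
  fun a ha => Module.mem_annihilator.mpr fun z =>
    smul_tor_eq_zero_of_fst a (Module.mem_annihilator.mp ha) i z

theorem annihilator_le_snd (i : ℕ) : Module.annihilator A N ≤ Module.annihilator A (Tor A i M N) :=
  fun a ha => Module.mem_annihilator.mpr fun z =>
    smul_tor_eq_zero_of_snd a (Module.mem_annihilator.mp ha) i z

/-- A finite module over a Noetherian ring supported at maximal ideals has finite length. -/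
theorem length_ne_top_of_support [IsNoetherianRing A] {P : Type u} [AddCommGroup P] [Module A P]
    [Module.Finite A P] (h : ∀ p ∈ Module.support A P, p.asIdeal.IsMaximal) :
    Module.length A P ≠ ⊤ := by
  refine (FiniteLen.length_lt_top_of_supportDim_le_zero ?_).ne
  unfold Module.supportDim
  refine iSup_le fun s => ?_
  by_contra hlt
  have hlen : 0 < s.length := by
    rcases Nat.eq_zero_or_pos s.length with h0 | h0
    · exact absurd (by rw [h0]; rfl) hlt
    · exact h0
  have hlt' : s ⟨0, by omega⟩ < s ⟨1, by omega⟩ := s.strictMono (Fin.mk_lt_mk.mpr zero_lt_one)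
  have hm := h _ (s ⟨0, by omega⟩).2
  have hle : ((s ⟨0, by omega⟩ : Module.support A P) : PrimeSpectrum A).asIdeal <
      ((s ⟨1, by omega⟩ : Module.support A P) : PrimeSpectrum A).asIdeal := hlt'
  exact ((s ⟨1, by omega⟩ : Module.support A P) : PrimeSpectrum A).isPrime.ne_top (hm.1.2 _ hle)

theorem isMaximal_of_mem_support_of_length_ne_top {P : Type u} [AddCommGroup P] [Module A P]
    (h : Module.length A P ≠ ⊤) (p : PrimeSpectrum A) (hp : p ∈ Module.support A P) :
    p.asIdeal.IsMaximal := by
  obtain ⟨m, hm⟩ := Module.mem_support_iff_exists_annihilator.mp hp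
  have hl : Module.length A (A ⧸ p.asIdeal) ≠ ⊤ := by
    have h1 : Module.length A (A ⧸ p.asIdeal) ≤ Module.length A (Submodule.span A {m}) := by
      have e1 := (LinearMap.quotKerEquivRange (LinearMap.toSpanSingleton A P m))
      have h2 : Module.length A (A ⧸ ker (LinearMap.toSpanSingleton A P m)) =
          Module.length A (Submodule.span A {m}) := by
        rw [e1.length_eq, LinearMap.range_toSpanSingleton]
      rw [← h2]
      refine Module.length_le_of_surjective (Submodule.factor ?_) (Submodule.factor_surjective _)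
      intro a ha
      apply hm
      rw [Module.mem_annihilator]
      rintro ⟨y, hy⟩
      obtain ⟨c, rfl⟩ := Submodule.mem_span_singleton.mp hy
      ext
      simp only [Submodule.coe_smul, Submodule.coe_zero]
      rw [smul_comm, show a • m = 0 from ha, smul_zero]
    have h3 : Module.length A (Submodule.span A {m}) ≤ Module.length A P :=
      Module.length_le_of_injective (Submodule.subtype _) (Submodule.injective_subtype _)
    exact ne_top_of_le_ne_top h (h1.trans h3)
  have hfl := Module.length_ne_top_iff.mp hl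
  rw [isFiniteLength_iff_isNoetherian_isArtinian] at hfl
  have hA : IsArtinian A (A ⧸ p.asIdeal) := hfl.2
  have : IsArtinianRing (A ⧸ p.asIdeal) :=
    isArtinian_of_tower A hA
  exact Ideal.Quotient.maximal_of_isField _ (IsArtinianRing.isField_of_isDomain _)

theorem length_tor_ne_top [IsNoetherianRing A] [Module.Finite A M] [Module.Finite A N]
    (h : Meets A M N) (i : ℕ) : Module.length A (Tor A i M N) ≠ ⊤ := by
  have : Module.Finite A (Tor A i M N) := tor_finite i M N
  refine length_ne_top_of_support fun p hp => h p ?_ ?_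
  · rw [Module.mem_support_iff_of_finite] at hp ⊢
    exact (annihilator_le_fst i).trans hp
  · rw [Module.mem_support_iff_of_finite] at hp ⊢
    exact (annihilator_le_snd i).trans hp

theorem Meets.symm (h : Meets A M N) : Meets A N M := fun p h1 h2 => h p h2 h1

end Basic

section Additivity

variable {A : Type u} [CommRing A] [IsNoetherianRing A]
variable {M₁ M₂ M₃ : Type u} [AddCommGroup M₁] [Module A M₁] [AddCommGroup M₂] [Module A M₂]
  [AddCommGroup M₃] [Module A M₃] [Module.Finite A M₁] [Module.Finite A M₂] [Module.Finite A M₃]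
  (N : Type u) [AddCommGroup N] [Module A N] [Module.Finite A N]

theorem chi_add_fst (f : M₁ →ₗ[A] M₂) (g : M₂ →ₗ[A] M₃) (hf : Function.Injective f)
    (hg : Function.Surjective g) (h : Function.Exact f g) (hm : Meets A M₂ N) (d : ℕ)
    (d₁ : TorBd A M₁ N d) (d₂ : TorBd A M₂ N d) (d₃ : TorBd A M₃ N d) :
    IntMult.chi A M₂ N = IntMult.chi A M₁ N + IntMult.chi A M₃ N := by
  obtain ⟨δ, h1, h2, h3, h4⟩ := les_fst f g hf hg h N
  rw [chi_eq_eu, chi_eq_eu, chi_eq_eu]
  refine eu_les _ _ δ h1 h2 h3 h4 (fun i => length_tor_ne_top ?_ i) (fun i => length_tor_ne_top hm i)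
    (fun i => length_tor_ne_top ?_ i) d d₁ d₂ d₃
  · exact fun p hp hq => hm p (Module.support_subset_of_injective f hf hp) hq
  · exact fun p hp hq => hm p (Module.support_subset_of_surjective g hg hp) hq

theorem chi_add_snd (f : M₁ →ₗ[A] M₂) (g : M₂ →ₗ[A] M₃) (hf : Function.Injective f)
    (hg : Function.Surjective g) (h : Function.Exact f g) (hm : Meets A N M₂) (d : ℕ)
    (d₁ : TorBd A N M₁ d) (d₂ : TorBd A N M₂ d) (d₃ : TorBd A N M₃ d) :
    IntMult.chi A N M₂ = IntMult.chi A N M₁ + IntMult.chi A N M₃ := by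
  rw [chi_symm N M₁, chi_symm N M₂, chi_symm N M₃]
  exact chi_add_fst N f g hf hg h hm.symm d (torBd_symm d₁) (torBd_symm d₂) (torBd_symm d₃)

end Additivity

section Mult

variable {A : Type u} [CommRing A]

/-- Lengths in a long exact sequence of multiplication type. -/
theorem il_of_les_smul {T C : ℕ → Type u} [∀ i, AddCommGroup (T i)] [∀ i, Module A (T i)]
    [∀ i, AddCommGroup (C i)] [∀ i, Module A (C i)] (x : A) (f : ∀ i, T i →ₗ[A] T i)
    (hf : ∀ i, f i = x • LinearMap.id)
    (g : ∀ i, T i →ₗ[A] C i) (δ : ∀ i, C (i + 1) →ₗ[A] T i)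
    (h₁ : ∀ i, Function.Exact (f i) (g i)) (h₂ : ∀ i, Function.Exact (g (i + 1)) (δ i))
    (h₃ : ∀ i, Function.Exact (δ i) (f i)) (h₀ : Function.Surjective (g 0))
    (hC : ∀ i, Module.length A (C i) ≠ ⊤) :
    il A (C 0) = il A (T 0 ⧸ range (x • LinearMap.id : T 0 →ₗ[A] T 0)) ∧
    ∀ i, il A (C (i + 1)) = il A (T (i + 1) ⧸ range (x • LinearMap.id : T (i + 1) →ₗ[A] T (i + 1))) +
      il A (ker (x • LinearMap.id : T i →ₗ[A] T i)) := by
  constructor
  · rw [← hf 0, ← LinearMap.exact_iff.mp (h₁ 0)]
    exact il_congr ((g 0).quotKerEquivOfSurjective h₀).symm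
  · intro i
    rw [← hf (i + 1), ← hf i, ← LinearMap.exact_iff.mp (h₁ (i + 1)), LinearMap.exact_iff.mp (h₃ i),
      il_eq_ker_add_range (δ i) (hC _), LinearMap.exact_iff.mp (h₂ i)]
    congr 1
    exact il_congr ((g (i + 1)).quotKerEquivRange).symm

end Mult

end Groth.Agent.CycA.ChiRec
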