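import Groth.Agent.CycA.LocLen
import Groth.Agent.CycA.ChiRec
import Mathlib.RingTheory.Ideal.AssociatedPrime.Finiteness

/-!
# Dévissage for additive integer valued functions of finite modules

`devissage`: over a Noetherian ring `A`, let `Φ` be additive on short exact sequences of finite
modules supported in `T`, and `S` a finite set of minimal elements of `T` such that `Φ(A/q) = 0`
for `q ∈ T \ S`. Then `Φ(M) = ∑_{p ∈ S} length(M_p) Φ(A/p)`.
-/

set_option autoImplicit false

universe u

namespace Groth.Agent.CycA.Devissage

open EulerLen ChiRec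

variable {A : Type u} [CommRing A]

/-- The length of `M_p` over `A_p` as an integer. -/
noncomputable def ll (p : PrimeSpectrum A) (M : Type u) [AddCommGroup M] [Module A M] : ℤ :=
  il (Localization.AtPrime p.asIdeal) (LocalizedModule p.asIdeal.primeCompl M)

theorem ll_eq_zero {p : PrimeSpectrum A} {M : Type u} [AddCommGroup M] [Module A M]
    (h : p ∉ Module.support A M) : ll p M = 0 := by
  unfold ll il
  rw [(LocLen.length_loc_eq_zero_iff p).mpr h]
  rfl

theorem ll_congr (p : PrimeSpectrum A) {M N : Type u} [AddCommGroup M] [Module A M]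
    [AddCommGroup N] [Module A N] (e : M ≃ₗ[A] N) : ll p M = ll p N := by
  unfold ll il
  rw [LocLen.length_loc_equiv p.asIdeal e]

theorem ll_self (p : PrimeSpectrum A) : ll p (A ⧸ p.asIdeal) = 1 := by
  unfold ll il
  rw [LocLen.length_loc_quotient_self p.asIdeal]
  rfl

theorem ll_add (p : PrimeSpectrum A) {M₁ M₂ M₃ : Type u} [AddCommGroup M₁] [Module A M₁]
    [AddCommGroup M₂] [Module A M₂] [AddCommGroup M₃] [Module A M₃] (f : M₁ →ₗ[A] M₂)
    (g : M₂ →ₗ[A] M₃) (hf : Function.Injective f) (hg : Function.Surjective g)
    (h : Function.Exact f g)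
    (hfin : Module.length (Localization.AtPrime p.asIdeal)
      (LocalizedModule p.asIdeal.primeCompl M₂) ≠ ⊤) : ll p M₂ = ll p M₁ + ll p M₃ :=
  il_eq_add_of_exact (LocalizedModule.map p.asIdeal.primeCompl f)
    (LocalizedModule.map p.asIdeal.primeCompl g)
    (LocalizedModule.map_injective p.asIdeal.primeCompl f hf)
    (LocalizedModule.map_surjective p.asIdeal.primeCompl g hg)
    (LocalizedModule.map_exact p.asIdeal.primeCompl f g h) hfin

/-- If `p` is minimal in (a set containing) the support of the finite module `M`, then `M_p` has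
finite length. -/
theorem length_loc_ne_top [IsNoetherianRing A] {p : PrimeSpectrum A} {M : Type u} [AddCommGroup M]
    [Module A M] [hM : Module.Finite A M] (h : ∀ q ∈ Module.support A M, q ≤ p → q = p) :
    Module.length (Localization.AtPrime p.asIdeal) (LocalizedModule p.asIdeal.primeCompl M) ≠ ⊤ := by
  revert h
  induction hM using IsNoetherianRing.induction_on_isQuotientEquivQuotientPrime A with
  | subsingleton N =>
    intro _
    have : p ∉ Module.support A N := by
      rw [Module.support_eq_empty]
      exact Set.notMem_empty _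
    rw [(LocLen.length_loc_eq_zero_iff p).mpr this]
    exact ENat.zero_ne_top
  | quotient N q e =>
    intro h
    by_cases hq : q ≤ p
    · have : q = p := h q (by
        rw [e.support_eq, Module.support_eq_zeroLocus, Ideal.annihilator_quotient]
        exact fun x hx => hx) hq
      subst this
      rw [LocLen.length_loc_equiv q.asIdeal e, LocLen.length_loc_quotient_self q.asIdeal]
      exact ENat.one_ne_top
    · have : p ∉ Module.support A N := by
        rw [e.support_eq, Module.support_eq_zeroLocus, Ideal.annihilator_quotient]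
        exact hq
      rw [(LocLen.length_loc_eq_zero_iff p).mpr this]
      exact ENat.zero_ne_top
  | exact N₁ N₂ N₃ f g hf hg hfg h₁ h₃ =>
    intro h
    rw [LocLen.length_loc_add p.asIdeal f g hf hg hfg]
    exact WithTop.add_ne_top.mpr
      ⟨h₁ fun q hq => h q (Module.support_subset_of_injective f hf hq),
        h₃ fun q hq => h q (Module.support_subset_of_surjective g hg hq)⟩

/-- Dévissage. -/
theorem devissage [IsNoetherianRing A] (T : Set (PrimeSpectrum A))
    (Φ : (M : Type u) → [AddCommGroup M] → [Module A M] → [Module.Finite A M] → ℤ)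
    (hadd : ∀ (M₁ M₂ M₃ : Type u) [AddCommGroup M₁] [Module A M₁] [Module.Finite A M₁]
      [AddCommGroup M₂] [Module A M₂] [Module.Finite A M₂] [AddCommGroup M₃] [Module A M₃]
      [Module.Finite A M₃] (f : M₁ →ₗ[A] M₂) (g : M₂ →ₗ[A] M₃), Function.Injective f →
      Function.Surjective g → Function.Exact f g → Module.support A M₂ ⊆ T →
      Φ M₂ = Φ M₁ + Φ M₃)
    (S : Finset (PrimeSpectrum A)) (hS : ∀ p ∈ S, ∀ q ∈ T, q ≤ p → q = p)
    (hΦ : ∀ q ∈ T, q ∉ S → Φ (A ⧸ q.asIdeal) = 0)
    (M : Type u) [AddCommGroup M] [Module A M] [hM : Module.Finite A M]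
    (hMT : Module.support A M ⊆ T) : Φ M = ∑ p ∈ S, ll p M * Φ (A ⧸ p.asIdeal) := by
  have hzero : ∀ (N : Type u) [AddCommGroup N] [Module A N] [Module.Finite A N] [Subsingleton N],
      Φ N = 0 := by
    intro N _ _ _ _
    have h1 : Module.support A N ⊆ T := by
      rw [Module.support_eq_empty]; exact Set.empty_subset _
    have := hadd N N N 0 0 (Function.injective_of_subsingleton _)
      (Function.surjective_to_subsingleton _) (fun x => by simp [Subsingleton.elim x 0]) h1
    linarith
  have hiso : ∀ (N N' : Type u) [AddCommGroup N] [Module A N] [Module.Finite A N]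
      [AddCommGroup N'] [Module A N'] [Module.Finite A N'] (_ : N ≃ₗ[A] N'),
      Module.support A N' ⊆ T → Φ N = Φ N' := by
    intro N N' _ _ _ _ _ _ e h1
    have := hadd N N' PUnit.{u + 1} e.toLinearMap 0 e.injective
      (Function.surjective_to_subsingleton _)
      ((e.toLinearMap.exact_zero_iff_surjective _).2 e.surjective) h1
    rw [hzero PUnit.{u + 1}, add_zero] at this
    exact this.symm
  revert hMT
  induction hM using IsNoetherianRing.induction_on_isQuotientEquivQuotientPrime A with
  | subsingleton N =>
    intro _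
    rw [hzero N]
    symm
    refine Finset.sum_eq_zero fun p _ => ?_
    rw [ll_eq_zero, zero_mul]
    rw [Module.support_eq_empty]
    exact Set.notMem_empty _
  | quotient N q e =>
    intro hN
    have hsupp : Module.support A (A ⧸ q.asIdeal) ⊆ T := by
      rw [← e.support_eq]; exact hN
    have hq : q ∈ T := hsupp (by
      rw [Module.support_eq_zeroLocus, Ideal.annihilator_quotient]
      exact fun x hx => hx)
    rw [hiso N _ e hsupp]
    by_cases hqS : q ∈ S
    · rw [Finset.sum_eq_single q]
      · rw [ll_congr q e, ll_self, one_mul]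
      · intro p hp hpq
        rw [ll_eq_zero, zero_mul]
        intro h1
        have h2 : q ≤ p := by
          rw [e.support_eq, Module.support_eq_zeroLocus, Ideal.annihilator_quotient] at h1
          exact h1
        exact hpq (hS p hp q hq h2).symm
      · intro h; exact absurd hqS h
    · rw [hΦ q hq hqS]
      symm
      refine Finset.sum_eq_zero fun p hp => ?_
      rw [ll_eq_zero, zero_mul]
      intro h1
      have h2 : q ≤ p := by
        rw [e.support_eq, Module.support_eq_zeroLocus, Ideal.annihilator_quotient] at h1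
        exact h1
      exact hqS (hS p hp q hq h2 ▸ hp)
  | exact N₁ N₂ N₃ f g hf hg hfg h₁ h₃ =>
    intro hN
    have s1 := (Module.support_subset_of_injective f hf).trans hN
    have s3 := (Module.support_subset_of_surjective g hg).trans hN
    rw [hadd N₁ N₂ N₃ f g hf hg hfg hN, h₁ s1, h₃ s3, ← Finset.sum_add_distrib]
    refine Finset.sum_congr rfl fun p hp => ?_
    rw [ll_add p f g hf hg hfg (length_loc_ne_top fun q hq hqp => hS p hp q (hN hq) hqp)]
    ring

/-- Dévissage for `χ` in the first variable. -/
theorem chi_devissage [IsNoetherianRing A] (N : Type u) [AddCommGroup N] [Module A N]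
    [Module.Finite A N] (d : ℕ)
    (hbd : ∀ (M' : Type u) [AddCommGroup M'] [Module A M'] [Module.Finite A M'], TorBd A M' N d)
    (M : Type u) [AddCommGroup M] [Module A M] [Module.Finite A M] (hm : Meets A M N)
    (S : Finset (PrimeSpectrum A)) (hS : ∀ p ∈ S, ∀ q ∈ Module.support A M, q ≤ p → q = p)
    (hΦ : ∀ q ∈ Module.support A M, q ∉ S → IntMult.chi A (A ⧸ q.asIdeal) N = 0) :
    IntMult.chi A M N = ∑ p ∈ S, ll p M * IntMult.chi A (A ⧸ p.asIdeal) N := by
  refine devissage (Module.support A M) (fun M' _ _ _ => IntMult.chi A M' N) ?_ S hS hΦ M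
    (subset_refl _)
  intro M₁ M₂ M₃ _ _ _ _ _ _ _ _ _ f g hf hg hfg hsupp
  exact chi_add_fst N f g hf hg hfg (fun p hp hq => hm p (hsupp hp) hq) d (hbd M₁) (hbd M₂) (hbd M₃)

end Groth.Agent.CycA.Devissage
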