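import Mathlib.RingTheory.Length
import Mathlib.Algebra.Module.SnakeLemma
import Mathlib.Algebra.Module.Submodule.Pointwise
import Mathlib.LinearAlgebra.Isomorphisms

/-!
# The snake lemma, in terms of lengths

* `length_snake`: for a map of short exact sequences with vertical maps `i₁, i₂, i₃`, the identity
  `l(ker i₁) + l(ker i₃) + l(coker i₂) = l(ker i₂) + l(coker i₁) + l(coker i₃)` in `ℕ∞`.
* `length_smul_snake`: the same for multiplication by a ring element.
-/

set_option autoImplicit false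
universe u v w

open Pointwise

namespace Groth.Agent.CycA.SnakeLen

section general

variable {R : Type u} [Ring R]

theorem length_eq_ker_add_range {M N : Type*} [AddCommGroup M] [Module R M] [AddCommGroup N]
    [Module R N] (f : M →ₗ[R] N) :
    Module.length R M = Module.length R (LinearMap.ker f) + Module.length R (LinearMap.range f) :=
  Module.length_eq_add_of_exact (LinearMap.ker f).subtype f.rangeRestrict
    (Submodule.subtype_injective _) f.surjective_rangeRestrict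
    (by
      intro y
      constructor
      · intro h
        exact ⟨⟨y, by simpa using congrArg Subtype.val h⟩, rfl⟩
      · rintro ⟨z, rfl⟩
        exact Subtype.ext (by simp))

/-- Lengths in a six term exact sequence `0 → A₁ → A₂ → A₃ → B₁ → B₂ → B₃ → 0`. -/
theorem length_six_term {A₁ A₂ A₃ B₁ B₂ B₃ : Type*} [AddCommGroup A₁] [Module R A₁]
    [AddCommGroup A₂] [Module R A₂] [AddCommGroup A₃] [Module R A₃] [AddCommGroup B₁] [Module R B₁]
    [AddCommGroup B₂] [Module R B₂] [AddCommGroup B₃] [Module R B₃]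
    (a₁ : A₁ →ₗ[R] A₂) (a₂ : A₂ →ₗ[R] A₃) (d : A₃ →ₗ[R] B₁) (b₁ : B₁ →ₗ[R] B₂) (b₂ : B₂ →ₗ[R] B₃)
    (h₁ : Function.Injective a₁) (h₂ : Function.Exact a₁ a₂) (h₃ : Function.Exact a₂ d)
    (h₄ : Function.Exact d b₁) (h₅ : Function.Exact b₁ b₂) (h₆ : Function.Surjective b₂) :
    Module.length R A₁ + Module.length R A₃ + Module.length R B₂ =
      Module.length R A₂ + Module.length R B₁ + Module.length R B₃ := by
  have e1 := length_eq_ker_add_range a₂
  have e2 := length_eq_ker_add_range d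
  have e3 := length_eq_ker_add_range b₁
  have e4 := length_eq_ker_add_range b₂
  rw [LinearMap.exact_iff.mp h₂, ← (LinearEquiv.ofInjective a₁ h₁).length_eq] at e1
  rw [LinearMap.exact_iff.mp h₃] at e2
  rw [LinearMap.exact_iff.mp h₄] at e3
  rw [LinearMap.exact_iff.mp h₅, (LinearEquiv.ofTop _ (LinearMap.range_eq_top.mpr h₆)).length_eq]
    at e4
  rw [e1, e2, e3, e4]
  ac_rfl

end general

section comm

variable {R : Type u} [CommRing R]

/-- Snake lemma in terms of lengths. -/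
theorem length_snake {M₁ M₂ M₃ N₁ N₂ N₃ : Type*}
    [AddCommGroup M₁] [Module R M₁] [AddCommGroup M₂] [Module R M₂] [AddCommGroup M₃] [Module R M₃]
    [AddCommGroup N₁] [Module R N₁] [AddCommGroup N₂] [Module R N₂] [AddCommGroup N₃] [Module R N₃]
    (i₁ : M₁ →ₗ[R] N₁) (i₂ : M₂ →ₗ[R] N₂) (i₃ : M₃ →ₗ[R] N₃)
    (f₁ : M₁ →ₗ[R] M₂) (f₂ : M₂ →ₗ[R] M₃) (hf : Function.Exact f₁ f₂)
    (g₁ : N₁ →ₗ[R] N₂) (g₂ : N₂ →ₗ[R] N₃) (hg : Function.Exact g₁ g₂)
    (h₁ : g₁.comp i₁ = i₂.comp f₁) (h₂ : g₂.comp i₂ = i₃.comp f₂)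
    (hf₁ : Function.Injective f₁) (hf₂ : Function.Surjective f₂)
    (hg₁ : Function.Injective g₁) (hg₂ : Function.Surjective g₂) :
    Module.length R (LinearMap.ker i₁) + Module.length R (LinearMap.ker i₃) +
        Module.length R (N₂ ⧸ LinearMap.range i₂) =
      Module.length R (LinearMap.ker i₂) + Module.length R (N₁ ⧸ LinearMap.range i₁) +
        Module.length R (N₃ ⧸ LinearMap.range i₃) := by
  have hh₁ : ∀ x, g₁ (i₁ x) = i₂ (f₁ x) := fun x => LinearMap.congr_fun h₁ x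
  have hh₂ : ∀ x, g₂ (i₂ x) = i₃ (f₂ x) := fun x => LinearMap.congr_fun h₂ x
  let a₁ : LinearMap.ker i₁ →ₗ[R] LinearMap.ker i₂ := f₁.restrict (fun x hx => by
    rw [LinearMap.mem_ker] at hx ⊢
    rw [← hh₁, hx, map_zero])
  let a₂ : LinearMap.ker i₂ →ₗ[R] LinearMap.ker i₃ := f₂.restrict (fun x hx => by
    rw [LinearMap.mem_ker] at hx ⊢
    rw [← hh₂, hx, map_zero])
  let b₁ : (N₁ ⧸ LinearMap.range i₁) →ₗ[R] (N₂ ⧸ LinearMap.range i₂) :=
    Submodule.mapQ _ _ g₁ (by
      rintro _ ⟨x, rfl⟩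
      exact ⟨f₁ x, (hh₁ x).symm⟩)
  let b₂ : (N₂ ⧸ LinearMap.range i₂) →ₗ[R] (N₃ ⧸ LinearMap.range i₃) :=
    Submodule.mapQ _ _ g₂ (by
      rintro _ ⟨x, rfl⟩
      exact ⟨f₂ x, (hh₂ x).symm⟩)
  let ι₂ := (LinearMap.ker i₂).subtype
  let ι₃ := (LinearMap.ker i₃).subtype
  let π₁ := (LinearMap.range i₁).mkQ
  let π₂ := (LinearMap.range i₂).mkQ
  have hι₂ : Function.Exact ι₂ i₂ := LinearMap.exact_subtype_ker_map i₂
  have hι₃ : Function.Exact ι₃ i₃ := LinearMap.exact_subtype_ker_map i₃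
  have hπ₁ : Function.Exact i₁ π₁ := LinearMap.exact_map_mkQ_range i₁
  have hπ₂ : Function.Exact i₂ π₂ := LinearMap.exact_map_mkQ_range i₂
  let d := SnakeLemma.δ' i₁ i₂ i₃ f₁ f₂ hf g₁ g₂ hg h₁ h₂ ι₃ hι₃ π₁ hπ₁ hf₂ hg₁
  apply length_six_term a₁ a₂ d b₁ b₂
  · intro x y hxy
    apply Subtype.ext
    apply hf₁
    exact congrArg Subtype.val hxy
  · intro y
    constructor
    · intro hy
      have : f₂ y.1 = 0 := congrArg Subtype.val hy
      obtain ⟨x, hx⟩ := (hf y.1).mp this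
      refine ⟨⟨x, ?_⟩, Subtype.ext hx⟩
      rw [LinearMap.mem_ker]
      apply hg₁
      rw [hh₁, hx, map_zero]
      exact y.2
    · rintro ⟨x, rfl⟩
      apply Subtype.ext
      exact hf.apply_apply_eq_zero x.1
  · exact SnakeLemma.exact_δ'_right i₁ i₂ i₃ f₁ f₂ hf g₁ g₂ hg h₁ h₂ ι₂ hι₂ ι₃ hι₃ π₁ hπ₁ hf₂ hg₁
      a₂ rfl (Submodule.subtype_injective _)
  · exact SnakeLemma.exact_δ'_left i₁ i₂ i₃ f₁ f₂ hf g₁ g₂ hg h₁ h₂ ι₃ hι₃ π₁ hπ₁ π₂ hπ₂ hf₂ hg₁
      b₁ rfl (Submodule.mkQ_surjective _)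
  · intro y
    constructor
    · intro hy
      obtain ⟨y, rfl⟩ := Submodule.mkQ_surjective _ y
      have : g₂ y ∈ LinearMap.range i₃ := (Submodule.Quotient.mk_eq_zero _).mp hy
      obtain ⟨z, hz⟩ := this
      obtain ⟨w, rfl⟩ := hf₂ z
      rw [← hh₂] at hz
      obtain ⟨v, hv⟩ := (hg (y - i₂ w)).mp (by rw [map_sub, hz, sub_self])
      refine ⟨Submodule.Quotient.mk v, ?_⟩
      change Submodule.Quotient.mk (g₁ v) = Submodule.Quotient.mk y
      rw [hv, Submodule.Quotient.mk_sub, sub_eq_self, Submodule.Quotient.mk_eq_zero]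
      exact ⟨w, rfl⟩
    · rintro ⟨x, rfl⟩
      obtain ⟨x, rfl⟩ := Submodule.mkQ_surjective _ x
      change Submodule.Quotient.mk (g₂ (g₁ x)) = 0
      rw [hg.apply_apply_eq_zero, Submodule.Quotient.mk_zero]
  · intro y
    obtain ⟨y, rfl⟩ := Submodule.mkQ_surjective _ y
    obtain ⟨x, rfl⟩ := hg₂ y
    exact ⟨Submodule.Quotient.mk x, rfl⟩

theorem range_lsmul (M : Type v) [AddCommGroup M] [Module R M] (x : R) :
    LinearMap.range (LinearMap.lsmul R M x) = x • (⊤ : Submodule R M) := by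
  ext y
  simp [Submodule.mem_smul_pointwise_iff_exists]

/-- Snake lemma for multiplication by a ring element on a short exact sequence. -/
theorem length_smul_snake {M₁ : Type*} {M₂ : Type*} {M₃ : Type*}
    [AddCommGroup M₁] [Module R M₁] [AddCommGroup M₂] [Module R M₂] [AddCommGroup M₃] [Module R M₃]
    (f : M₁ →ₗ[R] M₂) (g : M₂ →ₗ[R] M₃) (hf : Function.Injective f) (hg : Function.Surjective g)
    (H : Function.Exact f g) (x : R) :
    Module.length R (LinearMap.ker (LinearMap.lsmul R M₁ x)) +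
        Module.length R (LinearMap.ker (LinearMap.lsmul R M₃ x)) +
        Module.length R (M₂ ⧸ x • (⊤ : Submodule R M₂)) =
      Module.length R (LinearMap.ker (LinearMap.lsmul R M₂ x)) +
        Module.length R (M₁ ⧸ x • (⊤ : Submodule R M₁)) +
        Module.length R (M₃ ⧸ x • (⊤ : Submodule R M₃)) := by
  have := length_snake (LinearMap.lsmul R M₁ x) (LinearMap.lsmul R M₂ x)
    (LinearMap.lsmul R M₃ x) f g H f g H (by ext; simp) (by ext; simp) hf hg hf hg
  rw [range_lsmul, range_lsmul, range_lsmul] at this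
  exact this

end comm

end Groth.Agent.CycA.SnakeLen
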