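import Groth.Agent.CycA.LocLen
import Groth.Agent.CycA.SnakeLen
import Mathlib.RingTheory.KrullDimension.Module
import Mathlib.RingTheory.LocalRing.MaximalIdeal.Basic

/-!
# `length (M/xM) - length (ker x) = ∑ ord_{R/q}(x) length (M_q)` by devissage
-/

set_option autoImplicit false
universe u v w

open Pointwise IsLocalRing Groth.Agent.CycA.LocLen Groth.Agent.CycA.SnakeLen

namespace Groth.Agent.CycA.LenSum

variable {R : Type u} [CommRing R]

theorem length_coker_smul_equiv {N : Type v} {M : Type w} [AddCommGroup N] [Module R N]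
    [AddCommGroup M] [Module R M] (e : N ≃ₗ[R] M) (x : R) :
    Module.length R (N ⧸ x • (⊤ : Submodule R N)) =
      Module.length R (M ⧸ x • (⊤ : Submodule R M)) := by
  refine (Submodule.Quotient.equiv (x • (⊤ : Submodule R N)) (x • (⊤ : Submodule R M)) e
    ?_).length_eq
  rw [← range_lsmul, ← range_lsmul]
  ext y
  constructor
  · rintro ⟨_, ⟨z, rfl⟩, rfl⟩
    exact ⟨e z, by simp⟩
  · rintro ⟨z, rfl⟩
    exact ⟨x • e.symm z, ⟨e.symm z, rfl⟩, by simp⟩

theorem length_ker_smul_equiv {N : Type v} {M : Type w} [AddCommGroup N] [Module R N]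
    [AddCommGroup M] [Module R M] (e : N ≃ₗ[R] M) (x : R) :
    Module.length R (LinearMap.ker (LinearMap.lsmul R N x)) =
      Module.length R (LinearMap.ker (LinearMap.lsmul R M x)) := by
  refine (e.submoduleMap (LinearMap.ker (LinearMap.lsmul R N x))).length_eq.trans ?_
  refine (LinearEquiv.ofEq _ _ ?_).length_eq
  ext y
  constructor
  · rintro ⟨z, hz, rfl⟩
    rw [LinearMap.mem_ker]
    change x • e z = 0
    rw [← map_smul]
    have : x • z = 0 := hz
    rw [this, map_zero]
  · intro hy
    refine ⟨e.symm y, ?_, by simp⟩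
    change x • e.symm y = 0
    have : x • y = 0 := hy
    rw [← map_smul, this, map_zero]

theorem length_coker_quotient (q : Ideal R) (x : R) :
    Module.length R ((R ⧸ q) ⧸ x • (⊤ : Submodule R (R ⧸ q))) =
      Ring.ord (R ⧸ q) (Ideal.Quotient.mk q x) := by
  rw [Ring.ord, ← Module.length_eq_of_surjective (R := R ⧸ q) (S := R) Ideal.Quotient.mk_surjective]
  have : x • (⊤ : Submodule R (R ⧸ q)) =
      (Ideal.span {Ideal.Quotient.mk q x}).restrictScalars R := by
    ext y
    rw [Submodule.mem_smul_pointwise_iff_exists]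
    simp only [Submodule.mem_top, true_and, Submodule.restrictScalars_mem,
      Ideal.mem_span_singleton']
    constructor
    · rintro ⟨b, rfl⟩
      exact ⟨b, by rw [Algebra.smul_def, Ideal.Quotient.algebraMap_eq, mul_comm]⟩
    · rintro ⟨b, rfl⟩
      exact ⟨b, by rw [Algebra.smul_def, Ideal.Quotient.algebraMap_eq, mul_comm]⟩
  rw [this]
  rfl

/-- `ker x` and `N/xN` have finite length if the support of `N` meets `V(x)` only in maximal
ideals. -/
theorem length_ker_coker_ne_top [IsNoetherianRing R] {M : Type v} [AddCommGroup M]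
    [Module R M] [Module.Finite R M] (x : R)
    (h : ∀ p ∈ Module.support R M, x ∈ p.asIdeal → p.asIdeal.IsMaximal) :
    Module.length R (M ⧸ x • (⊤ : Submodule R M)) ≠ ⊤ ∧
      Module.length R (LinearMap.ker (LinearMap.lsmul R M x)) ≠ ⊤ := by
  constructor
  · apply length_ne_top_of_support_subset inferInstance
    intro p hp
    apply h p (Module.support_subset_of_surjective _ (Submodule.mkQ_surjective _) hp)
    apply Module.annihilator_le_of_mem_support hp
    rw [Module.mem_annihilator]
    intro m
    obtain ⟨m, rfl⟩ := Submodule.mkQ_surjective _ m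
    rw [← map_smul, Submodule.mkQ_apply, Submodule.Quotient.mk_eq_zero]
    exact (Submodule.mem_smul_pointwise_iff_exists _ _ _).mpr ⟨m, trivial, rfl⟩
  · apply length_ne_top_of_support_subset inferInstance
    intro p hp
    apply h p (Module.support_subset_of_injective _ (Submodule.subtype_injective _) hp)
    apply Module.annihilator_le_of_mem_support hp
    rw [Module.mem_annihilator]
    intro m
    exact Subtype.ext m.2

variable [IsLocalRing R]

/-- The devissage. -/
theorem length_coker_eq_aux [IsNoetherianRing R] (x : R)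
    (Z : Set (PrimeSpectrum R)) (S : Finset (PrimeSpectrum R))
    (hZS : ∀ p ∈ Z, p.asIdeal = maximalIdeal R ∨ p ∈ S)
    (hS : ∀ p ∈ S, p.asIdeal ≠ maximalIdeal R)
    (hmin : ∀ p ∈ S, ∀ q ∈ S, p ≤ q → p = q)
    (hx : ∀ p ∈ S, x ∉ p.asIdeal)
    {M : Type v} [AddCommGroup M] [Module R M] (hM : Module.Finite R M)
    (hZ : Module.support R M ⊆ Z) :
    Module.length R (M ⧸ x • (⊤ : Submodule R M)) =
      Module.length R (LinearMap.ker (LinearMap.lsmul R M x)) +
      ∑ p ∈ S, Ring.ord (R ⧸ p.asIdeal) (Ideal.Quotient.mk p.asIdeal x) *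
        Module.length (Localization.AtPrime p.asIdeal) (LocalizedModule p.asIdeal.primeCompl M) := by
  revert hZ
  induction hM using IsNoetherianRing.induction_on_isQuotientEquivQuotientPrime R with
  | subsingleton N =>
    intro hZ
    rw [Module.length_eq_zero, Module.length_eq_zero, zero_add, Finset.sum_eq_zero]
    intro p hp
    rw [Module.length_eq_zero, mul_zero]
  | quotient N q f =>
    intro hZ
    have hq : q ∈ Z := by
      apply hZ
      rw [f.support_eq, Module.support_eq_zeroLocus, Ideal.annihilator_quotient]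
      exact fun x hx => hx
    rw [length_coker_smul_equiv f, length_ker_smul_equiv f]
    have hsum : ∑ p ∈ S, Ring.ord (R ⧸ p.asIdeal) (Ideal.Quotient.mk p.asIdeal x) *
        Module.length (Localization.AtPrime p.asIdeal) (LocalizedModule p.asIdeal.primeCompl N) =
        ∑ p ∈ S, Ring.ord (R ⧸ p.asIdeal) (Ideal.Quotient.mk p.asIdeal x) *
        Module.length (Localization.AtPrime p.asIdeal)
          (LocalizedModule p.asIdeal.primeCompl (R ⧸ q.asIdeal)) :=
      Finset.sum_congr rfl fun p _ => by rw [length_loc_equiv p.asIdeal f]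
    rw [hsum]
    have hsupp : ∀ p : PrimeSpectrum R, p ∈ Module.support R (R ⧸ q.asIdeal) ↔ q ≤ p := by
      intro p
      rw [Module.support_eq_zeroLocus, Ideal.annihilator_quotient]
      rfl
    by_cases hqS : q ∈ S
    · rw [Finset.sum_eq_single q]
      · rw [length_loc_quotient_self, mul_one, length_coker_quotient]
        have : LinearMap.ker (LinearMap.lsmul R (R ⧸ q.asIdeal) x) = ⊥ := by
          rw [eq_bot_iff]
          intro y hy
          obtain ⟨y, rfl⟩ := Ideal.Quotient.mk_surjective y
          have : x • (Ideal.Quotient.mk q.asIdeal y) = 0 := hy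
          rw [Algebra.smul_def, Ideal.Quotient.algebraMap_eq, ← map_mul,
            Ideal.Quotient.eq_zero_iff_mem] at this
          rw [Submodule.mem_bot, Ideal.Quotient.eq_zero_iff_mem]
          exact (q.2.mem_or_mem this).resolve_left (hx q hqS)
        rw [this, Module.length_bot, zero_add]
      · intro p hp hpq
        rw [(length_loc_eq_zero_iff p).mpr, mul_zero]
        rw [hsupp]
        exact fun h => hpq (hmin q hqS p hp h).symm
      · exact fun h => absurd hqS h
    · have hqm : q.asIdeal = maximalIdeal R := (hZS q hq).resolve_right hqS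
      rw [Finset.sum_eq_zero]
      · rw [add_zero]
        by_cases hxq : x ∈ q.asIdeal
        · have h1 : x • (⊤ : Submodule R (R ⧸ q.asIdeal)) = ⊥ := by
            rw [eq_bot_iff]
            intro y hy
            obtain ⟨z, -, rfl⟩ := (Submodule.mem_smul_pointwise_iff_exists _ _ _).mp hy
            rw [Submodule.mem_bot, Algebra.smul_def, Ideal.Quotient.algebraMap_eq,
              Ideal.Quotient.eq_zero_iff_mem.mpr hxq, zero_mul]
          have h2 : LinearMap.ker (LinearMap.lsmul R (R ⧸ q.asIdeal) x) = ⊤ := by
            rw [eq_top_iff]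
            intro y _
            rw [LinearMap.mem_ker]
            change x • y = 0
            rw [Algebra.smul_def, Ideal.Quotient.algebraMap_eq,
              Ideal.Quotient.eq_zero_iff_mem.mpr hxq, zero_mul]
          rw [h1, h2, Module.length_top]
          exact (Submodule.quotEquivOfEqBot _ rfl).length_eq
        · have hu : IsUnit x := by
            by_contra hn
            exact hxq (hqm ▸ (mem_maximalIdeal x).mpr hn)
          obtain ⟨u, rfl⟩ := hu
          have h1 : (u : R) • (⊤ : Submodule R (R ⧸ q.asIdeal)) = ⊤ := by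
            rw [eq_top_iff]
            intro y _
            exact (Submodule.mem_smul_pointwise_iff_exists _ _ _).mpr
              ⟨(↑u⁻¹ : R) • y, trivial, by rw [smul_smul, u.mul_inv, one_smul]⟩
          have h2 : LinearMap.ker (LinearMap.lsmul R (R ⧸ q.asIdeal) (u : R)) = ⊥ := by
            rw [eq_bot_iff]
            intro y hy
            have h3 : (u : R) • y = 0 := hy
            have h4 : (↑u⁻¹ : R) • (u : R) • y = 0 := by rw [h3, smul_zero]
            rw [smul_smul, u.inv_mul, one_smul] at h4
            exact h4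
          rw [h1, h2, Module.length_bot, Module.length_eq_zero_iff]
          exact Submodule.Quotient.subsingleton_iff.mpr rfl
      · intro p hp
        rw [(length_loc_eq_zero_iff p).mpr, mul_zero]
        rw [hsupp]
        intro hle
        apply hS p hp
        have : maximalIdeal R ≤ p.asIdeal := hqm ▸ hle
        exact ((maximalIdeal.isMaximal R).eq_of_le p.2.ne_top this).symm
  | exact N₁ N₂ N₃ f g hf hg hfg h₁ h₃ =>
    intro hZ
    rw [Module.support_of_exact hfg hf hg] at hZ
    have hZ₁ : Module.support R N₁ ⊆ Z := fun p hp => hZ (Or.inl hp)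
    have hZ₃ : Module.support R N₃ ⊆ Z := fun p hp => hZ (Or.inr hp)
    have hmax : ∀ p ∈ Z, x ∈ p.asIdeal → p.asIdeal.IsMaximal := by
      intro p hp hxp
      rcases hZS p hp with h | h
      · rw [h]; exact maximalIdeal.isMaximal R
      · exact absurd hxp (hx p h)
    have e₁ := h₁ hZ₁
    have e₃ := h₃ hZ₃
    obtain ⟨c₁, k₁⟩ := length_ker_coker_ne_top (M := N₁) x fun p hp => hmax p (hZ₁ hp)
    obtain ⟨c₃, k₃⟩ := length_ker_coker_ne_top (M := N₃) x fun p hp => hmax p (hZ₃ hp)
    have snake := length_smul_snake f g hf hg hfg x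
    have hsum : ∑ p ∈ S, Ring.ord (R ⧸ p.asIdeal) (Ideal.Quotient.mk p.asIdeal x) *
        Module.length (Localization.AtPrime p.asIdeal) (LocalizedModule p.asIdeal.primeCompl N₂) =
        (∑ p ∈ S, Ring.ord (R ⧸ p.asIdeal) (Ideal.Quotient.mk p.asIdeal x) *
        Module.length (Localization.AtPrime p.asIdeal) (LocalizedModule p.asIdeal.primeCompl N₁)) +
        ∑ p ∈ S, Ring.ord (R ⧸ p.asIdeal) (Ideal.Quotient.mk p.asIdeal x) *
        Module.length (Localization.AtPrime p.asIdeal)
          (LocalizedModule p.asIdeal.primeCompl N₃) := by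
      rw [← Finset.sum_add_distrib]
      refine Finset.sum_congr rfl fun p _ => ?_
      rw [length_loc_add p.asIdeal f g hf hg hfg, mul_add]
    rw [hsum]
    rw [e₁, e₃] at snake
    generalize (∑ p ∈ S, Ring.ord (R ⧸ p.asIdeal) (Ideal.Quotient.mk p.asIdeal x) *
        Module.length (Localization.AtPrime p.asIdeal)
          (LocalizedModule p.asIdeal.primeCompl N₁)) = s₁ at *
    generalize (∑ p ∈ S, Ring.ord (R ⧸ p.asIdeal) (Ideal.Quotient.mk p.asIdeal x) *
        Module.length (Localization.AtPrime p.asIdeal)
          (LocalizedModule p.asIdeal.primeCompl N₃)) = s₃ at *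
    have hfin : Module.length R (LinearMap.ker (LinearMap.lsmul R N₁ x)) +
        Module.length R (LinearMap.ker (LinearMap.lsmul R N₃ x)) ≠ ⊤ :=
      WithTop.add_ne_top.mpr ⟨k₁, k₃⟩
    refine ENat.add_right_injective_of_ne_top hfin ?_
    refine snake.trans ?_
    beta_reduce
    ac_rfl

end Groth.Agent.CycA.LenSum
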