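import Groth.Agent.CycA.ChiRec
import Groth.Agent.CycA.Devissage
import Groth.Agent.CycA.LenSum
import Groth.Agent.CycA.TorFin
import Mathlib.Data.ENat.BigOperators

/-!
# The Tor formula and multiplication by an element

For a Noetherian local ring `A`, finite modules `M`, `N` and `t` injective on `M`, such that `t`
lies in no prime other than the maximal ideal of `Supp M ∩ Supp N`:
`χ(M/tM, N) = ∑_p ord_{A/p}(t) χ_p(M, N)`, `p` over the primes `≠ m` of `Supp M ∩ Supp N`.
-/

set_option autoImplicit false

universe u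

namespace Groth.Agent.CycA.ChiFibre

open DRing EulerLen LinearMap TorBasic TorShift IsLocalRing ChiRec Devissage
open scoped Pointwise TensorProduct

variable {A : Type u} [CommRing A]

/-- The Euler characteristic of the localized Tor modules. -/
noncomputable def lchi (p : PrimeSpectrum A) (M N : Type u) [AddCommGroup M] [Module A M]
    [AddCommGroup N] [Module A N] : ℤ :=
  eu (fun i => ll p (Tor A i M N))

/-- `lchi` is `χ` over any localization at `p`. -/
theorem lchi_eq_chi (p : PrimeSpectrum A) (M N : Type u) [AddCommGroup M] [Module A M]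
    [AddCommGroup N] [Module A N] (B : Type u) [CommRing B] [Algebra A B]
    [IsLocalization.AtPrime B p.asIdeal] :
    lchi p M N = IntMult.chi B (B ⊗[A] M) (B ⊗[A] N) := by
  rw [chi_eq_eu]
  refine eu_congr fun i => ?_
  have : Module.Flat A B := IsLocalization.flat B p.asIdeal.primeCompl
  obtain ⟨e⟩ := TorFin.baseChange (A := A) B i M N
  rw [il_congr e]
  unfold ll il
  congr 2
  -- compare the two localizations
  let T := Tor A i M N
  let L := Localization.AtPrime p.asIdeal
  let φ : L ≃ₐ[A] B := IsLocalization.algEquiv p.asIdeal.primeCompl L B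
  have h1 : Module.length L (LocalizedModule p.asIdeal.primeCompl T) =
      Module.length L (L ⊗[A] T) :=
    ((LocalizedModule.equivTensorProduct p.asIdeal.primeCompl T)).length_eq
  rw [h1]
  let e1 : L ⊗[A] T ≃ₗ[A] B ⊗[A] T := TensorProduct.congr φ.toLinearEquiv (LinearEquiv.refl A T)
  have he1 : ∀ (c : L) (z : L ⊗[A] T), e1 (c • z) = φ c • e1 z := by
    intro c z
    induction z with
    | zero => simp
    | tmul a b =>
      rw [TensorProduct.smul_tmul']
      simp only [e1, TensorProduct.congr_tmul]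
      rw [TensorProduct.smul_tmul']
      congr 1
      change φ (c * a) = φ c * φ a
      rw [map_mul]
    | add x y hx hy => rw [smul_add, map_add, map_add, smul_add, hx, hy]
  let _ : Algebra L B := φ.toRingHom.toAlgebra
  have : Module.length L (L ⊗[A] T) = Module.length B (B ⊗[A] T) := by
    have hsm : ∀ (c : L) (z : B ⊗[A] T), c • z = φ c • z := fun c z =>
      (algebraMap_smul B c z).symm
    let e2 : L ⊗[A] T ≃ₗ[L] B ⊗[A] T :=
      { e1 with
        map_smul' := fun c z => (he1 c z).trans (hsm c (e1 z)).symm }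
    rw [e2.length_eq]
    exact Module.length_eq_of_surjective (R := B) (S := L) φ.surjective
  exact this

theorem lchi_eq_zero (p : PrimeSpectrum A) (M N : Type u) [AddCommGroup M] [Module A M]
    [AddCommGroup N] [Module A N] [IsNoetherianRing A] [Module.Finite A M] [Module.Finite A N]
    (h : ¬ (p ∈ Module.support A M ∧ p ∈ Module.support A N)) : lchi p M N = 0 := by
  refine eu_of_zero fun i => ll_eq_zero fun hp => h ?_
  have : Module.Finite A (Tor A i M N) := tor_finite i M N
  rw [Module.mem_support_iff_of_finite] at hp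
  rw [Module.mem_support_iff_of_finite, Module.mem_support_iff_of_finite]
  exact ⟨(annihilator_le_fst i).trans hp, (annihilator_le_snd i).trans hp⟩

theorem eu_finset_sum {ι : Type*} (S : Finset ι) (l : ι → ℕ → ℤ) (d : ℕ)
    (h : ∀ p ∈ S, ∀ i, d < i → l p i = 0) :
    eu (fun i => ∑ p ∈ S, l p i) = ∑ p ∈ S, eu (l p) := by
  rw [eu_eq_sum _ d (fun i hi => Finset.sum_eq_zero fun p hp => h p hp i hi)]
  simp_rw [Finset.mul_sum]
  rw [Finset.sum_comm]
  exact Finset.sum_congr rfl fun p hp => (eu_eq_sum _ d (h p hp)).symm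

/-- **Fibre formula**. -/
theorem chi_quot_eq [IsNoetherianRing A] [IsLocalRing A] (t : A)
    (M N : Type u) [AddCommGroup M] [Module A M] [AddCommGroup N] [Module A N]
    [Module.Finite A M] [Module.Finite A N]
    (ht : Function.Injective (t • (LinearMap.id : M →ₗ[A] M))) (d : ℕ) (hbd : TorBd A M N d)
    (S : Finset (PrimeSpectrum A))
    (hZS : ∀ p, p ∈ Module.support A M → p ∈ Module.support A N →
      p.asIdeal = maximalIdeal A ∨ p ∈ S)
    (hS : ∀ p ∈ S, p.asIdeal ≠ maximalIdeal A)
    (hmin : ∀ p ∈ S, ∀ q ∈ S, p ≤ q → p = q)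
    (hx : ∀ p ∈ S, t ∉ p.asIdeal) :
    IntMult.chi A (M ⧸ range (t • (LinearMap.id : M →ₗ[A] M))) N =
      ∑ p ∈ S, ((Ring.ord (A ⧸ p.asIdeal) (Ideal.Quotient.mk p.asIdeal t)).toNat : ℤ) *
        lchi p M N := by
  set Q := M ⧸ range (t • (LinearMap.id : M →ₗ[A] M)) with hQ
  let g : M →ₗ[A] Q := (range (t • (LinearMap.id : M →ₗ[A] M))).mkQ
  have hg : Function.Surjective g := Submodule.mkQ_surjective _
  have hex : Function.Exact (t • (LinearMap.id : M →ₗ[A] M)) g := LinearMap.exact_map_mkQ_range _
  have hMQ : ∀ p, p ∈ Module.support A Q → p ∈ Module.support A M ∧ t ∈ p.asIdeal := by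
    intro p hp
    refine ⟨Module.support_subset_of_surjective g hg hp, ?_⟩
    apply Module.annihilator_le_of_mem_support hp
    rw [Module.mem_annihilator]
    intro m
    obtain ⟨m, rfl⟩ := hg m
    rw [← map_smul]
    exact (Submodule.Quotient.mk_eq_zero _).2 ⟨m, by simp⟩
  have hmeets : Meets A Q N := by
    intro p hp hp'
    obtain ⟨h1, h2⟩ := hMQ p hp
    rcases hZS p h1 hp' with h | h
    · rw [h]; exact maximalIdeal.isMaximal A
    · exact absurd h2 (hx p h)
  obtain ⟨δ, h1, h2, h3, h4⟩ := les_fst (t • (LinearMap.id : M →ₗ[A] M)) g ht hg hex N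
  have hC : ∀ i, Module.length A (Tor A i Q N) ≠ ⊤ := fun i => length_tor_ne_top hmeets i
  obtain ⟨k0, k1⟩ := il_of_les_smul (T := fun i => Tor A i M N) (C := fun i => Tor A i Q N) t
    (fun i => mapL (t • (LinearMap.id : M →ₗ[A] M)) i N) (fun i => mapL_smul_id t M i N)
    (fun i => mapL g i N) δ h1 h2 h3 h4 hC
  -- the cokernels and kernels
  have hfin : ∀ i, Module.Finite A (Tor A i M N) := fun i => tor_finite i M N
  have hsupp : ∀ i p, p ∈ Module.support A (Tor A i M N) →
      p.asIdeal = maximalIdeal A ∨ p ∈ S := by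
    intro i p hp
    have := hfin i
    rw [Module.mem_support_iff_of_finite] at hp
    refine hZS p ?_ ?_
    · rw [Module.mem_support_iff_of_finite]; exact (annihilator_le_fst i).trans hp
    · rw [Module.mem_support_iff_of_finite]; exact (annihilator_le_snd i).trans hp
  have hker : ∀ i, (ker (lsmul A (Tor A i M N) t)) =
      ker (t • (LinearMap.id : Tor A i M N →ₗ[A] _)) := by
    intro i; rfl
  have hrange : ∀ i, (t • (⊤ : Submodule A (Tor A i M N))) =
      range (t • (LinearMap.id : Tor A i M N →ₗ[A] _)) := by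
    intro i
    ext z
    rw [Submodule.mem_smul_pointwise_iff_exists]
    simp
  have hlen : ∀ i, il A (Tor A i M N ⧸ range (t • (LinearMap.id : Tor A i M N →ₗ[A] _))) =
      il A (ker (t • (LinearMap.id : Tor A i M N →ₗ[A] _))) +
      ∑ p ∈ S, ((Ring.ord (A ⧸ p.asIdeal) (Ideal.Quotient.mk p.asIdeal t)).toNat : ℤ) *
        ll p (Tor A i M N) := by
    intro i
    have := hfin i
    have e := LenSum.length_coker_eq_aux t {p | p ∈ Module.support A (Tor A i M N)} S
      (hsupp i) hS hmin hx (hfin i) (subset_refl _)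
    have hne := (LenSum.length_ker_coker_ne_top (M := Tor A i M N) t (by
      intro p hp htp
      rcases hsupp i p hp with h | h
      · rw [h]; exact maximalIdeal.isMaximal A
      · exact absurd htp (hx p h))).1
    unfold il ll il
    rw [hker i, hrange i] at e
    rw [hrange i] at hne
    rw [e] at hne
    rw [e]
    obtain ⟨n1, n2⟩ := WithTop.add_ne_top.1 hne
    rw [ENat.toNat_add n1 n2]
    push_cast
    congr 1
    have n3 : ∀ p ∈ S, Ring.ord (A ⧸ p.asIdeal) (Ideal.Quotient.mk p.asIdeal t) *
        Module.length (Localization.AtPrime p.asIdeal)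
          (LocalizedModule p.asIdeal.primeCompl (Tor A i M N)) ≠ ⊤ := by
      intro p hp h
      apply n2
      exact ENat.sum_eq_top.2 ⟨p, hp, h⟩
    rw [ENat.toNat_sum n3]
    push_cast
    refine Finset.sum_congr rfl fun p _ => ?_
    rw [ENat.toNat_mul]
    push_cast
    rfl
  -- vanishing
  have z1 : ∀ i, d < i → il A (ker (t • (LinearMap.id : Tor A i M N →ₗ[A] _))) = 0 := by
    intro i hi
    have := hbd i hi
    exact il_of_subsingleton _
  have z2 : ∀ i, d < i → il A (Tor A i M N ⧸ range (t • (LinearMap.id : Tor A i M N →ₗ[A] _))) = 0 := by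
    intro i hi
    have := hbd i hi
    exact il_of_subsingleton _
  have z3 : ∀ p ∈ S, ∀ i, d < i →
      ((Ring.ord (A ⧸ p.asIdeal) (Ideal.Quotient.mk p.asIdeal t)).toNat : ℤ) *
        ll p (Tor A i M N) = 0 := by
    intro p _ i hi
    have h5 : ll p (Tor A i M N) = 0 := by
      apply ll_eq_zero
      have := hbd i hi
      rw [Module.support_eq_empty]
      exact Set.notMem_empty _
    rw [h5, mul_zero]
  set l : ℕ → ℤ := fun i => Nat.casesOn i 0
    (fun j => il A (ker (t • (LinearMap.id : Tor A j M N →ₗ[A] _)))) with hl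
  have hs := eu_shift (fun i => il A (ker (t • (LinearMap.id : Tor A i M N →ₗ[A] _)))) l d z1
    (by simp [hl]) (fun i => by simp [hl])
  have eC : ∀ i, il A (Tor A i Q N) =
      il A (Tor A i M N ⧸ range (t • (LinearMap.id : Tor A i M N →ₗ[A] _))) + l i := by
    intro i
    cases i with
    | zero => rw [k0]; simp [hl]
    | succ j => rw [k1 j]
  rw [chi_eq_eu, eu_congr eC, eu_add _ _ (d + 1) (fun i hi => z2 i (by omega)) (by
    intro i hi
    obtain ⟨j, rfl⟩ : ∃ j, i = j + 1 := ⟨i - 1, by omega⟩
    exact z1 j (by omega)), eu_congr hlen, eu_add _ _ d z1 (by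
      intro i hi
      exact Finset.sum_eq_zero fun p hp => z3 p hp i hi), eu_finset_sum S _ d z3]
  have e5 : ∀ p ∈ S, eu (fun i =>
      ((Ring.ord (A ⧸ p.asIdeal) (Ideal.Quotient.mk p.asIdeal t)).toNat : ℤ) *
        ll p (Tor A i M N)) =
      ((Ring.ord (A ⧸ p.asIdeal) (Ideal.Quotient.mk p.asIdeal t)).toNat : ℤ) * lchi p M N := by
    intro p _
    refine eu_mul _ _ d fun i hi => ?_
    apply ll_eq_zero
    have := hbd i hi
    rw [Module.support_eq_empty]
    exact Set.notMem_empty _
  rw [Finset.sum_congr rfl e5]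
  linarith

end Groth.Agent.CycA.ChiFibre
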