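import Groth.Agent.CycA.ChiRec

set_option autoImplicit false

universe u

namespace Groth.Agent.CycA.ChiRec2

open DRing EulerLen LinearMap TorBasic TorShift IsLocalRing ChiRec
open scoped Pointwise

section Support

variable {A : Type u} [CommRing A] {M₁ M₂ M₃ : Type u} [AddCommGroup M₁] [Module A M₁]
  [AddCommGroup M₂] [Module A M₂] [AddCommGroup M₃] [Module A M₃]

theorem supportDim_le_max (f : M₁ →ₗ[A] M₂) (g : M₂ →ₗ[A] M₃) (hf : Function.Injective f)
    (hg : Function.Surjective g) (h : Function.Exact f g) :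
    Module.supportDim A M₂ ≤ max (Module.supportDim A M₁) (Module.supportDim A M₃) := by
  refine iSup_le fun s => ?_
  have hs : ((s ⟨0, by omega⟩ : Module.support A M₂) : PrimeSpectrum A) ∈
      Module.support A M₁ ∪ Module.support A M₃ :=
    (Module.support_of_exact h hf hg).le (s ⟨0, by omega⟩).2
  rcases hs with hs | hs
  · refine le_trans ?_ (le_max_left _ _)
    let t : LTSeries (Module.support A M₁) :=
      { length := s.length
        toFun := fun i => ⟨(s i).1, Module.mem_support_mono (s.monotone (Fin.zero_le i)) hs⟩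
        step := fun i => s.step i }
    exact le_iSup (fun p : LTSeries (Module.support A M₁) => ((p.length : ℕ∞) : WithBot ℕ∞)) t
  · refine le_trans ?_ (le_max_right _ _)
    let t : LTSeries (Module.support A M₃) :=
      { length := s.length
        toFun := fun i => ⟨(s i).1, Module.mem_support_mono (s.monotone (Fin.zero_le i)) hs⟩
        step := fun i => s.step i }
    exact le_iSup (fun p : LTSeries (Module.support A M₃) => ((p.length : ℕ∞) : WithBot ℕ∞)) t

end Support

theorem add_one_cancel {a : WithBot ℕ∞} {n : ℕ}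
    (h : a + 1 = ((n : ℕ) : WithBot ℕ∞) + 1) : a = (n : WithBot ℕ∞) := by
  induction a using WithBot.recBotCoe with
  | bot => rw [WithBot.bot_add] at h; exact absurd h (by
      have : ((n : ℕ) : WithBot ℕ∞) + 1 = ((n + 1 : ℕ) : WithBot ℕ∞) := by push_cast; rfl
      rw [this]
      exact WithBot.bot_ne_coe)
  | coe m =>
    have h2 : ((m + 1 : ℕ∞) : WithBot ℕ∞) = (((n : ℕ∞) + 1 : ℕ∞) : WithBot ℕ∞) := h
    rw [WithBot.coe_inj] at h2
    induction m using ENat.recTopCoe with
    | top => exact absurd h2 (by
        rw [top_add]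
        exact fun h => by
          have : ((n : ℕ∞) + 1) = ((n + 1 : ℕ) : ℕ∞) := by push_cast; rfl
          rw [this] at h
          exact ENat.natCast_ne_top _ h.symm)
    | coe k =>
      have : k + 1 = n + 1 := by exact_mod_cast h2
      have : k = n := by omega
      subst this
      rfl

section RegChain

variable {B : Type u} [CommRing B]

/-- `RegChain n I`: the ideal `I` is generated by a (weakly) regular sequence of length `n`
consisting of elements of the maximal ideal. -/
inductive RegChain (B : Type u) [CommRing B] [IsLocalRing B] : ℕ → Ideal B → Prop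
  | zero : RegChain B 0 ⊥
  | succ {n : ℕ} {I : Ideal B} {x : B} (h : RegChain B n I) (hx : x ∈ maximalIdeal B)
      (hreg : ∀ y, x * y ∈ I → y ∈ I) : RegChain B (n + 1) (I ⊔ Ideal.span {x})

theorem injective_smul_id {I : Ideal B} {x : B} (hreg : ∀ y, x * y ∈ I → y ∈ I) :
    Function.Injective (x • LinearMap.id : (B ⧸ I) →ₗ[B] (B ⧸ I)) := by
  rw [← LinearMap.ker_eq_bot, eq_bot_iff]
  intro y hy
  obtain ⟨y, rfl⟩ := Ideal.Quotient.mk_surjective y
  have hy' : Ideal.Quotient.mk I (x * y) = 0 := by
    rw [map_mul]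
    exact hy
  rw [Submodule.mem_bot]
  exact Ideal.Quotient.eq_zero_iff_mem.mpr (hreg y (Ideal.Quotient.eq_zero_iff_mem.mp hy'))

theorem exact_smul_factor (I : Ideal B) (x : B) :
    Function.Exact (x • LinearMap.id : (B ⧸ I) →ₗ[B] (B ⧸ I))
      (Submodule.factor (le_sup_left : I ≤ I ⊔ Ideal.span {x})) := by
  intro y
  obtain ⟨y, rfl⟩ := Ideal.Quotient.mk_surjective y
  constructor
  · intro hy
    have hy' : Ideal.Quotient.mk (I ⊔ Ideal.span {x}) y = 0 := hy
    rw [Ideal.Quotient.eq_zero_iff_mem] at hy'
    obtain ⟨a, ha, b, hb, hab⟩ := Submodule.mem_sup.mp hy'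
    obtain ⟨c, rfl⟩ := Ideal.mem_span_singleton'.mp hb
    refine ⟨Ideal.Quotient.mk I c, ?_⟩
    change x • (Ideal.Quotient.mk I c) = _
    change Ideal.Quotient.mk I (x * c) = _
    rw [Ideal.Quotient.eq]
    have : x * c - y = -a := by rw [← hab]; ring
    rw [this]
    exact I.neg_mem ha
  · rintro ⟨z, hz⟩
    obtain ⟨z, rfl⟩ := Ideal.Quotient.mk_surjective z
    have hz' : Ideal.Quotient.mk I (x * z) = Ideal.Quotient.mk I y := hz
    rw [← hz']
    change Ideal.Quotient.mk (I ⊔ Ideal.span {x}) (x * z) = 0
    rw [Ideal.Quotient.eq_zero_iff_mem]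
    exact Submodule.mem_sup_right (Ideal.mul_mem_right _ _ (Ideal.subset_span rfl))

theorem torBd_of_regChain [IsLocalRing B] {n : ℕ} {I : Ideal B} (h : RegChain B n I) (P : Type u) [AddCommGroup P]
    [Module B P] : TorBd B (B ⧸ I) P n := by
  induction h with
  | zero =>
    have : Module.Flat B (B ⧸ (⊥ : Ideal B)) :=
      Module.Flat.of_linearEquiv (Submodule.quotEquivOfEqBot (⊥ : Ideal B) rfl)
    intro i hi
    obtain ⟨j, rfl⟩ : ∃ j, i = j + 1 := ⟨i - 1, by omega⟩
    exact subsingleton_of_flat_left B j (B ⧸ (⊥ : Ideal B)) P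
  | @succ n I x h hx hreg ih =>
    intro i hi
    obtain ⟨j, rfl⟩ : ∃ j, i = j + 1 := ⟨i - 1, by omega⟩
    obtain ⟨δ, h1, h2, h3, h4⟩ := les_fst _ _ (injective_smul_id hreg)
      (Submodule.factor_surjective (le_sup_left : I ≤ I ⊔ Ideal.span {x}))
      (exact_smul_factor I x) P
    have s1 := ih (j + 1) (by omega)
    have s2 := ih j (by omega)
    refine ⟨fun a b => ?_⟩
    have key : ∀ c : Tor B (j + 1) (B ⧸ (I ⊔ Ideal.span {x})) P, c = 0 := by
      intro c
      obtain ⟨c', rfl⟩ := (h2 j c).mp (Subsingleton.elim _ _)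
      rw [Subsingleton.elim c' 0, map_zero]
    rw [key a, key b]

theorem mem_support_quotient_iff {I : Ideal B} (p : PrimeSpectrum B) :
    p ∈ Module.support B (B ⧸ I) ↔ I ≤ p.asIdeal := by
  rw [Module.mem_support_iff_of_finite, Ideal.annihilator_quotient]

theorem exact_smul_quot (P : Type u) [AddCommGroup P] [Module B P] (x : B) :
    Function.Exact (x • LinearMap.id : P →ₗ[B] P)
      (Submodule.mkQ (range (x • LinearMap.id : P →ₗ[B] P))) := by
  rw [LinearMap.exact_iff, Submodule.ker_mkQ]

/-- the alternating sum of the lengths of `T i / x` and of `x`-torsion in `T (i-1)`. -/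
theorem chi_succ_eq [IsNoetherianRing B] {I : Ideal B} {x : B}
    (hreg : ∀ y, x * y ∈ I → y ∈ I) (P : Type u) [AddCommGroup P]
    [Module B P] [Module.Finite B P] (hP : Meets B (B ⧸ (I ⊔ Ideal.span {x})) P)
    (hxP : Function.Injective (x • LinearMap.id : P →ₗ[B] P)) :
    IntMult.chi B (B ⧸ (I ⊔ Ideal.span {x})) P =
      IntMult.chi B (B ⧸ I) (P ⧸ range (x • LinearMap.id : P →ₗ[B] P)) := by
  obtain ⟨δ, h1, h2, h3, h4⟩ := les_fst _ _ (injective_smul_id hreg)
      (Submodule.factor_surjective (le_sup_left : I ≤ I ⊔ Ideal.span {x}))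
      (exact_smul_factor I x) P
  obtain ⟨δ', h1', h2', h3', h4'⟩ := les_fst _ _ hxP (Submodule.mkQ_surjective _)
    (exact_smul_quot P x) (B ⧸ I)
  have hm' : Meets B (B ⧸ I) (P ⧸ range (x • LinearMap.id : P →ₗ[B] P)) := by
    intro p hp hq
    refine hP p ?_ (Module.support_subset_of_surjective _ (Submodule.mkQ_surjective _) hq)
    rw [mem_support_quotient_iff] at hp ⊢
    refine sup_le hp ?_
    rw [Ideal.span_singleton_le_iff_mem]
    rw [Module.mem_support_iff_of_finite] at hq
    refine hq (Module.mem_annihilator.mpr fun z => ?_)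
    obtain ⟨z, rfl⟩ := Submodule.mkQ_surjective _ z
    rw [← map_smul, Submodule.mkQ_apply, Submodule.Quotient.mk_eq_zero]
    exact ⟨z, rfl⟩
  obtain ⟨a0, a1⟩ := il_of_les_smul x _ (fun i => mapL_smul_id x (B ⧸ I) i P) _ δ h1 h2 h3 h4
    (fun i => length_tor_ne_top hP i)
  obtain ⟨b0, b1⟩ := il_of_les_smul x _ (fun i => mapL_smul_id x P i (B ⧸ I)) _ δ' h1' h2' h3' h4'
    (fun i => length_tor_ne_top hm'.symm i)
  rw [chi_symm (B ⧸ I), chi_eq_eu, chi_eq_eu]
  refine eu_congr fun i => ?_
  have e1 : ∀ i, il B (Tor B i (B ⧸ I) P ⧸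
      range (x • LinearMap.id : Tor B i (B ⧸ I) P →ₗ[B] Tor B i (B ⧸ I) P)) =
      il B (Tor B i P (B ⧸ I) ⧸
      range (x • LinearMap.id : Tor B i P (B ⧸ I) →ₗ[B] Tor B i P (B ⧸ I))) := fun i => by
    obtain ⟨e⟩ := comm (A := B) i (B ⧸ I) P
    refine il_congr (Submodule.Quotient.equiv _ _ e ?_)
    ext z
    constructor
    · rintro ⟨_, ⟨w, rfl⟩, rfl⟩
      exact ⟨e w, by simp⟩
    · rintro ⟨w, rfl⟩
      exact ⟨x • e.symm w, ⟨e.symm w, rfl⟩, by simp⟩
  have e2 : ∀ i, il B (ker (x • LinearMap.id : Tor B i (B ⧸ I) P →ₗ[B] Tor B i (B ⧸ I) P)) =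
      il B (ker (x • LinearMap.id : Tor B i P (B ⧸ I) →ₗ[B] Tor B i P (B ⧸ I))) := fun i => by
    obtain ⟨e⟩ := comm (A := B) i (B ⧸ I) P
    refine il_congr (e.ofSubmodules _ _ ?_)
    ext z
    constructor
    · rintro ⟨w, hw, rfl⟩
      have hw' : x • w = 0 := hw
      show x • e w = 0
      rw [← map_smul, hw', map_zero]
    · intro hz
      have hz' : x • z = 0 := hz
      refine ⟨e.symm z, ?_, by simp⟩
      show x • e.symm z = 0
      rw [← map_smul, hz', map_zero]
  cases i with
  | zero => rw [a0, b0, e1]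
  | succ j => rw [a1 j, b1 j, e1, e2]

theorem chi_succ_eq_zero [IsLocalRing B] [IsNoetherianRing B] {n : ℕ} {I : Ideal B} {x : B} (h : RegChain B n I)
    (hreg : ∀ y, x * y ∈ I → y ∈ I) (P : Type u) [AddCommGroup P]
    [Module B P] [Module.Finite B P] (hP : Meets B (B ⧸ (I ⊔ Ideal.span {x})) P)
    (hxP : ∀ p : P, x • p = 0) :
    IntMult.chi B (B ⧸ (I ⊔ Ideal.span {x})) P = 0 := by
  obtain ⟨δ, h1, h2, h3, h4⟩ := les_fst _ _ (injective_smul_id hreg)
      (Submodule.factor_surjective (le_sup_left : I ≤ I ⊔ Ideal.span {x}))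
      (exact_smul_factor I x) P
  have hm : Meets B (B ⧸ I) P := by
    intro p hp hq
    refine hP p ?_ hq
    rw [mem_support_quotient_iff] at hp ⊢
    refine sup_le hp ?_
    rw [Ideal.span_singleton_le_iff_mem]
    rw [Module.mem_support_iff_of_finite] at hq
    exact hq (Module.mem_annihilator.mpr hxP)
  obtain ⟨a0, a1⟩ := il_of_les_smul x _ (fun i => mapL_smul_id x (B ⧸ I) i P) _ δ h1 h2 h3 h4
    (fun i => length_tor_ne_top hP i)
  have hz : ∀ i, (x • LinearMap.id : Tor B i (B ⧸ I) P →ₗ[B] Tor B i (B ⧸ I) P) = 0 := by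
    intro i
    ext z
    exact smul_tor_eq_zero_of_snd x hxP i z
  have c0 : ∀ i, il B (Tor B i (B ⧸ I) P ⧸
      range (x • LinearMap.id : Tor B i (B ⧸ I) P →ₗ[B] Tor B i (B ⧸ I) P)) =
      il B (Tor B i (B ⧸ I) P) := by
    intro i
    refine il_congr (Submodule.quotEquivOfEqBot _ ?_)
    rw [hz i, LinearMap.range_zero]
  have c1 : ∀ i, il B (ker (x • LinearMap.id : Tor B i (B ⧸ I) P →ₗ[B] Tor B i (B ⧸ I) P)) =
      il B (Tor B i (B ⧸ I) P) := by
    intro i
    rw [hz i, LinearMap.ker_zero]
    exact il_congr Submodule.topEquiv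
  rw [chi_eq_eu]
  set l : ℕ → ℤ := fun i => Nat.casesOn i 0 (fun j => il B (Tor B j (B ⧸ I) P)) with hl
  have e : ∀ i, il B (Tor B i (B ⧸ (I ⊔ Ideal.span {x})) P) =
      il B (Tor B i (B ⧸ I) P) + l i := by
    intro i
    cases i with
    | zero => rw [a0, c0]; simp [hl]
    | succ j => rw [a1 j, c0, c1]
  have hv : ∀ i, n < i → il B (Tor B i (B ⧸ I) P) = 0 := fun i hi => by
    have := torBd_of_regChain h P i hi
    exact il_of_subsingleton _
  have hs := eu_shift (fun i => il B (Tor B i (B ⧸ I) P)) l n hv (by simp [hl])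
    (fun i => by simp [hl])
  rw [eu_congr e, eu_add _ _ (n + 1) (fun i hi => hv i (by omega)) (by
    intro i hi
    obtain ⟨j, rfl⟩ : ∃ j, i = j + 1 := ⟨i - 1, by omega⟩
    exact hv j (by omega)), hs]

/-- Serre's vanishing and positivity for `χ(B/(x₁,…,xₙ), P)` with `x₁,…,xₙ` a regular sequence in
a Noetherian local ring `B` and `P` a finite module with `P/(x₁,…,xₙ)P` of finite length. -/
theorem main [IsLocalRing B] [IsNoetherianRing B] {n : ℕ} {I : Ideal B} (h : RegChain B n I)
    (P : Type u) [AddCommGroup P] [Module B P] [hfin : Module.Finite B P] :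
    Meets B (B ⧸ I) P → Module.supportDim B P ≤ n ∧ 0 ≤ IntMult.chi B (B ⧸ I) P ∧
      (Module.supportDim B P < n → IntMult.chi B (B ⧸ I) P = 0) ∧
      (Module.supportDim B P = n → 0 < IntMult.chi B (B ⧸ I) P) := by
  induction h generalizing P with
  | zero =>
    intro hP
    have hmax : ∀ p ∈ Module.support B P, p.asIdeal.IsMaximal := fun p hp =>
      hP p ((mem_support_quotient_iff p).mpr bot_le) hp
    have hlen := length_ne_top_of_support hmax
    have hchi : IntMult.chi B (B ⧸ (⊥ : Ideal B)) P = il B P := by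
      rw [chi_eq_eu, eu_eq_zeroth]
      · have e := zeroEquiv B (B ⧸ (⊥ : Ideal B)) P
        let e2 : TensorProduct B (B ⧸ (⊥ : Ideal B)) P ≃ₗ[B] P :=
          (TensorProduct.congr (Submodule.quotEquivOfEqBot (⊥ : Ideal B) rfl)
          (LinearEquiv.refl B P)).trans (TensorProduct.lid B P)
        exact il_congr (e.trans e2)
      · intro i hi
        have := torBd_of_regChain (B := B) RegChain.zero P i hi
        exact il_of_subsingleton _
    have hle : Module.supportDim B P ≤ 0 := by
      refine iSup_le fun s => ?_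
      by_contra hlt
      have hlen : 0 < s.length := by
        rcases Nat.eq_zero_or_pos s.length with h0 | h0
        · exact absurd (by rw [h0]; rfl) hlt
        · exact h0
      have hlt' : s ⟨0, by omega⟩ < s ⟨1, by omega⟩ := s.strictMono (Fin.mk_lt_mk.mpr zero_lt_one)
      have hm := hmax _ (s ⟨0, by omega⟩).2
      have hle : ((s ⟨0, by omega⟩ : Module.support B P) : PrimeSpectrum B).asIdeal <
          ((s ⟨1, by omega⟩ : Module.support B P) : PrimeSpectrum B).asIdeal := hlt'
      exact ((s ⟨1, by omega⟩ : Module.support B P) : PrimeSpectrum B).isPrime.ne_top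
        (hm.1.2 _ hle)
    refine ⟨by simpa using hle, by rw [hchi]; exact il_nonneg _, ?_, ?_⟩
    · intro h0
      have : Module.supportDim B P = ⊥ := by
        rw [Nat.cast_zero] at h0
        by_contra hne
        obtain ⟨m, hm⟩ := WithBot.ne_bot_iff_exists.mp hne
        rw [← hm] at h0
        have : (m : WithBot ℕ∞) < ((0 : ℕ∞) : WithBot ℕ∞) := h0
        rw [WithBot.coe_lt_coe] at this
        exact not_lt_bot this
      rw [Module.supportDim_eq_bot_iff_subsingleton] at this
      rw [hchi]
      exact il_of_subsingleton _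
    · intro h0
      have : Nontrivial P := by
        rw [← Module.supportDim_ne_bot_iff_nontrivial (R := B), h0]
        exact WithBot.coe_ne_bot
      rw [hchi]
      have h1 : Module.length B P ≠ 0 := by
        rw [Ne, Module.length_eq_zero_iff, not_subsingleton_iff_nontrivial]
        exact this
      unfold il
      have h2 : (Module.length B P).toNat ≠ 0 := by
        rw [Ne, ENat.toNat_eq_zero, not_or]
        exact ⟨h1, hlen⟩
      omega
  | @succ n I x h hx hreg ih =>
    -- the bound on the dimension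
    have hdim : ∀ (P : Type u) [AddCommGroup P] [Module B P] [Module.Finite B P],
        Meets B (B ⧸ (I ⊔ Ideal.span {x})) P → Module.supportDim B P ≤ ((n + 1 : ℕ) : WithBot ℕ∞) := by
      intro P _ _ _ hP
      have hm : Meets B (B ⧸ I) (QuotSMulTop x P) := by
        intro p hp hq
        rw [Module.support_quotSMulTop] at hq
        refine hP p ?_ hq.1
        rw [mem_support_quotient_iff] at hp ⊢
        refine sup_le hp ?_
        rw [Ideal.span_singleton_le_iff_mem]
        exact hq.2 rfl
      refine (Module.supportDim_le_supportDim_quotSMulTop_succ hx).trans ?_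
      push_cast
      exact add_le_add_left (ih _ hm).1 1
    induction hfin using IsNoetherianRing.induction_on_isQuotientEquivQuotientPrime B with
    | subsingleton P =>
      intro hP
      have hc : IntMult.chi B (B ⧸ (I ⊔ Ideal.span {x})) P = 0 := by
        rw [chi_eq_eu]
        refine eu_of_zero fun i => ?_
        have : Subsingleton (Tor B i (B ⧸ (I ⊔ Ideal.span {x})) P) := by
          refine ⟨fun a b => ?_⟩
          have key : ∀ c : Tor B i (B ⧸ (I ⊔ Ideal.span {x})) P, c = 0 := by
            intro c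
            have := smul_tor_eq_zero_of_snd (1 : B) (fun n : P => Subsingleton.elim _ _) i c
            rwa [one_smul] at this
          rw [key a, key b]
        exact il_of_subsingleton _
      refine ⟨hdim P hP, hc.ge, fun _ => hc, fun h0 => ?_⟩
      rw [Module.supportDim_eq_bot_of_subsingleton] at h0
      exact absurd h0.symm WithBot.coe_ne_bot
    | quotient P p e =>
      intro hP
      refine ⟨hdim P hP, ?_⟩
      by_cases hxp : x ∈ p.asIdeal
      · have hxP : ∀ z : P, x • z = 0 := by
          intro z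
          apply e.injective
          rw [map_smul, map_zero]
          obtain ⟨y, hy⟩ := Ideal.Quotient.mk_surjective (e z)
          rw [← hy]
          change Ideal.Quotient.mk p.asIdeal (x * y) = 0
          rw [Ideal.Quotient.eq_zero_iff_mem]
          exact Ideal.mul_mem_right _ _ hxp
        have hc := chi_succ_eq_zero h hreg P hP hxP
        have hm : Meets B (B ⧸ I) P := by
          intro q hq hq'
          refine hP q ?_ hq'
          rw [mem_support_quotient_iff] at hq ⊢
          refine sup_le hq ?_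
          rw [Ideal.span_singleton_le_iff_mem]
          rw [Module.mem_support_iff_of_finite] at hq'
          exact hq' (Module.mem_annihilator.mpr hxP)
        refine ⟨hc.ge, fun _ => hc, fun h0 => ?_⟩
        have h1 := (ih P hm).1
        rw [h0] at h1
        exact absurd h1 (not_le.mpr (by exact_mod_cast Nat.lt_succ_self n))
      · have hinj : Function.Injective (x • LinearMap.id : P →ₗ[B] P) := by
          rw [← LinearMap.ker_eq_bot, eq_bot_iff]
          intro z hz
          rw [Submodule.mem_bot]
          apply e.injective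
          rw [map_zero]
          have hz' : x • z = 0 := hz
          have h1 : x • e z = 0 := by rw [← map_smul, hz', map_zero]
          obtain ⟨y, hy⟩ := Ideal.Quotient.mk_surjective (e z)
          rw [← hy] at h1 ⊢
          have h2 : Ideal.Quotient.mk p.asIdeal (x * y) = 0 := h1
          rw [Ideal.Quotient.eq_zero_iff_mem] at h2 ⊢
          exact (p.isPrime.mem_or_mem h2).resolve_left hxp
        have hc := chi_succ_eq hreg P hP hinj
        have hr : range (x • LinearMap.id : P →ₗ[B] P) = x • (⊤ : Submodule B P) := by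
          ext z
          rw [LinearMap.mem_range, Submodule.mem_smul_pointwise_iff_exists]
          constructor
          · rintro ⟨y, rfl⟩
            exact ⟨y, trivial, rfl⟩
          · rintro ⟨y, -, rfl⟩
            exact ⟨y, rfl⟩
        have hreg' : IsSMulRegular P x := hinj
        have hd := Module.supportDim_quotSMulTop_succ_eq_supportDim hreg' hx
        have he : Module.supportDim B (P ⧸ range (x • LinearMap.id : P →ₗ[B] P)) =
            Module.supportDim B (QuotSMulTop x P) :=
          Module.supportDim_eq_of_equiv (Submodule.quotEquivOfEq _ _ hr)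
        have hm : Meets B (B ⧸ I) (P ⧸ range (x • LinearMap.id : P →ₗ[B] P)) := by
          intro q hq hq'
          rw [(Submodule.quotEquivOfEq _ _ hr :
            (P ⧸ range (x • LinearMap.id : P →ₗ[B] P)) ≃ₗ[B] QuotSMulTop x P).support_eq,
            Module.support_quotSMulTop] at hq'
          refine hP q ?_ hq'.1
          rw [mem_support_quotient_iff] at hq ⊢
          refine sup_le hq ?_
          rw [Ideal.span_singleton_le_iff_mem]
          exact hq'.2 rfl
        obtain ⟨i1, i2, i3, i4⟩ := ih _ hm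
        rw [he] at i1 i3 i4
        rw [hc]
        refine ⟨i2, fun h0 => i3 ?_, fun h0 => i4 ?_⟩
        · rw [← hd] at h0
          push_cast at h0
          exact lt_of_add_lt_add_right h0
        · rw [← hd] at h0
          push_cast at h0
          exact add_one_cancel h0
    | exact P₁ P₂ P₃ f g hf hg hfg ih₁ ih₃ =>
      intro hP
      have hP₁ : Meets B (B ⧸ (I ⊔ Ideal.span {x})) P₁ := fun p hp hq =>
        hP p hp (Module.support_subset_of_injective f hf hq)
      have hP₃ : Meets B (B ⧸ (I ⊔ Ideal.span {x})) P₃ := fun p hp hq =>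
        hP p hp (Module.support_subset_of_surjective g hg hq)
      obtain ⟨a1, a2, a3, a4⟩ := ih₁ hP₁
      obtain ⟨b1, b2, b3, b4⟩ := ih₃ hP₃
      have hbd := fun (Q : Type u) [AddCommGroup Q] [Module B Q] =>
        torBd_of_regChain (RegChain.succ h hx hreg) Q
      have hadd := chi_add_snd (B ⧸ (I ⊔ Ideal.span {x})) f g hf hg hfg hP (n + 1)
        (hbd P₁) (hbd P₂) (hbd P₃)
      have d1 := Module.supportDim_le_of_injective f hf
      have d3 := Module.supportDim_le_of_surjective g hg
      refine ⟨hdim P₂ hP, by rw [hadd]; omega, fun h0 => ?_, fun h0 => ?_⟩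
      · rw [hadd, a3 (d1.trans_lt h0), b3 (d3.trans_lt h0), add_zero]
      · have hmax := supportDim_le_max f g hf hg hfg
        rw [h0] at hmax
        rw [hadd]
        rcases le_max_iff.mp hmax with hh | hh
        · have := a4 (le_antisymm a1 hh)
          omega
        · have := b4 (le_antisymm b1 hh)
          omega

end RegChain

end Groth.Agent.CycA.ChiRec2
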