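import Groth.Prelude.Def_IntMult
import Groth.Prelude.Def_CAlg
import Groth.Agent.CycA.TorReg
import Groth.Agent.Localalg.Depth
import Mathlib.LinearAlgebra.TensorProduct.Quotient

/-!
# Local computations of the Tor formula multiplicity
-/

universe u

open TensorProduct IsLocalRing RingTheory.Sequence Pointwise

namespace Groth.Agent.CycA.IntCore

open Groth.Agent.CycA.TorBasic Groth.Agent.CycA.TorShift Groth.Agent.CycA.TorFin
  Groth.Agent.CycA.TorReg

section Chi

variable {A : Type u} [CommRing A]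

lemma chi_congr {M M' N N' : Type u} [AddCommGroup M] [Module A M] [AddCommGroup M'] [Module A M']
    [AddCommGroup N] [Module A N] [AddCommGroup N'] [Module A N']
    (h : ∀ i, Nonempty (DRing.Tor A i M N ≃ₗ[A] DRing.Tor A i M' N')) :
    IntMult.chi A M N = IntMult.chi A M' N' := by
  unfold IntMult.chi
  congr 1
  ext i
  obtain ⟨e⟩ := h i
  rw [e.length_eq]

/-- Symmetry of `chi`. -/
theorem chi_comm (M N : Type u) [AddCommGroup M] [Module A M] [AddCommGroup N] [Module A N] :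
    IntMult.chi A M N = IntMult.chi A N M :=
  chi_congr fun i => comm i M N

theorem chi_congr_left {M M' : Type u} [AddCommGroup M] [Module A M] [AddCommGroup M']
    [Module A M'] (e : M ≃ₗ[A] M') (N : Type u) [AddCommGroup N] [Module A N] :
    IntMult.chi A M N = IntMult.chi A M' N :=
  chi_congr fun i => ⟨congrL e i N⟩

theorem chi_congr_right {N N' : Type u} [AddCommGroup N] [Module A N] [AddCommGroup N']
    [Module A N'] (M : Type u) [AddCommGroup M] [Module A M] (e : N ≃ₗ[A] N') :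
    IntMult.chi A M N = IntMult.chi A M N' :=
  chi_congr fun i => ⟨congrR i M e⟩

/-- If the higher Tor vanish then `chi` is the length of the tensor product. -/
theorem chi_eq_of_vanish (M N : Type u) [AddCommGroup M] [Module A M] [AddCommGroup N]
    [Module A N] (h : ∀ i, 0 < i → Subsingleton (DRing.Tor A i M N)) :
    IntMult.chi A M N = ((Module.length A (M ⊗[A] N)).toNat : ℤ) := by
  unfold IntMult.chi
  rw [finsum_eq_single _ 0]
  · rw [(zeroEquiv A M N).length_eq]
    simp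
  · intro i hi
    have := h i (Nat.pos_of_ne_zero hi)
    rw [Module.length_eq_zero]
    simp

/-- `A/I ⊗ A/J = A/(I ⊔ J)`. -/
theorem quot_tensor_quot (I J : Ideal A) :
    Nonempty (((A ⧸ I) ⊗[A] (A ⧸ J)) ≃ₗ[A] (A ⧸ (I ⊔ J))) := by
  have h1 : I • (⊤ : Submodule A (A ⧸ J)) = Submodule.map (Submodule.mkQ J) I := by
    have h2 : Submodule.map (Submodule.mkQ J) (I • (⊤ : Submodule A A)) =
        I • (⊤ : Submodule A (A ⧸ J)) := by
      rw [Submodule.map_smul'', Submodule.map_top, Submodule.range_mkQ]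
    rw [← h2, smul_eq_mul, Ideal.mul_top]
  exact ⟨(TensorProduct.quotTensorEquivQuotSMul (A ⧸ J) I).trans
    ((Submodule.quotEquivOfEq _ _ h1).trans
      ((Submodule.quotientQuotientEquivQuotientSup J I).trans
        (Submodule.quotEquivOfEq _ _ (sup_comm J I))))⟩

theorem chi_quot_eq_of_vanish (I J : Ideal A)
    (h : ∀ i, 0 < i → Subsingleton (DRing.Tor A i (A ⧸ I) (A ⧸ J))) :
    IntMult.chi A (A ⧸ I) (A ⧸ J) = ((Module.length A (A ⧸ (I ⊔ J))).toNat : ℤ) := by
  rw [chi_eq_of_vanish _ _ h]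
  obtain ⟨e⟩ := quot_tensor_quot I J
  rw [e.length_eq]

end Chi

section CM

variable {A : Type u} [CommRing A] [IsLocalRing A]

/-- A regular sequence of length `dim A/I` on a Cohen-Macaulay quotient `A/I`, with all elements in
a given ideal `J` such that `I + J` is `m`-primary. -/
theorem exists_regular_list_of_CM (I J : Ideal A)
    (hI : LocCoh.IsCohenMacaulayLocalRing (A ⧸ I)) (hJ : J ≤ maximalIdeal A)
    (hrad : maximalIdeal A ≤ (I ⊔ J).radical) (e : ℕ) (he : ringKrullDim (A ⧸ I) = e) :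
    ∃ rs : List A, rs.length = e ∧ (∀ r ∈ rs, r ∈ J) ∧ IsWeaklyRegular (A ⧸ I) rs := by
  have hne : Nontrivial (A ⧸ I) := inferInstance
  have hItop : I ≠ ⊤ := Ideal.Quotient.nontrivial_iff.1 hne
  have hIm : I ≤ maximalIdeal A := le_maximalIdeal hItop
  have hloc : IsLocalHom (Ideal.Quotient.mk I) :=
    IsLocalHom.of_surjective _ Ideal.Quotient.mk_surjective
  have hcomap : (maximalIdeal (A ⧸ I)).comap (Ideal.Quotient.mk I) = maximalIdeal A :=
    ((local_hom_TFAE (Ideal.Quotient.mk I)).out 0 4).1 hloc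
  set J' : Ideal (A ⧸ I) := J.map (Ideal.Quotient.mk I) with hJ'
  have hJ'm : J' ≤ maximalIdeal (A ⧸ I) := by
    rw [hJ', Ideal.map_le_iff_le_comap, hcomap]
    exact hJ
  have hrad' : J'.radical = (maximalIdeal (A ⧸ I)).radical := by
    apply le_antisymm (Ideal.radical_mono hJ'm)
    rw [(maximalIdeal.isMaximal (A ⧸ I)).isPrime.radical]
    intro y hy
    obtain ⟨a, rfl⟩ := Ideal.Quotient.mk_surjective y
    have ha : a ∈ maximalIdeal A := by
      rw [← hcomap]
      exact hy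
    obtain ⟨n, hn⟩ := hrad ha
    refine ⟨n, ?_⟩
    rw [← map_pow]
    have h1 : Ideal.Quotient.mk I (a ^ n) ∈ (I ⊔ J).map (Ideal.Quotient.mk I) :=
      Ideal.mem_map_of_mem _ hn
    rwa [Ideal.map_sup, Ideal.map_quotient_self, bot_sup_eq] at h1
  have hdepth : LocCoh.idealDepth J' (A ⧸ I) = e := by
    rw [Groth.Agent.Localalg.Depth.idealDepth_congr_radical hrad']
    have h1 := hI.supportDim_eq_depth
    rw [Module.supportDim_self_eq_ringKrullDim, he] at h1
    have h2 : ((e : ℕ∞) : WithBot ℕ∞) = ((LocCoh.depth (A ⧸ I) (A ⧸ I) : ℕ∞) : WithBot ℕ∞) := h1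
    exact (WithBot.coe_injective h2).symm
  have hne2 : J' • (⊤ : Submodule (A ⧸ I) (A ⧸ I)) ≠ ⊤ := by
    rw [smul_eq_mul, Ideal.mul_top]
    intro h
    rw [h] at hJ'm
    exact (maximalIdeal.isMaximal (A ⧸ I)).ne_top (top_le_iff.1 hJ'm)
  obtain ⟨rs', h1, h2, h3⟩ :=
    (Groth.Agent.Localalg.Depth.natCast_le_idealDepth_iff hne2 e).1 hdepth.ge
  have hlift : ∀ rs' : List (A ⧸ I), (∀ r ∈ rs', r ∈ J') →
      ∃ rs : List A, (∀ r ∈ rs, r ∈ J) ∧ rs.map (algebraMap A (A ⧸ I)) = rs' := by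
    intro rs'
    induction rs' with
    | nil => exact fun _ => ⟨[], by simp, rfl⟩
    | cons r rs' ih =>
      intro h
      obtain ⟨rs, hrs, hmap⟩ := ih (fun s hs => h s (by simp [hs]))
      obtain ⟨a, ha, har⟩ := (Ideal.mem_map_iff_of_surjective _ Ideal.Quotient.mk_surjective).1
        (h r (by simp))
      refine ⟨a :: rs, ?_, ?_⟩
      · intro s hs
        rcases List.mem_cons.1 hs with rfl | hs
        · exact ha
        · exact hrs s hs
      · rw [List.map_cons, hmap]
        congr 1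
  obtain ⟨rs, hrs, hmap⟩ := hlift rs' h2
  refine ⟨rs, ?_, hrs, ?_⟩
  · rw [← h1, ← hmap, List.length_map]
  · rw [← isWeaklyRegular_map_algebraMap_iff (A ⧸ I), hmap]
    exact h3.toIsWeaklyRegular

end CM

section Core

variable {A : Type u} [CommRing A] [IsRegularLocalRing A]

/-- Vanishing of higher Tor for Cohen-Macaulay quotients of a regular local ring meeting
properly. -/
theorem tor_vanish_of_CM (I J : Ideal A) (hI : LocCoh.IsCohenMacaulayLocalRing (A ⧸ I))
    (hJ : LocCoh.IsCohenMacaulayLocalRing (A ⧸ J))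
    (hrad : maximalIdeal A ≤ (I ⊔ J).radical) (d e s : ℕ) (hd : ringKrullDim A = d)
    (he : ringKrullDim (A ⧸ I) = e) (hs : ringKrullDim (A ⧸ J) = s) (hle : d ≤ e + s)
    (i : ℕ) (hi : 0 < i) : Subsingleton (DRing.Tor A i (A ⧸ J) (A ⧸ I)) := by
  have hneI : Nontrivial (A ⧸ I) := inferInstance
  have hneJ : Nontrivial (A ⧸ J) := inferInstance
  have hIm : I ≤ maximalIdeal A := le_maximalIdeal (Ideal.Quotient.nontrivial_iff.1 hneI)
  have hJm : J ≤ maximalIdeal A := le_maximalIdeal (Ideal.Quotient.nontrivial_iff.1 hneJ)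
  obtain ⟨xs, hxl, hxm, hxr⟩ := exists_regular_list_of_CM I (maximalIdeal A) hI le_rfl
    (le_trans le_sup_right Ideal.le_radical) e he
  obtain ⟨ys, hyl, hym, hyr⟩ := exists_regular_list_of_CM J I hJ hIm
    (by rwa [sup_comm]) s hs
  refine vanish_of_two_lists d hd (A ⧸ I) xs hxm hxr (A ⧸ J) ys ?_ hyr (by omega) i hi
  intro r hr m
  obtain ⟨m, rfl⟩ := Ideal.Quotient.mk_surjective m
  have : r • (Ideal.Quotient.mk I m) = Ideal.Quotient.mk I (r * m) := rfl
  rw [this, Ideal.Quotient.eq_zero_iff_mem]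
  exact Ideal.mul_mem_right _ _ (hym r hr)

/-- Local form of Stacks 0B02. -/
theorem chi_eq_length_of_CM (I J : Ideal A) (hI : LocCoh.IsCohenMacaulayLocalRing (A ⧸ I))
    (hJ : LocCoh.IsCohenMacaulayLocalRing (A ⧸ J))
    (hrad : maximalIdeal A ≤ (I ⊔ J).radical)
    (hle : ringKrullDim A ≤ ringKrullDim (A ⧸ I) + ringKrullDim (A ⧸ J)) :
    IntMult.chi A (A ⧸ J) (A ⧸ I) = ((Module.length A (A ⧸ (I ⊔ J))).toNat : ℤ) := by
  have hneI : Nontrivial (A ⧸ I) := inferInstance
  have hneJ : Nontrivial (A ⧸ J) := inferInstance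
  obtain ⟨d, hd⟩ := Groth.Agent.CalgA.RegBasic.ringKrullDim_eq_natCast A
  obtain ⟨e, he⟩ := Groth.Agent.CalgA.RegBasic.ringKrullDim_eq_natCast (A ⧸ I)
  obtain ⟨s, hs⟩ := Groth.Agent.CalgA.RegBasic.ringKrullDim_eq_natCast (A ⧸ J)
  rw [hd, he, hs] at hle
  have hle' : d ≤ e + s := by exact_mod_cast hle
  rw [chi_quot_eq_of_vanish J I (fun i hi =>
    tor_vanish_of_CM I J hI hJ hrad d e s hd he hs hle' i hi), sup_comm]

end Core

end Groth.Agent.CycA.IntCore
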