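import Groth.Agent.CycA.TorFin
import Mathlib.RingTheory.Length

/-!
# Tor over a flat algebra against an extended module

`Tor^B_n(L, B ⊗_A N) ≅ Tor^A_n(L, N)` for `B` flat over `A`, `L` a `B`-module, as semilinear
bijections; comparison of lengths.
-/

universe u v w

open TensorProduct

namespace Groth.Agent.CycA.TorRestr

open Groth.Agent.CycA.TorBasic Groth.Agent.CycA.TorShift Groth.Agent.CycA.TorFin

/-- An additive bijection between a `B`-module and an `A`-module compatible with `A → B`. -/
def Semi (A : Type u) (B : Type v) [CommRing A] [CommRing B] [Algebra A B] (X : Type w)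
    (Y : Type w) [AddCommGroup X] [Module B X] [AddCommGroup Y] [Module A Y] : Prop :=
  ∃ e : X ≃+ Y, ∀ (a : A) (x : X), e (algebraMap A B a • x) = a • e x

section Semi

variable {A : Type u} {B : Type v} [CommRing A] [CommRing B] [Algebra A B]
  {X X' Y Y' : Type w}
  [AddCommGroup X] [Module B X] [AddCommGroup Y] [Module A Y]
  [AddCommGroup X'] [Module B X'] [AddCommGroup Y'] [Module A Y']

lemma Semi.congr (h : Semi A B X Y) (e : X' ≃ₗ[B] X) (e' : Y ≃ₗ[A] Y') : Semi A B X' Y' := by
  obtain ⟨f, hf⟩ := h
  refine ⟨e.toAddEquiv.trans (f.trans e'.toAddEquiv), fun a x => ?_⟩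
  show e' (f (e (algebraMap A B a • x))) = a • e' (f (e x))
  rw [map_smul, hf, map_smul]

/-- Length comparison. -/
theorem Semi.length_eq (h : Semi A B X Y)
    (hB : ∀ b : B, ∃ a : A, ∀ x : X, b • x = algebraMap A B a • x) :
    Module.length B X = Module.length A Y := by
  obtain ⟨f, hf⟩ := h
  have hf' : ∀ (a : A) (y : Y), f.symm (a • y) = algebraMap A B a • f.symm y := by
    intro a y
    apply f.injective
    rw [hf]; simp
  let G : Submodule B X → Submodule A Y := fun S =>
    { carrier := {y | f.symm y ∈ S}
      add_mem' := fun {a b} ha hb => by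
        show f.symm (a + b) ∈ S
        rw [map_add]; exact S.add_mem ha hb
      zero_mem' := by show f.symm 0 ∈ S; rw [map_zero]; exact S.zero_mem
      smul_mem' := fun c x hx => by
        show f.symm (c • x) ∈ S
        rw [hf']; exact S.smul_mem _ hx }
  have hG : ∀ (S : Submodule B X) (y : Y), y ∈ G S ↔ f.symm y ∈ S := fun S y => Iff.rfl
  let H : Submodule A Y → Submodule B X := fun T =>
    { carrier := {x | f x ∈ T}
      add_mem' := fun {a b} ha hb => by
        show f (a + b) ∈ T
        rw [map_add]; exact T.add_mem ha hb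
      zero_mem' := by show f 0 ∈ T; rw [map_zero]; exact T.zero_mem
      smul_mem' := fun c x hx => by
        show f (c • x) ∈ T
        obtain ⟨a, ha⟩ := hB c
        rw [ha, hf]; exact T.smul_mem _ hx }
  have hH : ∀ (T : Submodule A Y) (x : X), x ∈ H T ↔ f x ∈ T := fun S y => Iff.rfl
  let F : Submodule B X ≃o Submodule A Y :=
    { toFun := G
      invFun := H
      left_inv := fun S => by
        ext x
        rw [hH, hG, f.symm_apply_apply]
      right_inv := fun T => by
        ext x
        rw [hG, hH, f.apply_symm_apply]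
      map_rel_iff' := by
        intro S S'
        constructor
        · intro h x hx
          have h1 : f x ∈ G S := by rw [hG, f.symm_apply_apply]; exact hx
          have h2 := (hG S' _).1 (h h1)
          rwa [f.symm_apply_apply] at h2
        · intro h x hx
          exact (hG S' _).2 (h ((hG S _).1 hx)) }
  apply WithBot.coe_injective
  rw [Module.coe_length, Module.coe_length, Order.krullDim_eq_of_orderIso F]

end Semi

section Main

variable {A : Type u} [CommRing A] (B : Type u) [CommRing B] [Algebra A B] [Module.Flat A B]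
  (L : Type u) [AddCommGroup L] [Module A L] [Module B L] [IsScalarTower A B L]

omit [Module.Flat A B] in
lemma semi_of_linearEquiv {X Y : Type u} [AddCommGroup X] [Module B X] [Module A X]
    [IsScalarTower A B X] [AddCommGroup Y] [Module A Y] (e : X ≃ₗ[A] Y) : Semi A B X Y :=
  ⟨e.toAddEquiv, fun a x => by
    show e (algebraMap A B a • x) = a • e x
    rw [algebraMap_smul, map_smul]⟩

omit [Module.Flat A B] in
lemma cancelBaseChange_lTensor {K P : Type u} [AddCommGroup K] [Module A K] [AddCommGroup P]
    [Module A P] (f : K →ₗ[A] P) (x : L ⊗[B] (B ⊗[A] K)) :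
    AlgebraTensorModule.cancelBaseChange A B B L P (LinearMap.lTensor L (f.baseChange B) x) =
      LinearMap.lTensor L f (AlgebraTensorModule.cancelBaseChange A B B L K x) := by
  have : (AlgebraTensorModule.cancelBaseChange A B B L P).toLinearMap ∘ₗ
      (LinearMap.lTensor L (f.baseChange B)) =
      (AlgebraTensorModule.lTensor B L f) ∘ₗ
        (AlgebraTensorModule.cancelBaseChange A B B L K).toLinearMap := by
    ext l k
    simp
  exact LinearMap.congr_fun this x

omit [Module.Flat A B] in
lemma semi_ker {K P : Type u} [AddCommGroup K] [Module A K] [AddCommGroup P]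
    [Module A P] (f : K →ₗ[A] P) :
    Semi A B (LinearMap.ker (LinearMap.lTensor L (f.baseChange B)))
      (LinearMap.ker (LinearMap.lTensor L f)) := by
  let e := (AlgebraTensorModule.cancelBaseChange A B B L K)
  let e' := (AlgebraTensorModule.cancelBaseChange A B B L P)
  refine ⟨{ toFun := fun x => ⟨e x.1, ?_⟩
            invFun := fun y => ⟨e.symm y.1, ?_⟩
            left_inv := ?_
            right_inv := ?_
            map_add' := ?_ }, ?_⟩
  · rw [LinearMap.mem_ker, ← cancelBaseChange_lTensor, LinearMap.mem_ker.1 x.2, map_zero]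
  · rw [LinearMap.mem_ker]
    apply e'.injective
    show (AlgebraTensorModule.cancelBaseChange A B B L P) _ = _
    rw [cancelBaseChange_lTensor]
    show LinearMap.lTensor L f (e (e.symm y.1)) = e' 0
    rw [LinearEquiv.apply_symm_apply, LinearMap.mem_ker.1 y.2, map_zero]
  · intro x
    ext
    simp
  · intro x
    ext
    simp
  · intro x y
    ext
    simp
  · intro a x
    ext
    show e (algebraMap A B a • x.1) = a • e x.1
    rw [map_smul, algebraMap_smul]

/-- `Tor^B_n(L, B ⊗_A N) ≅ Tor^A_n(L, N)`. -/
theorem semi_tor (n : ℕ) : ∀ (N : Type u) [AddCommGroup N] [Module A N],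
    Semi A B (DRing.Tor B n L (B ⊗[A] N)) (DRing.Tor A n L N) := by
  induction n with
  | zero =>
    intro N _ _
    have h : Semi A B (L ⊗[B] (B ⊗[A] N)) (L ⊗[A] N) :=
      ⟨(AlgebraTensorModule.cancelBaseChange A B B L N).toAddEquiv, fun a x => by
        show (AlgebraTensorModule.cancelBaseChange A B B L N) (algebraMap A B a • x) =
          a • (AlgebraTensorModule.cancelBaseChange A B B L N) x
        rw [map_smul, algebraMap_smul]⟩
    exact h.congr (zeroEquiv B L (B ⊗[A] N)) (zeroEquiv A L N).symm
  | succ n ih =>
    intro N _ _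
    obtain ⟨K, P, _, _, _, _, f, g, _, hf, h, hg⟩ := exists_free_cover (A := A) N
    cases n with
    | zero =>
      obtain ⟨e1⟩ := shiftR_one f g hf h hg L
      obtain ⟨e2⟩ := shiftR_one (f.baseChange B) (g.baseChange B)
        (baseChange_injective B hf) (baseChange_exact B h) (baseChange_surjective B hg) L
      exact (semi_ker B L f).congr e2 e1.symm
    | succ n =>
      obtain ⟨e1⟩ := shiftR f g hf h hg n L
      obtain ⟨e2⟩ := shiftR (f.baseChange B) (g.baseChange B)
        (baseChange_injective B hf) (baseChange_exact B h) (baseChange_surjective B hg) n L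
      exact (ih K).congr e2 e1.symm

/-- Vanishing of `Tor^B(L, B ⊗_A N)` when `L` is `A`-flat. -/
theorem subsingleton_of_flat [Module.Flat A L] (n : ℕ) (N : Type u) [AddCommGroup N]
    [Module A N] : Subsingleton (DRing.Tor B (n + 1) L (B ⊗[A] N)) := by
  obtain ⟨e, -⟩ := semi_tor (A := A) B L (n + 1) N
  have := subsingleton_of_flat_left A n L N
  exact e.toEquiv.subsingleton

end Main

end Groth.Agent.CycA.TorRestr
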