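import Groth.Agent.CycA.ChiFibre
import Groth.Agent.CycA.TorRestr
import Groth.Agent.CycA.IntCore
import Mathlib.RingTheory.Ideal.Quotient.Operations

/-!
# The Tor formula on a section of a flat morphism

`A' → C → A` ring maps, `C` flat over `A'`, `C → A` surjective with kernel `(t)`, `A' → A` bijective.
-/

set_option autoImplicit false

universe u

namespace Groth.Agent.CycA.ChiSect

open DRing EulerLen LinearMap TorBasic TorShift TorFin TorRestr IsLocalRing ChiRec Devissage ChiFibre
open scoped Pointwise TensorProduct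

section RingChange

variable {A' : Type u} [CommRing A'] (C A : Type u) [CommRing C] [CommRing A] [Algebra A' C]
  [Algebra C A] [Algebra A' A] [IsScalarTower A' C A] [Module.Flat A' C]

theorem flat_of_bijective (h : Function.Bijective (algebraMap A' A)) : Module.Flat A' A :=
  Module.Flat.of_linearEquiv (LinearEquiv.ofBijective (Algebra.linearMap A' A) h).symm

/-- Comparison of the Tor modules over `C` and over `A`. -/
theorem length_tor_eq (h : Function.Bijective (algebraMap A' A)) (L : Type u) [AddCommGroup L]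
    [Module A L] [Module C L] [IsScalarTower C A L]
    (N : Type u) [AddCommGroup N] [Module A' N] (i : ℕ) :
    Module.length C (Tor C i L (C ⊗[A'] N)) = Module.length A (Tor A i L (A ⊗[A'] N)) := by
  let _ : Module A' L := Module.compHom L (algebraMap A' A)
  have t1 : IsScalarTower A' A L := ⟨fun a b c => by
    rw [Algebra.smul_def, mul_smul]; rfl⟩
  have t2 : IsScalarTower A' C L := ⟨fun a b c => by
    have h1 : ∀ (z : C) (l : L), z • l = algebraMap C A z • l := fun z l =>
      (algebraMap_smul A z l).symm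
    rw [h1, Algebra.smul_def, map_mul, ← IsScalarTower.algebraMap_apply, mul_smul, ← h1]
    rfl⟩
  have := flat_of_bijective A h
  have s1 := semi_tor (A := A') C L i N
  have s2 := semi_tor (A := A') A L i N
  rw [s1.length_eq, s2.length_eq]
  · intro b
    obtain ⟨a, rfl⟩ := h.2 b
    exact ⟨a, fun _ => rfl⟩
  · intro b
    obtain ⟨a, ha⟩ := h.2 (algebraMap C A b)
    refine ⟨a, fun x => ?_⟩
    have h1 : (b - algebraMap A' C a) • x = 0 := by
      refine smul_tor_eq_zero_of_fst (A := C) _ ?_ i x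
      intro l
      rw [← algebraMap_smul A, map_sub, ← ha, ← IsScalarTower.algebraMap_apply, sub_self, zero_smul]
    rw [sub_smul, sub_eq_zero] at h1
    exact h1

theorem chi_eq (h : Function.Bijective (algebraMap A' A)) (L : Type u) [AddCommGroup L]
    [Module A L] [Module C L] [IsScalarTower C A L]
    (N : Type u) [AddCommGroup N] [Module A' N] :
    IntMult.chi C L (C ⊗[A'] N) = IntMult.chi A L (A ⊗[A'] N) := by
  rw [chi_eq_eu, chi_eq_eu]
  refine eu_congr fun i => ?_
  unfold il
  rw [length_tor_eq C A h L N i]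

end RingChange

section Quot

/-- `B ⊗ A/I = B/IB`. -/
theorem tensor_quot (A : Type u) [CommRing A] (B : Type u) [CommRing B] [Algebra A B] (I : Ideal A) :
    Nonempty ((B ⊗[A] (A ⧸ I)) ≃ₗ[B] (B ⧸ I.map (algebraMap A B))) := by
  exact ⟨(Algebra.TensorProduct.quotIdealMapEquivTensorQuot B I).symm.toLinearEquiv⟩

variable {A' : Type u} [CommRing A'] (C A : Type u) [CommRing C] [CommRing A] [Algebra A' C]
  [Algebra C A] [Algebra A' A] [IsScalarTower A' C A] [Module.Flat A' C]

/-- `C/(I + t) = A/IA` as `C`-modules. -/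
theorem quot_sup_ker (hs : Function.Surjective (algebraMap C A)) (I : Ideal C) :
    Nonempty ((C ⧸ (I ⊔ RingHom.ker (algebraMap C A))) ≃ₗ[C] (A ⧸ I.map (algebraMap C A))) := by
  let f : C →ₗ[C] (A ⧸ I.map (algebraMap C A)) :=
    (((I.map (algebraMap C A)).mkQ).restrictScalars C) ∘ₗ (Algebra.linearMap C A)
  have hf : Function.Surjective f := (Submodule.mkQ_surjective _).comp hs
  have hk : LinearMap.ker f = I ⊔ RingHom.ker (algebraMap C A) := by
    ext c
    rw [LinearMap.mem_ker, ← Ideal.comap_map_of_surjective' _ hs, Ideal.mem_comap]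
    exact Submodule.Quotient.mk_eq_zero _
  exact ⟨(Submodule.quotEquivOfEq _ _ hk.symm).trans (f.quotKerEquivOfSurjective hf)⟩

/-- Multiplication by `t` on `C/I`. -/
theorem quot_range (I : Ideal C) (t : C) :
    Nonempty (((C ⧸ I) ⧸ range (t • (LinearMap.id : (C ⧸ I) →ₗ[C] (C ⧸ I)))) ≃ₗ[C]
      (C ⧸ (I ⊔ Ideal.span {t}))) := by
  have h : range (t • (LinearMap.id : (C ⧸ I) →ₗ[C] (C ⧸ I))) =
      Submodule.map (Submodule.mkQ I) (Ideal.span {t}) := by
    ext x
    constructor
    · rintro ⟨y, rfl⟩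
      obtain ⟨y, rfl⟩ := Ideal.Quotient.mk_surjective y
      refine ⟨t * y, Ideal.mul_mem_right _ _ (Ideal.mem_span_singleton_self t), ?_⟩
      rfl
    · rintro ⟨y, hy, rfl⟩
      obtain ⟨z, rfl⟩ := Ideal.mem_span_singleton'.1 hy
      refine ⟨Ideal.Quotient.mk I z, ?_⟩
      change t • Ideal.Quotient.mk I z = Ideal.Quotient.mk I (z * t)
      rw [mul_comm]
      rfl
  exact ⟨(Submodule.quotEquivOfEq _ _ h).trans
    ((Submodule.quotientQuotientEquivQuotientSup I (Ideal.span {t})))⟩

theorem chi_quot_eq (hb : Function.Bijective (algebraMap A' A))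
    (hs : Function.Surjective (algebraMap C A)) (I : Ideal C) (J : Ideal A') :
    IntMult.chi C (C ⧸ (I ⊔ RingHom.ker (algebraMap C A))) (C ⧸ J.map (algebraMap A' C)) =
      IntMult.chi A (A ⧸ I.map (algebraMap C A)) (A ⧸ J.map (algebraMap A' A)) := by
  obtain ⟨e1⟩ := tensor_quot A' C J
  obtain ⟨e2⟩ := tensor_quot A' A J
  obtain ⟨e3⟩ := quot_sup_ker C A hs I
  rw [IntCore.chi_congr_left e3, IntCore.chi_congr_right _ e1.symm,
    IntCore.chi_congr_right _ e2.symm]
  exact chi_eq C A hb (A ⧸ I.map (algebraMap C A)) (A' ⧸ J)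

end Quot

section Main

variable {A' : Type u} [CommRing A'] (C A : Type u) [CommRing C] [CommRing A] [Algebra A' C]
  [Algebra C A] [Algebra A' A] [IsScalarTower A' C A] [Module.Flat A' C]

/-- **Local form**: `χ_A(A/IA, A/JA) = ∑_p length(A/pA) χ_{C_p}(C/I, C/JC)` over the primes
`p ≠ m` of `C` containing `I + JC`, for a section `A` of the flat `C` over `A'` with equation `t`. -/
theorem chi_sect [IsNoetherianRing C] [IsLocalRing C] (hb : Function.Bijective (algebraMap A' A))
    (hs : Function.Surjective (algebraMap C A)) (t : C)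
    (hk : RingHom.ker (algebraMap C A) = Ideal.span {t})
    (I : Ideal C) (J : Ideal A') (ht : ∀ c : C, t * c ∈ I → c ∈ I) (d : ℕ)
    (hbd : TorBd C (C ⧸ I) (C ⧸ J.map (algebraMap A' C)) d)
    (S : Finset (PrimeSpectrum C))
    (hZS : ∀ p : PrimeSpectrum C, I ≤ p.asIdeal → J.map (algebraMap A' C) ≤ p.asIdeal →
      p.asIdeal = maximalIdeal C ∨ p ∈ S)
    (hS : ∀ p ∈ S, p.asIdeal ≠ maximalIdeal C)
    (hmin : ∀ p ∈ S, ∀ q ∈ S, p ≤ q → p = q)
    (hx : ∀ p ∈ S, t ∉ p.asIdeal) :
    IntMult.chi A (A ⧸ I.map (algebraMap C A)) (A ⧸ J.map (algebraMap A' A)) =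
      ∑ p ∈ S, ((Module.length A (A ⧸ p.asIdeal.map (algebraMap C A))).toNat : ℤ) *
        lchi p (C ⧸ I) (C ⧸ J.map (algebraMap A' C)) := by
  obtain ⟨e⟩ := quot_range C I t
  rw [← chi_quot_eq C A hb hs, hk, ← IntCore.chi_congr_left e]
  have hsupp : ∀ (K : Ideal C) (p : PrimeSpectrum C), p ∈ Module.support C (C ⧸ K) → K ≤ p.asIdeal := by
    intro K p hp
    rw [Module.support_eq_zeroLocus, Ideal.annihilator_quotient] at hp
    exact hp
  rw [ChiFibre.chi_quot_eq t (C ⧸ I) (C ⧸ J.map (algebraMap A' C)) ?_ d hbd S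
    (fun p h1 h2 => hZS p (hsupp _ p h1) (hsupp _ p h2)) hS hmin hx]
  · refine Finset.sum_congr rfl fun p _ => ?_
    congr 2
    -- lengths
    obtain ⟨e1⟩ := quot_sup_ker C A hs p.asIdeal
    obtain ⟨e2⟩ := quot_range C p.asIdeal t
    rw [← Module.length_eq_of_surjective (R := A) (S := C) (M := A ⧸ p.asIdeal.map (algebraMap C A)) hs,
      ← e1.length_eq, hk, ← e2.length_eq, ← LenSum.length_coker_quotient]
    have : t • (⊤ : Submodule C (C ⧸ p.asIdeal)) =
        range (t • (LinearMap.id : (C ⧸ p.asIdeal) →ₗ[C] (C ⧸ p.asIdeal))) := by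
      ext z
      rw [Submodule.mem_smul_pointwise_iff_exists]
      simp
    rw [this]
  · rw [injective_iff_map_eq_zero]
    intro y hy
    obtain ⟨y, rfl⟩ := Ideal.Quotient.mk_surjective y
    have h1 : Ideal.Quotient.mk I (t * y) = 0 := hy
    rw [Ideal.Quotient.eq_zero_iff_mem] at h1 ⊢
    exact ht y h1

end Main

end Groth.Agent.CycA.ChiSect
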