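import Groth.Agent.Ega1.ReducedSub
import Mathlib.AlgebraicGeometry.FunctionField

/-!
# The closure of a point as an integral closed subscheme
-/

set_option autoImplicit false
universe u

open AlgebraicGeometry CategoryTheory

namespace Groth.Agent.CycA.ClosurePt

theorem exists_closure_subscheme {Y : Scheme.{u}} (y : Y) :
    ∃ (Z : Scheme.{u}) (i : Z ⟶ Y) (_ : IsClosedImmersion i) (_ : IsIntegral Z),
      i (genericPoint Z) = y ∧ Set.range i = closure {y} := by
  let I := Scheme.IdealSheafData.vanishingIdeal (X := Y) ⟨closure {y}, isClosed_closure⟩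
  let i : I.subscheme ⟶ Y := I.subschemeι
  have hrange : Set.range i = closure {y} := by
    rw [Scheme.IdealSheafData.range_subschemeι, Scheme.IdealSheafData.coe_support_vanishingIdeal]
    rfl
  have hy : y ∈ Set.range i := by rw [hrange]; exact subset_closure rfl
  obtain ⟨ζ, hζ⟩ := hy
  have hspec : ∀ z : I.subscheme, ζ ⤳ z := by
    intro z
    have hz : i z ∈ closure {y} := by rw [← hrange]; exact ⟨z, rfl⟩
    have h1 : i ζ ⤳ i z := by
      rw [hζ, specializes_iff_mem_closure]; exact hz
    exact i.isEmbedding.isInducing.specializes_iff.mp h1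
  have huniv : closure {ζ} = (Set.univ : Set I.subscheme) := by
    ext z
    simp only [Set.mem_univ, iff_true]
    exact specializes_iff_mem_closure.mp (hspec z)
  have hirr : IrreducibleSpace I.subscheme := by
    have : IsIrreducible (Set.univ : Set I.subscheme) := huniv ▸ isIrreducible_singleton.closure
    exact (irreducibleSpace_def _).mpr this
  have hred : IsReduced I.subscheme :=
    Groth.Agent.Ega1.ReducedSub.isReduced_subscheme_vanishingIdeal _
  have hint : IsIntegral I.subscheme := isIntegral_of_irreducibleSpace_of_isReduced _
  refine ⟨I.subscheme, i, inferInstance, hint, ?_, hrange⟩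
  have : genericPoint I.subscheme = ζ :=
    ((genericPoint_specializes ζ).antisymm (hspec _)).eq
  rw [this, hζ]

end Groth.Agent.CycA.ClosurePt
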