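import Groth.Prelude.Def_CycDet
import Mathlib.GroupTheory.Perm.Sign
import Mathlib.Algebra.BigOperators.Fin
import Mathlib.LinearAlgebra.Span.Basic
import Mathlib.RingTheory.LocalRing.Basic

/-!
# Determinants of finite length modules: the canonical functional

For a fixed strict admissible tuple `f` (a complete flag with generators) of `M` and any admissible
tuple `e` we define the "relative determinant" `D f e` as the sign of the relative position
permutation times the product of the leading coefficients. It kills the admissible relations.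
-/

set_option autoImplicit false
set_option linter.unusedSectionVars false
universe u v

namespace Groth.Agent.CycA.DetBasic

open CycDet IsLocalRing

variable {R : Type u} [CommRing R] {M : Type v} [AddCommGroup M] [Module R M] {l : ℕ}

section noLocal

theorem spanBefore_zero (e : Fin l → M) : spanBefore R M e 0 = ⊥ := by
  simp [spanBefore]

theorem spanBefore_mono (e : Fin l → M) {i j : ℕ} (h : i ≤ j) :
    spanBefore R M e i ≤ spanBefore R M e j := by
  unfold spanBefore
  exact Submodule.span_mono (Set.image_mono (fun k hk => lt_of_lt_of_le hk h))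

theorem mem_spanBefore (e : Fin l → M) {i : Fin l} {j : ℕ} (h : (i : ℕ) < j) :
    e i ∈ spanBefore R M e j :=
  Submodule.subset_span ⟨i, h, rfl⟩

theorem spanBefore_le_iff (e : Fin l → M) {i : ℕ} {N : Submodule R M} :
    spanBefore R M e i ≤ N ↔ ∀ j : Fin l, (j : ℕ) < i → e j ∈ N := by
  unfold spanBefore
  rw [Submodule.span_le]
  constructor
  · intro h j hj
    exact h ⟨j, hj, rfl⟩
  · rintro h _ ⟨j, hj, rfl⟩
    exact h j hj

theorem spanBefore_succ (e : Fin l → M) (i : Fin l) :
    spanBefore R M e (i + 1) = spanBefore R M e i ⊔ Submodule.span R {e i} := by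
  apply le_antisymm
  · rw [spanBefore_le_iff]
    intro j hj
    rcases Nat.lt_succ_iff_lt_or_eq.mp hj with h | h
    · exact Submodule.mem_sup_left (mem_spanBefore e h)
    · have : j = i := Fin.ext h
      subst this
      exact Submodule.mem_sup_right (Submodule.mem_span_singleton_self _)
  · apply sup_le (spanBefore_mono e (Nat.le_succ _))
    rw [Submodule.span_singleton_le_iff_mem]
    exact mem_spanBefore e (Nat.lt_succ_self _)

theorem spanBefore_last (e : Fin l → M) : spanBefore R M e l = Submodule.span R (Set.range e) := by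
  apply le_antisymm
  · rw [spanBefore_le_iff]
    intro j _
    exact Submodule.subset_span ⟨j, rfl⟩
  · rw [Submodule.span_le]
    rintro _ ⟨j, rfl⟩
    exact mem_spanBefore e j.2

theorem spanBefore_congr (e e' : Fin l → M) {i : ℕ} (h : ∀ j : Fin l, (j : ℕ) < i → e j = e' j) :
    spanBefore R M e i = spanBefore R M e' i := by
  unfold spanBefore
  congr 1
  exact Set.image_congr (fun j hj => h j hj)

theorem sup_mono_left (f : Fin l → M) {i j : ℕ} (h : i ≤ j) (E : Submodule R M) :
    spanBefore R M f i ⊔ E ≤ spanBefore R M f j ⊔ E :=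
  sup_le_sup_right (spanBefore_mono f h) _

end noLocal

variable [IsLocalRing R]

/-- `x ∈ c f_j + F_j + E` and `x ∉ F_j + E`: the leading position of `x` modulo `E` with respect to
the flag spanned by `f` is `j` and the leading coefficient is `c`. -/
def Lead (f : Fin l → M) (E : Submodule R M) (x : M) (j : Fin l) (c : R) : Prop :=
  x - c • f j ∈ spanBefore R M f j ⊔ E ∧ x ∉ spanBefore R M f j ⊔ E

theorem Lead.mem_succ {f : Fin l → M} {E : Submodule R M} {x : M} {j : Fin l} {c : R}
    (h : Lead f E x j c) : x ∈ spanBefore R M f (j + 1) ⊔ E := by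
  have h1 := h.1
  have h2 : c • f j ∈ spanBefore R M f (j + 1) ⊔ E :=
    Submodule.mem_sup_left (Submodule.smul_mem _ _ (mem_spanBefore f (Nat.lt_succ_self _)))
  have h3 : spanBefore R M f j ⊔ E ≤ spanBefore R M f (j + 1) ⊔ E :=
    sup_le_sup_right (spanBefore_mono f (Nat.le_succ _)) _
  have := Submodule.add_mem _ (h3 h1) h2
  simpa using this

theorem Lead.lt_of_mem {f : Fin l → M} {E : Submodule R M} {x : M} {j : Fin l} {c : R}
    (h : Lead f E x j c) {k : ℕ} (hk : x ∈ spanBefore R M f k ⊔ E) : (j : ℕ) < k := by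
  by_contra hlt
  push Not at hlt
  exact h.2 (sup_mono_left f hlt E hk)

theorem Lead.isUnit {f : Fin l → M} (hf : IsAdmissible R M f) {E : Submodule R M} {x : M}
    {j : Fin l} {c : R} (h : Lead f E x j c) : IsUnit c := by
  by_contra hc
  have hc' : c ∈ maximalIdeal R := (mem_maximalIdeal c).mpr hc
  have h1 : c • f j ∈ spanBefore R M f j ⊔ E := Submodule.mem_sup_left (hf j c hc')
  exact h.2 (by simpa using Submodule.add_mem _ h.1 h1)

theorem Lead.gen_notMem {f : Fin l → M} {E : Submodule R M} {x : M}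
    {j : Fin l} {c : R} (h : Lead f E x j c) : f j ∉ spanBefore R M f j ⊔ E := by
  intro h1
  exact h.2 (by simpa using Submodule.add_mem _ h.1 (Submodule.smul_mem _ c h1))

theorem Lead.pos_unique {f : Fin l → M} {E : Submodule R M} {x : M}
    {j j' : Fin l} {c c' : R} (h : Lead f E x j c) (h' : Lead f E x j' c') : j = j' := by
  apply Fin.ext
  have h1 := h.lt_of_mem h'.mem_succ
  have h2 := h'.lt_of_mem h.mem_succ
  omega

theorem Lead.sub_mem {f : Fin l → M} {E : Submodule R M} {x : M}
    {j : Fin l} {c c' : R} (h : Lead f E x j c) (h' : Lead f E x j c') :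
    c - c' ∈ maximalIdeal R := by
  by_contra hc
  have hu : IsUnit (c - c') := by
    by_contra h
    exact hc ((mem_maximalIdeal _).mpr h)
  obtain ⟨u, hu⟩ := hu
  apply h.gen_notMem
  have h1 := Submodule.sub_mem _ h'.1 h.1
  have h2 : (c - c') • f j ∈ spanBefore R M f j ⊔ E := by
    convert h1 using 1
    rw [sub_smul]; abel
  rw [← hu] at h2
  have h3 := Submodule.smul_mem _ ((u⁻¹ : Rˣ) : R) h2
  rwa [smul_smul, Units.inv_mul, one_smul] at h3

theorem Lead.residue_eq {f : Fin l → M} {E : Submodule R M} {x : M}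
    {j : Fin l} {c c' : R} (h : Lead f E x j c) (h' : Lead f E x j c') :
    residue R c = residue R c' := by
  rw [← sub_eq_zero, ← map_sub, residue_eq_zero_iff]
  exact h.sub_mem h'

theorem exists_lead {f : Fin l → M} (hf : Submodule.span R (Set.range f) = ⊤) {E : Submodule R M}
    {x : M} (hx : x ∉ E) : ∃ (j : Fin l) (c : R), Lead f E x j c := by
  classical
  have hex : ∃ k : ℕ, x ∈ spanBefore R M f k ⊔ E := ⟨l, by rw [spanBefore_last, hf]; simp⟩
  set k := Nat.find hex with hk
  have hk1 : x ∈ spanBefore R M f k ⊔ E := Nat.find_spec hex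
  have hk0 : k ≠ 0 := by
    intro h0
    rw [h0, spanBefore_zero, bot_sup_eq] at hk1
    exact hx hk1
  have hkl : k ≤ l := Nat.find_min' hex (by rw [spanBefore_last, hf]; simp)
  obtain ⟨j, hj⟩ := Nat.exists_eq_succ_of_ne_zero hk0
  have hjl : j < l := by omega
  have hnot : x ∉ spanBefore R M f j ⊔ E := Nat.find_min hex (by omega)
  rw [hj, Nat.succ_eq_add_one, show (j + 1) = (((⟨j, hjl⟩ : Fin l) : ℕ) + 1) from rfl,
    spanBefore_succ] at hk1
  rw [sup_right_comm] at hk1
  obtain ⟨y, hy, z, hz, hyz⟩ := Submodule.mem_sup.mp hk1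
  obtain ⟨c, rfl⟩ := Submodule.mem_span_singleton.mp hz
  refine ⟨⟨j, hjl⟩, c, ?_, hnot⟩
  rw [← hyz]
  simpa using hy

/-- Change of the coefficient by an element of the maximal ideal. -/
theorem Lead.congr {f : Fin l → M} (hf : IsAdmissible R M f) {E : Submodule R M} {x : M}
    {j : Fin l} {c c' : R} (h : Lead f E x j c) (hc : c - c' ∈ maximalIdeal R) :
    Lead f E x j c' := by
  refine ⟨?_, h.2⟩
  have h1 : (c - c') • f j ∈ spanBefore R M f j ⊔ E := Submodule.mem_sup_left (hf j _ hc)
  have := Submodule.add_mem _ h.1 h1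
  convert this using 1
  rw [sub_smul]; abel

/-- Changing `x` by a unit multiple and an element of `E`. -/
theorem Lead.smul_add {f : Fin l → M} {E : Submodule R M} {x x' : M}
    {j : Fin l} {c : R} (h : Lead f E x j c) (u : Rˣ) (hx : x' - (u : R) • x ∈ E) :
    Lead f E x' j ((u : R) * c) := by
  have hE : x' - (u : R) • x ∈ spanBefore R M f j ⊔ E := Submodule.mem_sup_right hx
  refine ⟨?_, ?_⟩
  · have h1 := Submodule.smul_mem _ (u : R) h.1
    have := Submodule.add_mem _ h1 hE
    convert this using 1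
    rw [smul_sub, smul_smul]; abel
  · intro hx'
    apply h.2
    have h1 : (u : R) • x ∈ spanBefore R M f j ⊔ E := by
      have := Submodule.sub_mem _ hx' hE
      simpa using this
    have h3 := Submodule.smul_mem _ ((u⁻¹ : Rˣ) : R) h1
    rwa [smul_smul, Units.inv_mul, one_smul] at h3

theorem mem_of_nonunit_smul {N : Submodule R M} {y z : M} {r : R} (hr : r ∉ maximalIdeal R)
    (h : y + r • z ∈ N) (hy : y ∈ N) : z ∈ N := by
  have hu : IsUnit r := by
    by_contra h
    exact hr ((mem_maximalIdeal _).mpr h)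
  obtain ⟨u, rfl⟩ := hu
  have h1 : (u : R) • z ∈ N := by simpa using Submodule.sub_mem _ h hy
  have h3 := Submodule.smul_mem _ ((u⁻¹ : Rˣ) : R) h1
  rwa [smul_smul, Units.inv_mul, one_smul] at h3

theorem mem_of_smul_notMem {N : Submodule R M} {z : M} {r : R} (hr : r ∉ maximalIdeal R)
    (h : r • z ∈ N) : z ∈ N :=
  mem_of_nonunit_smul (y := 0) hr (by simpa using h) N.zero_mem

/-- If the leading positions of `p` and `q` modulo `E` differ, `q` stays outside. -/
theorem notMem_sup_of_ne {f : Fin l → M} {E : Submodule R M} {p q : M}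
    (hp : ∀ r ∈ maximalIdeal R, r • p ∈ E) {j₁ j : Fin l} {c₁ c : R}
    (h1 : Lead f E p j₁ c₁) (h : Lead f E q j c) (hne : j ≠ j₁) :
    q ∉ spanBefore R M f j ⊔ (E ⊔ Submodule.span R {p}) := by
  intro hq
  rw [← sup_assoc] at hq
  obtain ⟨y, hy, z, hz, hyz⟩ := Submodule.mem_sup.mp hq
  obtain ⟨r, rfl⟩ := Submodule.mem_span_singleton.mp hz
  by_cases hr : r ∈ maximalIdeal R
  · apply h.2
    rw [← hyz]
    exact Submodule.add_mem _ hy (Submodule.mem_sup_right (hp r hr))
  · -- p ∈ F_{j+1} ⊔ E
    have hle : spanBefore R M f j ⊔ E ≤ spanBefore R M f (j + 1) ⊔ E :=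
      sup_le_sup_right (spanBefore_mono f (Nat.le_succ _)) _
    have hp1 : p ∈ spanBefore R M f (j + 1) ⊔ E := by
      apply mem_of_nonunit_smul hr _ (hle hy)
      rw [hyz]
      exact h.mem_succ
    have hlt := h1.lt_of_mem hp1
    have hne' : (j : ℕ) ≠ j₁ := fun h => hne (Fin.ext h)
    have hle2 : spanBefore R M f (j₁ + 1) ⊔ E ≤ spanBefore R M f j ⊔ E :=
      sup_le_sup_right (spanBefore_mono f (by omega)) _
    apply h.2
    rw [← hyz]
    exact Submodule.add_mem _ hy (Submodule.smul_mem _ _ (hle2 h1.mem_succ))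

/-- The local computation for swapping two adjacent entries. -/
theorem lead_swap {f : Fin l → M} (hf : IsAdmissible R M f)
    (hft : Submodule.span R (Set.range f) = ⊤) {E : Submodule R M} {p q : M}
    (hp : ∀ r ∈ maximalIdeal R, r • p ∈ E) (hq : ∀ r ∈ maximalIdeal R, r • q ∈ E)
    {j₁ j₂ : Fin l} {c₁ c₂ : R}
    (h1 : Lead f E p j₁ c₁) (h2 : Lead f (E ⊔ Submodule.span R {p}) q j₂ c₂) :
    (Lead f E q j₂ c₂ ∧ Lead f (E ⊔ Submodule.span R {q}) p j₁ c₁) ∨
    (∃ c₁' c₂' : R, Lead f E q j₁ c₁' ∧ Lead f (E ⊔ Submodule.span R {q}) p j₂ c₂' ∧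
      c₁' * c₂' = - (c₁ * c₂)) := by
  have hqE : q ∉ E := fun h =>
    h2.2 (Submodule.mem_sup_right (Submodule.mem_sup_left h))
  obtain ⟨j, c, h⟩ := exists_lead hft hqE
  by_cases hj : j = j₁
  · -- same positions
    subst hj
    right
    obtain ⟨u₁, hu₁⟩ := h1.isUnit hf
    obtain ⟨u, hu⟩ := h.isUnit hf
    -- q - μ p ∈ F_j ⊔ E, μ = u * u₁⁻¹
    set μ : Rˣ := u * u₁⁻¹ with hμ
    have hμc : (μ : R) * c₁ = c := by
      rw [hμ, ← hu₁, ← hu, Units.val_mul, mul_assoc, Units.inv_mul, mul_one]
    have hqμ : q - (μ : R) • p ∈ spanBefore R M f j ⊔ E := by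
      have := Submodule.sub_mem _ h.1 (Submodule.smul_mem _ (μ : R) h1.1)
      convert this using 1
      rw [smul_sub, smul_smul, hμc]; abel
    -- j₂ < j
    have hj2 : (j₂ : ℕ) < j := by
      apply h2.lt_of_mem
      rw [← sup_assoc]
      have : q = (q - (μ : R) • p) + (μ : R) • p := by abel
      rw [this]
      exact Submodule.add_mem _ (Submodule.mem_sup_left hqμ)
        (Submodule.mem_sup_right (Submodule.smul_mem _ _ (Submodule.mem_span_singleton_self _)))
    -- q - c₂ f_{j₂} - r p ∈ F_{j₂} ⊔ E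
    have h21 := h2.1
    rw [← sup_assoc] at h21
    obtain ⟨y, hy, z, hz, hyz⟩ := Submodule.mem_sup.mp h21
    obtain ⟨r, rfl⟩ := Submodule.mem_span_singleton.mp hz
    have hle : spanBefore R M f j₂ ⊔ E ≤ spanBefore R M f j ⊔ E :=
      sup_le_sup_right (spanBefore_mono f hj2.le) _
    have hfj2 : f j₂ ∈ spanBefore R M f j ⊔ E := Submodule.mem_sup_left (mem_spanBefore f hj2)
    have hrμ : (r - (μ : R)) • p ∈ spanBefore R M f j ⊔ E := by
      -- (q - μ p) - (q - r p) = (r - μ) p; q - r p = y + c₂ f_{j₂}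
      have h3 := Submodule.sub_mem _ hqμ
        (Submodule.add_mem _ (hle hy) (Submodule.smul_mem _ c₂ hfj2))
      convert h3 using 1
      have : q = y + r • p + c₂ • f j₂ := by rw [hyz]; abel
      rw [this, sub_smul]; abel
    have hrμm : r - (μ : R) ∈ maximalIdeal R := by
      by_contra hcon
      exact h1.2 (mem_of_smul_notMem hcon hrμ)
    have hrμE : (r - (μ : R)) • p ∈ spanBefore R M f j₂ ⊔ E :=
      Submodule.mem_sup_right (hp _ hrμm)
    have hmain : q - (μ : R) • p - c₂ • f j₂ ∈ spanBefore R M f j₂ ⊔ E := by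
      have h3 := Submodule.add_mem _ hy hrμE
      convert h3 using 1
      have : q = y + r • p + c₂ • f j₂ := by rw [hyz]; abel
      rw [this, sub_smul]; abel
    refine ⟨c, -((μ⁻¹ : Rˣ) : R) * c₂, h, ⟨?_, ?_⟩, ?_⟩
    · -- p + μ⁻¹ c₂ f_{j₂} = - μ⁻¹ (q - μ p - c₂ f_{j₂}) + μ⁻¹ q
      rw [← sup_assoc]
      have h3 := Submodule.smul_mem _ (-((μ⁻¹ : Rˣ) : R)) hmain
      have h4 : ((μ⁻¹ : Rˣ) : R) • q ∈ Submodule.span R {q} :=
        Submodule.smul_mem _ _ (Submodule.mem_span_singleton_self _)
      have h5 := Submodule.add_mem_sup h3 h4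
      convert h5 using 1
      have hν : ((μ⁻¹ : Rˣ) : R) * (μ : R) = 1 := Units.inv_mul μ
      have : -((μ⁻¹ : Rˣ) : R) • (q - (μ : R) • p - c₂ • f j₂) + ((μ⁻¹ : Rˣ) : R) • q =
          (((μ⁻¹ : Rˣ) : R) * (μ : R)) • p + (((μ⁻¹ : Rˣ) : R) * c₂) • f j₂ := by module
      rw [this, hν]
      module
    · intro hp2
      rw [← sup_assoc] at hp2
      obtain ⟨y', hy', z', hz', hyz'⟩ := Submodule.mem_sup.mp hp2
      obtain ⟨s, rfl⟩ := Submodule.mem_span_singleton.mp hz'
      by_cases hs : s ∈ maximalIdeal R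
      · apply h1.2
        rw [← hyz']
        exact Submodule.add_mem _ (hle hy') (Submodule.mem_sup_right (hq s hs))
      · apply h2.2
        rw [← sup_assoc]
        apply mem_of_nonunit_smul hs (y := y') _ (Submodule.mem_sup_left hy')
        rw [hyz']
        exact Submodule.mem_sup_right (Submodule.mem_span_singleton_self _)
    · rw [← hμc]
      have : (μ : R) * c₁ * (-((μ⁻¹ : Rˣ) : R) * c₂) = -(((μ : R) * ((μ⁻¹ : Rˣ) : R)) * (c₁ * c₂)) := by
        ring
      rw [this, Units.mul_inv, one_mul]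
  · left
    have h3 := notMem_sup_of_ne hp h1 h hj
    have h4 := notMem_sup_of_ne hq h h1 (Ne.symm hj)
    have hle1 : ∀ (k : ℕ) (z : M), spanBefore R M f k ⊔ E ≤
        spanBefore R M f k ⊔ (E ⊔ Submodule.span R {z}) :=
      fun k z => sup_le_sup_left le_sup_left _
    have h5 : Lead f (E ⊔ Submodule.span R {p}) q j c :=
      ⟨hle1 _ _ h.1, h3⟩
    have h6 := h5.pos_unique h2
    subst h6
    have h7 := h5.sub_mem h2
    exact ⟨h.congr hf h7, hle1 _ _ h1.1, h4⟩

/-- The relative position data of a tuple `e` with respect to `f`. -/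
def IsLead (f e : Fin l → M) (w : Equiv.Perm (Fin l)) (c : Fin l → R) : Prop :=
  ∀ i : Fin l, Lead f (spanBefore R M e i) (e i) (w i) (c i)

open Classical in
/-- The relative determinant. -/
noncomputable def D (f e : Fin l → M) : ResidueField R :=
  if h : ∃ (w : Equiv.Perm (Fin l)) (c : Fin l → R), IsLead f e w c then
    ((Equiv.Perm.sign h.choose : ℤˣ) : ℤ) * ∏ i, residue R (h.choose_spec.choose i)
  else 0

theorem D_eq {f e : Fin l → M} {w : Equiv.Perm (Fin l)} {c : Fin l → R} (h : IsLead f e w c) :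
    D (R := R) f e = ((Equiv.Perm.sign w : ℤˣ) : ℤ) * ∏ i, residue R (c i) := by
  have hex : ∃ (w : Equiv.Perm (Fin l)) (c : Fin l → R), IsLead f e w c := ⟨w, c, h⟩
  have hspec := hex.choose_spec.choose_spec
  have hw : hex.choose = w := Equiv.ext (fun i => (hspec i).pos_unique (h i))
  rw [D, dif_pos hex]
  congr 1
  · rw [hw]
  · apply Finset.prod_congr rfl
    intro i _
    have h1 := hspec i
    have h2 := h i
    rw [← hw] at h2
    exact h1.residue_eq h2

theorem D_eq_zero {f e : Fin l → M}
    (h : ¬ ∃ (w : Equiv.Perm (Fin l)) (c : Fin l → R), IsLead f e w c) :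
    D (R := R) f e = 0 := dif_neg h

theorem exists_isLead {f e : Fin l → M} (hf : IsAdmissible R M f)
    (hft : Submodule.span R (Set.range f) = ⊤)
    (he : ∀ i : Fin l, e i ∉ spanBefore R M e i) :
    ∃ (w : Equiv.Perm (Fin l)) (c : Fin l → R), IsLead f e w c := by
  choose w c hwc using fun i => exists_lead hft (he i)
  have hinj : Function.Injective w := by
    have key : ∀ i i', (i : Fin l) < i' → w i ≠ w i' := by
      intro i i' hlt heq
      have h1 := hwc i
      have h2 := hwc i'
      rw [← heq] at h2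
      obtain ⟨u, hu⟩ := h1.isUnit hf
      have h3 : f (w i) ∈ spanBefore R M f (w i) ⊔ spanBefore R M e i' := by
        have hle : spanBefore R M f (w i) ⊔ spanBefore R M e i ≤
            spanBefore R M f (w i) ⊔ spanBefore R M e i' :=
          sup_le_sup_left (spanBefore_mono e hlt.le) _
        have h4 : e i ∈ spanBefore R M f (w i) ⊔ spanBefore R M e i' :=
          Submodule.mem_sup_right (mem_spanBefore e hlt)
        have h5 : c i • f (w i) ∈ spanBefore R M f (w i) ⊔ spanBefore R M e i' := by
          have := Submodule.sub_mem _ h4 (hle h1.1)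
          simpa using this
        rw [← hu] at h5
        have h6 := Submodule.smul_mem _ ((u⁻¹ : Rˣ) : R) h5
        rwa [smul_smul, Units.inv_mul, one_smul] at h6
      exact h2.gen_notMem h3
    intro i i' h
    rcases lt_trichotomy i i' with hlt | heq | hlt
    · exact absurd h (key i i' hlt)
    · exact heq
    · exact absurd h.symm (key i' i hlt)
  refine ⟨Equiv.ofBijective w (Finite.injective_iff_bijective.mp hinj), c, fun i => hwc i⟩

theorem IsLead.notMem {f e : Fin l → M} {w : Equiv.Perm (Fin l)} {c : Fin l → R}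
    (h : IsLead f e w c) (i : Fin l) : e i ∉ spanBefore R M e i :=
  fun hi => (h i).2 (Submodule.mem_sup_right hi)

/-- If `e` has leading data with respect to `f`, then `f` is strict. -/
theorem IsLead.gen_notMem {f e : Fin l → M} {w : Equiv.Perm (Fin l)} {c : Fin l → R}
    (h : IsLead f e w c) (j : Fin l) : f j ∉ spanBefore R M f j := by
  obtain ⟨i, rfl⟩ := w.surjective j
  exact fun hi => (h i).gen_notMem (Submodule.mem_sup_left hi)

/-- If `e` has leading data with respect to `f` and `f` generates then `e` generates. -/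
theorem IsLead.span_eq_top {f e : Fin l → M} (hf : IsAdmissible R M f)
    (hft : Submodule.span R (Set.range f) = ⊤) {w : Equiv.Perm (Fin l)} {c : Fin l → R}
    (h : IsLead f e w c) : Submodule.span R (Set.range e) = ⊤ := by
  have key : ∀ j : ℕ, j ≤ l → spanBefore R M f j ≤ spanBefore R M e l := by
    intro j
    induction j with
    | zero => intro _; rw [spanBefore_zero]; exact bot_le
    | succ j ih =>
      intro hj
      have ih' := ih (by omega)
      obtain ⟨i, hi⟩ := w.surjective ⟨j, by omega⟩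
      have h1 := h i
      rw [hi] at h1
      obtain ⟨u, hu⟩ := h1.isUnit hf
      have hle : spanBefore R M f j ⊔ spanBefore R M e i ≤ spanBefore R M e l :=
        sup_le ih' (spanBefore_mono e i.2.le)
      have h5 : c i • f ⟨j, by omega⟩ ∈ spanBefore R M e l := by
        have := Submodule.sub_mem _ (mem_spanBefore e i.2) (hle h1.1)
        simpa using this
      rw [← hu] at h5
      have h6 := Submodule.smul_mem _ ((u⁻¹ : Rˣ) : R) h5
      rw [smul_smul, Units.inv_mul, one_smul] at h6
      rw [show j + 1 = ((⟨j, by omega⟩ : Fin l) : ℕ) + 1 from rfl, spanBefore_succ]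
      exact sup_le ih' ((Submodule.span_singleton_le_iff_mem _ _).mpr h6)
  have := key l le_rfl
  rw [spanBefore_last, spanBefore_last, hft] at this
  exact top_le_iff.mp this

end Groth.Agent.CycA.DetBasic
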