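import Mathlib.LinearAlgebra.Determinant
import Mathlib.Algebra.Exact.Basic
import Mathlib.LinearAlgebra.FiniteDimensional.Defs

/-!
# Determinants are multiplicative in short exact sequences of vector spaces
-/

set_option autoImplicit false

universe u v w

namespace Groth.Agent.CycA.DetExact

open LinearMap

/-- Multiplicativity of the determinant in a short exact sequence of vector spaces. -/
theorem det_exact {k : Type u} [Field k] {N₁ N₂ N₃ : Type*} [AddCommGroup N₁] [Module k N₁]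
    [AddCommGroup N₂] [Module k N₂] [AddCommGroup N₃] [Module k N₃] [Module.Finite k N₂]
    (f : N₁ →ₗ[k] N₂) (g : N₂ →ₗ[k] N₃) (hf : Function.Injective f) (hg : Function.Surjective g)
    (H : Function.Exact f g) (φ₁ : N₁ →ₗ[k] N₁) (φ₂ : N₂ →ₗ[k] N₂) (φ₃ : N₃ →ₗ[k] N₃)
    (h₁ : ∀ x, f (φ₁ x) = φ₂ (f x)) (h₂ : ∀ x, g (φ₂ x) = φ₃ (g x)) :
    LinearMap.det φ₂ = LinearMap.det φ₁ * LinearMap.det φ₃ := by
  have he : range f ≤ (range f).comap φ₂ := by
    rintro _ ⟨x, rfl⟩
    exact ⟨φ₁ x, h₁ x⟩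
  rw [LinearMap.det_eq_det_mul_det (range f) φ₂ he]
  congr 1
  · rw [← LinearMap.det_conj φ₁ (LinearEquiv.ofInjective f hf)]
    congr 1
    ext ⟨_, ⟨x, rfl⟩⟩
    have : (LinearEquiv.ofInjective f hf).symm ⟨f x, ⟨x, rfl⟩⟩ = x := by
      rw [LinearEquiv.symm_apply_eq]
      rfl
    simp only [LinearMap.restrict_apply, LinearMap.comp_apply, LinearEquiv.coe_coe]
    rw [this]
    exact (h₁ x).symm
  · have hk : ker g = range f := H.linearMap_ker_eq
    let e : (N₂ ⧸ range f) ≃ₗ[k] N₃ :=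
      (Submodule.quotEquivOfEq _ _ hk.symm).trans (g.quotKerEquivOfSurjective hg)
    have he' : ∀ x : N₂, e (Submodule.Quotient.mk x) = g x := fun x => rfl
    rw [← LinearMap.det_conj ((range f).mapQ (range f) φ₂ he) e]
    congr 1
    apply LinearMap.ext
    intro y
    obtain ⟨x, rfl⟩ := hg y
    have : e.symm (g x) = Submodule.Quotient.mk x := by
      rw [LinearEquiv.symm_apply_eq, he']
    simp only [LinearMap.comp_apply, LinearEquiv.coe_coe]
    rw [this, Submodule.mapQ_apply, he', h₂]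

end Groth.Agent.CycA.DetExact
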