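import Groth.Agent.CycA.DetBasic
import Mathlib.LinearAlgebra.Quotient.Basic

/-!
# The functional on the determinant space attached to a complete flag
-/

set_option autoImplicit false
set_option linter.unusedSectionVars false
universe u v

namespace Groth.Agent.CycA.DetFun

open CycDet IsLocalRing Groth.Agent.CycA.DetBasic

variable {R : Type u} [CommRing R] {M : Type v} [AddCommGroup M] [Module R M] {l : ℕ}

/-- spans before are unchanged under relation (b). -/
theorem spanBefore_rel_b {e e' : Fin l → M} {a : Fin l} {c : Rˣ}
    (hj : ∀ j, j ≠ a → e j = e' j) (ha : e a - (c : R) • e' a ∈ spanBefore R M e a) (i : ℕ) :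
    spanBefore R M e i = spanBefore R M e' i := by
  have hbase : ∀ i : ℕ, i ≤ a → spanBefore R M e i = spanBefore R M e' i := by
    intro i hi
    apply spanBefore_congr
    intro j hji
    apply hj
    rintro rfl
    omega
  rcases le_or_gt i (a : ℕ) with hi | hi
  · exact hbase i hi
  · apply le_antisymm
    · rw [spanBefore_le_iff]
      intro j hji
      by_cases hja : j = a
      · subst hja
        have h1 : e j - (c : R) • e' j ∈ spanBefore R M e' i := by
          rw [hbase _ le_rfl] at ha
          exact spanBefore_mono e' hi.le ha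
        have h2 : (c : R) • e' j ∈ spanBefore R M e' i :=
          Submodule.smul_mem _ _ (mem_spanBefore e' hji)
        simpa using Submodule.add_mem _ h1 h2
      · rw [hj j hja]
        exact mem_spanBefore e' hji
    · rw [spanBefore_le_iff]
      intro j hji
      by_cases hja : j = a
      · subst hja
        have h1 : e j - (c : R) • e' j ∈ spanBefore R M e i :=
          spanBefore_mono e hi.le ha
        have h2 : (c : R) • e' j ∈ spanBefore R M e i := by
          simpa using Submodule.sub_mem _ (mem_spanBefore e hji) h1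
        have h3 := Submodule.smul_mem _ ((c⁻¹ : Rˣ) : R) h2
        rwa [smul_smul, Units.inv_mul, one_smul] at h3
      · rw [← hj j hja]
        exact mem_spanBefore e hji

theorem rel_b_symm {e e' : Fin l → M} {a : Fin l} {c : Rˣ}
    (hj : ∀ j, j ≠ a → e j = e' j) (ha : e a - (c : R) • e' a ∈ spanBefore R M e a) :
    (∀ j, j ≠ a → e' j = e j) ∧ e' a - ((c⁻¹ : Rˣ) : R) • e a ∈ spanBefore R M e' a := by
  refine ⟨fun j h => (hj j h).symm, ?_⟩
  rw [← spanBefore_rel_b hj ha]
  have h3 := Submodule.smul_mem _ (-((c⁻¹ : Rˣ) : R)) ha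
  convert h3 using 1
  rw [smul_sub, smul_smul, neg_mul, Units.inv_mul]
  module

/-- spans before are unchanged under a swap of adjacent entries, except at the middle. -/
theorem spanBefore_swap {e : Fin l → M} {a b : Fin l} (hab : (b : ℕ) + 1 = a) {i : ℕ}
    (hi : i ≠ a) : spanBefore R M (e ∘ Equiv.swap a b) i = spanBefore R M e i := by
  have key : ∀ (e : Fin l → M), spanBefore R M (e ∘ Equiv.swap a b) i ≤ spanBefore R M e i := by
    intro e
    rw [spanBefore_le_iff]
    intro j hji
    simp only [Function.comp_apply]
    apply mem_spanBefore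
    by_cases hja : j = a
    · subst hja; rw [Equiv.swap_apply_left]; omega
    · by_cases hjb : j = b
      · subst hjb; rw [Equiv.swap_apply_right]; omega
      · rw [Equiv.swap_apply_of_ne_of_ne hja hjb]; exact hji
  apply le_antisymm (key e)
  have := key (e ∘ Equiv.swap a b)
  rwa [Function.comp_assoc, show (⇑(Equiv.swap a b) ∘ ⇑(Equiv.swap a b) : Fin l → Fin l) = id from by
    ext x; simp, Function.comp_id] at this

variable [IsLocalRing R]

theorem isLead_rel_b {f e e' : Fin l → M} {a : Fin l} {c : Rˣ}
    (hj : ∀ j, j ≠ a → e j = e' j) (ha : e a - (c : R) • e' a ∈ spanBefore R M e a)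
    {w : Equiv.Perm (Fin l)} {d : Fin l → R} (h : IsLead f e' w d) :
    IsLead f e w (Function.update d a ((c : R) * d a)) := by
  intro i
  rw [spanBefore_rel_b hj ha]
  by_cases hi : i = a
  · subst hi
    rw [Function.update_self]
    apply (h i).smul_add c
    rw [← spanBefore_rel_b hj ha]
    exact ha
  · rw [Function.update_of_ne hi, hj i hi]
    exact h i

theorem D_rel_b {f e e' : Fin l → M} {a : Fin l} {c : Rˣ}
    (hj : ∀ j, j ≠ a → e j = e' j) (ha : e a - (c : R) • e' a ∈ spanBefore R M e a) :
    D (R := R) f e = residue R (c : R) * D (R := R) f e' := by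
  classical
  by_cases h : ∃ (w : Equiv.Perm (Fin l)) (d : Fin l → R), IsLead f e' w d
  · obtain ⟨w, d, hd⟩ := h
    rw [D_eq hd, D_eq (isLead_rel_b hj ha hd)]
    have : ∏ i, residue R (Function.update d a ((c : R) * d a) i) =
        residue R c * ∏ i, residue R (d i) := by
      rw [← Finset.mul_prod_erase _ _ (Finset.mem_univ a),
        ← Finset.mul_prod_erase Finset.univ (fun i => residue R (d i)) (Finset.mem_univ a),
        Function.update_self, map_mul, mul_assoc]
      congr 2
      apply Finset.prod_congr rfl
      intro i hi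
      rw [Function.update_of_ne (Finset.ne_of_mem_erase hi)]
    rw [this]
    ring
  · rw [D_eq_zero h, D_eq_zero, mul_zero]
    rintro ⟨w, d, hd⟩
    obtain ⟨h1, h2⟩ := rel_b_symm hj ha
    exact h ⟨w, _, isLead_rel_b h1 h2 hd⟩

theorem isLead_swap {f e : Fin l → M} (hf : IsAdmissible R M f)
    (hft : Submodule.span R (Set.range f) = ⊤) (he : IsAdmissible R M e)
    {a b : Fin l} (hab : (b : ℕ) + 1 = a)
    (ha : ∀ r ∈ maximalIdeal R, r • e a ∈ spanBefore R M e b)
    {w : Equiv.Perm (Fin l)} {d : Fin l → R} (h : IsLead f e w d) :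
    ∃ (w' : Equiv.Perm (Fin l)) (d' : Fin l → R), IsLead f (e ∘ Equiv.swap a b) w' d' ∧
      (((Equiv.Perm.sign w' : ℤˣ) : ℤ) : ResidueField R) * ∏ i, residue R (d' i) =
      - ((((Equiv.Perm.sign w : ℤˣ) : ℤ) : ResidueField R) * ∏ i, residue R (d i)) := by
  classical
  have hne : a ≠ b := by rintro rfl; omega
  have hEa : spanBefore R M e a = spanBefore R M e b ⊔ Submodule.span R {e b} := by
    rw [← hab, spanBefore_succ]
  have hb := h b
  have ha' := h a
  rw [hEa] at ha'
  have hEb' : spanBefore R M (e ∘ Equiv.swap a b) b = spanBefore R M e b :=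
    spanBefore_swap hab (by omega)
  have hEa' : spanBefore R M (e ∘ Equiv.swap a b) a =
      spanBefore R M e b ⊔ Submodule.span R {e a} := by
    rw [← hab, spanBefore_succ, hEb', Function.comp_apply, Equiv.swap_apply_right]
  rcases lead_swap hf hft (he b) ha hb ha' with ⟨h1, h2⟩ | ⟨c₁, c₂, h1, h2, h3⟩
  · refine ⟨w * Equiv.swap a b, d ∘ Equiv.swap a b, ?_, ?_⟩
    · intro i
      by_cases hia : i = a
      · subst hia
        simp only [Function.comp_apply, Equiv.Perm.coe_mul, Equiv.swap_apply_left]
        rw [hEa']
        exact h2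
      · by_cases hib : i = b
        · subst hib
          simp only [Function.comp_apply, Equiv.Perm.coe_mul, Equiv.swap_apply_right]
          rw [hEb']
          exact h1
        · simp only [Function.comp_apply, Equiv.Perm.coe_mul,
            Equiv.swap_apply_of_ne_of_ne hia hib]
          rw [spanBefore_swap hab (by intro h; exact hia (Fin.ext h))]
          exact h i
    · rw [Equiv.Perm.sign_mul, Equiv.Perm.sign_swap hne]
      have : ∏ i, residue R ((d ∘ Equiv.swap a b) i) = ∏ i, residue R (d i) :=
        Equiv.prod_comp (Equiv.swap a b) (fun i => residue R (d i))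
      rw [this]
      simp
  · refine ⟨w, Function.update (Function.update d b c₁) a c₂, ?_, ?_⟩
    · intro i
      by_cases hia : i = a
      · subst hia
        rw [Function.update_self, hEa', Function.comp_apply, Equiv.swap_apply_left]
        exact h2
      · by_cases hib : i = b
        · subst hib
          rw [Function.update_of_ne hia, Function.update_self, hEb', Function.comp_apply,
            Equiv.swap_apply_right]
          exact h1
        · rw [Function.update_of_ne hia, Function.update_of_ne hib, Function.comp_apply,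
            Equiv.swap_apply_of_ne_of_ne hia hib,
            spanBefore_swap hab (by intro h; exact hia (Fin.ext h))]
          exact h i
    · have hb1 : b ∈ Finset.univ.erase a := Finset.mem_erase.mpr ⟨hne.symm, Finset.mem_univ _⟩
      have : ∏ i, residue R ((Function.update (Function.update d b c₁) a c₂) i) =
          - ∏ i, residue R (d i) := by
        rw [← Finset.mul_prod_erase _ _ (Finset.mem_univ a),
          ← Finset.mul_prod_erase Finset.univ (fun i => residue R (d i)) (Finset.mem_univ a),
          ← Finset.mul_prod_erase _ _ hb1,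
          ← Finset.mul_prod_erase (Finset.univ.erase a) (fun i => residue R (d i)) hb1,
          Function.update_self, Function.update_of_ne hne.symm, Function.update_self,
          ← mul_assoc, ← mul_assoc, ← neg_mul]
        congr 1
        · rw [← map_mul, ← map_mul, ← map_neg, mul_comm c₂ c₁, h3, mul_comm (d b) (d a)]
        · apply Finset.prod_congr rfl
          intro i hi
          rw [Function.update_of_ne (Finset.ne_of_mem_erase (Finset.mem_of_mem_erase hi)),
            Function.update_of_ne (Finset.ne_of_mem_erase hi)]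
      rw [this]
      ring

theorem D_swap {f e : Fin l → M} (hf : IsAdmissible R M f)
    (hft : Submodule.span R (Set.range f) = ⊤) (he : IsAdmissible R M e)
    {a b : Fin l} (hab : (b : ℕ) + 1 = a)
    (ha : ∀ r ∈ maximalIdeal R, r • e a ∈ spanBefore R M e b)
    (he' : IsAdmissible R M (e ∘ Equiv.swap a b)) :
    D (R := R) f (e ∘ Equiv.swap a b) = - D (R := R) f e := by
  by_cases h : ∃ (w : Equiv.Perm (Fin l)) (d : Fin l → R), IsLead f e w d
  · obtain ⟨w, d, hd⟩ := h
    obtain ⟨w', d', hd', heq⟩ := isLead_swap hf hft he hab ha hd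
    rw [D_eq hd, D_eq hd']
    exact heq
  · rw [D_eq_zero h, D_eq_zero, neg_zero]
    rintro ⟨w, d, hd⟩
    apply h
    have h2 : ∀ r ∈ maximalIdeal R, r • (e ∘ Equiv.swap a b) a ∈
        spanBefore R M (e ∘ Equiv.swap a b) b := by
      intro r hr
      rw [spanBefore_swap hab (by omega), Function.comp_apply, Equiv.swap_apply_left]
      exact he b r hr
    obtain ⟨w', d', hd', -⟩ := isLead_swap hf hft he' hab h2 hd
    rw [Function.comp_assoc, show (⇑(Equiv.swap a b) ∘ ⇑(Equiv.swap a b) : Fin l → Fin l) = id from
      by ext x; simp, Function.comp_id] at hd'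
    exact ⟨w', d', hd'⟩

/-- The functional before passing to the quotient. -/
noncomputable def preFun (f : Fin l → M) : Free R M l →ₗ[ResidueField R] ResidueField R :=
  Finsupp.linearCombination (ResidueField R) (fun e : Adm R M l => D (R := R) f e.1)

theorem preFun_sym (f : Fin l → M) (e : Adm R M l) : preFun f (sym R M e) = D (R := R) f e.1 := by
  simp [preFun, sym]

theorem preFun_relSet {f : Fin l → M} (hf : IsAdmissible R M f)
    (hft : Submodule.span R (Set.range f) = ⊤) {x : Free R M l} (hx : x ∈ relSet R M l) :
    preFun f x = 0 := by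
  rcases hx with (⟨e, a, ha, rfl⟩ | ⟨e, e', a, c, hj, ha, rfl⟩) | ⟨e, e', a, b, hab, ha, he', rfl⟩
  · rw [preFun_sym, D_eq_zero]
    rintro ⟨w, d, hd⟩
    exact hd.notMem a ha
  · rw [map_sub, map_smul, preFun_sym, preFun_sym, D_rel_b hj ha]
    simp
  · rw [map_add, preFun_sym, preFun_sym, he', D_swap hf hft e.2 hab ha (he' ▸ e'.2)]
    simp

/-- The functional on the space of symbols of length `l` attached to a generating admissible
tuple `f`. -/
noncomputable def detFun (f : Fin l → M) (hf : IsAdmissible R M f)
    (hft : Submodule.span R (Set.range f) = ⊤) :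
    DetOfLen R M l →ₗ[ResidueField R] ResidueField R :=
  Submodule.liftQ _ (preFun f) (by
    rw [Submodule.span_le]
    intro x hx
    exact preFun_relSet hf hft hx)

theorem detFun_mk (f : Fin l → M) (hf : IsAdmissible R M f)
    (hft : Submodule.span R (Set.range f) = ⊤) (e : Adm R M l) :
    detFun f hf hft (Submodule.Quotient.mk (sym R M e)) = D (R := R) f e.1 := by
  rw [detFun]
  erw [Submodule.liftQ_apply]
  exact preFun_sym f e

theorem isLead_self {f : Fin l → M} (hf : ∀ i : Fin l, f i ∉ spanBefore R M f i) :
    IsLead (R := R) f f 1 (fun _ => 1) := by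
  intro i
  refine ⟨?_, ?_⟩
  · simp
  · simpa using hf i

theorem D_self {f : Fin l → M} (hf : ∀ i : Fin l, f i ∉ spanBefore R M f i) :
    D (R := R) f f = 1 := by
  rw [D_eq (isLead_self hf)]
  simp

/-- A strict generating admissible tuple has nonzero symbol. -/
theorem mk_sym_ne_zero (f : Adm R M l) (hft : Submodule.span R (Set.range f.1) = ⊤)
    (hf : ∀ i : Fin l, f.1 i ∉ spanBefore R M f.1 i) :
    (Submodule.Quotient.mk (sym R M f) : DetOfLen R M l) ≠ 0 := by
  intro h
  have h1 := detFun_mk f.1 f.2 hft f
  rw [h, map_zero, D_self hf] at h1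
  exact zero_ne_one h1

end Groth.Agent.CycA.DetFun
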