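import Groth.Agent.CycA.DetRank
import Mathlib.GroupTheory.Perm.Sign
import Mathlib.Logic.Equiv.Fin.Basic
import Mathlib.Algebra.BigOperators.Fin
import Mathlib.LinearAlgebra.TensorProduct.Basic

/-!
# Multiplicativity of the determinant in short exact sequences
-/

set_option autoImplicit false
set_option linter.unusedSectionVars false
universe u v

open TensorProduct

namespace Groth.Agent.CycA.DetGamma

open CycDet IsLocalRing Groth.Agent.CycA.DetBasic Groth.Agent.CycA.DetFun Groth.Agent.CycA.DetOne
  Groth.Agent.CycA.DetRank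

variable {R : Type u} [CommRing R] {K L M : Type v}
  [AddCommGroup K] [Module R K] [AddCommGroup L] [Module R L] [AddCommGroup M] [Module R M]
  {k m : ℕ} (f : K →ₗ[R] L) (g : L →ₗ[R] M)

/-- `eL` is the concatenation of the images of `eK` and of lifts of `eM`. -/
structure IsConcat (eK : Fin k → K) (eM : Fin m → M) (eL : Fin (k + m) → L) : Prop where
  left : ∀ i : Fin k, eL (Fin.castAdd m i) = f (eK i)
  right : ∀ j : Fin m, g (eL (Fin.natAdd k j)) = eM j

variable {f g}

theorem IsConcat.spanBefore_left {eK : Fin k → K} {eM : Fin m → M} {eL : Fin (k + m) → L}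
    (h : IsConcat f g eK eM eL) {i : ℕ} (hi : i ≤ k) :
    spanBefore R L eL i = (spanBefore R K eK i).map f := by
  apply le_antisymm
  · rw [spanBefore_le_iff]
    intro j hj
    obtain ⟨j', rfl⟩ : ∃ j' : Fin k, j = Fin.castAdd m j' := ⟨⟨j, by omega⟩, rfl⟩
    rw [h.left]
    exact Submodule.mem_map_of_mem (mem_spanBefore eK (by simpa using hj))
  · rw [Submodule.map_le_iff_le_comap, spanBefore_le_iff]
    intro j hj
    rw [Submodule.mem_comap, ← h.left]
    exact mem_spanBefore eL (by simpa using hj)

theorem IsConcat.spanBefore_right {eK : Fin k → K} {eM : Fin m → M} {eL : Fin (k + m) → L}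
    (h : IsConcat f g eK eM eL) (hfg : LinearMap.range f = LinearMap.ker g)
    (heK : Submodule.span R (Set.range eK) = ⊤) (j : ℕ) :
    spanBefore R L eL (k + j) = (spanBefore R M eM j).comap g := by
  have hgf : ∀ x, g (f x) = 0 := fun x => by
    have : f x ∈ LinearMap.ker g := hfg ▸ LinearMap.mem_range_self f x
    exact this
  apply le_antisymm
  · rw [spanBefore_le_iff]
    intro i hi
    rw [Submodule.mem_comap]
    rcases lt_or_ge (i : ℕ) k with hik | hik
    · obtain ⟨j', rfl⟩ : ∃ j' : Fin k, i = Fin.castAdd m j' := ⟨⟨i, by omega⟩, rfl⟩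
      rw [h.left, hgf]
      exact Submodule.zero_mem _
    · obtain ⟨j', rfl⟩ : ∃ j' : Fin m, i = Fin.natAdd k j' :=
        ⟨⟨i - k, by omega⟩, Fin.ext (by simp; omega)⟩
      rw [h.right]
      apply mem_spanBefore
      simp at hi
      omega
  · have h1 : spanBefore R M eM j ≤ (spanBefore R L eL (k + j)).map g := by
      rw [spanBefore_le_iff]
      intro j' hj'
      rw [← h.right]
      apply Submodule.mem_map_of_mem
      apply mem_spanBefore
      simp
      omega
    intro y hy
    rw [Submodule.mem_comap] at hy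
    obtain ⟨y', hy', hyy'⟩ := Submodule.mem_map.mp (h1 hy)
    have h2 : y - y' ∈ LinearMap.range f := by
      rw [hfg, LinearMap.mem_ker, map_sub, hyy', sub_self]
    have h3 : LinearMap.range f = spanBefore R L eL k := by
      rw [h.spanBefore_left le_rfl, spanBefore_last, heK, Submodule.map_top]
    rw [h3] at h2
    have h4 := Submodule.add_mem _ (spanBefore_mono eL (Nat.le_add_right k j) h2) hy'
    simpa using h4

variable [IsLocalRing R]

theorem lead_map {fK : Fin k → K} {fM : Fin m → M} {fL : Fin (k + m) → L}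
    (h : IsConcat f g fK fM fL) (hf : Function.Injective f) {E : Submodule R K} {x : K} {j : Fin k}
    {c : R} (hl : Lead fK E x j c) :
    Lead fL (E.map f) (f x) (Fin.castAdd m j) c := by
  have hs : spanBefore R L fL ((Fin.castAdd m j : Fin (k + m)) : ℕ) =
      (spanBefore R K fK j).map f := h.spanBefore_left (by simp)
  refine ⟨?_, ?_⟩
  · rw [h.left, hs, ← Submodule.map_sup, ← map_smul, ← map_sub]
    exact Submodule.mem_map_of_mem hl.1
  · rw [hs, ← Submodule.map_sup]
    intro hmem
    obtain ⟨y, hy, hyx⟩ := Submodule.mem_map.mp hmem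
    exact hl.2 (hf hyx ▸ hy)

theorem comap_sup_of_surjective (hg : Function.Surjective g) (A B : Submodule R M) :
    A.comap g ⊔ B.comap g = (A ⊔ B).comap g := by
  apply le_antisymm
  · exact sup_le (Submodule.comap_mono le_sup_left) (Submodule.comap_mono le_sup_right)
  · intro y hy
    rw [Submodule.mem_comap] at hy
    obtain ⟨a, ha, b, hb, hab⟩ := Submodule.mem_sup.mp hy
    obtain ⟨b', rfl⟩ := hg b
    have : y = (y - b') + b' := by abel
    rw [this]
    apply Submodule.add_mem_sup
    · rw [Submodule.mem_comap, map_sub, ← hab, add_sub_cancel_right]; exact ha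
    · exact hb

theorem lead_comap {fK : Fin k → K} {fM : Fin m → M} {fL : Fin (k + m) → L}
    (h : IsConcat f g fK fM fL) (hfg : LinearMap.range f = LinearMap.ker g)
    (hg : Function.Surjective g)
    (hfK : Submodule.span R (Set.range fK) = ⊤) {E : Submodule R M} {x : L} {j : Fin m}
    {c : R} (hl : Lead fM E (g x) j c) :
    Lead fL (E.comap g) x (Fin.natAdd k j) c := by
  have hs : spanBefore R L fL ((Fin.natAdd k j : Fin (k + m)) : ℕ) =
      (spanBefore R M fM j).comap g := h.spanBefore_right hfg hfK j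
  refine ⟨?_, ?_⟩
  · rw [hs, comap_sup_of_surjective hg, Submodule.mem_comap, map_sub, map_smul, h.right]
    exact hl.1
  · rw [hs, comap_sup_of_surjective hg, Submodule.mem_comap]
    exact hl.2

/-- The block permutation. -/
def blockPerm (w : Equiv.Perm (Fin k)) (w' : Equiv.Perm (Fin m)) : Equiv.Perm (Fin (k + m)) :=
  finSumFinEquiv.permCongr (Equiv.sumCongr w w')

theorem blockPerm_left (w : Equiv.Perm (Fin k)) (w' : Equiv.Perm (Fin m)) (i : Fin k) :
    blockPerm w w' (Fin.castAdd m i) = Fin.castAdd m (w i) := by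
  simp [blockPerm, Equiv.permCongr_apply]

theorem blockPerm_right (w : Equiv.Perm (Fin k)) (w' : Equiv.Perm (Fin m)) (i : Fin m) :
    blockPerm w w' (Fin.natAdd k i) = Fin.natAdd k (w' i) := by
  simp [blockPerm, Equiv.permCongr_apply]

theorem sign_blockPerm (w : Equiv.Perm (Fin k)) (w' : Equiv.Perm (Fin m)) :
    Equiv.Perm.sign (blockPerm w w') = Equiv.Perm.sign w * Equiv.Perm.sign w' := by
  rw [blockPerm, Equiv.Perm.sign_permCongr]
  exact Equiv.Perm.sign_sumCongr w w'

/-- Multiplicativity of the relative determinant. -/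
theorem D_concat {fK eK : Fin k → K} {fM eM : Fin m → M} {fL eL : Fin (k + m) → L}
    (hfc : IsConcat f g fK fM fL) (hec : IsConcat f g eK eM eL)
    (hf : Function.Injective f)
    (hfg : LinearMap.range f = LinearMap.ker g)
    (hg : Function.Surjective g)
    (hfK : IsAdmissible R K fK)
    (hfKt : Submodule.span R (Set.range fK) = ⊤)
    (hfM : IsAdmissible R M fM) (hfMt : Submodule.span R (Set.range fM) = ⊤)
    (heK : ∀ i : Fin k, eK i ∉ spanBefore R K eK i) :
    D (R := R) fL eL = D (R := R) fK eK * D (R := R) fM eM := by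
  obtain ⟨w, c, hw⟩ := exists_isLead hfK hfKt heK
  have heKt := hw.span_eq_top hfK hfKt
  by_cases heM : ∀ i : Fin m, eM i ∉ spanBefore R M eM i
  · obtain ⟨w', c', hw'⟩ := exists_isLead hfM hfMt heM
    have hL : IsLead (R := R) fL eL (blockPerm w w') (Fin.append c c') := by
      intro i
      refine Fin.addCases (fun i => ?_) (fun i => ?_) i
      · rw [blockPerm_left, Fin.append_left, hec.left]
        have hs : spanBefore R L eL ((Fin.castAdd m i : Fin (k + m)) : ℕ) =
          (spanBefore R K eK i).map f := hec.spanBefore_left (by simp)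
        rw [hs]
        exact lead_map hfc hf (hw i)
      · rw [blockPerm_right, Fin.append_right]
        have hs : spanBefore R L eL ((Fin.natAdd k i : Fin (k + m)) : ℕ) =
          (spanBefore R M eM i).comap g := hec.spanBefore_right hfg heKt i
        rw [hs]
        apply lead_comap hfc hfg hg hfKt
        rw [hec.right]
        exact hw' i
    rw [D_eq hL, D_eq hw, D_eq hw', sign_blockPerm, Fin.prod_univ_add]
    simp only [Fin.append_left, Fin.append_right]
    push_cast
    ring
  · push Not at heM
    obtain ⟨a, ha⟩ := heM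
    rw [D_eq_zero (e := eM), mul_zero, D_eq_zero]
    · rintro ⟨w', c', hw'⟩
      apply hw'.notMem (Fin.natAdd k a)
      have hs : spanBefore R L eL ((Fin.natAdd k a : Fin (k + m)) : ℕ) =
          (spanBefore R M eM a).comap g := hec.spanBefore_right hfg heKt a
      rw [hs, Submodule.mem_comap, hec.right]
      exact ha
    · rintro ⟨w', c', hw'⟩
      exact hw'.notMem a ha

/-- Concatenation of admissible tuples is admissible. -/
theorem isAdmissible_concat {eK : Fin k → K} {eM : Fin m → M} {eL : Fin (k + m) → L}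
    (hec : IsConcat f g eK eM eL)
    (hfg : LinearMap.range f = LinearMap.ker g)
    (heK : IsAdmissible R K eK) (heKt : Submodule.span R (Set.range eK) = ⊤)
    (heM : IsAdmissible R M eM) : IsAdmissible R L eL := by
  intro i
  refine Fin.addCases (fun i => ?_) (fun i => ?_) i
  · intro r hr
    have hs : spanBefore R L eL ((Fin.castAdd m i : Fin (k + m)) : ℕ) =
      (spanBefore R K eK i).map f := hec.spanBefore_left (by simp)
    rw [hs, hec.left, ← map_smul]
    exact Submodule.mem_map_of_mem (heK i r hr)
  · intro r hr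
    have hs : spanBefore R L eL ((Fin.natAdd k i : Fin (k + m)) : ℕ) =
      (spanBefore R M eM i).comap g := hec.spanBefore_right hfg heKt i
    rw [hs, Submodule.mem_comap, map_smul, hec.right]
    exact heM i r hr

theorem exists_concat (hg : Function.Surjective g) (eK : Fin k → K) (eM : Fin m → M) :
    ∃ eL : Fin (k + m) → L, IsConcat f g eK eM eL := by
  choose t ht using fun j => hg (eM j)
  exact ⟨Fin.append (f ∘ eK) t, fun i => by simp, fun j => by simp [ht]⟩

theorem strict_concat {eK : Fin k → K} {eM : Fin m → M} {eL : Fin (k + m) → L}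
    (hec : IsConcat f g eK eM eL) (hf : Function.Injective f)
    (hfg : LinearMap.range f = LinearMap.ker g)
    (heKs : ∀ i : Fin k, eK i ∉ spanBefore R K eK i)
    (heKt : Submodule.span R (Set.range eK) = ⊤)
    (heMs : ∀ i : Fin m, eM i ∉ spanBefore R M eM i) :
    ∀ i : Fin (k + m), eL i ∉ spanBefore R L eL i := by
  intro i
  refine Fin.addCases (fun i => ?_) (fun i => ?_) i
  · have hs : spanBefore R L eL ((Fin.castAdd m i : Fin (k + m)) : ℕ) =
      (spanBefore R K eK i).map f := hec.spanBefore_left (by simp)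
    rw [hs, hec.left]
    rintro hmem
    obtain ⟨y, hy, hyx⟩ := Submodule.mem_map.mp hmem
    exact heKs i (hf hyx ▸ hy)
  · have hs : spanBefore R L eL ((Fin.natAdd k i : Fin (k + m)) : ℕ) =
      (spanBefore R M eM i).comap g := hec.spanBefore_right hfg heKt i
    rw [hs, Submodule.mem_comap, hec.right]
    exact heMs i

theorem span_concat {eK : Fin k → K} {eM : Fin m → M} {eL : Fin (k + m) → L}
    (hec : IsConcat f g eK eM eL)
    (hfg : LinearMap.range f = LinearMap.ker g)
    (heKt : Submodule.span R (Set.range eK) = ⊤)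
    (heMt : Submodule.span R (Set.range eM) = ⊤) :
    Submodule.span R (Set.range eL) = ⊤ := by
  rw [← spanBefore_last, hec.spanBefore_right hfg heKt, spanBefore_last, heMt, Submodule.comap_top]

/-- The isomorphism `det K ⊗ det M ≃ det L` for lengths `k`, `m`, `l = k + m`. -/
theorem exists_gamma {l : ℕ} (hlen : k + m = l) (hf : Function.Injective f)
    (hfg : LinearMap.range f = LinearMap.ker g)
    (hg : Function.Surjective g)
    (fK : Adm R K k) (hfKt : Submodule.span R (Set.range fK.1) = ⊤)
    (hfKs : ∀ i : Fin k, fK.1 i ∉ spanBefore R K fK.1 i)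
    (fM : Adm R M m) (hfMt : Submodule.span R (Set.range fM.1) = ⊤)
    (hfMs : ∀ i : Fin m, fM.1 i ∉ spanBefore R M fM.1 i) :
    ∃ γ : (DetOfLen R K k ⊗[ResidueField R] DetOfLen R M m) ≃ₗ[ResidueField R] DetOfLen R L l,
      ∀ (eK : Adm R K k) (eM : Adm R M m) (eL : Adm R L l), cls eK ≠ 0 →
        (∀ i : Fin k, eL.1 (Fin.cast hlen (Fin.castAdd m i)) = f (eK.1 i)) →
        (∀ j : Fin m, g (eL.1 (Fin.cast hlen (Fin.natAdd k j))) = eM.1 j) →
        γ (cls eK ⊗ₜ cls eM) = cls eL := by
  subst hlen
  obtain ⟨fL, hfc⟩ := exists_concat (f := f) hg fK.1 fM.1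
  have hfLadm := isAdmissible_concat hfc hfg fK.2 hfKt fM.2
  have hfLs := strict_concat hfc hf hfg hfKs hfKt hfMs
  have hfLt := span_concat hfc hfg hfKt hfMt
  let FL : Adm R L (k + m) := ⟨fL, hfLadm⟩
  refine ⟨(TensorProduct.congr (detEquiv fK hfKt hfKs) (detEquiv fM hfMt hfMs)).trans
    ((TensorProduct.lid (ResidueField R) (ResidueField R)).trans (detEquiv FL hfLt hfLs).symm), ?_⟩
  intro eK eM eL hK hl hr
  have hec : IsConcat f g eK.1 eM.1 eL.1 := ⟨hl, hr⟩
  have hKs : ∀ i : Fin k, eK.1 i ∉ spanBefore R K eK.1 i := by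
    intro i hi
    exact hK (cls_rel_a eK hi)
  rw [LinearEquiv.trans_apply, LinearEquiv.trans_apply, TensorProduct.congr_tmul,
    TensorProduct.lid_tmul, LinearEquiv.symm_apply_eq, detEquiv_cls, detEquiv_cls, detEquiv_cls,
    smul_eq_mul]
  exact (D_concat hfc hec hf hfg hg fK.2 hfKt fM.2 hfMt hKs).symm

end Groth.Agent.CycA.DetGamma
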