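import Groth.Agent.CycA.DetMoves
import Mathlib.Algebra.Module.LocalizedModule.Submodule
import Mathlib.RingTheory.Localization.AtPrime.Basic

/-!
# The lattice index of a good tuple and its behaviour under moves
-/

set_option autoImplicit false

namespace Groth.Agent.CycA.DetIndex

open CycDet IsLocalRing Groth.Agent.CycA.RelLen Groth.Agent.CycA.DetTuple

universe u v w

variable {R : Type u} [CommRing R] (q : Ideal R) [q.IsPrime]
  (A : Type u) [CommRing A] [Algebra R A] [IsLocalRing A] [IsLocalization.AtPrime A q]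
  {N : Type v} [AddCommGroup N] [Module R N]
  {V : Type w} [AddCommGroup V] [Module R V] [Module A V] [IsScalarTower R A V]
  (ι : N →ₗ[R] V) {l : ℕ}

variable {A}

/-- Preimage in `N` of an `A`-submodule of `V`. -/
def sat (F : Submodule A V) : Submodule R N := (F.restrictScalars R).comap ι

omit [IsLocalRing A] in
theorem mem_sat {F : Submodule A V} {n : N} : n ∈ sat ι F ↔ ι n ∈ F := Iff.rfl

omit [IsLocalRing A] in
theorem sat_mono {F G : Submodule A V} (h : F ≤ G) : sat ι F ≤ sat ι G := fun _ hn => h hn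

variable (A) in
/-- One term of the index. -/
noncomputable def term (e : Fin l → N) (i : Fin l) : ℕ∞ :=
  relLen (sat ι (spanBefore A V (ι ∘ e) i) ⊔ Submodule.span R {e i})
    (sat ι (spanBefore A V (ι ∘ e) ((i : ℕ) + 1)))

variable (A) in
/-- The index of a tuple. -/
noncomputable def len (e : Fin l → N) : ℕ∞ := ∑ i : Fin l, term A ι e i

theorem algebraMap_mem_maximalIdeal_iff (t : R) :
    algebraMap R A t ∈ maximalIdeal A ↔ t ∈ q := by
  rw [← Ideal.mem_comap]
  change t ∈ (maximalIdeal A).under R ↔ _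
  rw [IsLocalization.AtPrime.under_maximalIdeal A q]

theorem isUnit_algebraMap {t : R} (h : t ∉ q) : IsUnit (algebraMap R A t) := by
  by_contra h'
  exact h ((algebraMap_mem_maximalIdeal_iff (A := A) q t).1 h')

theorem mem_q_iff {e : Fin l → N} (h : Good (A := A) (ι ∘ e)) (a : Fin l) (t : R) :
    t ∈ q ↔ t • e a ∈ sat ι (spanBefore A V (ι ∘ e) a) := by
  rw [← algebraMap_mem_maximalIdeal_iff (A := A) q t, h.smul_mem_iff a, mem_sat, map_smul,
    algebraMap_smul]
  rfl

theorem sup_span_eq_of_sub_mem {P : Submodule R N} {x y : N} (h : x - y ∈ P) :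
    P ⊔ Submodule.span R {x} = P ⊔ Submodule.span R {y} := by
  apply le_antisymm
  · refine sup_le le_sup_left ?_
    rw [Submodule.span_singleton_le_iff_mem]
    have := (P ⊔ Submodule.span R {y}).add_mem (Submodule.mem_sup_left h)
      (Submodule.mem_sup_right (Submodule.mem_span_singleton_self y))
    simpa using this
  · refine sup_le le_sup_left ?_
    rw [Submodule.span_singleton_le_iff_mem]
    have := (P ⊔ Submodule.span R {x}).sub_mem
      (Submodule.mem_sup_right (Submodule.mem_span_singleton_self x)) (Submodule.mem_sup_left h)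
    simpa using this

omit [IsLocalRing A] in
theorem sup_span_le (e : Fin l → N) (a : Fin l) :
    sat ι (spanBefore A V (ι ∘ e) a) ⊔ Submodule.span R {e a} ≤
      sat ι (spanBefore A V (ι ∘ e) ((a : ℕ) + 1)) := by
  refine sup_le (sat_mono ι (spanBefore_mono _ (Nat.le_succ _))) ?_
  rw [Submodule.span_singleton_le_iff_mem, mem_sat]
  exact mem_spanBefore_of_lt (ι ∘ e) a (Nat.lt_succ_self _)

/-- Scaling an entry. -/
theorem relLen_smul_entry {e : Fin l → N} (h : Good (A := A) (ι ∘ e)) (a : Fin l) (s : R) :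
    term A ι e a + Ring.ord (R ⧸ q) (Ideal.Quotient.mk q s) =
      relLen (sat ι (spanBefore A V (ι ∘ e) a) ⊔ Submodule.span R {s • e a})
        (sat ι (spanBefore A V (ι ∘ e) ((a : ℕ) + 1))) := by
  have h1 : sat ι (spanBefore A V (ι ∘ e) a) ⊔ Submodule.span R {s • e a} ≤
      sat ι (spanBefore A V (ι ∘ e) a) ⊔ Submodule.span R {e a} := by
    refine sup_le le_sup_left ?_
    rw [Submodule.span_singleton_le_iff_mem]
    exact Submodule.mem_sup_right (Submodule.smul_mem _ _ (Submodule.mem_span_singleton_self _))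
  rw [relLen_add h1 (sup_span_le ι e a), relLen_smul _ _ q (mem_q_iff q ι h a), add_comm]
  rfl

/-- Behaviour of the index under replacing an entry. -/
theorem len_update {e : Fin l → N} (h : Good (A := A) (ι ∘ e)) (a : Fin l) (v : N) {r s : R}
    (hr : r ∉ q) (hs : s ∉ q) (hmem : s • e a - r • v ∈ sat ι (spanBefore A V (ι ∘ e) a)) :
    Good (A := A) (ι ∘ Function.update e a v) ∧
    len A ι e + Ring.ord (R ⧸ q) (Ideal.Quotient.mk q s) =
      len A ι (Function.update e a v) + Ring.ord (R ⧸ q) (Ideal.Quotient.mk q r) := by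
  obtain ⟨us, hus⟩ := isUnit_algebraMap (A := A) q hs
  obtain ⟨ur, hur⟩ := isUnit_algebraMap (A := A) q hr
  have hc : (ι ∘ e) a - ((us⁻¹ * ur : Aˣ) : A) • ι v ∈ spanBefore A V (ι ∘ e) a := by
    rw [mem_sat, map_sub, map_smul, map_smul, ← algebraMap_smul A s, ← algebraMap_smul A r,
      ← hus, ← hur] at hmem
    have := (spanBefore A V (ι ∘ e) a).smul_mem ((us⁻¹ : Aˣ) : A) hmem
    rw [smul_sub, smul_smul, smul_smul, Units.inv_mul, one_smul] at this
    rw [Units.val_mul]
    exact this
  obtain ⟨hG, hS⟩ := h.update a (ι v) (us⁻¹ * ur) hc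
  rw [← comp_update'] at hG
  simp_rw [← comp_update'] at hS
  refine ⟨hG, ?_⟩
  have hsum : ∀ f : Fin l → ℕ∞, ∑ i, f i = f a + ∑ i ∈ Finset.univ.erase a, f i :=
    fun f => (Finset.add_sum_erase _ _ (Finset.mem_univ a)).symm
  unfold len
  rw [hsum, hsum (term A ι (Function.update e a v))]
  have hrest : ∑ i ∈ Finset.univ.erase a, term A ι (Function.update e a v) i =
      ∑ i ∈ Finset.univ.erase a, term A ι e i := by
    refine Finset.sum_congr rfl (fun i hi => ?_)
    have hia : i ≠ a := Finset.ne_of_mem_erase hi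
    unfold term
    rw [hS i i.2.le, hS _ i.2, Function.update_of_ne hia]
  rw [hrest]
  have h1 := relLen_smul_entry q ι h a s
  have h2 := relLen_smul_entry q ι hG a r
  rw [hS a a.2.le, hS _ a.2, Function.update_self, ← sup_span_eq_of_sub_mem hmem, ← h1] at h2
  rw [add_right_comm, ← h2, add_right_comm]

/-- The diamond. -/
theorem diamond {P N1 Q : Submodule R N} {x y : N} (hPN : P ≤ N1) (hx : x ∈ N1)
    (hQ : N1 ⊔ Submodule.span R {y} ≤ Q) (hy : ∀ b : R, b • y ∈ N1 → b • y ∈ P) :
    relLen (P ⊔ Submodule.span R {x}) N1 + relLen (N1 ⊔ Submodule.span R {y}) Q =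
      relLen (P ⊔ Submodule.span R {x} ⊔ Submodule.span R {y}) Q := by
  have hxN : P ⊔ Submodule.span R {x} ≤ N1 :=
    sup_le hPN (by rw [Submodule.span_singleton_le_iff_mem]; exact hx)
  have h1 : P ⊔ Submodule.span R {x} ⊔ Submodule.span R {y} ≤ N1 ⊔ Submodule.span R {y} :=
    sup_le_sup_right hxN _
  rw [relLen_add h1 hQ]
  congr 1
  have h2 : N1 ⊔ Submodule.span R {y} = (P ⊔ Submodule.span R {x} ⊔ Submodule.span R {y}) ⊔ N1 := by
    apply le_antisymm
    · exact sup_le le_sup_right (le_trans le_sup_right le_sup_left)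
    · exact sup_le h1 le_sup_left
  rw [h2, relLen_sup_left]
  refine relLen_of_inf_le le_sup_left ?_
  rintro n ⟨hn1, hn2⟩
  obtain ⟨m, hm, z, hz, rfl⟩ := Submodule.mem_sup.1 hn1
  obtain ⟨b, rfl⟩ := Submodule.mem_span_singleton.1 hz
  have h3 : b • y ∈ N1 := by
    have := N1.sub_mem hn2 (hxN hm)
    simpa using this
  exact Submodule.add_mem _ hm (Submodule.mem_sup_left (hy b h3))

include q in
/-- The index is invariant under an admissible swap. -/
theorem len_swap {e : Fin l → N} (h : Good (A := A) (ι ∘ e)) {a b : Fin l}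
    (hab : (b : ℕ) + 1 = (a : ℕ))
    (ha : ∀ t ∈ maximalIdeal A, t • ι (e a) ∈ spanBefore A V (ι ∘ e) b) :
    Good (A := A) (ι ∘ (e ∘ Equiv.swap a b)) ∧ len A ι e = len A ι (e ∘ Equiv.swap a b) := by
  have hcomp : ι ∘ (e ∘ Equiv.swap a b) = (ι ∘ e) ∘ Equiv.swap a b := rfl
  have hG : Good (A := A) (ι ∘ (e ∘ Equiv.swap a b)) := by
    rw [hcomp]; exact h.swap hab ha
  refine ⟨hG, ?_⟩
  have hne : a ≠ b := by rintro rfl; omega
  have hsum : ∀ f : Fin l → ℕ∞, ∑ i, f i = f a + (f b + ∑ i ∈ (Finset.univ.erase a).erase b, f i) := by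
    intro f
    rw [Finset.add_sum_erase _ _ (Finset.mem_erase.2 ⟨hne.symm, Finset.mem_univ b⟩),
      Finset.add_sum_erase _ _ (Finset.mem_univ a)]
  unfold len
  rw [hsum, hsum (term A ι (e ∘ Equiv.swap a b))]
  have hrest : ∑ i ∈ (Finset.univ.erase a).erase b, term A ι (e ∘ Equiv.swap a b) i =
      ∑ i ∈ (Finset.univ.erase a).erase b, term A ι e i := by
    refine Finset.sum_congr rfl (fun i hi => ?_)
    have hib : i ≠ b := Finset.ne_of_mem_erase hi
    have hia : i ≠ a := Finset.ne_of_mem_erase (Finset.mem_of_mem_erase hi)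
    unfold term
    rw [hcomp, spanBefore_swap _ hab (fun h' => hia (Fin.ext h')) i.2.le,
      spanBefore_swap _ hab (fun h' => hib (Fin.ext (by omega))) i.2,
      Function.comp_apply, Equiv.swap_apply_of_ne_of_ne hia hib]
  rw [hrest, ← add_assoc, ← add_assoc]
  congr 1
  -- the two relevant terms
  have hF1 : spanBefore A V (ι ∘ (e ∘ Equiv.swap a b)) ((a : ℕ) + 1) =
      spanBefore A V (ι ∘ e) ((a : ℕ) + 1) := by
    rw [hcomp]; exact spanBefore_swap _ hab (by omega) a.2
  have hF2 : spanBefore A V (ι ∘ (e ∘ Equiv.swap a b)) b = spanBefore A V (ι ∘ e) b := by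
    rw [hcomp]; exact spanBefore_swap_of_le _ hab le_rfl
  have hsa : (e ∘ Equiv.swap a b) a = e b := by
    rw [Function.comp_apply, Equiv.swap_apply_left]
  have hsb : (e ∘ Equiv.swap a b) b = e a := by
    rw [Function.comp_apply, Equiv.swap_apply_right]
  have e1 : term A ι e b + term A ι e a =
      relLen (sat ι (spanBefore A V (ι ∘ e) b) ⊔ Submodule.span R {e b} ⊔ Submodule.span R {e a})
        (sat ι (spanBefore A V (ι ∘ e) ((a : ℕ) + 1))) := by
    unfold term
    rw [hab]
    refine diamond (sat_mono ι (spanBefore_mono _ (by omega))) ?_ (sup_span_le ι e a) ?_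
    · rw [mem_sat]
      exact mem_spanBefore_of_lt (ι ∘ e) b (by omega)
    · intro t ht
      have := (mem_q_iff q ι h a t).2 ht
      rw [mem_sat, map_smul, ← algebraMap_smul A t]
      exact ha _ ((algebraMap_mem_maximalIdeal_iff (A := A) q t).2 this)
  have e2 : term A ι (e ∘ Equiv.swap a b) b + term A ι (e ∘ Equiv.swap a b) a =
      relLen (sat ι (spanBefore A V (ι ∘ e) b) ⊔ Submodule.span R {e a} ⊔ Submodule.span R {e b})
        (sat ι (spanBefore A V (ι ∘ e) ((a : ℕ) + 1))) := by
    have hd := diamond (P := sat ι (spanBefore A V (ι ∘ (e ∘ Equiv.swap a b)) b))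
      (N1 := sat ι (spanBefore A V (ι ∘ (e ∘ Equiv.swap a b)) a))
      (Q := sat ι (spanBefore A V (ι ∘ (e ∘ Equiv.swap a b)) ((a : ℕ) + 1)))
      (x := (e ∘ Equiv.swap a b) b) (y := (e ∘ Equiv.swap a b) a)
      (sat_mono ι (spanBefore_mono _ (by omega))) ?_ (sup_span_le ι _ a) ?_
    · rw [hF1, hF2, hsa, hsb] at hd
      unfold term
      rw [hab, hF1, hF2, hsa, hsb]
      exact hd
    · rw [mem_sat]
      exact mem_spanBefore_of_lt (ι ∘ _) b (by omega)
    · intro t ht
      have h1 := (mem_q_iff q ι hG a t).2 ht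
      rw [hF2, hsa, mem_q_iff q ι h b] at *
      exact h1
  rw [add_comm (term A ι e a), e1, add_comm (term A ι (e ∘ Equiv.swap a b) a), e2,
    sup_assoc, sup_assoc, sup_comm (Submodule.span R {e b})]

end Groth.Agent.CycA.DetIndex
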