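import Groth.Agent.CycA.DetIndex
import Mathlib.RingTheory.OrderOfVanishing.Basic

/-!
# Filtered modules with graded pieces `R/q`, and the determinant comparison
-/

set_option autoImplicit false

namespace Groth.Agent.CycA.DetKey

open CycDet IsLocalRing Groth.Agent.CycA.RelLen Groth.Agent.CycA.DetTuple
  Groth.Agent.CycA.DetIndex

universe u v w

variable {R : Type u} [CommRing R] (q : Ideal R) [q.IsPrime]
  {N : Type v} [AddCommGroup N] [Module R N] {l : ℕ}

/-- The tuple `e` gives a filtration of its span with graded pieces like `R/q`. -/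
structure Filt (e : Fin l → N) : Prop where
  tf : ∀ i : Fin l, ∀ n ∈ spanBefore R N e ((i : ℕ) + 1), ∀ s ∉ q,
    s • n ∈ spanBefore R N e i → n ∈ spanBefore R N e i
  kill : ∀ i : Fin l, ∀ t ∈ q, t • e i ∈ spanBefore R N e i
  nt : ∀ i : Fin l, e i ∉ spanBefore R N e i

theorem Filt.of_equiv {e : Fin l → N}
    (h : ∀ i : Fin l, Nonempty ((↥(spanBefore R N e (i + 1)) ⧸
      (spanBefore R N e i).submoduleOf (spanBefore R N e (i + 1))) ≃ₗ[R] (R ⧸ q))) :
    Filt q e := by
  constructor
  · intro i n hn s hs hsn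
    obtain ⟨eq⟩ := h i
    let z : ↥(spanBefore R N e (i + 1)) ⧸
      (spanBefore R N e i).submoduleOf (spanBefore R N e (i + 1)) := Submodule.Quotient.mk ⟨n, hn⟩
    have hz : s • z = 0 := by
      change Submodule.Quotient.mk (s • (⟨n, hn⟩ : ↥(spanBefore R N e (i + 1)))) = _
      rw [Submodule.Quotient.mk_eq_zero]
      exact hsn
    have h1 : s • eq z = 0 := by rw [← map_smul, hz, map_zero]
    rw [Algebra.smul_def, mul_eq_zero] at h1
    have h2 : eq z = 0 := by
      refine h1.resolve_left ?_
      rw [Ideal.Quotient.algebraMap_eq, Ideal.Quotient.eq_zero_iff_mem]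
      exact hs
    have h3 : z = 0 := by rwa [map_eq_zero_iff _ eq.injective] at h2
    rw [Submodule.Quotient.mk_eq_zero] at h3
    exact h3
  · intro i t ht
    obtain ⟨eq⟩ := h i
    have hn : e i ∈ spanBefore R N e ((i : ℕ) + 1) := mem_spanBefore_of_lt e i (Nat.lt_succ_self _)
    let z : ↥(spanBefore R N e (i + 1)) ⧸
      (spanBefore R N e i).submoduleOf (spanBefore R N e (i + 1)) := Submodule.Quotient.mk ⟨e i, hn⟩
    have h1 : eq (t • z) = 0 := by
      rw [map_smul, Algebra.smul_def, Ideal.Quotient.algebraMap_eq,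
        Ideal.Quotient.eq_zero_iff_mem.2 ht, zero_mul]
    have h2 : t • z = 0 := by rwa [map_eq_zero_iff _ eq.injective] at h1
    change Submodule.Quotient.mk (t • (⟨e i, hn⟩ : ↥(spanBefore R N e (i + 1)))) = _ at h2
    rw [Submodule.Quotient.mk_eq_zero] at h2
    exact h2
  · intro i hmem
    obtain ⟨eq⟩ := h i
    have hs : spanBefore R N e ((i : ℕ) + 1) = spanBefore R N e i := by
      rw [spanBefore_succ]
      refine le_antisymm (sup_le le_rfl ?_) le_sup_left
      rw [Submodule.span_singleton_le_iff_mem]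
      exact hmem
    have : Subsingleton (↥(spanBefore R N e (i + 1)) ⧸
      (spanBefore R N e i).submoduleOf (spanBefore R N e (i + 1))) := by
      rw [Submodule.Quotient.subsingleton_iff, hs, Submodule.submoduleOf_self]
    have h2 : Subsingleton (R ⧸ q) := eq.symm.injective.subsingleton
    exact not_nontrivial_iff_subsingleton.2 h2 inferInstance

theorem spanBefore_map {M : Type w} [AddCommGroup M] [Module R M] (φ : M →ₗ[R] N)
    (e : Fin l → M) (i : ℕ) : spanBefore R N (φ ∘ e) i = (spanBefore R M e i).map φ := by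
  unfold spanBefore
  rw [Submodule.map_span, Set.image_comp]

variable {q}

omit [q.IsPrime] in
theorem Filt.map {M : Type w} [AddCommGroup M] [Module R M] {φ : M →ₗ[R] N}
    (hφ : Function.Injective φ) {e : Fin l → M} (h : Filt q e) : Filt q (φ ∘ e) := by
  have hmem : ∀ (i : ℕ) (m : M), φ m ∈ spanBefore R N (φ ∘ e) i ↔ m ∈ spanBefore R M e i := by
    intro i m
    rw [spanBefore_map, Submodule.mem_map]
    constructor
    · rintro ⟨y, hy, hym⟩
      rwa [← hφ hym]
    · intro hm; exact ⟨m, hm, rfl⟩
  constructor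
  · intro i n hn s hs hsn
    rw [spanBefore_map] at hn
    obtain ⟨m, hm, rfl⟩ := hn
    rw [← map_smul, hmem] at hsn
    rw [hmem]
    exact h.tf i m hm s hs hsn
  · intro i t ht
    rw [Function.comp_apply, ← map_smul, hmem]
    exact h.kill i t ht
  · intro i hi
    rw [Function.comp_apply, hmem] at hi
    exact h.nt i hi

omit [q.IsPrime] in
theorem Filt.torsionFree {e : Fin l → N} (h : Filt q e) (hgen : spanBefore R N e l = ⊤)
    {n : N} {s : R} (hs : s ∉ q) (hn : s • n = 0) : n = 0 := by
  have key : ∀ k : ℕ, k ≤ l → n ∈ spanBefore R N e (l - k) := by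
    intro k
    induction k with
    | zero => intro _; rw [Nat.sub_zero, hgen]; exact Submodule.mem_top
    | succ k ih =>
      intro hk
      have h1 := ih (by omega)
      have h2 := h.tf ⟨l - (k + 1), by omega⟩ n (by
        have : l - (k + 1) + 1 = l - k := by omega
        simp only
        rw [this]
        exact h1) s hs (by rw [hn]; exact Submodule.zero_mem _)
      exact h2
  have := key l le_rfl
  rw [Nat.sub_self, spanBefore_zero, Submodule.mem_bot] at this
  exact this

variable {A : Type u} [CommRing A] [Algebra R A] [IsLocalRing A] [IsLocalization.AtPrime A q]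
  {V : Type w} [AddCommGroup V] [Module R V] [Module A V] [IsScalarTower R A V]
  (ι : N →ₗ[R] V) [IsLocalizedModule q.primeCompl ι]

omit [IsLocalRing A] in
variable (q) in
theorem mem_spanBefore_iff (e : Fin l → N) (i : ℕ) (n : N) :
    ι n ∈ spanBefore A V (ι ∘ e) i ↔ ∃ s : R, s ∉ q ∧ s • n ∈ spanBefore R N e i := by
  have h1 : spanBefore A V (ι ∘ e) i =
      (spanBefore R N e i).localized' A q.primeCompl ι := by
    unfold spanBefore
    rw [Submodule.localized'_span, Set.image_comp]
  rw [h1, Submodule.mem_localized']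
  constructor
  · rintro ⟨m, hm, s, hs⟩
    rw [IsLocalizedModule.mk'_eq_iff] at hs
    have h2 : ι m = ι ((s : R) • n) := by rw [hs, map_smul]; rfl
    obtain ⟨c, hc⟩ := (IsLocalizedModule.eq_iff_exists q.primeCompl ι).1 h2
    refine ⟨(c : R) * (s : R), ?_, ?_⟩
    · exact q.primeCompl.mul_mem c.2 s.2
    · rw [mul_smul]
      change c • ((s : R) • n) ∈ _
      rw [← hc]
      exact Submodule.smul_mem _ _ hm
  · rintro ⟨s, hs, hm⟩
    refine ⟨s • n, hm, ⟨s, hs⟩, ?_⟩
    rw [IsLocalizedModule.mk'_eq_iff, map_smul]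
    rfl

theorem Filt.good {e : Fin l → N} (h : Filt q e) (hgen : spanBefore A V (ι ∘ e) l = ⊤) :
    Good (A := A) (ι ∘ e) := by
  refine ⟨?_, hgen, ?_⟩
  · intro i t ht
    obtain ⟨⟨a, s⟩, hs⟩ := IsLocalization.surj q.primeCompl t
    simp only at hs
    have hu := isUnit_algebraMap (A := A) q s.2
    have ha : a ∈ q := by
      rw [← algebraMap_mem_maximalIdeal_iff (A := A) q, ← hs]
      exact Ideal.mul_mem_right _ _ ht
    have h1 := h.kill i a ha
    have h2 : ι (a • e i) ∈ spanBefore A V (ι ∘ e) i :=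
      (mem_spanBefore_iff q (A := A) ι e i (a • e i)).2 ⟨1, q.primeCompl.one_mem, by rwa [one_smul]⟩
    rw [map_smul, ← algebraMap_smul A a, ← hs, mul_comm, mul_smul] at h2
    obtain ⟨us, hus⟩ := hu
    have h3 := (spanBefore A V (ι ∘ e) i).smul_mem ((us⁻¹ : Aˣ) : A) h2
    rw [← hus, smul_smul, Units.inv_mul, one_smul] at h3
    exact h3
  · intro i hi
    obtain ⟨s, hs, hm⟩ := (mem_spanBefore_iff q (A := A) ι e i (e i)).1 hi
    exact h.nt i (h.tf i (e i) (mem_spanBefore_of_lt e i (Nat.lt_succ_self _)) s hs hm)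

omit [IsLocalRing A] in
/-- The index computes the length of the cokernel of the span. -/
theorem Filt.len_eq {e : Fin l → N} (h : Filt q e) (hinj : Function.Injective ι)
    (hgen : spanBefore A V (ι ∘ e) l = ⊤) :
    Module.length R (N ⧸ Submodule.span R (Set.range e)) = len A ι e := by
  have key : ∀ k : ℕ, k ≤ l → relLen (spanBefore R N e k) (sat ι (spanBefore A V (ι ∘ e) k)) =
      ∑ i ∈ Finset.univ.filter (fun i : Fin l => (i : ℕ) < k), term A ι e i := by
    intro k
    induction k with
    | zero =>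
      intro _
      have h1 : sat ι (spanBefore A V (ι ∘ e) 0) = ⊥ := by
        rw [spanBefore_zero]
        ext n
        rw [mem_sat, Submodule.mem_bot, Submodule.mem_bot, map_eq_zero_iff _ hinj]
      rw [h1, spanBefore_zero, relLen_self]
      simp
    | succ k ih =>
      intro hk
      have hk' : k < l := hk
      have hle : ∀ j, spanBefore R N e j ≤ sat ι (spanBefore A V (ι ∘ e) j) := by
        intro j n hn
        rw [mem_sat]
        exact (mem_spanBefore_iff q (A := A) ι e j n).2
          ⟨1, q.primeCompl.one_mem, by rwa [one_smul]⟩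
      have hsucc := spanBefore_succ (A := R) e ⟨k, hk'⟩
      simp only at hsucc
      have hM : sat ι (spanBefore A V (ι ∘ e) k) ⊔ spanBefore R N e (k + 1) =
          sat ι (spanBefore A V (ι ∘ e) k) ⊔ Submodule.span R {e ⟨k, hk'⟩} := by
        rw [hsucc, ← sup_assoc, sup_eq_left.2 (hle k)]
      have h1 : relLen (spanBefore R N e (k + 1)) (sat ι (spanBefore A V (ι ∘ e) (k + 1))) =
          relLen (spanBefore R N e (k + 1)) (sat ι (spanBefore A V (ι ∘ e) k)) +
          relLen (sat ι (spanBefore A V (ι ∘ e) k) ⊔ Submodule.span R {e ⟨k, hk'⟩})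
            (sat ι (spanBefore A V (ι ∘ e) (k + 1))) := by
        rw [← hM, relLen_add (Q := sat ι (spanBefore A V (ι ∘ e) k) ⊔ spanBefore R N e (k + 1))
          le_sup_right
          (sup_le (sat_mono ι (spanBefore_mono _ (Nat.le_succ k))) (hle (k + 1))),
          sup_comm (sat ι (spanBefore A V (ι ∘ e) k)), relLen_sup_left]
      have h2 : relLen (spanBefore R N e (k + 1)) (sat ι (spanBefore A V (ι ∘ e) k)) =
          relLen (spanBefore R N e k) (sat ι (spanBefore A V (ι ∘ e) k)) := by
        refine (relLen_of_inf_le (spanBefore_mono e (Nat.le_succ k)) ?_).symm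
        rintro n ⟨hn1, hn2⟩
        obtain ⟨s, hs, hm⟩ := (mem_spanBefore_iff q (A := A) ι e k n).1 hn2
        exact h.tf ⟨k, hk'⟩ n hn1 s hs hm
      rw [h1, h2, ih hk'.le]
      have hfil : Finset.univ.filter (fun i : Fin l => (i : ℕ) < k + 1) =
          insert ⟨k, hk'⟩ (Finset.univ.filter (fun i : Fin l => (i : ℕ) < k)) := by
        ext i
        simp only [Finset.mem_filter, Finset.mem_univ, true_and, Finset.mem_insert, Fin.ext_iff]
        omega
      rw [hfil, Finset.sum_insert (by simp), add_comm]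
      rfl
  have h1 := key l le_rfl
  have h2 : sat ι (spanBefore A V (ι ∘ e) l) = ⊤ := by
    rw [hgen]; exact eq_top_iff.2 (fun n _ => Submodule.mem_top)
  rw [h2, relLen_top, spanBefore_last] at h1
  rw [h1]
  unfold len
  refine Finset.sum_congr ?_ (fun _ _ => rfl)
  ext i
  simp

/-- The class of a good tuple in the determinant of length `l`. -/
noncomputable def cls (e : Fin l → N) (h : Good (A := A) (ι ∘ e)) : DetOfLen A V l :=
  Submodule.Quotient.mk (sym A V ⟨ι ∘ e, h.adm⟩)

variable (A q) in
/-- The relation used for the comparison. -/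
def Rel (e e' : Fin l → N) : Prop :=
  Good (A := A) (ι ∘ e) → ∃ (h : Good (A := A) (ι ∘ e)) (h' : Good (A := A) (ι ∘ e')) (r s : R),
    r ∉ q ∧ s ∉ q ∧
    residue A (algebraMap R A s) • cls ι e h = residue A (algebraMap R A r) • cls ι e' h' ∧
    len A ι e + Ring.ord (R ⧸ q) (Ideal.Quotient.mk q s) =
      len A ι e' + Ring.ord (R ⧸ q) (Ideal.Quotient.mk q r)

theorem mk_mem_nonZeroDivisors {s : R} (hs : s ∉ q) :
    Ideal.Quotient.mk q s ∈ nonZeroDivisors (R ⧸ q) := by
  rw [mem_nonZeroDivisors_iff_ne_zero, ne_eq, Ideal.Quotient.eq_zero_iff_mem]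
  exact hs

omit [IsLocalizedModule q.primeCompl ι] in
theorem rel_of_good {e e' : Fin l → N} (he : Good (A := A) (ι ∘ e))
    (he' : Good (A := A) (ι ∘ e')) : Rel q A ι e e' := by
  refine connect (A := A) (⇑ι) (T := Rel q A ι) ?_ ?_ ?_ ?_ e e' he he'
  · intro e he
    exact ⟨he, he, 1, 1, q.primeCompl.one_mem, q.primeCompl.one_mem, rfl, rfl⟩
  · intro e e' e'' h1 h2 he
    obtain ⟨_, he', r, s, hr, hs, h3, h4⟩ := h1 he
    obtain ⟨_, he'', r', s', hr', hs', h5, h6⟩ := h2 he'
    refine ⟨he, he'', r * r', s * s', q.primeCompl.mul_mem hr hr', q.primeCompl.mul_mem hs hs',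
      ?_, ?_⟩
    · rw [map_mul, map_mul, mul_comm, mul_smul, h3, smul_comm, h5, smul_smul, map_mul, map_mul]
    · rw [map_mul, map_mul, Ring.ord_mul _ (mk_mem_nonZeroDivisors hs'),
        Ring.ord_mul _ (mk_mem_nonZeroDivisors hr'), ← add_assoc, h4, add_right_comm, h6,
        add_right_comm, add_assoc]
  · intro e he a v c hc he'
    -- write `c` as a fraction
    obtain ⟨⟨r, s⟩, hrs⟩ := IsLocalization.surj q.primeCompl (c : A)
    simp only at hrs
    have hus := isUnit_algebraMap (A := A) q s.2
    have hr : r ∉ q := by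
      intro hr
      rw [← algebraMap_mem_maximalIdeal_iff (A := A) q, ← hrs] at hr
      exact hr (c.isUnit.mul hus)
    have hmem : (s : R) • e a - r • v ∈ sat ι (spanBefore A V (ι ∘ e) a) := by
      rw [mem_sat, map_sub, map_smul, map_smul, ← algebraMap_smul A (s : R),
        ← algebraMap_smul A r, ← hrs, mul_comm, mul_smul, ← smul_sub]
      exact Submodule.smul_mem _ _ hc
    obtain ⟨hG, hlen⟩ := len_update q ι he a v hr s.2 hmem
    refine ⟨he, hG, r, s, hr, s.2, ?_, hlen⟩
    have h1 : cls ι e he = residue A (c : A) • cls ι (Function.update e a v) hG := by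
      unfold cls
      rw [← Submodule.Quotient.mk_smul, Submodule.Quotient.eq]
      apply Submodule.subset_span
      refine Or.inl (Or.inr ⟨⟨ι ∘ e, he.adm⟩, ⟨ι ∘ Function.update e a v, hG.adm⟩, a, c, ?_, ?_, rfl⟩)
      · intro j hj
        simp only [Function.comp_apply]
        rw [Function.update_of_ne hj]
      · simp only [Function.comp_apply]
        rw [Function.update_self]
        exact hc
    rw [h1, smul_smul, ← map_mul, mul_comm, hrs]
  · intro e he a b hab ha he'
    obtain ⟨hG, hlen⟩ := len_swap q ι he hab ha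
    have hm1 : (-1 : R) ∉ q := by
      rw [neg_mem_iff]
      exact q.primeCompl.one_mem
    refine ⟨he, hG, -1, 1, hm1, q.primeCompl.one_mem, ?_, ?_⟩
    · have h1 : cls ι e he + cls ι (e ∘ Equiv.swap a b) hG = 0 := by
        unfold cls
        rw [← Submodule.Quotient.mk_add, Submodule.Quotient.mk_eq_zero]
        apply Submodule.subset_span
        exact Or.inr ⟨⟨ι ∘ e, he.adm⟩, ⟨ι ∘ (e ∘ Equiv.swap a b), hG.adm⟩, a, b, hab, ha, rfl, rfl⟩
      rw [map_one, map_one, one_smul, map_neg, map_one, map_neg, map_one, neg_smul, one_smul]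
      exact eq_neg_of_add_eq_zero_left h1
    · rw [hlen, map_neg, Ring.ord_neg]

end Groth.Agent.CycA.DetKey
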