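import Groth.Agent.CycA.DetTuple

/-!
# Any two good tuples are connected by elementary moves
-/

set_option autoImplicit false

namespace Groth.Agent.CycA.DetTuple

open CycDet IsLocalRing Groth.Agent.CycA.RelLen

universe u v w

variable {A : Type u} [CommRing A] [IsLocalRing A] {V : Type v} [AddCommGroup V] [Module A V]
  {N : Type w} {l : ℕ}

omit [AddCommGroup V] in
theorem comp_update' (ι : N → V) (e : Fin l → N) (a : Fin l) (v : N) :
    ι ∘ Function.update e a v = Function.update (ι ∘ e) a (ι v) :=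
  Function.comp_update ι e a v

theorem swapDown (ι : N → V) {T : (Fin l → N) → (Fin l → N) → Prop} (hrefl : ∀ e, T e e)
    (htrans : ∀ e e' e'', T e e' → T e' e'' → T e e'')
    (hswap : ∀ e : Fin l → N, Good (A := A) (ι ∘ e) → ∀ a b : Fin l, (b : ℕ) + 1 = (a : ℕ) →
      (∀ t ∈ maximalIdeal A, t • ι (e a) ∈ spanBefore A V (ι ∘ e) b) → T e (e ∘ Equiv.swap a b))
    (n : ℕ) : ∀ (e : Fin l → N) (_ : Good (A := A) (ι ∘ e)) (k j : Fin l) (_ : (j : ℕ) = k + n)
    (_ : ∀ t ∈ maximalIdeal A, t • ι (e j) ∈ spanBefore A V (ι ∘ e) k),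
    ∃ e2 : Fin l → N, Good (A := A) (ι ∘ e2) ∧ T e e2 ∧ (∀ i : Fin l, (i : ℕ) < k → e2 i = e i) ∧
      e2 k = e j := by
  induction n with
  | zero =>
    intro e he k j hj hm
    have : j = k := Fin.ext (by omega)
    subst this
    exact ⟨e, he, hrefl e, fun _ _ => rfl, rfl⟩
  | succ n ih =>
    intro e he k j hj hm
    let b : Fin l := ⟨(j : ℕ) - 1, by omega⟩
    have hb : (b : ℕ) + 1 = (j : ℕ) := by simp only [b]; omega
    have hkb : (k : ℕ) ≤ b := by simp only [b]; omega
    have hm' : ∀ t ∈ maximalIdeal A, t • ι (e j) ∈ spanBefore A V (ι ∘ e) b :=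
      fun t ht => spanBefore_mono _ hkb (hm t ht)
    have hcomp : ι ∘ (e ∘ Equiv.swap j b) = (ι ∘ e) ∘ Equiv.swap j b := rfl
    have hG : Good (A := A) (ι ∘ (e ∘ Equiv.swap j b)) := by
      rw [hcomp]; exact he.swap hb hm'
    have hjb : (e ∘ Equiv.swap j b) b = e j := by
      rw [Function.comp_apply, Equiv.swap_apply_right]
    obtain ⟨e2, h1, h2, h3, h4⟩ := ih (e ∘ Equiv.swap j b) hG k b (by simp only [b]; omega) (by
      intro t ht
      rw [hjb, hcomp, spanBefore_swap_of_le _ hb hkb]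
      exact hm t ht)
    refine ⟨e2, h1, htrans _ _ _ (hswap e he j b hb hm') h2, ?_, ?_⟩
    · intro i hi
      rw [h3 i hi, Function.comp_apply, Equiv.swap_apply_of_ne_of_ne]
      · rintro rfl; omega
      · rintro rfl; omega
    · rw [h4, hjb]

theorem connect (ι : N → V) {T : (Fin l → N) → (Fin l → N) → Prop} (hrefl : ∀ e, T e e)
    (htrans : ∀ e e' e'', T e e' → T e' e'' → T e e'')
    (hupd : ∀ e : Fin l → N, Good (A := A) (ι ∘ e) → ∀ (a : Fin l) (v : N) (c : Aˣ),
      ι (e a) - (c : A) • ι v ∈ spanBefore A V (ι ∘ e) a → T e (Function.update e a v))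
    (hswap : ∀ e : Fin l → N, Good (A := A) (ι ∘ e) → ∀ a b : Fin l, (b : ℕ) + 1 = (a : ℕ) →
      (∀ t ∈ maximalIdeal A, t • ι (e a) ∈ spanBefore A V (ι ∘ e) b) → T e (e ∘ Equiv.swap a b))
    (e e' : Fin l → N) (he : Good (A := A) (ι ∘ e)) (he' : Good (A := A) (ι ∘ e')) : T e e' := by
  have step : ∀ (e : Fin l → N), Good (A := A) (ι ∘ e) → ∀ k : Fin l,
      (∀ i : Fin l, (i : ℕ) < k → e i = e' i) →
      ∃ e2 : Fin l → N, Good (A := A) (ι ∘ e2) ∧ T e e2 ∧
        (∀ i : Fin l, (i : ℕ) < (k : ℕ) + 1 → e2 i = e' i) := by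
    intro e he k hk
    have hspank : spanBefore A V (ι ∘ e) k = spanBefore A V (ι ∘ e') k :=
      spanBefore_congr (fun j hj => by rw [Function.comp_apply, Function.comp_apply, hk j hj])
    have hex : ∃ n : ℕ, ι (e' k) ∈ spanBefore A V (ι ∘ e) n :=
      ⟨l, by rw [he.gen]; exact Submodule.mem_top⟩
    classical
    set n := Nat.find hex with hn
    have hn1 : ι (e' k) ∈ spanBefore A V (ι ∘ e) n := Nat.find_spec hex
    have hn2 : ∀ m < n, ι (e' k) ∉ spanBefore A V (ι ∘ e) m := fun m hm => Nat.find_min hex hm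
    have hnl : n ≤ l := Nat.find_min' hex (by rw [he.gen]; exact Submodule.mem_top)
    have hkn : (k : ℕ) < n := by
      by_contra hcon
      apply he'.nt k
      rw [← hspank]
      exact spanBefore_mono _ (not_lt.1 hcon) hn1
    let j : Fin l := ⟨n - 1, by omega⟩
    have hj : (j : ℕ) + 1 = n := by simp only [j]; omega
    have hjs := spanBefore_succ (A := A) (ι ∘ e) j
    rw [hj] at hjs
    rw [hjs] at hn1
    obtain ⟨w, hw, z, hz, hwz⟩ := Submodule.mem_sup.1 hn1
    obtain ⟨c, rfl⟩ := Submodule.mem_span_singleton.1 hz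
    have hc : IsUnit c := by
      by_contra hc
      have h1 := he.adm j c hc
      apply hn2 j (by omega)
      rw [← hwz]
      exact Submodule.add_mem _ hw h1
    obtain ⟨c, rfl⟩ := hc
    have hdiff : ι (e j) - ((c⁻¹ : Aˣ) : A) • ι (e' k) ∈ spanBefore A V (ι ∘ e) j := by
      have h1 : ι (e j) - ((c⁻¹ : Aˣ) : A) • ι (e' k) = - (((c⁻¹ : Aˣ) : A) • w) := by
        rw [← hwz, smul_add, smul_smul, Units.inv_mul, one_smul, Function.comp_apply]
        abel
      rw [h1]
      exact Submodule.neg_mem _ (Submodule.smul_mem _ _ hw)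
    have hT1 := hupd e he j (e' k) c⁻¹ hdiff
    obtain ⟨hG1, hS1⟩ := he.update j (ι (e' k)) c⁻¹ hdiff
    rw [← comp_update'] at hG1
    have hkj : (k : ℕ) ≤ j := by omega
    obtain ⟨e2, h1, h2, h3, h4⟩ := swapDown ι hrefl htrans hswap ((j : ℕ) - k)
      (Function.update e j (e' k)) hG1 k j (by omega) (by
        intro t ht
        rw [Function.update_self, comp_update', hS1 k k.2.le, hspank]
        exact he'.adm k t ht)
    refine ⟨e2, h1, htrans _ _ _ hT1 h2, ?_⟩
    intro i hi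
    rcases Nat.lt_succ_iff_lt_or_eq.1 hi with hi | hi
    · rw [h3 i hi, Function.update_of_ne, hk i hi]
      rintro rfl
      omega
    · have : i = k := Fin.ext hi
      subst this
      rw [h4, Function.update_self]
  have main : ∀ k : ℕ, k ≤ l → ∃ e2 : Fin l → N, Good (A := A) (ι ∘ e2) ∧ T e e2 ∧
      (∀ i : Fin l, (i : ℕ) < k → e2 i = e' i) := by
    intro k
    induction k with
    | zero => intro _; exact ⟨e, he, hrefl e, fun i hi => absurd hi (Nat.not_lt_zero _)⟩
    | succ k ih =>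
      intro hk
      obtain ⟨e2, h1, h2, h3⟩ := ih (by omega)
      obtain ⟨e3, h4, h5, h6⟩ := step e2 h1 ⟨k, hk⟩ h3
      exact ⟨e3, h4, htrans _ _ _ h2 h5, h6⟩
  obtain ⟨e2, _, h2, h3⟩ := main l le_rfl
  have : e2 = e' := funext (fun i => h3 i i.2)
  rwa [this] at h2

end Groth.Agent.CycA.DetTuple
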