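import Groth.Agent.CycA.DetFun
import Mathlib.RingTheory.Length
import Mathlib.LinearAlgebra.Dimension.Basic
import Mathlib.LinearAlgebra.Dimension.Finite
import Mathlib.LinearAlgebra.Dimension.DivisionRing

/-!
# The determinant space of a finite length module is one-dimensional
-/

set_option autoImplicit false
set_option linter.unusedSectionVars false
universe u v

namespace Groth.Agent.CycA.DetOne

open CycDet IsLocalRing Groth.Agent.CycA.DetBasic Groth.Agent.CycA.DetFun

variable {R : Type u} [CommRing R] [IsLocalRing R] {M : Type v} [AddCommGroup M] [Module R M]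
  {l : ℕ}

theorem isAdmissible_rel_b {e e' : Fin l → M} {a : Fin l} {c : Rˣ}
    (hj : ∀ j, j ≠ a → e j = e' j) (ha : e a - (c : R) • e' a ∈ spanBefore R M e a)
    (he : IsAdmissible R M e) : IsAdmissible R M e' := by
  intro i r hr
  rw [← spanBefore_rel_b hj ha]
  by_cases hi : i = a
  · subst hi
    have h1 := Submodule.smul_mem _ r ha
    rw [smul_sub] at h1
    have h2 := Submodule.sub_mem _ (he i r hr) h1
    have h3 := Submodule.smul_mem _ ((c⁻¹ : Rˣ) : R) h2
    convert h3 using 1
    have hν : ((c⁻¹ : Rˣ) : R) * (c : R) = 1 := Units.inv_mul c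
    have : ((c⁻¹ : Rˣ) : R) • (r • e i - (r • e i - r • (c : R) • e' i)) =
      (((c⁻¹ : Rˣ) : R) * (c : R)) • r • e' i := by module
    rw [this, hν, one_smul]
  · rw [← hj i hi]
    exact he i r hr

theorem isAdmissible_swap {e : Fin l → M} (he : IsAdmissible R M e) {a b : Fin l}
    (hab : (b : ℕ) + 1 = a) (ha : ∀ r ∈ maximalIdeal R, r • e a ∈ spanBefore R M e b) :
    IsAdmissible R M (e ∘ Equiv.swap a b) := by
  intro i r hr
  by_cases hia : i = a
  · subst hia
    rw [Function.comp_apply, Equiv.swap_apply_left]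
    have h1 : spanBefore R M e b ≤ spanBefore R M (e ∘ Equiv.swap i b) i := by
      rw [← spanBefore_swap hab (i := (b : ℕ)) (by omega)]
      exact spanBefore_mono _ (by omega)
    exact h1 (he b r hr)
  · rw [spanBefore_swap hab (by intro h; exact hia (Fin.ext h))]
    by_cases hib : i = b
    · subst hib
      rw [Function.comp_apply, Equiv.swap_apply_right]
      exact ha r hr
    · rw [Function.comp_apply, Equiv.swap_apply_of_ne_of_ne hia hib]
      exact he i r hr

/-- the class of an admissible tuple -/
noncomputable def cls (e : Adm R M l) : DetOfLen R M l := Submodule.Quotient.mk (sym R M e)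

theorem cls_rel_a (e : Adm R M l) {a : Fin l} (ha : e.1 a ∈ spanBefore R M e.1 a) :
    cls e = 0 := by
  rw [cls, Submodule.Quotient.mk_eq_zero]
  exact Submodule.subset_span (Or.inl (Or.inl ⟨e, a, ha, rfl⟩))

theorem cls_rel_b (e e' : Adm R M l) {a : Fin l} {c : Rˣ}
    (hj : ∀ j, j ≠ a → e.1 j = e'.1 j) (ha : e.1 a - (c : R) • e'.1 a ∈ spanBefore R M e.1 a) :
    cls e = residue R (c : R) • cls e' := by
  rw [cls, cls, ← Submodule.Quotient.mk_smul, ← sub_eq_zero, ← Submodule.Quotient.mk_sub,
    Submodule.Quotient.mk_eq_zero]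
  exact Submodule.subset_span (Or.inl (Or.inr ⟨e, e', a, c, hj, ha, rfl⟩))

theorem cls_rel_c (e e' : Adm R M l) {a b : Fin l} (hab : (b : ℕ) + 1 = a)
    (ha : ∀ r ∈ maximalIdeal R, r • e.1 a ∈ spanBefore R M e.1 b)
    (he' : e'.1 = e.1 ∘ Equiv.swap a b) : cls e = - cls e' := by
  rw [cls, cls, ← Submodule.Quotient.mk_neg, ← sub_eq_zero, ← Submodule.Quotient.mk_sub,
    Submodule.Quotient.mk_eq_zero, sub_neg_eq_add]
  exact Submodule.subset_span (Or.inr ⟨e, e', a, b, hab, ha, he', rfl⟩)

theorem range_swap (e : Fin l → M) (a b : Fin l) :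
    Set.range (e ∘ Equiv.swap a b) = Set.range e :=
  (Equiv.swap a b).surjective.range_comp e

/-- Replace the entry at position `a` by `x`, where `x = y + r e_a`, `y` in the span before and `r` a
unit. -/
theorem exists_replace (e : Adm R M l) (a : Fin l) {x : M}
    (hx : x ∈ spanBefore R M e.1 (a + 1)) (hx' : x ∉ spanBefore R M e.1 a) :
    ∃ (e' : Adm R M l) (c : ResidueField R), e'.1 a = x ∧ (∀ j, j ≠ a → e'.1 j = e.1 j) ∧
      cls e = c • cls e' ∧ (∀ i : ℕ, spanBefore R M e'.1 i = spanBefore R M e.1 i) ∧
      ∃ u : Rˣ, c = residue R (u : R) ∧ e.1 a - (u : R) • x ∈ spanBefore R M e.1 a := by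
  classical
  rw [spanBefore_succ] at hx
  obtain ⟨y, hy, z, hz, hyz⟩ := Submodule.mem_sup.mp hx
  obtain ⟨r, rfl⟩ := Submodule.mem_span_singleton.mp hz
  have hr : IsUnit r := by
    by_contra hr
    apply hx'
    rw [← hyz]
    exact Submodule.add_mem _ hy (e.2 a r ((mem_maximalIdeal r).mpr hr))
  obtain ⟨u, rfl⟩ := hr
  have h1 : ∀ j, j ≠ a → e.1 j = Function.update e.1 a x j := by
    intro j hj
    rw [Function.update_of_ne hj]
  have h2 : e.1 a - ((u⁻¹ : Rˣ) : R) • x ∈ spanBefore R M e.1 a := by
    have hν : ((u⁻¹ : Rˣ) : R) * (u : R) = 1 := Units.inv_mul u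
    rw [← hyz]
    have : e.1 a - ((u⁻¹ : Rˣ) : R) • (y + (u : R) • e.1 a) =
      e.1 a - (((u⁻¹ : Rˣ) : R) * (u : R)) • e.1 a - ((u⁻¹ : Rˣ) : R) • y := by module
    rw [this, hν, one_smul, sub_self, zero_sub]
    exact Submodule.neg_mem _ (Submodule.smul_mem _ _ hy)
  have h2' : e.1 a - ((u⁻¹ : Rˣ) : R) • (Function.update e.1 a x a) ∈ spanBefore R M e.1 a := by
    rwa [Function.update_self]
  refine ⟨⟨Function.update e.1 a x, isAdmissible_rel_b h1 h2' e.2⟩, residue R ((u⁻¹ : Rˣ) : R),
    ?_, ?_, ?_, ?_, u⁻¹, rfl, h2⟩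
  · simp
  · intro j hj
    exact (h1 j hj).symm
  · exact cls_rel_b e _ h1 h2'
  · intro i
    exact (spanBefore_rel_b h1 h2' i).symm

/-- Exchange: every generating admissible symbol is a multiple of a fixed one. -/
theorem cls_mem_span_of_agree (f : Adm R M l)
    (hfs : ∀ i : Fin l, f.1 i ∉ spanBefore R M f.1 i) :
    ∀ n j : ℕ, j + n = l → ∀ e : Adm R M l, Submodule.span R (Set.range e.1) = ⊤ →
      (∀ k : Fin l, (k : ℕ) < j → e.1 k = f.1 k) →
      cls e ∈ Submodule.span (ResidueField R) {cls f} := by
  intro n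
  induction n with
  | zero =>
    intro j hj e _ hagree
    have : e = f := by
      apply Subtype.ext
      funext k
      exact hagree k (by omega)
    rw [this]
    exact Submodule.mem_span_singleton_self _
  | succ n ih =>
    intro j hj e he hagree
    have hjl : j < l := by omega
    have inner : ∀ i : ℕ, j ≤ i → i < l → ∀ e : Adm R M l,
        Submodule.span R (Set.range e.1) = ⊤ → (∀ k : Fin l, (k : ℕ) < j → e.1 k = f.1 k) →
        f.1 ⟨j, hjl⟩ ∈ spanBefore R M e.1 (i + 1) →
        cls e ∈ Submodule.span (ResidueField R) {cls f} := by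
      intro i hji
      induction i, hji using Nat.le_induction with
      | base =>
        intro _ e he hagree hmem
        have hnot : f.1 ⟨j, hjl⟩ ∉ spanBefore R M e.1 ((⟨j, hjl⟩ : Fin l) : ℕ) := by
          rw [spanBefore_congr e.1 f.1 hagree]
          exact hfs ⟨j, hjl⟩
        obtain ⟨e', c, h1, h2, h3, h4, -⟩ := exists_replace e ⟨j, hjl⟩ hmem hnot
        rw [h3]
        apply Submodule.smul_mem
        apply ih (j + 1) (by omega) e'
        · rw [← spanBefore_last, h4, spanBefore_last, he]
        · intro k hk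
          rcases Nat.lt_succ_iff_lt_or_eq.mp hk with hk | hk
          · rw [h2 k (by rintro rfl; simp at hk), hagree k hk]
          · have : k = ⟨j, hjl⟩ := Fin.ext hk
            rw [this, h1]
      | succ i hji ihi =>
        intro hil e he hagree hmem
        by_cases hmem' : f.1 ⟨j, hjl⟩ ∈ spanBefore R M e.1 (i + 1)
        · exact ihi (by omega) e he hagree hmem'
        · obtain ⟨e', c, h1, h2, h3, h4, -⟩ := exists_replace e ⟨i + 1, hil⟩ hmem hmem'
          rw [h3]
          apply Submodule.smul_mem
          have hagree' : ∀ k : Fin l, (k : ℕ) < j → e'.1 k = f.1 k := by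
            intro k hk
            rw [h2 k (by rintro rfl; simp at hk; omega), hagree k hk]
          have hab : (((⟨i, by omega⟩ : Fin l) : ℕ)) + 1 = ((⟨i + 1, hil⟩ : Fin l) : ℕ) := rfl
          have hm : ∀ r ∈ maximalIdeal R,
              r • e'.1 ⟨i + 1, hil⟩ ∈ spanBefore R M e'.1 ((⟨i, by omega⟩ : Fin l) : ℕ) := by
            intro r hr
            rw [h1]
            have h5 := f.2 ⟨j, hjl⟩ r hr
            rw [show spanBefore R M f.1 ((⟨j, hjl⟩ : Fin l) : ℕ) = spanBefore R M e'.1 j from
              (spanBefore_congr e'.1 f.1 hagree').symm] at h5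
            exact spanBefore_mono _ hji h5
          rw [cls_rel_c e' ⟨_, isAdmissible_swap e'.2 hab hm⟩ hab hm rfl]
          apply Submodule.neg_mem
          apply ihi (by omega)
          · simp only [range_swap]
            rw [← spanBefore_last, h4, spanBefore_last, he]
          · intro k hk
            simp only [Function.comp_apply]
            rw [Equiv.swap_apply_of_ne_of_ne, hagree' k hk]
            · rintro rfl; simp at hk; omega
            · rintro rfl; simp at hk; omega
          · have h6 : (e'.1 ∘ Equiv.swap (⟨i + 1, hil⟩ : Fin l) ⟨i, by omega⟩) ⟨i, by omega⟩ =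
                f.1 ⟨j, hjl⟩ := by
              rw [Function.comp_apply, Equiv.swap_apply_right, h1]
            rw [← h6]
            exact mem_spanBefore _ (Nat.lt_succ_self _)
    obtain ⟨l', rfl⟩ : ∃ l', l = l' + 1 := ⟨l - 1, by omega⟩
    apply inner l' (by omega) (by omega) e he hagree
    rw [spanBefore_last, he]
    exact Submodule.mem_top

/-- A complete flag from a composition series. -/
theorem exists_strict (hM : IsFiniteLength R M) :
    ∃ f : Adm R M (Module.length R M).toNat, Submodule.span R (Set.range f.1) = ⊤ ∧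
      ∀ i : Fin (Module.length R M).toNat, f.1 i ∉ spanBefore R M f.1 i := by
  obtain ⟨s, hs1, hs2⟩ := isFiniteLength_iff_exists_compositionSeries.mp hM
  have hlen := Module.length_compositionSeries s hs1 hs2
  have hlen' : (Module.length R M).toNat = s.length := by
    rw [← hlen]; simp
  rw [hlen']
  have hcov : ∀ i : Fin s.length, s i.castSucc ⋖ s i.succ := fun i => s.step i
  have hex : ∀ i : Fin s.length, ∃ x, x ∈ s i.succ ∧ x ∉ s i.castSucc := by
    intro i
    obtain ⟨x, hx1, hx2⟩ := SetLike.exists_of_lt (hcov i).lt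
    exact ⟨x, hx1, hx2⟩
  choose f hf1 hf2 using hex
  have hspan : ∀ (k : ℕ) (hk : k < s.length + 1), spanBefore R M f k = s ⟨k, hk⟩ := by
    intro k
    induction k with
    | zero =>
      intro hk
      rw [spanBefore_zero]
      exact hs1.symm
    | succ k ih =>
      intro hk
      have hk' : k < s.length := by omega
      have ih' := ih (by omega)
      have hsucc : spanBefore R M f (k + 1) = spanBefore R M f k ⊔ Submodule.span R {f ⟨k, hk'⟩} :=
        spanBefore_succ f ⟨k, hk'⟩
      rw [hsucc, ih']
      have h1 : s ⟨k, by omega⟩ ⊔ Submodule.span R {f ⟨k, hk'⟩} ≤ s ⟨k + 1, hk⟩ :=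
        sup_le (hcov ⟨k, hk'⟩).le ((Submodule.span_singleton_le_iff_mem _ _).mpr (hf1 ⟨k, hk'⟩))
      rcases (hcov ⟨k, hk'⟩).eq_or_eq (c := s ⟨k, by omega⟩ ⊔ Submodule.span R {f ⟨k, hk'⟩})
        le_sup_left h1 with h | h
      · exfalso
        apply hf2 ⟨k, hk'⟩
        have : f ⟨k, hk'⟩ ∈ s ⟨k, by omega⟩ ⊔ Submodule.span R {f ⟨k, hk'⟩} :=
          Submodule.mem_sup_right (Submodule.mem_span_singleton_self _)
        rw [h] at this
        exact this
      · exact h
  have hstrict : ∀ i : Fin s.length, f i ∉ spanBefore R M f i := by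
    intro i
    rw [hspan i (by omega)]
    exact hf2 i
  refine ⟨⟨f, ?_⟩, ?_, hstrict⟩
  · intro i r hr
    by_contra hcon
    have hi := hspan i (by omega)
    have hle : spanBefore R M f i ⊔ Submodule.span R {r • f i} ≤ s i.succ := by
      rw [hi]
      exact sup_le (hcov i).le ((Submodule.span_singleton_le_iff_mem _ _).mpr
        (Submodule.smul_mem _ _ (hf1 i)))
    have hle0 : s i.castSucc ≤ spanBefore R M f i ⊔ Submodule.span R {r • f i} := by
      rw [hi]; exact le_sup_left
    rcases (hcov i).eq_or_eq hle0 hle with h | h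
    · apply hcon
      rw [hi]
      have : r • f i ∈ spanBefore R M f i ⊔ Submodule.span R {r • f i} :=
        Submodule.mem_sup_right (Submodule.mem_span_singleton_self _)
      rw [h] at this
      exact this
    · have h1 := hf1 i
      rw [← h] at h1
      obtain ⟨y, hy, z, hz, hyz⟩ := Submodule.mem_sup.mp h1
      obtain ⟨t, rfl⟩ := Submodule.mem_span_singleton.mp hz
      apply hstrict i
      have h2 : (1 - t * r) • f i ∈ spanBefore R M f i := by
        have : (1 - t * r) • f i = f i - t • r • f i := by module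
        rw [this]
        have h3 : f i - t • r • f i = y := sub_eq_of_eq_add hyz.symm
        rw [h3]; exact hy
      refine mem_of_smul_notMem ?_ h2
      intro hmem
      have h4 : (1 : R) ∈ maximalIdeal R := by
        have h5 : t * r ∈ maximalIdeal R := Ideal.mul_mem_left _ _ hr
        have := Ideal.add_mem _ hmem h5
        rwa [sub_add_cancel] at this
      exact (Ideal.ne_top_iff_one _).mp (maximalIdeal.isMaximal R).ne_top h4
  · rw [← spanBefore_last, hspan s.length (by omega)]
    exact hs2

/-- If the reference tuple is strict and generating, any other generating admissible tuple of the same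
length is strict. -/
theorem strict_of_span_eq_top {f : Adm R M l} 
    (hfs : ∀ i : Fin l, f.1 i ∉ spanBefore R M f.1 i) (e : Adm R M l)
    (he : Submodule.span R (Set.range e.1) = ⊤) : ∀ i : Fin l, e.1 i ∉ spanBefore R M e.1 i := by
  obtain ⟨w, c, h⟩ := exists_isLead e.2 he hfs
  exact fun i => h.gen_notMem i

end Groth.Agent.CycA.DetOne
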