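import Groth.Agent.CycA.DetOne
import Mathlib.LinearAlgebra.Dimension.FreeAndStrongRankCondition

/-!
# Rank one statements for the determinant space
-/

set_option autoImplicit false
set_option linter.unusedSectionVars false
universe u v

namespace Groth.Agent.CycA.DetRank

open CycDet IsLocalRing Groth.Agent.CycA.DetBasic Groth.Agent.CycA.DetFun Groth.Agent.CycA.DetOne

variable {R : Type u} [CommRing R] [IsLocalRing R] {M : Type v} [AddCommGroup M] [Module R M]
  {l : ℕ}

/-- A symbol of any admissible tuple is a multiple of that of a fixed strict generating tuple. -/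
theorem cls_mem_span (f : Adm R M l) (hft : Submodule.span R (Set.range f.1) = ⊤)
    (hfs : ∀ i : Fin l, f.1 i ∉ spanBefore R M f.1 i) (e : Adm R M l) :
    cls e ∈ Submodule.span (ResidueField R) {cls f} := by
  by_cases he : ∀ i : Fin l, e.1 i ∉ spanBefore R M e.1 i
  · obtain ⟨w, c, h⟩ := exists_isLead f.2 hft he
    exact cls_mem_span_of_agree f hfs l 0 (by omega) e (h.span_eq_top f.2 hft)
      (fun k hk => absurd hk (by omega))
  · push Not at he
    obtain ⟨a, ha⟩ := he
    rw [cls_rel_a e ha]
    exact Submodule.zero_mem _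

theorem mem_span_cls (f : Adm R M l) (hft : Submodule.span R (Set.range f.1) = ⊤)
    (hfs : ∀ i : Fin l, f.1 i ∉ spanBefore R M f.1 i) (x : DetOfLen R M l) :
    x ∈ Submodule.span (ResidueField R) {cls f} := by
  obtain ⟨y, rfl⟩ := Submodule.Quotient.mk_surjective _ x
  induction y using Finsupp.induction_linear with
  | zero => exact Submodule.zero_mem _
  | add a b ha hb =>
    rw [Submodule.Quotient.mk_add]
    exact Submodule.add_mem _ ha hb
  | single e c =>
    have : (Finsupp.single e c : Free R M l) = c • sym R M e := by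
      simp [sym]
    rw [this, Submodule.Quotient.mk_smul]
    exact Submodule.smul_mem _ _ (cls_mem_span f hft hfs e)

theorem rank_detOfLen_le_one (f : Adm R M l) (hft : Submodule.span R (Set.range f.1) = ⊤)
    (hfs : ∀ i : Fin l, f.1 i ∉ spanBefore R M f.1 i) :
    Module.rank (ResidueField R) (DetOfLen R M l) ≤ 1 := by
  rw [rank_le_one_iff]
  refine ⟨cls f, fun x => ?_⟩
  exact Submodule.mem_span_singleton.mp (mem_span_cls f hft hfs x)

theorem detFun_cls (f : Fin l → M) (hf : IsAdmissible R M f)
    (hft : Submodule.span R (Set.range f) = ⊤) (e : Adm R M l) :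
    detFun f hf hft (cls e) = D (R := R) f e.1 := detFun_mk f hf hft e

/-- The canonical expression of a symbol in terms of a fixed strict generating one. -/
theorem cls_eq_D_smul (f : Adm R M l) (hft : Submodule.span R (Set.range f.1) = ⊤)
    (hfs : ∀ i : Fin l, f.1 i ∉ spanBefore R M f.1 i) (e : Adm R M l) :
    cls e = D (R := R) f.1 e.1 • cls f := by
  obtain ⟨c, hc⟩ := Submodule.mem_span_singleton.mp (cls_mem_span f hft hfs e)
  rw [← hc]
  congr 1
  have := congrArg (detFun f.1 f.2 hft) hc
  rw [map_smul, detFun_cls, detFun_cls, D_self hfs] at this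
  simpa using this

/-- The functional attached to a strict generating tuple is a linear isomorphism. -/
noncomputable def detEquiv (f : Adm R M l) (hft : Submodule.span R (Set.range f.1) = ⊤)
    (hfs : ∀ i : Fin l, f.1 i ∉ spanBefore R M f.1 i) :
    DetOfLen R M l ≃ₗ[ResidueField R] ResidueField R :=
  LinearEquiv.ofBijective (detFun f.1 f.2 hft) (by
    constructor
    · rw [injective_iff_map_eq_zero]
      intro x hx
      obtain ⟨c, rfl⟩ := Submodule.mem_span_singleton.mp (mem_span_cls f hft hfs x)
      rw [map_smul, detFun_cls, D_self hfs, smul_eq_mul, mul_one] at hx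
      rw [hx, zero_smul]
    · intro c
      refine ⟨c • cls f, ?_⟩
      rw [map_smul, detFun_cls, D_self hfs, smul_eq_mul, mul_one])

theorem detEquiv_cls (f : Adm R M l) (hft : Submodule.span R (Set.range f.1) = ⊤)
    (hfs : ∀ i : Fin l, f.1 i ∉ spanBefore R M f.1 i) (e : Adm R M l) :
    detEquiv f hft hfs (cls e) = D (R := R) f.1 e.1 := detFun_cls f.1 f.2 hft e

end Groth.Agent.CycA.DetRank
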