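import Mathlib.RingTheory.LocalRing.ResidueField.Ideal
import Mathlib.RingTheory.LocalRing.ResidueField.Basic
import Mathlib.RingTheory.Ideal.GoingUp
import Mathlib.RingTheory.Norm.Defs
import Mathlib.RingTheory.Spectrum.Maximal.Defs
import Mathlib.Algebra.BigOperators.Finprod
import Groth.Agent.CycA.LocLen
import Groth.Agent.CycA.DetExact

/-!
# Determinants over the residue field as products of norms

Let `A` be a local ring with residue field `κ`, `S` a Noetherian finite `A`-algebra with finitely
many maximal ideals, `V` a finite `S`-module which is a `κ`-vector space in a compatible way and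
`s ∈ S`. Then `det_κ (s | V) = ∏_q Norm_{κ(q)/κ}(s mod q) ^ length_{S_q}(V_q)`.
-/

set_option autoImplicit false

universe u v w

namespace Groth.Agent.CycA.DetRes

open LinearMap IsLocalRing Groth.Agent.CycA.LocLen Groth.Agent.CycA.DetExact

variable (A : Type v) [CommRing A] [IsLocalRing A] {S : Type u} [CommRing S] [Algebra A S]

/-- The length of the localization at a maximal ideal. -/
noncomputable abbrev ll (q : MaximalSpectrum S) (N : Type w) [AddCommGroup N] [Module S N] : ℕ∞ :=
  Module.length (Localization.AtPrime q.asIdeal) (LocalizedModule q.asIdeal.primeCompl N)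

/-- The norm down to the residue field of `A` of the residue class of `s` at `q`. -/
noncomputable def nrm [hloc : ∀ q : MaximalSpectrum S,
    IsLocalHom (algebraMap A (Localization.AtPrime q.asIdeal))] (q : MaximalSpectrum S) (s : S) :
    ResidueField A :=
  Algebra.norm (ResidueField A)
    (residue (Localization.AtPrime q.asIdeal) (algebraMap S (Localization.AtPrime q.asIdeal) s))

/-- Compatibility of a vector space structure over the residue field of `A` with a module
structure over the `A`-algebra `S`. -/
def Compat (S : Type u) [CommRing S] [Algebra A S] (N : Type w) [AddCommGroup N] [Module S N]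
    [Module (ResidueField A) N] : Prop :=
  ∀ (a : A) (n : N), residue A a • n = algebraMap A S a • n

variable {A}

/-- A module over `S` killed by the maximal ideal of `A` is a vector space over the residue field. -/
theorem exists_compat (N : Type w) [AddCommGroup N] [Module S N]
    (h : ∀ a ∈ maximalIdeal A, ∀ n : N, algebraMap A S a • n = 0) :
    ∃ _ : Module (ResidueField A) N, Compat A S N := by
  let ρ : A →+* AddMonoid.End N := (Module.toAddMonoidEnd S N).comp (algebraMap A S)
  have hρ : ∀ a ∈ maximalIdeal A, ρ a = 0 := by
    intro a ha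
    ext n
    exact h a ha n
  let ρ' : ResidueField A →+* AddMonoid.End N := Ideal.Quotient.lift (maximalIdeal A) ρ hρ
  refine ⟨Module.compHom N ρ', ?_⟩
  intro a n
  rfl

theorem kill {N : Type w} [AddCommGroup N] [Module S N] [Module (ResidueField A) N]
    (h : Compat A S N) : ∀ a ∈ maximalIdeal A, ∀ n : N, algebraMap A S a • n = 0 := by
  intro a ha n
  rw [← h a n, (residue_eq_zero_iff a).mpr ha, zero_smul]

theorem map_smul_of_compat {N : Type w} [AddCommGroup N] [Module S N] [Module (ResidueField A) N]
    {N' : Type*} [AddCommGroup N'] [Module S N'] [Module (ResidueField A) N']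
    (h : Compat A S N) (h' : Compat A S N') (f : N →ₗ[S] N') (c : ResidueField A) (n : N) :
    f (c • n) = c • f n := by
  obtain ⟨a, rfl⟩ := residue_surjective c
  rw [h a n, map_smul, h' a]

/-- An `S`-linear map between compatible modules is linear over the residue field. -/
def toRes {N : Type w} [AddCommGroup N] [Module S N] [Module (ResidueField A) N]
    {N' : Type*} [AddCommGroup N'] [Module S N'] [Module (ResidueField A) N']
    (h : Compat A S N) (h' : Compat A S N') (f : N →ₗ[S] N') : N →ₗ[ResidueField A] N' where
  toFun := f
  map_add' := map_add f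
  map_smul' := map_smul_of_compat h h' f

/-- Multiplication by `s` as a linear map over the residue field. -/
def mulRes {N : Type w} [AddCommGroup N] [Module S N] [Module (ResidueField A) N]
    (h : Compat A S N) (s : S) : N →ₗ[ResidueField A] N :=
  toRes h h (LinearMap.lsmul S N s)

theorem finite_of_compat [Module.Finite A S] {N : Type w} [AddCommGroup N] [Module S N]
    [Module (ResidueField A) N] [Module.Finite S N] (h : Compat A S N) :
    Module.Finite (ResidueField A) N := by
  let _ : Module A N := Module.compHom N (algebraMap A S)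
  have : IsScalarTower A S N := ⟨fun a s n => by
    rw [Algebra.smul_def, mul_smul]; rfl⟩
  have : IsScalarTower A (ResidueField A) N := ⟨fun a c n => by
    obtain ⟨b, rfl⟩ := residue_surjective c
    rw [Algebra.smul_def, mul_smul]
    exact h a _⟩
  have : Module.Finite A N := Module.Finite.trans S N
  exact Module.Finite.of_restrictScalars_finite A _ _

theorem compat_residueField [hloc : ∀ q : MaximalSpectrum S,
    IsLocalHom (algebraMap A (Localization.AtPrime q.asIdeal))] (q : MaximalSpectrum S) :
    Compat A S (ResidueField (Localization.AtPrime q.asIdeal)) := by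
  intro a n
  rw [Algebra.smul_def, Algebra.smul_def]
  congr 1

variable [Module.Finite A S]

/-- Finite modules over a finite local algebra: the determinant formula for `S/p`. -/
theorem base_case [hloc : ∀ q : MaximalSpectrum S,
    IsLocalHom (algebraMap A (Localization.AtPrime q.asIdeal))] [Finite (MaximalSpectrum S)]
    (s : S) (N : Type w) [AddCommGroup N] [Module S N] [Module (ResidueField A) N]
    (h : Compat A S N) (p : PrimeSpectrum S) (e : N ≃ₗ[S] S ⧸ p.asIdeal) :
    (∀ q : MaximalSpectrum S, ll q N ≠ ⊤) ∧
    LinearMap.det (mulRes h s) = ∏ᶠ q : MaximalSpectrum S, nrm A q s ^ (ll q N).toNat := by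
  classical
  -- p is maximal
  have hcomap : (p.asIdeal.comap (algebraMap A S)).IsMaximal := by
    have h1 : maximalIdeal A ≤ p.asIdeal.comap (algebraMap A S) := by
      intro a ha
      rw [Ideal.mem_comap, ← Ideal.Quotient.eq_zero_iff_mem]
      have := kill h a ha (e.symm 1)
      rw [← map_smul, LinearEquiv.map_eq_zero_iff, Algebra.smul_def, mul_one] at this
      exact this
    have h2 : p.asIdeal.comap (algebraMap A S) = maximalIdeal A :=
      ((maximalIdeal.isMaximal A).eq_of_le (Ideal.comap_ne_top _ p.2.ne_top) h1).symm
    rw [h2]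
    exact maximalIdeal.isMaximal A
  have hp : p.asIdeal.IsMaximal := Ideal.isMaximal_of_isIntegral_of_isMaximal_comap _ hcomap
  let q₀ : MaximalSpectrum S := ⟨p.asIdeal, hp⟩
  have hll : ∀ q : MaximalSpectrum S, ll q N = if q = q₀ then 1 else 0 := by
    intro q
    unfold ll
    rw [length_loc_equiv q.asIdeal e]
    split_ifs with hq
    · subst hq
      exact length_loc_quotient_self q₀.asIdeal
    · rw [length_loc_eq_zero_iff (⟨q.asIdeal, q.isMaximal.isPrime⟩ : PrimeSpectrum S),
        Module.support_eq_zeroLocus, Ideal.annihilator_quotient]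
      intro h'
      apply hq
      have h'' : p.asIdeal ≤ q.asIdeal := h'
      exact MaximalSpectrum.ext (hp.eq_of_le q.isMaximal.ne_top h'').symm
  refine ⟨fun q => ?_, ?_⟩
  · rw [hll q]
    split_ifs
    · exact ENat.one_ne_top
    · exact ENat.zero_ne_top
  rw [finprod_eq_single _ q₀]
  · rw [hll q₀, if_pos rfl]
    have h1 : (1 : ℕ∞).toNat = 1 := rfl
    rw [h1, pow_one]
    -- the residue field at q₀
    let F := ResidueField (Localization.AtPrime q₀.asIdeal)
    let f : (S ⧸ q₀.asIdeal) →ₗ[S] F := Algebra.linearMap (S ⧸ q₀.asIdeal) F |>.restrictScalars S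
    have hf : Function.Bijective f := Ideal.bijective_algebraMap_quotient_residueField q₀.asIdeal
    let e' : N ≃ₗ[S] F := e.trans (LinearEquiv.ofBijective f hf)
    have hF : Compat A S F := compat_residueField q₀
    let e'' : N ≃ₗ[ResidueField A] F :=
      { toRes h hF e'.toLinearMap with
        invFun := e'.symm
        left_inv := e'.left_inv
        right_inv := e'.right_inv }
    rw [← LinearMap.det_conj (mulRes h s) e'']
    unfold nrm
    rw [Algebra.norm_apply]
    congr 1
    ext x
    change e' (s • e'.symm x) = _
    rw [map_smul, LinearEquiv.apply_symm_apply, Algebra.smul_def]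
    rfl
  · intro q hq
    rw [hll q, if_neg hq]
    exact pow_zero _

/-- `det_κ (s | V) = ∏_q Norm_{κ(q)/κ}(s mod q) ^ length_{S_q}(V_q)`. -/
theorem det_eq [IsNoetherianRing S] [hloc : ∀ q : MaximalSpectrum S,
    IsLocalHom (algebraMap A (Localization.AtPrime q.asIdeal))] [Finite (MaximalSpectrum S)]
    (s : S) (V : Type w) [AddCommGroup V] [Module S V] [hV : Module.Finite S V] :
    ∀ [Module (ResidueField A) V] (h : Compat A S V),
    (∀ q : MaximalSpectrum S, ll q V ≠ ⊤) ∧
    LinearMap.det (mulRes h s) = ∏ᶠ q : MaximalSpectrum S, nrm A q s ^ (ll q V).toNat := by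
  induction hV using IsNoetherianRing.induction_on_isQuotientEquivQuotientPrime S with
  | subsingleton N =>
    intro _ h
    have hll : ∀ q : MaximalSpectrum S, ll q N = 0 := by
      intro q
      unfold ll
      rw [Module.length_eq_zero_iff]
      infer_instance
    refine ⟨fun q => ?_, ?_⟩
    · rw [hll q]
      exact ENat.zero_ne_top
    · rw [LinearMap.det_eq_one_of_subsingleton]
      symm
      apply finprod_eq_one_of_forall_eq_one
      intro q
      rw [hll q]
      exact pow_zero _
  | quotient N p e =>
    intro _ h
    exact base_case s N h p e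
  | exact N₁ N₂ N₃ f g hf hg hfg ih₁ ih₃ =>
    intro _ h
    obtain ⟨i₁, h₁⟩ := exists_compat (A := A) (S := S) N₁ (by
      intro a ha n
      apply hf
      rw [map_smul, map_zero]
      exact kill h a ha (f n))
    obtain ⟨i₃, h₃⟩ := exists_compat (A := A) (S := S) N₃ (by
      intro a ha n
      obtain ⟨n, rfl⟩ := hg n
      rw [← map_smul, kill h a ha n, map_zero])
    obtain ⟨a₁, b₁⟩ := ih₁ h₁
    obtain ⟨a₃, b₃⟩ := ih₃ h₃
    have hadd : ∀ q : MaximalSpectrum S, ll q N₂ = ll q N₁ + ll q N₃ := fun q =>
      length_loc_add q.asIdeal f g hf hg hfg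
    refine ⟨fun q => ?_, ?_⟩
    · rw [hadd q]
      exact WithTop.add_ne_top.mpr ⟨a₁ q, a₃ q⟩
    have := finite_of_compat h
    rw [det_exact (toRes h₁ h f) (toRes h h₃ g) hf hg hfg (mulRes h₁ s) (mulRes h s) (mulRes h₃ s)
      (fun x => map_smul f s x) (fun x => map_smul g s x), b₁, b₃,
      ← finprod_mul_distrib (Set.toFinite _) (Set.toFinite _)]
    apply finprod_congr
    intro q
    rw [hadd q, ENat.toNat_add (a₁ q) (a₃ q), pow_add]

end Groth.Agent.CycA.DetRes
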