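import Mathlib.RingTheory.Length
import Mathlib.RingTheory.OrderOfVanishing.Basic

/-!
# Relative length of submodules

`relLen P Q` is the length of the image of `Q` in `N ⧸ P` (that is, of `(P + Q)/P = Q/(P ∩ Q)`).
-/

set_option autoImplicit false

namespace Groth.Agent.CycA.RelLen

universe u v w

variable {R : Type u} [CommRing R] {N : Type v} [AddCommGroup N] [Module R N]

/-- The length of `(P + Q)/P`. -/
noncomputable def relLen (P Q : Submodule R N) : ℕ∞ := Module.length R ↥(Q.map P.mkQ)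

theorem relLen_sup_left (P Q : Submodule R N) : relLen P (P ⊔ Q) = relLen P Q := by
  have : (P ⊔ Q).map P.mkQ = Q.map P.mkQ := by
    rw [Submodule.map_sup, Submodule.mkQ_map_self, bot_sup_eq]
  unfold relLen; rw [this]

theorem relLen_self (P : Submodule R N) : relLen P P = 0 := by
  unfold relLen
  rw [Submodule.mkQ_map_self]
  exact Module.length_eq_zero

theorem relLen_top (P : Submodule R N) : relLen P ⊤ = Module.length R (N ⧸ P) := by
  unfold relLen
  rw [Submodule.map_top, Submodule.range_mkQ, Module.length_top]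

theorem relLen_bot (Q : Submodule R N) : relLen ⊥ Q = Module.length R Q := by
  unfold relLen
  refine (LinearEquiv.length_eq ?_).symm
  refine LinearEquiv.ofBijective ((⊥ : Submodule R N).mkQ.submoduleMap Q) ⟨?_, ?_⟩
  · rw [← LinearMap.ker_eq_bot, LinearMap.ker_eq_bot']
    rintro ⟨x, hx⟩ h
    have : (⊥ : Submodule R N).mkQ x = 0 := congrArg Subtype.val h
    rw [Submodule.mkQ_apply, Submodule.Quotient.mk_eq_zero, Submodule.mem_bot] at this
    exact Subtype.ext this
  · exact LinearMap.submoduleMap_surjective _ _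

/-- The second isomorphism theorem for relative lengths. -/
theorem relLen_of_inf_le {P P' Q : Submodule R N} (h1 : P' ≤ P) (h2 : P ⊓ Q ≤ P') :
    relLen P' Q = relLen P Q := by
  unfold relLen
  refine LinearEquiv.length_eq ?_
  have hmap : ∀ x ∈ Q.map P'.mkQ, Submodule.factor h1 x ∈ Q.map P.mkQ := by
    rintro _ ⟨x, hx, rfl⟩
    exact ⟨x, hx, rfl⟩
  refine LinearEquiv.ofBijective ((Submodule.factor h1).restrict hmap) ⟨?_, ?_⟩
  · rw [← LinearMap.ker_eq_bot, LinearMap.ker_eq_bot']
    rintro ⟨_, ⟨x, hx, rfl⟩⟩ h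
    have : (P.mkQ x) = 0 := congrArg Subtype.val h
    rw [Submodule.mkQ_apply, Submodule.Quotient.mk_eq_zero] at this
    apply Subtype.ext
    change P'.mkQ x = 0
    rw [Submodule.mkQ_apply, Submodule.Quotient.mk_eq_zero]
    exact h2 ⟨this, hx⟩
  · rintro ⟨_, ⟨x, hx, rfl⟩⟩
    exact ⟨⟨P'.mkQ x, ⟨x, hx, rfl⟩⟩, rfl⟩

/-- Additivity in towers. -/
theorem relLen_add {P Q T : Submodule R N} (h1 : P ≤ Q) (h2 : Q ≤ T) :
    relLen P T = relLen P Q + relLen Q T := by
  unfold relLen
  have hmap : ∀ x ∈ T.map P.mkQ, Submodule.factor h1 x ∈ T.map Q.mkQ := by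
    rintro _ ⟨x, hx, rfl⟩
    exact ⟨x, hx, rfl⟩
  refine Module.length_eq_add_of_exact (Submodule.inclusion (Submodule.map_mono h2))
    ((Submodule.factor h1).restrict hmap) (Submodule.inclusion_injective _) ?_ ?_
  · rintro ⟨_, ⟨x, hx, rfl⟩⟩
    exact ⟨⟨P.mkQ x, ⟨x, hx, rfl⟩⟩, rfl⟩
  · rintro ⟨_, ⟨x, hx, rfl⟩⟩
    constructor
    · intro h
      have : (Q.mkQ x) = 0 := congrArg Subtype.val h
      rw [Submodule.mkQ_apply, Submodule.Quotient.mk_eq_zero] at this
      exact ⟨⟨P.mkQ x, ⟨x, this, rfl⟩⟩, rfl⟩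
    · rintro ⟨⟨_, ⟨y, hy, rfl⟩⟩, h⟩
      have h' : P.mkQ y = P.mkQ x := congrArg Subtype.val h
      rw [Submodule.mkQ_apply, Submodule.mkQ_apply, Submodule.Quotient.eq] at h'
      apply Subtype.ext
      change Q.mkQ x = 0
      rw [Submodule.mkQ_apply, Submodule.Quotient.mk_eq_zero]
      have := Q.sub_mem hy (h1 h')
      simpa using this

theorem relLen_span_singleton (P : Submodule R N) (e : N) (I : Ideal R)
    (hI : ∀ a, a ∈ I ↔ a • e ∈ P) :
    relLen P (P ⊔ Submodule.span R {e}) = Module.length R (R ⧸ I) := by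
  rw [relLen_sup_left]
  unfold relLen
  let g : R →ₗ[R] N ⧸ P := P.mkQ ∘ₗ LinearMap.toSpanSingleton R N e
  have hker : LinearMap.ker g = I := by
    ext a
    simp only [g, LinearMap.mem_ker, LinearMap.comp_apply, LinearMap.toSpanSingleton_apply,
      Submodule.mkQ_apply, Submodule.Quotient.mk_eq_zero]
    exact (hI a).symm
  have hrange : LinearMap.range g = (Submodule.span R {e}).map P.mkQ := by
    rw [LinearMap.range_comp, LinearMap.range_toSpanSingleton]
  rw [← hrange, ← hker]
  exact (LinearEquiv.length_eq g.quotKerEquivRange).symm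

/-- If `{a | a • e ∈ P} = q` then `(P + R e)/(P + R (r e))` has length `ord_{R/q}(r)`. -/
theorem relLen_smul (P : Submodule R N) (e : N) (q : Ideal R)
    (hI : ∀ a, a ∈ q ↔ a • e ∈ P) (r : R) :
    relLen (P ⊔ Submodule.span R {r • e}) (P ⊔ Submodule.span R {e}) =
      Ring.ord (R ⧸ q) (Ideal.Quotient.mk q r) := by
  have h1 : P ⊔ Submodule.span R {e} =
      (P ⊔ Submodule.span R {r • e}) ⊔ Submodule.span R {e} := by
    rw [sup_assoc]
    congr 1
    refine le_antisymm le_sup_right (sup_le ?_ le_rfl)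
    rw [Submodule.span_singleton_le_iff_mem]
    exact Submodule.smul_mem _ _ (Submodule.mem_span_singleton_self e)
  rw [h1, relLen_span_singleton _ e (q ⊔ Ideal.span {r})]
  · -- length_R (R / (q + r)) = length_{R/q} ((R/q)/(r))
    unfold Ring.ord
    have e1 : (R ⧸ (q ⊔ Ideal.span {r})) ≃+* ((R ⧸ q) ⧸ (Ideal.span {r}).map (Ideal.Quotient.mk q)) :=
      (DoubleQuot.quotQuotEquivQuotSup q (Ideal.span {r})).symm
    have e2 : (Ideal.span {r}).map (Ideal.Quotient.mk q) = Ideal.span {Ideal.Quotient.mk q r} := by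
      rw [Ideal.map_span, Set.image_singleton]
    rw [← e2]
    rw [← Module.length_eq_of_surjective (S := R) (R := R ⧸ q)
      (M := (R ⧸ q) ⧸ (Ideal.span {r}).map (Ideal.Quotient.mk q)) Ideal.Quotient.mk_surjective]
    refine LinearEquiv.length_eq ?_
    exact (DoubleQuot.quotQuotEquivQuotSupₐ R q (Ideal.span {r})).symm.toLinearEquiv
  · intro a
    rw [Submodule.mem_sup, Submodule.mem_sup]
    constructor
    · rintro ⟨y, hy, z, hz, rfl⟩
      rw [Ideal.mem_span_singleton'] at hz
      obtain ⟨b, rfl⟩ := hz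
      refine ⟨y • e, (hI y).1 hy, (b * r) • e, ?_, by rw [add_smul]⟩
      rw [mul_smul]
      exact Submodule.smul_mem _ _ (Submodule.mem_span_singleton_self _)
    · rintro ⟨y, hy, z, hz, h⟩
      obtain ⟨b, rfl⟩ := Submodule.mem_span_singleton.1 hz
      refine ⟨a - b * r, ?_, b * r, ?_, by ring⟩
      · rw [hI, sub_smul, ← h, mul_smul]
        simpa using hy
      · rw [Ideal.mem_span_singleton']
        exact ⟨b, rfl⟩

end Groth.Agent.CycA.RelLen
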