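import Groth.Prelude.Def_CycDet
import Groth.Agent.CycA.RelLen
import Mathlib.Logic.Equiv.Basic
import Mathlib.RingTheory.FiniteLength

/-!
# Tuples in modules over a local ring: spans of initial segments, admissibility, moves
-/

set_option autoImplicit false

namespace Groth.Agent.CycA.DetTuple

open CycDet IsLocalRing Groth.Agent.CycA.RelLen

universe u v

section span

variable {A : Type u} [CommRing A] {V : Type v} [AddCommGroup V] [Module A V] {l : ℕ}

theorem spanBefore_zero (e : Fin l → V) : spanBefore A V e 0 = ⊥ := by
  unfold spanBefore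
  simp

theorem spanBefore_mono (e : Fin l → V) {i j : ℕ} (h : i ≤ j) :
    spanBefore A V e i ≤ spanBefore A V e j :=
  Submodule.span_mono (Set.image_mono (fun k (hk : (k : ℕ) < i) => lt_of_lt_of_le hk h))

theorem mem_spanBefore_of_lt (e : Fin l → V) (j : Fin l) {i : ℕ} (h : (j : ℕ) < i) :
    e j ∈ spanBefore A V e i :=
  Submodule.subset_span ⟨j, h, rfl⟩

theorem spanBefore_succ (e : Fin l → V) (i : Fin l) :
    spanBefore A V e ((i : ℕ) + 1) = spanBefore A V e i ⊔ Submodule.span A {e i} := by
  unfold spanBefore
  rw [← Submodule.span_union]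
  congr 1
  ext x
  simp only [Set.mem_image, Set.mem_ofPred_eq, Set.mem_union, Set.mem_singleton_iff]
  constructor
  · rintro ⟨j, hj, rfl⟩
    rcases Nat.lt_succ_iff_lt_or_eq.1 hj with h | h
    · exact Or.inl ⟨j, h, rfl⟩
    · right
      rw [Fin.ext h]
  · rintro (⟨j, hj, rfl⟩ | rfl)
    · exact ⟨j, Nat.lt_succ_of_lt hj, rfl⟩
    · exact ⟨i, Nat.lt_succ_self _, rfl⟩

theorem spanBefore_last (e : Fin l → V) : spanBefore A V e l = Submodule.span A (Set.range e) := by
  unfold spanBefore
  congr 1
  ext x
  simp

theorem spanBefore_congr {e e' : Fin l → V} {i : ℕ} (h : ∀ j : Fin l, (j : ℕ) < i → e j = e' j) :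
    spanBefore A V e i = spanBefore A V e' i := by
  unfold spanBefore
  congr 1
  exact Set.image_congr (fun j hj => h j hj)

/-- If spans agree at `k` and entries agree from `k` on, then spans agree from `k` on. -/
theorem spanBefore_eq_of_ge {e e' : Fin l → V} {k : ℕ}
    (hk : spanBefore A V e k = spanBefore A V e' k) (h : ∀ j : Fin l, k ≤ (j : ℕ) → e j = e' j)
    {i : ℕ} (hi : k ≤ i) (hil : i ≤ l) : spanBefore A V e i = spanBefore A V e' i := by
  induction i, hi using Nat.le_induction with
  | base => exact hk
  | succ i hki ih =>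
    have hi' : i < l := hil
    have h1 := spanBefore_succ (A := A) e ⟨i, hi'⟩
    have h2 := spanBefore_succ (A := A) e' ⟨i, hi'⟩
    simp only at h1 h2
    rw [h1, h2, ih hi'.le, h ⟨i, hi'⟩ hki]

theorem spanBefore_update_of_le (e : Fin l → V) (a : Fin l) (v : V) {i : ℕ} (hi : i ≤ (a : ℕ)) :
    spanBefore A V (Function.update e a v) i = spanBefore A V e i := by
  refine spanBefore_congr (fun j hj => ?_)
  rw [Function.update_of_ne]
  rintro rfl
  omega

theorem spanBefore_update (e : Fin l → V) (a : Fin l) (v : V)
    (hv : spanBefore A V e a ⊔ Submodule.span A {v} =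
      spanBefore A V e a ⊔ Submodule.span A {e a}) {i : ℕ} (hil : i ≤ l) :
    spanBefore A V (Function.update e a v) i = spanBefore A V e i := by
  rcases le_or_gt i (a : ℕ) with hi | hi
  · exact spanBefore_update_of_le e a v hi
  · refine spanBefore_eq_of_ge (k := (a : ℕ) + 1) ?_ ?_ hi hil
    · rw [spanBefore_succ, spanBefore_succ, spanBefore_update_of_le e a v le_rfl,
        Function.update_self, hv]
    · intro j hj
      rw [Function.update_of_ne]
      rintro rfl
      omega

theorem spanBefore_swap_of_le (e : Fin l → V) {a b : Fin l} (hab : (b : ℕ) + 1 = (a : ℕ)) {i : ℕ}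
    (hi : i ≤ (b : ℕ)) :
    spanBefore A V (e ∘ Equiv.swap a b) i = spanBefore A V e i := by
  refine spanBefore_congr (fun j hj => ?_)
  have h1 : j ≠ a := by rintro rfl; omega
  have h2 : j ≠ b := by rintro rfl; omega
  rw [Function.comp_apply, Equiv.swap_apply_of_ne_of_ne h1 h2]

theorem spanBefore_swap_mid (e : Fin l → V) {a b : Fin l} (hab : (b : ℕ) + 1 = (a : ℕ)) :
    spanBefore A V (e ∘ Equiv.swap a b) a =
      spanBefore A V e b ⊔ Submodule.span A {e a} := by
  have := spanBefore_succ (A := A) (e ∘ Equiv.swap a b) b
  rw [hab] at this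
  rw [this, spanBefore_swap_of_le e hab le_rfl, Function.comp_apply, Equiv.swap_apply_right]

theorem spanBefore_swap_of_ge (e : Fin l → V) {a b : Fin l} (hab : (b : ℕ) + 1 = (a : ℕ)) {i : ℕ}
    (hi : (a : ℕ) + 1 ≤ i) (hil : i ≤ l) :
    spanBefore A V (e ∘ Equiv.swap a b) i = spanBefore A V e i := by
  refine spanBefore_eq_of_ge (k := (a : ℕ) + 1) ?_ ?_ hi hil
  · rw [spanBefore_succ, spanBefore_succ, spanBefore_swap_mid e hab, Function.comp_apply,
      Equiv.swap_apply_left]
    have := spanBefore_succ (A := A) e b
    rw [hab] at this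
    rw [this, sup_assoc, sup_assoc, sup_comm (Submodule.span A {e a})]
  · intro j hj
    have h1 : j ≠ a := by rintro rfl; omega
    have h2 : j ≠ b := by rintro rfl; omega
    rw [Function.comp_apply, Equiv.swap_apply_of_ne_of_ne h1 h2]

theorem spanBefore_swap (e : Fin l → V) {a b : Fin l} (hab : (b : ℕ) + 1 = (a : ℕ)) {i : ℕ}
    (hi : i ≠ (a : ℕ)) (hil : i ≤ l) :
    spanBefore A V (e ∘ Equiv.swap a b) i = spanBefore A V e i := by
  rcases lt_or_gt_of_ne hi with h | h
  · exact spanBefore_swap_of_le e hab (by omega)
  · exact spanBefore_swap_of_ge e hab h hil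

end span

section local_

variable {A : Type u} [CommRing A] [IsLocalRing A] {V : Type v} [AddCommGroup V] [Module A V]
  {l : ℕ}

/-- Admissible tuples, generating, with all steps non-trivial. -/
structure Good (e : Fin l → V) : Prop where
  adm : IsAdmissible A V e
  gen : spanBefore A V e l = ⊤
  nt : ∀ i : Fin l, e i ∉ spanBefore A V e i

theorem Good.smul_mem_iff {e : Fin l → V} (h : Good (A := A) e) (i : Fin l) (t : A) :
    t ∈ maximalIdeal A ↔ t • e i ∈ spanBefore A V e i := by
  constructor
  · exact fun ht => h.adm i t ht
  · intro ht hu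
    obtain ⟨u, rfl⟩ := hu
    apply h.nt i
    have := (spanBefore A V e i).smul_mem ((u⁻¹ : Aˣ) : A) ht
    rwa [smul_smul, Units.inv_mul, one_smul] at this

/-- The length is the number of entries of a good tuple. -/
theorem Good.length_eq {e : Fin l → V} (h : Good (A := A) e) : Module.length A V = l := by
  have key : ∀ i : ℕ, i ≤ l → relLen ⊥ (spanBefore A V e i) = i := by
    intro i
    induction i with
    | zero =>
      intro _
      rw [spanBefore_zero, relLen_self]
      rfl
    | succ i ih =>
      intro hi
      have hi' : i < l := hi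
      have h1 := spanBefore_succ (A := A) e ⟨i, hi'⟩
      simp only at h1
      rw [relLen_add (bot_le : ⊥ ≤ spanBefore A V e i) (spanBefore_mono e (Nat.le_succ i)),
        ih hi'.le, Nat.succ_eq_add_one, h1,
        relLen_span_singleton _ _ (maximalIdeal A) (h.smul_mem_iff ⟨i, hi'⟩)]
      have : Module.length A (A ⧸ maximalIdeal A) = 1 := by
        rw [Module.length_eq_one_iff]
        exact (isSimpleModule_iff_isCoatom).2 (Ideal.isMaximal_def.1 inferInstance)
      rw [this]
      push_cast
      rfl
  have := key l le_rfl
  rw [h.gen, relLen_top] at this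
  rw [← this]
  exact LinearEquiv.length_eq (Submodule.quotEquivOfEqBot ⊥ rfl).symm

theorem isUnit_of_notMem_maximalIdeal {t : A} (h : t ∉ maximalIdeal A) : IsUnit t := by
  by_contra h'
  exact h h'

/-- Replacing an entry by a unit multiple plus an element of the span of the earlier ones. -/
theorem Good.update {e : Fin l → V} (h : Good (A := A) e) (a : Fin l) (v : V) (c : Aˣ)
    (hc : e a - (c : A) • v ∈ spanBefore A V e a) :
    Good (A := A) (Function.update e a v) ∧
      ∀ i : ℕ, i ≤ l → spanBefore A V (Function.update e a v) i = spanBefore A V e i := by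
  have hmem : ∀ t : A, t • v ∈ spanBefore A V e a ↔ t • e a ∈ spanBefore A V e a := by
    intro t
    constructor
    · intro ht
      have h1 := (spanBefore A V e a).smul_mem t hc
      have h2 := (spanBefore A V e a).smul_mem (c : A) ht
      rw [smul_sub, smul_smul, mul_comm, ← smul_smul] at h1
      have := (spanBefore A V e a).add_mem h1 h2
      simpa using this
    · intro ht
      have h1 := (spanBefore A V e a).smul_mem t hc
      have h2 := (spanBefore A V e a).sub_mem ht h1
      rw [smul_sub, sub_sub_cancel, smul_smul, mul_comm, ← smul_smul] at h2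
      have h3 := (spanBefore A V e a).smul_mem ((c⁻¹ : Aˣ) : A) h2
      rwa [smul_smul, Units.inv_mul, one_smul] at h3
  have hspan : spanBefore A V e a ⊔ Submodule.span A {v} =
      spanBefore A V e a ⊔ Submodule.span A {e a} := by
    apply le_antisymm
    · refine sup_le le_sup_left ?_
      rw [Submodule.span_singleton_le_iff_mem]
      have h1 : (c : A) • v ∈ spanBefore A V e a ⊔ Submodule.span A {e a} := by
        have := (spanBefore A V e a ⊔ Submodule.span A {e a}).sub_mem
          (Submodule.mem_sup_right (Submodule.mem_span_singleton_self (e a)))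
          (Submodule.mem_sup_left hc)
        simpa using this
      have h3 := (spanBefore A V e a ⊔ Submodule.span A {e a}).smul_mem ((c⁻¹ : Aˣ) : A) h1
      rwa [smul_smul, Units.inv_mul, one_smul] at h3
    · refine sup_le le_sup_left ?_
      rw [Submodule.span_singleton_le_iff_mem]
      have := (spanBefore A V e a ⊔ Submodule.span A {v}).add_mem
        (Submodule.mem_sup_left hc)
        ((spanBefore A V e a ⊔ Submodule.span A {v}).smul_mem (c : A)
          (Submodule.mem_sup_right (Submodule.mem_span_singleton_self v)))
      simpa using this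
  have hs : ∀ i : ℕ, i ≤ l →
      spanBefore A V (Function.update e a v) i = spanBefore A V e i :=
    fun i hi => spanBefore_update e a v hspan hi
  refine ⟨⟨?_, ?_, ?_⟩, hs⟩
  · intro i r hr
    rw [hs i i.2.le]
    by_cases hia : i = a
    · subst hia
      rw [Function.update_self, hmem]
      exact h.adm i r hr
    · rw [Function.update_of_ne hia]
      exact h.adm i r hr
  · rw [hs l le_rfl, h.gen]
  · intro i
    rw [hs i i.2.le]
    by_cases hia : i = a
    · subst hia
      rw [Function.update_self]
      have := hmem 1
      rw [one_smul, one_smul] at this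
      rw [this]
      exact h.nt i
    · rw [Function.update_of_ne hia]
      exact h.nt i

/-- Swapping two adjacent entries. -/
theorem Good.swap {e : Fin l → V} (h : Good (A := A) e) {a b : Fin l}
    (hab : (b : ℕ) + 1 = (a : ℕ)) (ha : ∀ t ∈ maximalIdeal A, t • e a ∈ spanBefore A V e b) :
    Good (A := A) (e ∘ Equiv.swap a b) := by
  have hb1 : spanBefore A V e a = spanBefore A V e b ⊔ Submodule.span A {e b} := by
    rw [← hab, spanBefore_succ]
  have hne : a ≠ b := by rintro rfl; omega
  refine ⟨?_, ?_, ?_⟩
  · intro i r hr
    by_cases hia : i = a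
    · subst hia
      rw [spanBefore_swap_mid e hab, Function.comp_apply, Equiv.swap_apply_left]
      exact Submodule.mem_sup_left (h.adm b r hr)
    · rw [spanBefore_swap e hab (fun h' => hia (Fin.ext h')) i.2.le]
      by_cases hib : i = b
      · subst hib
        rw [Function.comp_apply, Equiv.swap_apply_right]
        exact ha r hr
      · rw [Function.comp_apply, Equiv.swap_apply_of_ne_of_ne hia hib]
        exact h.adm i r hr
  · rw [spanBefore_swap e hab (by omega) le_rfl, h.gen]
  · intro i
    by_cases hia : i = a
    · subst hia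
      rw [spanBefore_swap_mid e hab, Function.comp_apply, Equiv.swap_apply_left]
      intro hmem
      obtain ⟨w, hw, z, hz, hwz⟩ := Submodule.mem_sup.1 hmem
      obtain ⟨c, rfl⟩ := Submodule.mem_span_singleton.1 hz
      -- `c • e i` lies in the span before `i`, so `c` is in the maximal ideal
      have h1 : c • e i ∈ spanBefore A V e i := by
        have h2 : c • e i = e b - w := by rw [← hwz]; abel
        rw [h2, hb1]
        exact Submodule.sub_mem _
          (Submodule.mem_sup_right (Submodule.mem_span_singleton_self _))
          (Submodule.mem_sup_left hw)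
      have h3 := ha c ((h.smul_mem_iff i c).2 h1)
      apply h.nt b
      rw [← hwz]
      exact Submodule.add_mem _ hw h3
    · rw [spanBefore_swap e hab (fun h' => hia (Fin.ext h')) i.2.le]
      by_cases hib : i = b
      · subst hib
        rw [Function.comp_apply, Equiv.swap_apply_right]
        intro hmem
        exact h.nt a (spanBefore_mono e (by omega) hmem)
      · rw [Function.comp_apply, Equiv.swap_apply_of_ne_of_ne hia hib]
        exact h.nt i

end local_

end Groth.Agent.CycA.DetTuple
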