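import Mathlib.RingTheory.Flat.Stability
import Mathlib.RingTheory.Flat.Basic
import Mathlib.LinearAlgebra.TensorProduct.Tower
import Mathlib.RingTheory.IsTensorProduct

/-!
# Flatness of `B ⊗_{A₂} N` over `A₁` when `B` is flat over `A₁ ⊗_K A₂`
-/

universe u

open TensorProduct

namespace Groth.Agent.CycA.FlatTensor

/-- `B ⊗_R Y` is `A`-flat if `B` is `R`-flat and `Y` is an `R`-module which is `A`-flat. -/
theorem flat_tensor (A R B Y : Type u) [CommRing A] [CommRing R] [CommRing B] [Algebra A R]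
    [Algebra R B] [Algebra A B] [IsScalarTower A R B] [Module.Flat R B] [AddCommGroup Y]
    [Module R Y] [Module A Y] [IsScalarTower A R Y] [Module.Flat A Y] :
    Module.Flat A (B ⊗[R] Y) := by
  rw [Module.Flat.iff_lTensor_preserves_injective_linearMap]
  intro M M' _ _ _ _ f hf
  have h1 : Function.Injective (AlgebraTensorModule.lTensor R Y f) :=
    Module.Flat.lTensor_preserves_injective_linearMap f hf
  have h2 : Function.Injective (LinearMap.lTensor B (AlgebraTensorModule.lTensor R Y f)) :=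
    Module.Flat.lTensor_preserves_injective_linearMap _ h1
  have hcomm : (AlgebraTensorModule.assoc A R B B Y M').toLinearMap ∘ₗ
      (AlgebraTensorModule.lTensor B (B ⊗[R] Y) f) =
      (AlgebraTensorModule.lTensor B B (AlgebraTensorModule.lTensor R Y f)) ∘ₗ
      (AlgebraTensorModule.assoc A R B B Y M).toLinearMap := by
    ext y m
    simp
  have h3 : ∀ x, AlgebraTensorModule.assoc A R B B Y M' (LinearMap.lTensor (B ⊗[R] Y) f x) =
      LinearMap.lTensor B (AlgebraTensorModule.lTensor R Y f)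
        (AlgebraTensorModule.assoc A R B B Y M x) := fun x => LinearMap.congr_fun hcomm x
  intro x y hxy
  apply (AlgebraTensorModule.assoc A R B B Y M).injective
  apply h2
  rw [← h3, ← h3, hxy]

/-- If `R = A₁ ⊗_K A₂` (pushout), `B` is `R`-flat and `N` is an `A₂`-module flat over `K`
(e.g. `K` a field) then `B ⊗_{A₂} N` is flat over `A₁`. -/
theorem flat_of_pushout (K A₁ A₂ R B N : Type u) [CommRing K] [CommRing A₁] [CommRing A₂]
    [CommRing R] [CommRing B] [Algebra K A₁] [Algebra K A₂] [Algebra K R] [Algebra A₁ R]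
    [Algebra A₂ R] [IsScalarTower K A₁ R] [IsScalarTower K A₂ R] [Algebra.IsPushout K A₁ A₂ R]
    [Algebra R B] [Algebra A₁ B] [Algebra A₂ B] [IsScalarTower A₁ R B] [IsScalarTower A₂ R B]
    [Module.Flat R B] [AddCommGroup N] [Module A₂ N] [Module K N] [IsScalarTower K A₂ N]
    [Module.Flat K N] : Module.Flat A₁ (B ⊗[A₂] N) := by
  have h1 : Module.Flat A₁ (R ⊗[A₂] N) :=
    Module.Flat.of_linearEquiv (Algebra.IsPushout.cancelBaseChange K A₁ A₂ R N)
  have h2 : Module.Flat A₁ (B ⊗[R] (R ⊗[A₂] N)) := flat_tensor A₁ R B (R ⊗[A₂] N)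
  have e : B ⊗[R] (R ⊗[A₂] N) ≃ₗ[B] B ⊗[A₂] N :=
    AlgebraTensorModule.cancelBaseChange A₂ R B B N
  exact Module.Flat.of_linearEquiv (e.restrictScalars A₁).symm

end Groth.Agent.CycA.FlatTensor
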