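import Groth.Agent.CycA.TorRestr
import Mathlib.LinearAlgebra.DirectSum.Finsupp

/-!
# Reduction to the diagonal (pure algebra)

Rings `A₁, A₂ → B → C` with `A₁ → C`, `A₂ → C` flat (in practice bijective); for an `A₁`-module `M`
and an `A₂`-module `N`:
`Tor^C_n(C ⊗_{A₂} N, C ⊗_{A₁} M) ≅ Tor^B_n(C, (B ⊗_{A₂} N) ⊗_{A₁} M)`
as soon as `B` is `A₂`-flat and `B ⊗_{A₂} N` is `A₁`-flat.
-/

universe u v w

open TensorProduct

namespace Groth.Agent.CycA.TorDiag

open Groth.Agent.CycA.TorBasic Groth.Agent.CycA.TorShift Groth.Agent.CycA.TorFin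
  Groth.Agent.CycA.TorRestr

section Acyclic

variable {A : Type u} [CommRing A]
variable {K P M N : Type u} [AddCommGroup K] [Module A K] [AddCommGroup P] [Module A P]
  [AddCommGroup M] [Module A M] [AddCommGroup N] [Module A N]

/-- Dimension shifting in the first variable with acyclic middle term. -/
theorem shiftL_acyclic (f : K →ₗ[A] P) (g : P →ₗ[A] M) (hf : Function.Injective f)
    (h : Function.Exact f g) (hg : Function.Surjective g)
    (hP : ∀ n, Subsingleton (DRing.Tor A (n + 1) P N)) (n : ℕ) :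
    Nonempty (DRing.Tor A (n + 2) M N ≃ₗ[A] DRing.Tor A (n + 1) K N) := by
  obtain ⟨δ, h1, h2, h3⟩ := exists_les f g hf h hg N
  have s1 := hP n
  have s2 := hP (n + 1)
  refine ⟨LinearEquiv.ofBijective (δ (n + 1)) ⟨?_, ?_⟩⟩
  · rw [injective_iff_map_eq_zero]
    intro x hx
    obtain ⟨y, rfl⟩ := (h2 (n + 1) x).1 hx
    rw [Subsingleton.elim y 0, map_zero]
  · intro x
    exact (h3 (n + 1) x).1 (Subsingleton.elim _ _)

/-- `Tor_1` in terms of an acyclic presentation of the first variable. -/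
theorem shiftL_one_acyclic (f : K →ₗ[A] P) (g : P →ₗ[A] M) (hf : Function.Injective f)
    (h : Function.Exact f g) (hg : Function.Surjective g)
    (hP : Subsingleton (DRing.Tor A 1 P N)) :
    Nonempty (DRing.Tor A 1 M N ≃ₗ[A] LinearMap.ker (LinearMap.rTensor N f)) := by
  obtain ⟨δ, h1, h2, h3⟩ := exists_les f g hf h hg N
  have hinj : Function.Injective (δ 0) := by
    rw [injective_iff_map_eq_zero]
    intro x hx
    obtain ⟨y, rfl⟩ := (h2 0 x).1 hx
    rw [Subsingleton.elim y 0, map_zero]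
  let φ : DRing.Tor A 1 M N →ₗ[A] K ⊗[A] N := (zeroEquiv A K N).toLinearMap ∘ₗ (δ 0)
  have hφ : Function.Injective φ := (zeroEquiv A K N).injective.comp hinj
  have hr : LinearMap.range φ = LinearMap.ker (LinearMap.rTensor N f) := by
    ext x
    constructor
    · rintro ⟨y, rfl⟩
      show LinearMap.rTensor N f (zeroEquiv A K N (δ 0 y)) = 0
      rw [← zeroEquiv_mapL, (h3 0).apply_apply_eq_zero, map_zero]
    · intro hx
      have : mapL f 0 N ((zeroEquiv A K N).symm x) = 0 := by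
        apply (zeroEquiv A P N).injective
        rw [zeroEquiv_mapL, LinearEquiv.apply_symm_apply, map_zero]
        exact hx
      obtain ⟨y, hy⟩ := (h3 0 _).1 this
      exact ⟨y, by show zeroEquiv A K N (δ 0 y) = x; rw [hy, LinearEquiv.apply_symm_apply]⟩
  exact ⟨(LinearEquiv.ofInjective φ hφ).trans (LinearEquiv.ofEq _ _ hr)⟩

/-- Dimension shifting in the second variable with acyclic middle term. -/
theorem shiftR_acyclic (f : K →ₗ[A] P) (g : P →ₗ[A] N) (hf : Function.Injective f)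
    (h : Function.Exact f g) (hg : Function.Surjective g)
    (hP : ∀ n, Subsingleton (DRing.Tor A (n + 1) M P)) (n : ℕ) :
    Nonempty (DRing.Tor A (n + 2) M N ≃ₗ[A] DRing.Tor A (n + 1) M K) := by
  obtain ⟨e1⟩ := comm (A := A) (n + 2) M N
  obtain ⟨e2⟩ := comm (A := A) (n + 1) M K
  obtain ⟨e3⟩ := shiftL_acyclic (N := M) f g hf h hg (fun n => by
    obtain ⟨e⟩ := comm (A := A) (n + 1) P M
    have := hP n
    exact e.toEquiv.subsingleton) n
  exact ⟨e1.trans (e3.trans e2.symm)⟩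

/-- `Tor_1` in terms of an acyclic presentation of the second variable. -/
theorem shiftR_one_acyclic (f : K →ₗ[A] P) (g : P →ₗ[A] N) (hf : Function.Injective f)
    (h : Function.Exact f g) (hg : Function.Surjective g)
    (hP : Subsingleton (DRing.Tor A 1 M P)) :
    Nonempty (DRing.Tor A 1 M N ≃ₗ[A] LinearMap.ker (LinearMap.lTensor M f)) := by
  obtain ⟨e1⟩ := comm (A := A) 1 M N
  obtain ⟨e3⟩ := shiftL_one_acyclic (N := M) f g hf h hg (by
    obtain ⟨e⟩ := comm (A := A) 1 P M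
    exact e.toEquiv.subsingleton)
  obtain ⟨e4⟩ := ker_lTensor_equiv_ker_rTensor f M
  exact ⟨e1.trans (e3.trans e4.symm)⟩

end Acyclic

section Diag

variable (A₁ A₂ B C : Type u) [CommRing A₁] [CommRing A₂] [CommRing B] [CommRing C]
  [Algebra A₁ B] [Algebra A₂ B] [Algebra B C] [Algebra A₁ C] [Algebra A₂ C]
  (L : Type u) [AddCommGroup L] [Module A₁ L] [Module A₂ L] [Module B L] [Module C L]
  [IsScalarTower A₁ B C] [IsScalarTower A₂ B C]
  [IsScalarTower A₁ B L] [IsScalarTower A₂ B L] [IsScalarTower B C L]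
  [IsScalarTower A₁ C L] [IsScalarTower A₂ C L] [SMulCommClass A₂ A₁ L]
  (N : Type u) [AddCommGroup N] [Module A₂ N]

/-- The functor `M ↦ (B ⊗_{A₂} N) ⊗_{A₁} M`. -/
def E (M : Type u) [AddCommGroup M] [Module A₁ M] : Type u := (B ⊗[A₂] N) ⊗[A₁] M

noncomputable instance (M : Type u) [AddCommGroup M] [Module A₁ M] :
    AddCommGroup (E A₁ A₂ B N M) := inferInstanceAs (AddCommGroup ((B ⊗[A₂] N) ⊗[A₁] M))

noncomputable instance (M : Type u) [AddCommGroup M] [Module A₁ M] :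
    Module B (E A₁ A₂ B N M) := inferInstanceAs (Module B ((B ⊗[A₂] N) ⊗[A₁] M))

/-- Functoriality of `E`. -/
noncomputable def Emap {M M' : Type u} [AddCommGroup M] [Module A₁ M] [AddCommGroup M']
    [Module A₁ M'] (f : M →ₗ[A₁] M') : E A₁ A₂ B N M →ₗ[B] E A₁ A₂ B N M' :=
  AlgebraTensorModule.lTensor B (B ⊗[A₂] N) f

/-- The comparison in degree zero. -/
noncomputable def Phi (M : Type u) [AddCommGroup M] [Module A₁ M] :
    (L ⊗[A₂] N) ⊗[C] (C ⊗[A₁] M) ≃ₗ[C] L ⊗[B] (E A₁ A₂ B N M) :=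
  (AlgebraTensorModule.cancelBaseChange A₁ C C (L ⊗[A₂] N) M).trans
    ((AlgebraTensorModule.congr (AlgebraTensorModule.cancelBaseChange A₂ B C L N).symm
      (LinearEquiv.refl A₁ M)).trans
      (AlgebraTensorModule.assoc A₁ B C L (B ⊗[A₂] N) M))

lemma Phi_natural {M M' : Type u} [AddCommGroup M] [Module A₁ M] [AddCommGroup M']
    [Module A₁ M'] (f : M →ₗ[A₁] M') (x : (L ⊗[A₂] N) ⊗[C] (C ⊗[A₁] M)) :
    Phi A₁ A₂ B C L N M' (LinearMap.lTensor (L ⊗[A₂] N) (f.baseChange C) x) =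
      AlgebraTensorModule.lTensor C L (Emap A₁ A₂ B N f) (Phi A₁ A₂ B C L N M x) := by
  have : (Phi A₁ A₂ B C L N M').toLinearMap ∘ₗ
      (LinearMap.lTensor (L ⊗[A₂] N) (f.baseChange C)) =
      (AlgebraTensorModule.lTensor C L (Emap A₁ A₂ B N f)) ∘ₗ
        (Phi A₁ A₂ B C L N M).toLinearMap := by
    ext l n m
    simp [Phi, Emap]
    rfl
  exact LinearMap.congr_fun this x

lemma Emap_exact [Module.Flat A₁ (B ⊗[A₂] N)] {M₁ M₂ M₃ : Type u} [AddCommGroup M₁]
    [Module A₁ M₁] [AddCommGroup M₂] [Module A₁ M₂] [AddCommGroup M₃] [Module A₁ M₃]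
    {f : M₁ →ₗ[A₁] M₂} {g : M₂ →ₗ[A₁] M₃}
    (h : Function.Exact f g) : Function.Exact (Emap A₁ A₂ B N f) (Emap A₁ A₂ B N g) :=
  Module.Flat.lTensor_exact (B ⊗[A₂] N) h

lemma Emap_injective [Module.Flat A₁ (B ⊗[A₂] N)] {M₁ M₂ : Type u} [AddCommGroup M₁]
    [Module A₁ M₁] [AddCommGroup M₂] [Module A₁ M₂]
    {f : M₁ →ₗ[A₁] M₂} (h : Function.Injective f) : Function.Injective (Emap A₁ A₂ B N f) :=
  Module.Flat.lTensor_preserves_injective_linearMap f h

lemma Emap_surjective {M₁ M₂ : Type u} [AddCommGroup M₁]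
    [Module A₁ M₁] [AddCommGroup M₂] [Module A₁ M₂]
    {f : M₁ →ₗ[A₁] M₂} (h : Function.Surjective f) : Function.Surjective (Emap A₁ A₂ B N f) :=
  LinearMap.lTensor_surjective (B ⊗[A₂] N) h

omit [Module A₁ L] [IsScalarTower A₁ B L] [SMulCommClass A₂ A₁ L] in
/-- `E` of a free module is acyclic. -/
lemma acyclic_free [Module.Flat A₂ B] [Module.Flat A₂ L] (P : Type u) [AddCommGroup P]
    [Module A₁ P] [Module.Free A₁ P] (n : ℕ) :
    Subsingleton (DRing.Tor B (n + 1) L (E A₁ A₂ B N P)) := by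
  classical
  let ι := Module.Free.ChooseBasisIndex A₁ P
  let b : P ≃ₗ[A₁] (ι →₀ A₁) := (Module.Free.chooseBasis A₁ P).repr
  let e : E A₁ A₂ B N P ≃ₗ[B] B ⊗[A₂] (ι →₀ N) :=
    (AlgebraTensorModule.congr (LinearEquiv.refl B (B ⊗[A₂] N)) b).trans
      ((TensorProduct.finsuppScalarRight A₁ B (B ⊗[A₂] N) ι).trans
        (TensorProduct.finsuppRight A₂ B B N ι).symm)
  have h := subsingleton_of_flat (A := A₂) B L n (ι →₀ N)
  exact (congrR (n + 1) L e).toEquiv.subsingleton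

omit [IsScalarTower A₁ B C] [IsScalarTower A₂ B C] in
lemma semi_zero (M : Type u) [AddCommGroup M] [Module A₁ M] :
    Semi B C ((L ⊗[A₂] N) ⊗[C] (C ⊗[A₁] M)) (L ⊗[B] (E A₁ A₂ B N M)) :=
  ⟨(Phi A₁ A₂ B C L N M).toAddEquiv, fun b x => by
    show Phi A₁ A₂ B C L N M (algebraMap B C b • x) = b • Phi A₁ A₂ B C L N M x
    rw [map_smul, algebraMap_smul]⟩

lemma semi_ker {K P : Type u} [AddCommGroup K] [Module A₁ K] [AddCommGroup P]
    [Module A₁ P] (f : K →ₗ[A₁] P) :
    Semi B C (LinearMap.ker (LinearMap.lTensor (L ⊗[A₂] N) (f.baseChange C)))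
      (LinearMap.ker (LinearMap.lTensor L (Emap A₁ A₂ B N f))) := by
  let e := Phi A₁ A₂ B C L N K
  let e' := Phi A₁ A₂ B C L N P
  have hnat : ∀ x, e' (LinearMap.lTensor (L ⊗[A₂] N) (f.baseChange C) x) =
      LinearMap.lTensor L (Emap A₁ A₂ B N f) (e x) := Phi_natural A₁ A₂ B C L N f
  refine ⟨{ toFun := fun x => ⟨e x.1, ?_⟩
            invFun := fun y => ⟨e.symm y.1, ?_⟩
            left_inv := ?_
            right_inv := ?_
            map_add' := ?_ }, ?_⟩
  · rw [LinearMap.mem_ker, ← hnat, LinearMap.mem_ker.1 x.2, map_zero]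
  · rw [LinearMap.mem_ker]
    apply e'.injective
    rw [hnat, LinearEquiv.apply_symm_apply, LinearMap.mem_ker.1 y.2, map_zero]
  · intro x
    ext
    simp
  · intro x
    ext
    simp
  · intro x y
    ext
    simp
  · intro a x
    ext
    show e (algebraMap B C a • x.1) = a • e x.1
    rw [map_smul, algebraMap_smul]

/-- Reduction to the diagonal. -/
theorem diag [Module.Flat A₁ (B ⊗[A₂] N)] [Module.Flat A₂ B] [Module.Flat A₂ L]
    [Module.Flat A₁ C] (n : ℕ) : ∀ (M : Type u) [AddCommGroup M] [Module A₁ M],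
    Semi B C (DRing.Tor C n (L ⊗[A₂] N) (C ⊗[A₁] M)) (DRing.Tor B n L (E A₁ A₂ B N M)) := by
  induction n with
  | zero =>
    intro M _ _
    exact (semi_zero A₁ A₂ B C L N M).congr (zeroEquiv C _ _) (zeroEquiv B _ _).symm
  | succ n ih =>
    intro M _ _
    obtain ⟨K, P, _, _, _, _, f, g, _, hf, h, hg⟩ := exists_free_cover (A := A₁) M
    have hac : ∀ n, Subsingleton (DRing.Tor B (n + 1) L (E A₁ A₂ B N P)) :=
      acyclic_free A₁ A₂ B L N P
    cases n with
    | zero =>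
      obtain ⟨e1⟩ := shiftR_one (f.baseChange C) (g.baseChange C)
        (baseChange_injective C hf) (baseChange_exact C h) (baseChange_surjective C hg)
        (L ⊗[A₂] N)
      obtain ⟨e2⟩ := shiftR_one_acyclic (M := L) (Emap A₁ A₂ B N f) (Emap A₁ A₂ B N g)
        (Emap_injective A₁ A₂ B N hf) (Emap_exact A₁ A₂ B N h) (Emap_surjective A₁ A₂ B N hg)
        (hac 0)
      exact (semi_ker A₁ A₂ B C L N f).congr e1 e2.symm
    | succ n =>
      obtain ⟨e1⟩ := shiftR (f.baseChange C) (g.baseChange C)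
        (baseChange_injective C hf) (baseChange_exact C h) (baseChange_surjective C hg) n
        (L ⊗[A₂] N)
      obtain ⟨e2⟩ := shiftR_acyclic (M := L) (Emap A₁ A₂ B N f) (Emap A₁ A₂ B N g)
        (Emap_injective A₁ A₂ B N hf) (Emap_exact A₁ A₂ B N h) (Emap_surjective A₁ A₂ B N hg)
        hac n
      exact (ih K).congr e1 e2.symm

/-- Lengths in the reduction to the diagonal. -/
theorem length_diag [Module.Flat A₁ (B ⊗[A₂] N)] [Module.Flat A₂ B] [Module.Flat A₂ L]
    [Module.Flat A₁ C] (hC : Function.Surjective (algebraMap B C)) (n : ℕ)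
    (M : Type u) [AddCommGroup M] [Module A₁ M] :
    Module.length C (DRing.Tor C n (L ⊗[A₂] N) (C ⊗[A₁] M)) =
      Module.length B (DRing.Tor B n L (E A₁ A₂ B N M)) := by
  refine (diag A₁ A₂ B C L N n M).length_eq fun c => ?_
  obtain ⟨b, rfl⟩ := hC c
  exact ⟨b, fun x => rfl⟩

end Diag

end Groth.Agent.CycA.TorDiag
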