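import Groth.Prelude.Def_IntMult
import Groth.Agent.CycA.TorDiag
import Groth.Agent.CycA.FlatTensor
import Groth.Agent.CycA.IntCore
import Mathlib.RingTheory.RingHom.Flat
import Mathlib.LinearAlgebra.TensorProduct.Quotient

/-!
# Reduction to the diagonal: the algebraic statement

`K` a field, `A₁, A₂` two `K`-algebras, `φ : A₁ ⊗[K] A₂ → B` flat (a localization), `B → C` a map such
that `A₁ → C`, `A₂ → C` are isomorphisms (all three are the local ring of `X` at `x`, and `B` is the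
local ring of `X × X` at the point `Δ(x)` of the diagonal).
-/

universe u

open TensorProduct

namespace Groth.Agent.CycA.DiagAlg

open Groth.Agent.CycA.TorBasic Groth.Agent.CycA.TorDiag Groth.Agent.CycA.IntCore

section

variable (K A₁ A₂ B C : Type u) [Field K] [CommRing A₁] [CommRing A₂] [CommRing B] [CommRing C]
  [Algebra K A₁] [Algebra K A₂] [Algebra A₁ B] [Algebra A₂ B] [Algebra B C] [Algebra A₁ C]
  [Algebra A₂ C] [IsScalarTower A₁ B C] [IsScalarTower A₂ B C]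
  (φ : A₁ ⊗[K] A₂ →+* B) (hφ : ∀ a b, φ (a ⊗ₜ b) = algebraMap A₁ B a * algebraMap A₂ B b)
  (hflat : φ.Flat)

include hφ hflat

theorem flat_tensor_right (N : Type u) [AddCommGroup N] [Module A₂ N] :
    Module.Flat A₁ (B ⊗[A₂] N) := by
  let _ : Algebra A₂ (A₁ ⊗[K] A₂) := Algebra.TensorProduct.rightAlgebra
  let _ : Algebra (A₁ ⊗[K] A₂) B := φ.toAlgebra
  have h1 : IsScalarTower A₁ (A₁ ⊗[K] A₂) B := IsScalarTower.of_algebraMap_eq fun a => by
    have := hφ a 1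
    rw [map_one, mul_one] at this
    exact this.symm
  have h2 : IsScalarTower A₂ (A₁ ⊗[K] A₂) B := IsScalarTower.of_algebraMap_eq fun a => by
    have := hφ 1 a
    rw [map_one, one_mul] at this
    exact this.symm
  have h3 : Module.Flat (A₁ ⊗[K] A₂) B := hflat
  let _ : Module K N := Module.compHom N (algebraMap K A₂)
  have h4 : IsScalarTower K A₂ N := ⟨fun k a n => by
    show (k • a) • n = (algebraMap K A₂ k) • (a • n)
    rw [Algebra.smul_def, mul_smul]⟩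
  exact FlatTensor.flat_of_pushout K A₁ A₂ (A₁ ⊗[K] A₂) B N

theorem flat_right : Module.Flat A₂ B := by
  let _ : Algebra A₂ (A₁ ⊗[K] A₂) := Algebra.TensorProduct.rightAlgebra
  let _ : Algebra (A₁ ⊗[K] A₂) B := φ.toAlgebra
  have h2 : IsScalarTower A₂ (A₁ ⊗[K] A₂) B := IsScalarTower.of_algebraMap_eq fun a => by
    have := hφ 1 a
    rw [map_one, one_mul] at this
    exact this.symm
  have h3 : Module.Flat (A₁ ⊗[K] A₂) B := hflat
  have h4 : Module.Flat A₂ (A₁ ⊗[K] A₂) :=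
    Module.Flat.of_linearEquiv ((Algebra.TensorProduct.commRight K A₂ A₁).symm.toLinearEquiv)
  exact Module.Flat.trans A₂ (A₁ ⊗[K] A₂) B

/-- Reduction to the diagonal, for modules. -/
theorem length_tor_diag (h1 : Function.Bijective (algebraMap A₁ C))
    (h2 : Function.Bijective (algebraMap A₂ C)) (n : ℕ)
    (M N : Type u) [AddCommGroup M] [Module A₁ M] [AddCommGroup N] [Module A₂ N] :
    Module.length C (DRing.Tor C n (C ⊗[A₂] N) (C ⊗[A₁] M)) =
      Module.length B (DRing.Tor B n C (E A₁ A₂ B N M)) := by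
  have f1 : Module.Flat A₁ (B ⊗[A₂] N) := flat_tensor_right K A₁ A₂ B φ hφ hflat N
  have f2 : Module.Flat A₂ B := flat_right K A₁ A₂ B φ hφ hflat
  have f3 : Module.Flat A₂ C :=
    Module.Flat.of_linearEquiv (LinearEquiv.ofBijective (Algebra.linearMap A₂ C) h2).symm
  have f4 : Module.Flat A₁ C :=
    Module.Flat.of_linearEquiv (LinearEquiv.ofBijective (Algebra.linearMap A₁ C) h1).symm
  have f5 : SMulCommClass A₂ A₁ C := ⟨fun a b c => by
    simp only [Algebra.smul_def]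
    ring⟩
  have hC : Function.Surjective (algebraMap B C) := by
    intro c
    obtain ⟨a, rfl⟩ := h1.2 c
    exact ⟨algebraMap A₁ B a, (IsScalarTower.algebraMap_apply A₁ B C a).symm⟩
  exact length_diag A₁ A₂ B C C N hC n M

omit [Algebra A₁ C] [Algebra A₂ C] [IsScalarTower A₁ B C] [IsScalarTower A₂ B C] hφ hflat in
/-- `(B ⊗ A₂/I₂) ⊗ A₁/I₁ = B/(I₁ B + I₂ B)`. -/
theorem nonempty_E_quot (I₁ : Ideal A₁) (I₂ : Ideal A₂) :
    Nonempty (E A₁ A₂ B (A₂ ⧸ I₂) (A₁ ⧸ I₁) ≃ₗ[B]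
      B ⧸ (I₁.map (algebraMap A₁ B) ⊔ I₂.map (algebraMap A₂ B))) := by
  obtain ⟨e⟩ := quot_tensor_quot (I₂.map (algebraMap A₂ B)) (I₁.map (algebraMap A₁ B))
  let e1 : E A₁ A₂ B (A₂ ⧸ I₂) (A₁ ⧸ I₁) ≃ₗ[B]
      (B ⊗[A₂] (A₂ ⧸ I₂)) ⊗[B] (B ⊗[A₁] (A₁ ⧸ I₁)) :=
    (AlgebraTensorModule.cancelBaseChange A₁ B B (B ⊗[A₂] (A₂ ⧸ I₂)) (A₁ ⧸ I₁)).symm
  let e2 : (B ⊗[A₂] (A₂ ⧸ I₂)) ⊗[B] (B ⊗[A₁] (A₁ ⧸ I₁)) ≃ₗ[B]
      (B ⧸ I₂.map (algebraMap A₂ B)) ⊗[B] (B ⧸ I₁.map (algebraMap A₁ B)) :=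
    TensorProduct.congr (Ideal.qoutMapEquivTensorQout B).symm
      (Ideal.qoutMapEquivTensorQout B).symm
  exact ⟨(e1.trans e2).trans (e.trans (Submodule.quotEquivOfEq _ _ (sup_comm _ _)))⟩

/-- Reduction to the diagonal, for quotient rings. -/
theorem length_tor_diag_quot (h1 : Function.Bijective (algebraMap A₁ C))
    (h2 : Function.Bijective (algebraMap A₂ C)) (n : ℕ) (I₁ : Ideal A₁) (I₂ : Ideal A₂) :
    Module.length C (DRing.Tor C n (C ⧸ I₂.map (algebraMap A₂ C))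
        (C ⧸ I₁.map (algebraMap A₁ C))) =
      Module.length B (DRing.Tor B n (B ⧸ RingHom.ker (algebraMap B C))
        (B ⧸ (I₁.map (algebraMap A₁ B) ⊔ I₂.map (algebraMap A₂ B)))) := by
  have h := length_tor_diag K A₁ A₂ B C φ hφ hflat h1 h2 n (A₁ ⧸ I₁) (A₂ ⧸ I₂)
  obtain ⟨e⟩ := nonempty_E_quot A₁ A₂ B I₁ I₂
  have hC : Function.Surjective (algebraMap B C) := by
    intro c
    obtain ⟨a, rfl⟩ := h1.2 c
    exact ⟨algebraMap A₁ B a, (IsScalarTower.algebraMap_apply A₁ B C a).symm⟩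
  let e' : (B ⧸ RingHom.ker (algebraMap B C)) ≃ₗ[B] C :=
    LinearMap.quotKerEquivOfSurjective (Algebra.linearMap B C) hC
  rw [(congrL (Ideal.qoutMapEquivTensorQout C (I := I₂)) n _).length_eq,
    (congrR n _ (Ideal.qoutMapEquivTensorQout C (I := I₁))).length_eq, h,
    (congrL e' n _).length_eq, (congrR n C e).length_eq]

/-- Reduction to the diagonal for the intersection multiplicity. -/
theorem chi_diag_quot (h1 : Function.Bijective (algebraMap A₁ C))
    (h2 : Function.Bijective (algebraMap A₂ C)) (I₁ : Ideal A₁) (I₂ : Ideal A₂) :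
    IntMult.chi C (C ⧸ I₂.map (algebraMap A₂ C)) (C ⧸ I₁.map (algebraMap A₁ C)) =
      IntMult.chi B (B ⧸ RingHom.ker (algebraMap B C))
        (B ⧸ (I₁.map (algebraMap A₁ B) ⊔ I₂.map (algebraMap A₂ B))) := by
  unfold IntMult.chi
  congr 1
  ext n
  rw [length_tor_diag_quot K A₁ A₂ B C φ hφ hflat h1 h2 n I₁ I₂]

/-- Reduction to the diagonal for the intersection multiplicity of modules. -/
theorem chi_diag (h1 : Function.Bijective (algebraMap A₁ C))
    (h2 : Function.Bijective (algebraMap A₂ C)) (M N : Type u) [AddCommGroup M] [Module A₁ M]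
    [AddCommGroup N] [Module A₂ N] :
    IntMult.chi C (C ⊗[A₂] N) (C ⊗[A₁] M) = IntMult.chi B C (E A₁ A₂ B N M) := by
  unfold IntMult.chi
  congr 1
  ext n
  rw [length_tor_diag K A₁ A₂ B C φ hφ hflat h1 h2 n M N]

end

end Groth.Agent.CycA.DiagAlg
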