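import Groth.Agent.CycA.TorRestr
import Groth.Agent.CycA.ChiRec
import Mathlib.RingTheory.TensorProduct.Quotient
import Mathlib.RingTheory.Flat.Localization
import Mathlib.LinearAlgebra.TensorProduct.RightExactness

/-!
# Tor-independence of the two factors of a product

For `C` flat over `A ⊗[K] B` (e.g. a local ring of a product), `Tor^C_i(C/JC, C/IC) = 0` for
`i > 0` and ideals `I` of `A`, `J` of `B`.
-/

set_option autoImplicit false

universe u

open TensorProduct

namespace Groth.Agent.CycA.ProdTor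

open Groth.Agent.CycA.TorBasic Groth.Agent.CycA.TorShift Groth.Agent.CycA.TorFin
open Groth.Agent.CycA.TorRestr Groth.Agent.CycA.EulerLen

theorem smul_top_eq_map_mkQ (C : Type u) [CommRing C] (I J : Ideal C) :
    I • (⊤ : Submodule C (C ⧸ J)) = Submodule.map J.mkQ I := by
  rw [← Submodule.range_mkQ J, ← Submodule.map_top, ← Submodule.map_smul'']
  congr 1
  exact Ideal.mul_top I

/-- `C/I ⊗ C/J = C/(I + J)`. -/
noncomputable def quotTensorQuot (C : Type u) [CommRing C] (I J : Ideal C) :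
    ((C ⧸ I) ⊗[C] (C ⧸ J)) ≃ₗ[C] C ⧸ (I ⊔ J) :=
  (TensorProduct.quotTensorEquivQuotSMul (C ⧸ J) I).trans <|
    (Submodule.quotEquivOfEq _ (Submodule.map J.mkQ I) (smul_top_eq_map_mkQ C I J)).trans <|
    (Submodule.quotientQuotientEquivQuotientSup J I).trans
      (Submodule.quotEquivOfEq _ _ (sup_comm _ _))

variable {K A B : Type u} [Field K] [CommRing A] [CommRing B] [Algebra K A] [Algebra K B]

variable (K A) in
/-- `(A ⊗ B)/J(A ⊗ B)` is flat over `A`. -/
theorem flat_quot (J : Ideal B) :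
    Module.Flat A ((A ⊗[K] B) ⧸
      J.map (Algebra.TensorProduct.includeRight : B →ₐ[K] A ⊗[K] B)) := by
  let ψ : A ⊗[K] B →ₐ[A] A ⊗[K] (B ⧸ J) :=
    Algebra.TensorProduct.map (AlgHom.id A A) (Ideal.Quotient.mkₐ K J)
  have hψ : Function.Surjective ψ := by
    intro t
    induction t with
    | zero => exact ⟨0, map_zero ψ⟩
    | tmul x y =>
      obtain ⟨y, rfl⟩ := Ideal.Quotient.mk_surjective y
      exact ⟨x ⊗ₜ y, rfl⟩
    | add s t hs ht =>
      obtain ⟨s, rfl⟩ := hs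
      obtain ⟨t, rfl⟩ := ht
      exact ⟨s + t, map_add ψ s t⟩
  have hker : RingHom.ker ψ = J.map (Algebra.TensorProduct.includeRight : B →ₐ[K] A ⊗[K] B) := by
    have h := Algebra.TensorProduct.lTensor_ker (A := A) (Ideal.Quotient.mkₐ K J)
      (Ideal.Quotient.mkₐ_surjective K J)
    have h2 : RingHom.ker (Ideal.Quotient.mkₐ K J) = J := Ideal.Quotient.mkₐ_ker K J
    rw [h2] at h
    exact h
  rw [← hker]
  exact Module.Flat.of_linearEquiv (Ideal.quotientKerAlgEquivOfSurjective hψ).toLinearEquiv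

/-- `Tor^T_{i+1}(T/JT, T/IT) = 0` for `T = A ⊗ B`. -/
theorem subsingleton_tensor (n : ℕ) (I : Ideal A) (J : Ideal B) :
    Subsingleton (DRing.Tor (A ⊗[K] B) (n + 1)
      ((A ⊗[K] B) ⧸ J.map (Algebra.TensorProduct.includeRight : B →ₐ[K] A ⊗[K] B))
      ((A ⊗[K] B) ⧸ I.map (algebraMap A (A ⊗[K] B)))) := by
  have := flat_quot K A J
  have h := subsingleton_of_flat (A := A) (A ⊗[K] B)
    ((A ⊗[K] B) ⧸ J.map (Algebra.TensorProduct.includeRight : B →ₐ[K] A ⊗[K] B)) n (A ⧸ I)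
  exact (congrR (n + 1) _ (Algebra.TensorProduct.quotIdealMapEquivTensorQuot
    (A ⊗[K] B) I).toLinearEquiv).toEquiv.subsingleton

/-- `Tor^C_{i+1}(C/JC, C/IC) = 0` for `C` flat over `A ⊗ B`. -/
theorem subsingleton_tor {C : Type u} [CommRing C] [Algebra (A ⊗[K] B) C]
    [Module.Flat (A ⊗[K] B) C] (n : ℕ) (I : Ideal A) (J : Ideal B) :
    Subsingleton (DRing.Tor C (n + 1)
      (C ⧸ (J.map (Algebra.TensorProduct.includeRight : B →ₐ[K] A ⊗[K] B)).map
        (algebraMap (A ⊗[K] B) C))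
      (C ⧸ (I.map (algebraMap A (A ⊗[K] B))).map (algebraMap (A ⊗[K] B) C))) := by
  have h1 := subsingleton_tensor (K := K) n I J
  obtain ⟨e⟩ := TorFin.baseChange (A := A ⊗[K] B) C (n + 1)
    ((A ⊗[K] B) ⧸ J.map (Algebra.TensorProduct.includeRight : B →ₐ[K] A ⊗[K] B))
    ((A ⊗[K] B) ⧸ I.map (algebraMap A (A ⊗[K] B)))
  have h2 : Subsingleton (C ⊗[A ⊗[K] B] DRing.Tor (A ⊗[K] B) (n + 1)
      ((A ⊗[K] B) ⧸ J.map (Algebra.TensorProduct.includeRight : B →ₐ[K] A ⊗[K] B))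
      ((A ⊗[K] B) ⧸ I.map (algebraMap A (A ⊗[K] B)))) := inferInstance
  have h3 := e.toEquiv.subsingleton
  exact ((congrL (Algebra.TensorProduct.quotIdealMapEquivTensorQuot C
    (J.map (Algebra.TensorProduct.includeRight : B →ₐ[K] A ⊗[K] B))).toLinearEquiv (n + 1) _).trans
    (congrR (n + 1) _ (Algebra.TensorProduct.quotIdealMapEquivTensorQuot C
    (I.map (algebraMap A (A ⊗[K] B)))).toLinearEquiv)).toEquiv.subsingleton

/-- The Euler characteristic for two ideals coming from the two factors. -/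
theorem chi_eq {C : Type u} [CommRing C] (φ : A ⊗[K] B →+* C)
    (hfl : letI := φ.toAlgebra; Module.Flat (A ⊗[K] B) C) (a : A →+* C) (b : B →+* C)
    (hφ : ∀ x y, φ (x ⊗ₜ y) = a x * b y) (I : Ideal A) (J : Ideal B) :
    IntMult.chi C (C ⧸ J.map b) (C ⧸ I.map a) =
      (Module.length C (C ⧸ (I.map a ⊔ J.map b))).toNat := by
  let _ := φ.toAlgebra
  have ha : φ.comp (algebraMap A (A ⊗[K] B)) = a := by
    ext x
    change φ (x ⊗ₜ 1) = _
    rw [hφ, map_one, mul_one]
  have hb : φ.comp ((Algebra.TensorProduct.includeRight : B →ₐ[K] A ⊗[K] B) :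
      B →+* A ⊗[K] B) = b := by
    ext x
    change φ (1 ⊗ₜ x) = _
    rw [hφ, map_one, one_mul]
  have hI : (I.map (algebraMap A (A ⊗[K] B))).map (algebraMap (A ⊗[K] B) C) = I.map a := by
    rw [Ideal.map_map, ← ha]; rfl
  have hJ : (J.map (Algebra.TensorProduct.includeRight : B →ₐ[K] A ⊗[K] B)).map
      (algebraMap (A ⊗[K] B) C) = J.map b := by
    rw [← hb, ← Ideal.map_map]; rfl
  rw [ChiRec.chi_eq_eu, eu_eq_zeroth]
  · rw [il_congr ((zeroEquiv C (C ⧸ J.map b) (C ⧸ I.map a)).trans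
      ((quotTensorQuot C (J.map b) (I.map a)).trans (Submodule.quotEquivOfEq _ _ (sup_comm _ _))))]
    rfl
  · intro i hi
    obtain ⟨n, rfl⟩ := Nat.exists_eq_succ_of_ne_zero hi.ne'
    have h := subsingleton_tor (K := K) (C := C) n I J
    rw [hI, hJ] at h
    exact il_of_subsingleton _

end Groth.Agent.CycA.ProdTor
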