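import Groth.Agent.CycA.ProdPoint2
import Groth.Agent.CycA.ProdTor
import Groth.Agent.CycA.StalkIdeal

/-!
# Tor independence in local rings of products
-/

set_option autoImplicit false

universe u

open CategoryTheory Limits AlgebraicGeometry TensorProduct

namespace Groth.Agent.CycA.ProdPoint

open Groth.Agent.CycA.ProdStalk Groth.Agent.CycB.TrdegAlg Groth.Agent.CycB.RelDim
open Groth.Agent.CycB.LocQuot

variable {X Y P : Scheme.{u}} {K : Type u} [Field K]
  {f : X ⟶ Spec (CommRingCat.of K)} {g : Y ⟶ Spec (CommRingCat.of K)}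
  {p : P ⟶ X} {q : P ⟶ Y}

/-- The Euler characteristic of `Tor^{O_z}(O_z/J O_z, O_z/I O_z)` for ideals `I` of `O_{X,p z}` and
`J` of `O_{Y,q z}`. -/
theorem chi_prod (H : IsPullback p q f g) (z : P) (I : Ideal (X.presheaf.stalk (p z)))
    (J : Ideal (Y.presheaf.stalk (q z))) :
    IntMult.chi (P.presheaf.stalk z)
      (P.presheaf.stalk z ⧸ J.map (q.stalkMap z).hom)
      (P.presheaf.stalk z ⧸ I.map (p.stalkMap z).hom) =
      (Module.length (P.presheaf.stalk z)
        (P.presheaf.stalk z ⧸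
          (I.map (p.stalkMap z).hom ⊔ J.map (q.stalkMap z).hom))).toNat := by
  let _ := algStalk f (p z)
  let _ := algStalk g (q z)
  obtain ⟨φ, hφ, hloc⟩ := exists_prodMap H z
  refine ProdTor.chi_eq φ ?_ _ _ hφ I J
  let _ := φ.toAlgebra
  exact IsLocalization.flat _
    ((IsLocalRing.maximalIdeal (P.presheaf.stalk z)).comap φ).primeCompl

theorem mult_eq_length (H : IsPullback p q f g) {z ξ η : P} (hξ : ξ ⤳ z) (hη : η ⤳ z)
    (I : Ideal (X.presheaf.stalk (p z))) (J : Ideal (Y.presheaf.stalk (q z)))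
    (h1 : RingHom.ker (Cyc.specMap z ξ hξ) = I.map (p.stalkMap z).hom)
    (h2 : RingHom.ker (Cyc.specMap z η hη) = J.map (q.stalkMap z).hom) :
    IntMult.mult (IntMult.ptIdeal ξ) (IntMult.ptIdeal η) z =
      (Module.length (P.presheaf.stalk z)
        (P.presheaf.stalk z ⧸
          (I.map (p.stalkMap z).hom ⊔ J.map (q.stalkMap z).hom))).toNat := by
  rw [IntMult.mult, StalkIdeal.stalkIdeal_ptIdeal hξ, StalkIdeal.stalkIdeal_ptIdeal hη, h1, h2]
  exact chi_prod H z I J

theorem ker_genericPoint [IsIntegral Y] (y : Y) (h : genericPoint Y ⤳ y) :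
    RingHom.ker (Cyc.specMap y (genericPoint Y) h) = ⊥ := by
  obtain ⟨y', hy', h0⟩ := exists_eq_ker (x := y) (⊥ : Ideal (Y.presheaf.stalk y))
  rw [eq_bot_iff, h0, ker_le_iff]
  exact genericPoint_specializes y'

theorem maximalIdeal_genericPoint [IsIntegral Y] {y : Y} (h : y = genericPoint Y) :
    IsLocalRing.maximalIdeal (Y.presheaf.stalk y) = ⊥ := by
  subst h
  rw [← ker_refl, ker_genericPoint]

theorem length_quot_maximalIdeal (A : Type u) [CommRing A] [IsLocalRing A] :
    (Module.length A (A ⧸ IsLocalRing.maximalIdeal A)).toNat = 1 := by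
  have : IsSimpleModule A (A ⧸ IsLocalRing.maximalIdeal A) :=
    isSimpleModule_iff_isCoatom.2 (IsLocalRing.maximalIdeal.isMaximal A).out
  rw [Module.length_eq_one]
  rfl

end Groth.Agent.CycA.ProdPoint
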