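import Groth.Agent.CycA.DiagTor
import Groth.Agent.CycA.ProdMult
import Groth.Agent.CycA.ChiRec

/-!
# Intersection multiplicities of closures of points via the diagonal
-/

set_option autoImplicit false

universe u

open CategoryTheory Limits AlgebraicGeometry TensorProduct

namespace Groth.Agent.CycA.DiagMult

open Groth.Agent.CycA.ProdPoint Groth.Agent.CycB.LocQuot

theorem ker_specMap_congr {X : Scheme.{u}} {x ξ ξ' : X} (e : ξ = ξ') (h : ξ ⤳ x) (h' : ξ' ⤳ x) :
    RingHom.ker (Cyc.specMap x ξ h) = RingHom.ker (Cyc.specMap x ξ' h') := by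
  subst e; rfl

/-- For a morphism `t : Z ⟶ X` with bijective stalk map. -/
theorem map_ker_specMap {Z X : Scheme.{u}} (t : Z ⟶ X) {z ζ : Z} (hζ : ζ ⤳ z) {ξ : X}
    (e : t ζ = ξ) (h : ξ ⤳ t z) (ht : Function.Surjective (t.stalkMap z).hom) :
    (RingHom.ker (Cyc.specMap (t z) ξ h)).map (t.stalkMap z).hom =
      RingHom.ker (Cyc.specMap z ζ hζ) := by
  subst e
  rw [← comap_ker_specMap t hζ h, Ideal.map_comap_of_surjective _ ht]

theorem bijective_stalkMap {X : Scheme.{u}} (t : X ⟶ X) (ht : t = 𝟙 X) (x : X) :
    Function.Bijective (t.stalkMap x).hom := by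
  have : IsIso t := by rw [ht]; infer_instance
  exact ConcreteCategory.bijective_of_isIso (t.stalkMap x)

variable {X : Scheme.{u}} {K : Type u} [Field K] [IsAlgClosed K]

omit [IsAlgClosed K] in
theorem ker_diagonal [IsIntegral X] (f : X ⟶ Spec (CommRingCat.of K)) [IsSeparated f] (x : X)
    (h : pullback.diagonal f (genericPoint X) ⤳ pullback.diagonal f x) :
    RingHom.ker (Cyc.specMap (pullback.diagonal f x) (pullback.diagonal f (genericPoint X)) h) =
      RingHom.ker ((pullback.diagonal f).stalkMap x).hom := by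
  rw [← comap_ker_specMap (pullback.diagonal f) (genericPoint_specializes x) h,
    ker_genericPoint]
  rfl

/-- Reduction to the diagonal for closures of points. -/
theorem mult_diagonal [IsIntegral X] (f : X ⟶ Spec (CommRingCat.of K)) [IsSeparated f] (x : X)
    {ξ η : X} (hξ : ξ ⤳ x) (hη : η ⤳ x) {ω : ↥(pullback f f)}
    (h1 : pullback.fst f f ω = ξ) (h2 : pullback.snd f f ω = η)
    (hω : ∀ z, pullback.fst f f z = ξ → pullback.snd f f z = η → ω ⤳ z)
    (hωx : ω ⤳ pullback.diagonal f x) :
    IntMult.mult (IntMult.ptIdeal (pullback.diagonal f (genericPoint X))) (IntMult.ptIdeal ω)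
      (pullback.diagonal f x) = IntMult.mult (IntMult.ptIdeal ξ) (IntMult.ptIdeal η) x := by
  have H : IsPullback (pullback.fst f f) (pullback.snd f f) f f := IsPullback.of_hasPullback f f
  let z := pullback.diagonal f x
  have hgen : pullback.diagonal f (genericPoint X) ⤳ z :=
    (genericPoint_specializes x).map (pullback.diagonal f).continuous
  have hp : pullback.diagonal f ≫ pullback.fst f f = 𝟙 X := pullback.diagonal_fst f
  have hq : pullback.diagonal f ≫ pullback.snd f f = 𝟙 X := pullback.diagonal_snd f
  have hpt : ∀ y, pullback.fst f f (pullback.diagonal f y) = y := fun y => by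
    rw [← Scheme.Hom.comp_apply, hp]; rfl
  have hqt : ∀ y, pullback.snd f f (pullback.diagonal f y) = y := fun y => by
    rw [← Scheme.Hom.comp_apply, hq]; rfl
  have hξ' : ξ ⤳ pullback.fst f f z := by rw [hpt]; exact hξ
  have hη' : η ⤳ pullback.snd f f z := by rw [hqt]; exact hη
  let _ := algStalk f (pullback.fst f f z)
  let _ := algStalk f (pullback.snd f f z)
  obtain ⟨φ, hφ, hloc⟩ := exists_prodMap H z
  have key := DiagTor.chi_diag φ
    (by
      let _ := φ.toAlgebra
      exact IsLocalization.flat _
        ((IsLocalRing.maximalIdeal ((pullback f f).presheaf.stalk z)).comap φ).primeCompl)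
    _ _ hφ ((pullback.diagonal f).stalkMap x).hom ((pullback.diagonal f).stalkMap_surjective x)
    (by
      have := bijective_stalkMap _ hp x
      rw [Scheme.Hom.stalkMap_comp] at this
      exact this)
    (by
      have := bijective_stalkMap _ hq x
      rw [Scheme.Hom.stalkMap_comp] at this
      exact this)
    (RingHom.ker (Cyc.specMap (pullback.fst f f z) ξ hξ'))
    (RingHom.ker (Cyc.specMap (pullback.snd f f z) η hη'))
  have k1 : (RingHom.ker (Cyc.specMap (pullback.fst f f z) ξ hξ')).map
      (((pullback.diagonal f).stalkMap x).hom.comp ((pullback.fst f f).stalkMap z).hom) =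
      RingHom.ker (Cyc.specMap x ξ hξ) := by
    have := map_ker_specMap (pullback.diagonal f ≫ pullback.fst f f) hξ (hpt ξ) hξ'
      (bijective_stalkMap _ hp x).2
    rw [Scheme.Hom.stalkMap_comp] at this
    exact this
  have k2 : (RingHom.ker (Cyc.specMap (pullback.snd f f z) η hη')).map
      (((pullback.diagonal f).stalkMap x).hom.comp ((pullback.snd f f).stalkMap z).hom) =
      RingHom.ker (Cyc.specMap x η hη) := by
    have := map_ker_specMap (pullback.diagonal f ≫ pullback.snd f f) hη (hqt η) hη'
      (bijective_stalkMap _ hq x).2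
    rw [Scheme.Hom.stalkMap_comp] at this
    exact this
  rw [k1, k2] at key
  rw [IntMult.mult, IntMult.mult, StalkIdeal.stalkIdeal_ptIdeal hξ,
    StalkIdeal.stalkIdeal_ptIdeal hη, key, StalkIdeal.stalkIdeal_ptIdeal hgen,
    StalkIdeal.stalkIdeal_ptIdeal hωx, ker_diagonal,
    ker_specMap_generic H hω h1 h2 hωx hξ' hη']
  have : IsLocalRing ((pullback f f).presheaf.stalk z) := inferInstance
  exact ChiRec.chi_symm _ _

end Groth.Agent.CycA.DiagMult
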