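import Groth.Agent.CycB.TrdegAlg
import Mathlib.RingTheory.TensorProduct.MvPolynomial
import Mathlib.RingTheory.Flat.Basic
import Mathlib.RingTheory.AlgebraicIndependent.TranscendenceBasis

set_option autoImplicit false
universe u v

namespace Groth.Agent.CycA.TensorTrdeg

open Algebra TensorProduct Groth.Agent.CycB.TrdegAlg

section

variable (k K₁ K₂ L : Type u) [Field k] [Field K₁] [Field K₂] [Field L]
  [Algebra k K₁] [Algebra k K₂] [Algebra K₁ L] [Algebra K₂ L] [Algebra k L]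
  [IsScalarTower k K₁ L] [IsScalarTower k K₂ L]

/-- The product map `K₁ ⊗[k] K₂ → L`. -/
noncomputable def prodMap : K₁ ⊗[k] K₂ →+* L :=
  (Algebra.TensorProduct.productMap (IsScalarTower.toAlgHom k K₁ L)
    (IsScalarTower.toAlgHom k K₂ L)).toRingHom

theorem prodMap_tmul (a : K₁) (b : K₂) :
    prodMap k K₁ K₂ L (a ⊗ₜ b) = algebraMap K₁ L a * algebraMap K₂ L b := rfl

variable {k K₁ K₂ L}

/-- An algebraically independent family of `K₂/k` stays algebraically independent over `K₁` when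
`K₁ ⊗[k] K₂ → L` is injective. -/
theorem algebraicIndependent_of_injective (hinj : Function.Injective (prodMap k K₁ K₂ L))
    {ι : Type u} {t : ι → K₂} (ht : AlgebraicIndependent k t) :
    AlgebraicIndependent K₁ (fun i => algebraMap K₂ L (t i)) := by
  rw [AlgebraicIndependent] at ht ⊢
  let e := (MvPolynomial.algebraTensorAlgEquiv (R := k) (σ := ι) (A := K₁)).symm
  let Φ : MvPolynomial ι K₁ →ₐ[K₁] K₁ ⊗[k] K₂ :=
    (Algebra.TensorProduct.map (AlgHom.id K₁ K₁) (MvPolynomial.aeval t : MvPolynomial ι k →ₐ[k] K₂)).comp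
      e.toAlgHom
  have hΦ : Function.Injective Φ := by
    have h1 : Function.Injective (Algebra.TensorProduct.map (AlgHom.id K₁ K₁)
        (MvPolynomial.aeval t : MvPolynomial ι k →ₐ[k] K₂)) := by
      have := Module.Flat.lTensor_preserves_injective_linearMap (M := K₁)
        (MvPolynomial.aeval t : MvPolynomial ι k →ₐ[k] K₂).toLinearMap ht
      exact this
    exact h1.comp e.injective
  have key : (MvPolynomial.aeval (fun i => algebraMap K₂ L (t i)) :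
      MvPolynomial ι K₁ →ₐ[K₁] L).toRingHom = (prodMap k K₁ K₂ L).comp Φ.toRingHom := by
    apply MvPolynomial.ringHom_ext
    · intro r
      have h5 : Φ (MvPolynomial.C r) = r ⊗ₜ 1 := by
        have : (MvPolynomial.C r : MvPolynomial ι K₁) = algebraMap K₁ _ r := rfl
        rw [this, AlgHom.commutes]
        rfl
      change MvPolynomial.aeval _ (MvPolynomial.C r) = prodMap k K₁ K₂ L (Φ (MvPolynomial.C r))
      rw [h5, prodMap_tmul, map_one, mul_one, MvPolynomial.aeval_C]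
    · intro i
      simp [Φ, e, prodMap_tmul]
  have h2 : Function.Injective ((prodMap k K₁ K₂ L).comp Φ.toRingHom) := hinj.comp hΦ
  rw [← key] at h2
  exact h2

theorem isAlgebraic_of_fracGen (hgen : FracGen (prodMap k K₁ K₂ L)) {s : Set K₂}
    (hs : Algebra.IsAlgebraic (adjoin k s) K₂) :
    Algebra.IsAlgebraic (adjoin K₁ (algebraMap K₂ L '' s)) L := by
  let D := adjoin K₁ (algebraMap K₂ L '' s)
  have h2 : ∀ b : K₂, IsAlgebraic D (algebraMap K₂ L b) := by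
    intro b
    obtain ⟨P, hP0, hP⟩ := hs.isAlgebraic b
    have hmap : ∀ c : adjoin k s, algebraMap K₂ L c ∈ D := by
      intro c
      have : (IsScalarTower.toAlgHom k K₂ L) c ∈ (adjoin k s).map (IsScalarTower.toAlgHom k K₂ L) :=
        ⟨c, c.2, rfl⟩
      rw [AlgHom.map_adjoin] at this
      have hle : adjoin k (algebraMap K₂ L '' s) ≤ D.restrictScalars k :=
        Algebra.adjoin_le (Algebra.subset_adjoin)
      exact hle this
    let j : adjoin k s →+* D :=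
      ((algebraMap K₂ L).comp (adjoin k s).val.toRingHom).codRestrict D.toSubring hmap
    have hj : Function.Injective j := by
      intro c c' h
      have : algebraMap K₂ L c = algebraMap K₂ L c' := congrArg Subtype.val h
      exact Subtype.ext ((algebraMap K₂ L).injective this)
    refine ⟨P.map j, (Polynomial.map_ne_zero_iff hj).2 hP0, ?_⟩
    rw [Polynomial.aeval_def, Polynomial.eval₂_map]
    have h3 : (algebraMap D L).comp j = (algebraMap K₂ L).comp (algebraMap (adjoin k s) K₂) := rfl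
    rw [h3, ← Polynomial.hom_eval₂, ← Polynomial.aeval_def, hP, map_zero]
  have h1 : ∀ a : K₁, IsAlgebraic D (algebraMap K₁ L a) := by
    intro a
    have : algebraMap K₁ L a = algebraMap D L (algebraMap K₁ D a) := rfl
    rw [this]
    exact isAlgebraic_algebraMap _
  have h3 : ∀ t : K₁ ⊗[k] K₂, IsAlgebraic D (prodMap k K₁ K₂ L t) := by
    intro t
    induction t with
    | zero => rw [map_zero]; exact isAlgebraic_zero
    | tmul a b => rw [prodMap_tmul]; exact (h1 a).mul (h2 b)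
    | add a b ha hb => rw [map_add]; exact ha.add hb
  refine ⟨fun z => ?_⟩
  obtain ⟨a, b, hb, hab⟩ := hgen z
  have : z = prodMap k K₁ K₂ L a * (prodMap k K₁ K₂ L b)⁻¹ := by
    rw [← hab, mul_assoc, mul_inv_cancel₀ hb, mul_one]
  rw [this]
  exact (h3 a).mul (IsAlgebraic.inv (h3 b))

theorem trdeg_le (hgen : FracGen (prodMap k K₁ K₂ L)) : trdeg K₁ L ≤ trdeg k K₂ := by
  obtain ⟨s, hs⟩ := exists_isTranscendenceBasis k K₂
  have h1 : Algebra.IsAlgebraic (adjoin k (Set.range ((↑) : s → K₂))) K₂ := hs.isAlgebraic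
  have h2 := isAlgebraic_of_fracGen hgen h1
  calc trdeg K₁ L ≤ Cardinal.mk (algebraMap K₂ L '' (Set.range ((↑) : s → K₂))) :=
        Algebra.IsAlgebraic.trdeg_le_cardinalMk _ _
    _ ≤ Cardinal.mk (Set.range ((↑) : s → K₂)) := Cardinal.mk_image_le
    _ ≤ Cardinal.mk s := Cardinal.mk_range_le
    _ = trdeg k K₂ := hs.cardinalMk_eq_trdeg

theorem trdeg_eq (hgen : FracGen (prodMap k K₁ K₂ L))
    (hinj : Function.Injective (prodMap k K₁ K₂ L)) : trdeg K₁ L = trdeg k K₂ := by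
  apply le_antisymm (trdeg_le hgen)
  obtain ⟨s, hs⟩ := exists_isTranscendenceBasis k K₂
  rw [← hs.cardinalMk_eq_trdeg]
  exact (algebraicIndependent_of_injective hinj hs.1).cardinalMk_le_trdeg

end

/-- Version for ring homs. -/
theorem trd_le {k K₁ K₂ L : Type u} [Field k] [Field K₁] [Field K₂] [Field L]
    (φ₁ : k →+* K₁) (φ₂ : k →+* K₂) (ψ₁ : K₁ →+* L) (ψ₂ : K₂ →+* L)
    (comm : ψ₁.comp φ₁ = ψ₂.comp φ₂)
    (gen : ∀ S : Subring L, (∀ a, ψ₁ a ∈ S) → (∀ b, ψ₂ b ∈ S) →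
      ∀ z : L, ∃ a ∈ S, ∃ b ∈ S, b ≠ 0 ∧ z * b = a) :
    trd ψ₁ ≤ trd φ₂ := by
  let _ := φ₁.toAlgebra
  let _ := φ₂.toAlgebra
  let _ := ψ₁.toAlgebra
  let _ := ψ₂.toAlgebra
  let _ := (ψ₁.comp φ₁).toAlgebra
  have : IsScalarTower k K₁ L := .of_algebraMap_eq fun _ => rfl
  have : IsScalarTower k K₂ L := .of_algebraMap_eq fun x => RingHom.congr_fun comm x
  refine trdeg_le (k := k) (K₁ := K₁) (K₂ := K₂) (L := L) ?_
  intro z
  obtain ⟨a, ⟨a', rfl⟩, b, ⟨b', rfl⟩, hb, hab⟩ := gen (prodMap k K₁ K₂ L).range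
    (fun a => ⟨a ⊗ₜ 1, by rw [prodMap_tmul, map_one, mul_one]; rfl⟩)
    (fun b => ⟨1 ⊗ₜ b, by rw [prodMap_tmul, map_one, one_mul]; rfl⟩) z
  exact ⟨a', b', hb, hab⟩

/-- Equality version for ring homs, with injectivity tested on subrings `R₁`, `R₂` of which
`K₁`, `K₂` are the fraction fields. -/
theorem trd_eq {k K₁ K₂ L R₁ R₂ : Type u} [Field k] [Field K₁] [Field K₂] [Field L]
    [CommRing R₁] [CommRing R₂] [Algebra k R₁] [Algebra k R₂]
    (φ₁ : k →+* K₁) (φ₂ : k →+* K₂) (ψ₁ : K₁ →+* L) (ψ₂ : K₂ →+* L)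
    (comm : ψ₁.comp φ₁ = ψ₂.comp φ₂)
    (gen : ∀ S : Subring L, (∀ a, ψ₁ a ∈ S) → (∀ b, ψ₂ b ∈ S) →
      ∀ z : L, ∃ a ∈ S, ∃ b ∈ S, b ≠ 0 ∧ z * b = a)
    (j₁ : R₁ →+* K₁) (j₂ : R₂ →+* K₂) (hj₁ : FracGen j₁) (hj₂ : FracGen j₂)
    (hk₁ : j₁.comp (algebraMap k R₁) = φ₁) (hk₂ : j₂.comp (algebraMap k R₂) = φ₂)
    (Ψ : R₁ ⊗[k] R₂ →+* L) (hΨ : ∀ a b, Ψ (a ⊗ₜ b) = ψ₁ (j₁ a) * ψ₂ (j₂ b))
    (hinj : Function.Injective Ψ) :
    trd ψ₁ = trd φ₂ := by
  let _ := φ₁.toAlgebra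
  let _ := φ₂.toAlgebra
  let _ := ψ₁.toAlgebra
  let _ := ψ₂.toAlgebra
  let _ := (ψ₁.comp φ₁).toAlgebra
  have : IsScalarTower k K₁ L := .of_algebraMap_eq fun _ => rfl
  have : IsScalarTower k K₂ L := .of_algebraMap_eq fun x => RingHom.congr_fun comm x
  refine trdeg_eq (k := k) (K₁ := K₁) (K₂ := K₂) (L := L) ?_ ?_
  · intro z
    obtain ⟨a, ⟨a', rfl⟩, b, ⟨b', rfl⟩, hb, hab⟩ := gen (prodMap k K₁ K₂ L).range
      (fun a => ⟨a ⊗ₜ 1, by rw [prodMap_tmul, map_one, mul_one]; rfl⟩)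
      (fun b => ⟨1 ⊗ₜ b, by rw [prodMap_tmul, map_one, one_mul]; rfl⟩) z
    exact ⟨a', b', hb, hab⟩
  · -- clear denominators
    let J₁ : R₁ →ₐ[k] K₁ := ⟨j₁, fun r => RingHom.congr_fun hk₁ r⟩
    let J₂ : R₂ →ₐ[k] K₂ := ⟨j₂, fun r => RingHom.congr_fun hk₂ r⟩
    let J : R₁ ⊗[k] R₂ →ₐ[k] K₁ ⊗[k] K₂ := Algebra.TensorProduct.map J₁ J₂
    have hJ : ∀ t, prodMap k K₁ K₂ L (J t) = Ψ t := by
      intro t
      induction t with
      | zero => simp
      | tmul a b =>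
        rw [hΨ]
        change prodMap k K₁ K₂ L (j₁ a ⊗ₜ j₂ b) = _
        rw [prodMap_tmul]; rfl
      | add a b ha hb => rw [map_add, map_add, map_add, ha, hb]
    have hden : ∀ t : K₁ ⊗[k] K₂, ∃ (a : R₁) (b : R₂) (s : R₁ ⊗[k] R₂), j₁ a ≠ 0 ∧ j₂ b ≠ 0 ∧
        t * (j₁ a ⊗ₜ j₂ b) = J s := by
      intro t
      induction t with
      | zero =>
        refine ⟨1, 1, 0, by simp, by simp, by simp⟩
      | tmul c d =>
        obtain ⟨a, b, hb, hab⟩ := hj₁ c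
        obtain ⟨a', b', hb', hab'⟩ := hj₂ d
        refine ⟨b, b', a ⊗ₜ a', hb, hb', ?_⟩
        rw [Algebra.TensorProduct.tmul_mul_tmul, hab, hab']
        rfl
      | add t t' ht ht' =>
        obtain ⟨a, b, s, ha, hb, h⟩ := ht
        obtain ⟨a', b', s', ha', hb', h'⟩ := ht'
        refine ⟨a * a', b * b', s * (a' ⊗ₜ b') + s' * (a ⊗ₜ b), by simp [ha, ha'],
          by simp [hb, hb'], ?_⟩
        rw [map_add J, map_mul J, map_mul J, ← h, ← h', map_mul j₁, map_mul j₂]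
        change _ = t * (j₁ a ⊗ₜ[k] j₂ b) * (j₁ a' ⊗ₜ[k] j₂ b') +
          t' * (j₁ a' ⊗ₜ[k] j₂ b') * (j₁ a ⊗ₜ[k] j₂ b)
        have : (j₁ a * j₁ a') ⊗ₜ[k] (j₂ b * j₂ b') =
            (j₁ a ⊗ₜ[k] j₂ b) * (j₁ a' ⊗ₜ[k] j₂ b') :=
          (Algebra.TensorProduct.tmul_mul_tmul _ _ _ _).symm
        rw [this]
        ring
    rw [injective_iff_map_eq_zero]
    intro t ht
    obtain ⟨a, b, s, ha, hb, h⟩ := hden t
    have h1 : Ψ s = 0 := by
      rw [← hJ, ← h, map_mul, ht, zero_mul]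
    have h2 : s = 0 := hinj (h1.trans (map_zero _).symm)
    rw [h2, map_zero] at h
    have hu : IsUnit (j₁ a ⊗ₜ[k] j₂ b : K₁ ⊗[k] K₂) := by
      refine IsUnit.of_mul_eq_one ((j₁ a)⁻¹ ⊗ₜ (j₂ b)⁻¹) ?_
      rw [Algebra.TensorProduct.tmul_mul_tmul, mul_inv_cancel₀ ha, mul_inv_cancel₀ hb]
      rfl
    exact (hu.mul_left_eq_zero).1 h

end Groth.Agent.CycA.TensorTrdeg
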