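import Groth.Agent.CycA.ProdStalk
import Groth.Agent.CycA.TensorTrdeg
import Groth.Agent.CycB.LocQuot
import Groth.Agent.CycB.RelDim
import Groth.Agent.Fdesc.TensorDomain
import Mathlib.LinearAlgebra.TensorProduct.RightExactness

/-!
# Points of a product of schemes over an algebraically closed field
-/

set_option autoImplicit false

universe u

open CategoryTheory Limits AlgebraicGeometry TensorProduct

namespace Groth.Agent.CycA.ProdPoint

open Groth.Agent.CycA.ProdStalk Groth.Agent.CycB.TrdegAlg Groth.Agent.CycB.RelDim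
open Groth.Agent.CycB.LocQuot

section Alg

variable {K A B : Type u} [Field K] [CommRing A] [CommRing B] [Algebra K A] [Algebra K B]

variable (K) in
/-- The ideal `I ⊗ B + A ⊗ J` of `A ⊗[K] B`. -/
noncomputable def sumIdeal (I : Ideal A) (J : Ideal B) : Ideal (A ⊗[K] B) :=
  I.map (Algebra.TensorProduct.includeLeft : A →ₐ[K] A ⊗[K] B) ⊔
    J.map (Algebra.TensorProduct.includeRight : B →ₐ[K] A ⊗[K] B)

theorem sumIdeal_eq_ker (I : Ideal A) (J : Ideal B) :
    sumIdeal K I J = RingHom.ker (Algebra.TensorProduct.map (Ideal.Quotient.mkₐ K I)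
      (Ideal.Quotient.mkₐ K J)) := by
  rw [Algebra.TensorProduct.map_ker _ _ (Ideal.Quotient.mkₐ_surjective K I)
    (Ideal.Quotient.mkₐ_surjective K J)]
  have h1 : RingHom.ker (Ideal.Quotient.mkₐ K I) = I := Ideal.Quotient.mkₐ_ker K I
  have h2 : RingHom.ker (Ideal.Quotient.mkₐ K J) = J := Ideal.Quotient.mkₐ_ker K J
  rw [h1, h2]
  rfl

theorem sumIdeal_isPrime [IsAlgClosed K] (I : Ideal A) (J : Ideal B) [I.IsPrime] [J.IsPrime] :
    (sumIdeal K I J).IsPrime := by
  rw [sumIdeal_eq_ker]
  have : IsDomain ((A ⧸ I) ⊗[K] (B ⧸ J)) :=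
    Groth.Agent.Fdesc.TensorDomain.isDomain_tensorProduct
  exact RingHom.ker_isPrime _

theorem comap_includeLeft_sumIdeal (I : Ideal A) (J : Ideal B) (hJ : J ≠ ⊤) :
    (sumIdeal K I J).comap (Algebra.TensorProduct.includeLeftRingHom : A →+* A ⊗[K] B) = I := by
  rw [sumIdeal_eq_ker]
  ext a
  rw [Ideal.mem_comap, RingHom.mem_ker]
  have : Nontrivial (B ⧸ J) := Ideal.Quotient.nontrivial_iff.2 hJ
  have hinj : Function.Injective (Algebra.TensorProduct.includeLeft : (A ⧸ I) →ₐ[K]
      (A ⧸ I) ⊗[K] (B ⧸ J)) :=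
    Algebra.TensorProduct.includeLeft_injective (FaithfulSMul.algebraMap_injective K (B ⧸ J))
  change (Ideal.Quotient.mk I a) ⊗ₜ[K] (Ideal.Quotient.mk J 1) = 0 ↔ _
  rw [map_one, ← Ideal.Quotient.eq_zero_iff_mem (I := I)]
  constructor
  · intro h
    apply hinj
    rw [map_zero]
    exact h
  · intro h
    rw [h, TensorProduct.zero_tmul]

theorem comap_includeRight_sumIdeal (I : Ideal A) (J : Ideal B) (hI : I ≠ ⊤) :
    (sumIdeal K I J).comap
      ((Algebra.TensorProduct.includeRight : B →ₐ[K] A ⊗[K] B) : B →+* A ⊗[K] B) = J := by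
  rw [sumIdeal_eq_ker]
  ext b
  rw [Ideal.mem_comap, RingHom.mem_ker]
  have : Nontrivial (A ⧸ I) := Ideal.Quotient.nontrivial_iff.2 hI
  have hinj : Function.Injective (Algebra.TensorProduct.includeRight : (B ⧸ J) →ₐ[K]
      (A ⧸ I) ⊗[K] (B ⧸ J)) :=
    Algebra.TensorProduct.includeRight_injective (FaithfulSMul.algebraMap_injective K (A ⧸ I))
  change (Ideal.Quotient.mk I 1) ⊗ₜ[K] (Ideal.Quotient.mk J b) = 0 ↔ _
  rw [map_one, ← Ideal.Quotient.eq_zero_iff_mem (I := J)]
  constructor
  · intro h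
    apply hinj
    rw [map_zero]
    exact h
  · intro h
    rw [h, TensorProduct.tmul_zero]

end Alg

section Points

variable {X Y P Z : Scheme.{u}}

/-- Contraction of the prime of a generization along a morphism. -/
theorem comap_ker_specMap (p : P ⟶ X) {z z' : P} (h : z' ⤳ z) (h' : p z' ⤳ p z) :
    (RingHom.ker (Cyc.specMap z z' h)).comap (p.stalkMap z).hom =
      RingHom.ker (Cyc.specMap (p z) (p z') h') := by
  ext a
  rw [Ideal.mem_comap, mem_ker_specMap_iff, mem_ker_specMap_iff]
  have h1 : X.presheaf.stalkSpecializes h' ≫ p.stalkMap z' =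
      p.stalkMap z ≫ P.presheaf.stalkSpecializes h := by
    rw [Scheme.Hom.stalkSpecializes_stalkMap]
  have h2 : (p.stalkMap z').hom ((X.presheaf.stalkSpecializes h').hom a) =
      (P.presheaf.stalkSpecializes h).hom ((p.stalkMap z).hom a) := congr(($h1).hom a)
  rw [← h2, isUnit_map_iff]

theorem specMap_stalkMap (p : P ⟶ X) {z z' : P} (h : z' ⤳ z) (h' : p z' ⤳ p z)
    (a : X.presheaf.stalk (p z)) :
    Cyc.specMap z z' h ((p.stalkMap z).hom a) =
      (p.residueFieldMap z').hom (Cyc.specMap (p z) (p z') h' a) := by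
  have h1 : X.presheaf.stalkSpecializes h' ≫ p.stalkMap z' =
      p.stalkMap z ≫ P.presheaf.stalkSpecializes h := by
    rw [Scheme.Hom.stalkSpecializes_stalkMap]
  have h2 : (p.stalkMap z').hom ((X.presheaf.stalkSpecializes h').hom a) =
      (P.presheaf.stalkSpecializes h).hom ((p.stalkMap z).hom a) := congr(($h1).hom a)
  have e1 := congr(($(Scheme.residue_residueFieldMap p z')).hom
    ((X.presheaf.stalkSpecializes h').hom a))
  change (P.residue z').hom ((P.presheaf.stalkSpecializes h).hom ((p.stalkMap z).hom a)) = _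
  rw [← h2]
  exact e1.symm

variable {K : Type u} [Field K]

/-- The map `K → κ(x)` for a scheme over `Spec K`. -/
noncomputable def kres (f : X ⟶ Spec (CommRingCat.of K)) (x : X) : K →+* X.residueField x :=
  (toStalk f x ≫ X.residue x).hom

theorem kres_comp (p : P ⟶ X) (f : X ⟶ Spec (CommRingCat.of K)) (z : P) :
    (p.residueFieldMap z).hom.comp (kres f (p z)) = kres (p ≫ f) z := by
  rw [kres, kres, ← CommRingCat.hom_comp, Category.assoc, Scheme.residue_residueFieldMap,
    ← Category.assoc, toStalk_stalkMap]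

theorem kres_id_surjective (s : ↥(Spec (CommRingCat.of K))) :
    Function.Surjective (kres (𝟙 (Spec (CommRingCat.of K))) s) := by
  intro w
  obtain ⟨w, rfl⟩ := (Spec (CommRingCat.of K)).residue_surjective s w
  have h1 : toStalk (𝟙 (Spec (CommRingCat.of K))) s =
      CommRingCat.ofHom (algebraMap K (Localization.AtPrime s.asIdeal)) ≫
        (Spec.stalkIso (CommRingCat.of K) s).inv := by
    refine Eq.trans ?_ (Spec.algebraMap_stalkIso_inv (R := CommRingCat.of K) s).symm
    apply Spec.map_injective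
    rw [SpecMap_toStalk, Category.comp_id, Spec.fromSpecStalk_eq]
  have h2 : Function.Bijective (Spec.stalkIso (CommRingCat.of K) s).inv.hom :=
    (ConcreteCategory.isIso_iff_bijective _).mp inferInstance
  obtain ⟨v, rfl⟩ := h2.2 w
  obtain ⟨⟨a, b⟩, hab⟩ := IsLocalization.surj (M := s.asIdeal.primeCompl)
    (S := Localization.AtPrime s.asIdeal) v
  have hb : (b : K) ≠ 0 := fun h0 => b.2 (by
    change (b : K) ∈ s.asIdeal
    rw [h0]; exact s.asIdeal.zero_mem)
  refine ⟨a * (b : K)⁻¹, ?_⟩
  have h3 : v = algebraMap K (Localization.AtPrime s.asIdeal) (a * (b : K)⁻¹) := by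
    have h4 : algebraMap K (Localization.AtPrime s.asIdeal) (b : K) *
      algebraMap K (Localization.AtPrime s.asIdeal) (b : K)⁻¹ = 1 := by
      rw [← map_mul, mul_inv_cancel₀ hb, map_one]
    rw [map_mul]
    have hab' : v * algebraMap K (Localization.AtPrime s.asIdeal) (b : K) =
      algebraMap K (Localization.AtPrime s.asIdeal) a := hab
    rw [← hab', mul_assoc, h4, mul_one]
  rw [h3, kres, CommRingCat.hom_comp, RingHom.comp_apply, h1]
  rfl

theorem rtd_eq_trd_kres (f : X ⟶ Spec (CommRingCat.of K)) (x : X) :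
    rtd f x = trd (kres f x) := by
  have h1 : kres f x = (f.residueFieldMap x).hom.comp (kres (𝟙 _) (f x)) := by
    have h2 : f = f ≫ 𝟙 _ := (Category.comp_id f).symm
    have h3 := kres_comp f (𝟙 (Spec (CommRingCat.of K))) x
    rw [h3]
    congr 1
  rw [h1, trd_comp, trd_eq_zero_of_surjective _ (RingHom.injective _) (kres_id_surjective _),
    zero_add]
  rfl

section Pb

variable {f : X ⟶ Spec (CommRingCat.of K)} {g : Y ⟶ Spec (CommRingCat.of K)}
  {p : P ⟶ X} {q : P ⟶ Y}

theorem kres_fst_eq_snd (w : p ≫ f = q ≫ g) (z : P) :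
    (p.residueFieldMap z).hom.comp (kres f (p z)) =
      (q.residueFieldMap z).hom.comp (kres g (q z)) := by
  rw [kres_comp, kres_comp]
  congr 1

/-- The algebra structure on a local ring of a scheme over `Spec K`. -/
@[reducible] noncomputable def algStalk {X : Scheme.{u}} (f : X ⟶ Spec (CommRingCat.of K))
    (x : X) : Algebra K (X.presheaf.stalk x) := (toStalk f x).hom.toAlgebra

/-- For every point `z` of a fibre product over `Spec K`, the ring map
`O_{X,x} ⊗[K] O_{Y,y} → O_{P,z}` and its properties. -/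
theorem exists_prodMap (H : IsPullback p q f g) (z : P) :
    letI := algStalk f (p z)
    letI := algStalk g (q z)
    ∃ φ : (X.presheaf.stalk (p z)) ⊗[K] (Y.presheaf.stalk (q z)) →+* P.presheaf.stalk z,
      (∀ a b, φ (a ⊗ₜ b) = (p.stalkMap z).hom a * (q.stalkMap z).hom b) ∧
      (letI := φ.toAlgebra
       IsLocalization.AtPrime (P.presheaf.stalk z)
        ((IsLocalRing.maximalIdeal (P.presheaf.stalk z)).comap φ)) := by
  let _ := algStalk f (p z)
  let _ := algStalk g (q z)
  have hT : IsPushout (toStalk f (p z)) (toStalk g (q z))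
      (CommRingCat.ofHom (R := X.presheaf.stalk (p z))
        (S := (X.presheaf.stalk (p z)) ⊗[K] (Y.presheaf.stalk (q z)))
        (Algebra.TensorProduct.includeLeftRingHom))
      (CommRingCat.ofHom (R := Y.presheaf.stalk (q z))
        (S := (X.presheaf.stalk (p z)) ⊗[K] (Y.presheaf.stalk (q z)))
        (Algebra.TensorProduct.includeRight.toRingHom)) :=
    CommRingCat.isPushout_tensorProduct K (X.presheaf.stalk (p z)) (Y.presheaf.stalk (q z))
  let φ := hT.desc (p.stalkMap z) (q.stalkMap z) (toStalk_fst_eq_snd H.w z)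
  have hA := hT.inl_desc (p.stalkMap z) (q.stalkMap z) (toStalk_fst_eq_snd H.w z)
  have hB := hT.inr_desc (p.stalkMap z) (q.stalkMap z) (toStalk_fst_eq_snd H.w z)
  refine ⟨φ.hom, ?_, isLocalization_of_isPushout H z hT φ hA hB⟩
  intro a b
  have h1 : φ.hom (a ⊗ₜ 1) = (p.stalkMap z).hom a := congr(($hA).hom a)
  have h2 : φ.hom (1 ⊗ₜ b) = (q.stalkMap z).hom b := congr(($hB).hom b)
  rw [← h1, ← h2, ← map_mul, Algebra.TensorProduct.tmul_mul_tmul, mul_one, one_mul]

theorem gen_residue (H : IsPullback p q f g) (z : P) (S : Subring (P.residueField z))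
    (h1 : ∀ a, (p.residueFieldMap z).hom a ∈ S) (h2 : ∀ b, (q.residueFieldMap z).hom b ∈ S)
    (w : P.residueField z) : ∃ a ∈ S, ∃ b ∈ S, b ≠ 0 ∧ w * b = a := by
  let _ := algStalk f (p z)
  let _ := algStalk g (q z)
  obtain ⟨φ, hφ, hloc⟩ := exists_prodMap H z
  have hS : ∀ t, (P.residue z).hom (φ t) ∈ S := by
    intro t
    induction t with
    | zero => rw [map_zero, map_zero]; exact S.zero_mem
    | tmul a b =>
      rw [hφ, map_mul]
      have e1 : (P.residue z).hom ((p.stalkMap z).hom a) =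
          (p.residueFieldMap z).hom ((X.residue (p z)).hom a) :=
        congr(($(Scheme.residue_residueFieldMap p z)).hom a).symm
      have e2 : (P.residue z).hom ((q.stalkMap z).hom b) =
          (q.residueFieldMap z).hom ((Y.residue (q z)).hom b) :=
        congr(($(Scheme.residue_residueFieldMap q z)).hom b).symm
      rw [e1, e2]
      exact S.mul_mem (h1 _) (h2 _)
    | add a b ha hb => rw [map_add, map_add]; exact S.add_mem ha hb
  obtain ⟨c, rfl⟩ := P.residue_surjective z w
  let _ := φ.toAlgebra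
  obtain ⟨⟨a, s⟩, has⟩ := IsLocalization.surj
    ((IsLocalRing.maximalIdeal (P.presheaf.stalk z)).comap φ).primeCompl c
  refine ⟨_, hS a, _, hS s, ?_, ?_⟩
  · intro h0
    apply s.2
    change φ s ∈ IsLocalRing.maximalIdeal _
    exact Ideal.Quotient.eq_zero_iff_mem.1 h0
  · have : c * φ s = φ a := has
    rw [← this, map_mul]

/-- `δ(z) ≤ δ(p z) + δ(q z)` for points of a product. -/
theorem rtd_le (H : IsPullback p q f g) (z : P) :
    rtd (p ≫ f) z ≤ rtd f (p z) + rtd g (q z) := by
  rw [rtd_comp]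
  refine add_le_add_right ?_ _
  rw [rtd_eq_trd_kres g]
  exact TensorTrdeg.trd_le (kres f (p z)) (kres g (q z)) (p.residueFieldMap z).hom
    (q.residueFieldMap z).hom (kres_fst_eq_snd H.w z) (fun S h1 h2 w => gen_residue H z S h1 h2 w)

/-- Over an algebraically closed field: for generizations `x'`, `y'` of the projections of `z`
there is a (unique) generization `z'` of `z` with prime ideal `p_{x'} O_z + p_{y'} O_z`; it lies
over `x'` and `y'` and has the maximal possible transcendence degree. -/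
theorem exists_prod_point [IsAlgClosed K] (H : IsPullback p q f g) (z : P) {x' : X} {y' : Y}
    (hx : x' ⤳ p z) (hy : y' ⤳ q z) :
    ∃ (z' : P) (hz : z' ⤳ z), p z' = x' ∧ q z' = y' ∧
      RingHom.ker (Cyc.specMap z z' hz) =
        (RingHom.ker (Cyc.specMap (p z) x' hx)).map (p.stalkMap z).hom ⊔
          (RingHom.ker (Cyc.specMap (q z) y' hy)).map (q.stalkMap z).hom ∧
      rtd (p ≫ f) z' = rtd f x' + rtd g y' := by
  let _ := algStalk f (p z)
  let _ := algStalk g (q z)
  obtain ⟨φ, hφ, hloc⟩ := exists_prodMap H z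
  let _ := φ.toAlgebra
  let I := RingHom.ker (Cyc.specMap (p z) x' hx)
  let J := RingHom.ker (Cyc.specMap (q z) y' hy)
  have hI : I.IsPrime := inferInstance
  have hJ : J.IsPrime := inferInstance
  let 𝔯 := (IsLocalRing.maximalIdeal (P.presheaf.stalk z)).comap φ
  have hprime := sumIdeal_isPrime (K := K) I J
  have hφ1 : φ.comp (Algebra.TensorProduct.includeLeftRingHom) = (p.stalkMap z).hom := by
    ext a
    change φ (a ⊗ₜ 1) = _
    rw [hφ, map_one, mul_one]
  have hφ2 : φ.comp ((Algebra.TensorProduct.includeRight : Y.presheaf.stalk (q z) →ₐ[K]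
      (X.presheaf.stalk (p z)) ⊗[K] (Y.presheaf.stalk (q z))) :
      Y.presheaf.stalk (q z) →+* (X.presheaf.stalk (p z)) ⊗[K] (Y.presheaf.stalk (q z))) =
      (q.stalkMap z).hom := by
    ext a
    change φ (1 ⊗ₜ a) = _
    rw [hφ, map_one, one_mul]
  have hmap : (sumIdeal K I J).map φ = I.map (p.stalkMap z).hom ⊔ J.map (q.stalkMap z).hom := by
    rw [sumIdeal, Ideal.map_sup]
    congr 1
    · rw [← hφ1, ← Ideal.map_map]; rfl
    · rw [← hφ2, ← Ideal.map_map]; rfl
  have hle : sumIdeal K I J ≤ 𝔯 := by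
    rw [← Ideal.map_le_iff_le_comap, hmap, sup_le_iff, Ideal.map_le_iff_le_comap,
      Ideal.map_le_iff_le_comap]
    constructor
    · refine le_trans (IsLocalRing.le_maximalIdeal hI.ne_top) ?_
      exact ((IsLocalRing.local_hom_TFAE (p.stalkMap z).hom).out 0 3 rfl rfl).mp inferInstance
    · refine le_trans (IsLocalRing.le_maximalIdeal hJ.ne_top) ?_
      exact ((IsLocalRing.local_hom_TFAE (q.stalkMap z).hom).out 0 3 rfl rfl).mp inferInstance
  have hdisj : Disjoint (𝔯.primeCompl : Set _)
      (sumIdeal K I J : Set ((X.presheaf.stalk (p z)) ⊗[K] (Y.presheaf.stalk (q z)))) := by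
    rw [Set.disjoint_left]
    exact fun a ha ha' => ha (hle ha')
  have hQ : ((sumIdeal K I J).map φ).IsPrime :=
    IsLocalization.isPrime_of_isPrime_disjoint 𝔯.primeCompl (P.presheaf.stalk z) _ hprime hdisj
  have hcomap : ((sumIdeal K I J).map φ).comap φ = sumIdeal K I J :=
    IsLocalization.under_map_of_isPrime_disjoint 𝔯.primeCompl (P.presheaf.stalk z) hprime hdisj
  obtain ⟨z', hz, hker⟩ := exists_eq_ker ((sumIdeal K I J).map φ)
  have hpz : p z' = x' := by
    have h1 : p z' ⤳ p z := hz.map p.continuous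
    rw [← ker_inj h1 hx, ← comap_ker_specMap p hz h1, ← hker, ← hφ1, ← Ideal.comap_comap, hcomap]
    exact comap_includeLeft_sumIdeal I J hJ.ne_top
  have hqz : q z' = y' := by
    have h1 : q z' ⤳ q z := hz.map q.continuous
    rw [← ker_inj h1 hy, ← comap_ker_specMap q hz h1, ← hker, ← hφ2, ← Ideal.comap_comap, hcomap]
    exact comap_includeRight_sumIdeal I J hI.ne_top
  refine ⟨z', hz, hpz, hqz, by rw [← hker, hmap], ?_⟩
  subst hpz hqz
  rw [rtd_comp]
  congr 1
  rw [rtd_eq_trd_kres g]
  let _ : Algebra K (P.residueField z') := (kres (p ≫ f) z').toAlgebra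
  let j₁ : (X.presheaf.stalk (p z)) ⧸ I →+* X.residueField (p z') :=
    algebraMap (Cyc.LocQuot (p z) (p z') hx) (X.residueField (p z'))
  let j₂ : (Y.presheaf.stalk (q z)) ⧸ J →+* Y.residueField (q z') :=
    algebraMap (Cyc.LocQuot (q z) (q z') hy) (Y.residueField (q z'))
  have hj₁ : FracGen j₁ := by
    intro w
    obtain ⟨a, b, hb, hab⟩ := IsFractionRing.div_surjective (A := Cyc.LocQuot (p z) (p z') hx) w
    have hb' : algebraMap (Cyc.LocQuot (p z) (p z') hx) (X.residueField (p z')) b ≠ 0 :=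
      IsFractionRing.to_map_ne_zero_of_mem_nonZeroDivisors hb
    refine ⟨a, b, hb', ?_⟩
    rw [← hab]
    exact div_mul_cancel₀ _ hb'
  have hj₂ : FracGen j₂ := by
    intro w
    obtain ⟨a, b, hb, hab⟩ := IsFractionRing.div_surjective (A := Cyc.LocQuot (q z) (q z') hy) w
    have hb' : algebraMap (Cyc.LocQuot (q z) (q z') hy) (Y.residueField (q z')) b ≠ 0 :=
      IsFractionRing.to_map_ne_zero_of_mem_nonZeroDivisors hb
    refine ⟨a, b, hb', ?_⟩
    rw [← hab]
    exact div_mul_cancel₀ _ hb'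
  have hk₁ : j₁.comp (algebraMap K _) = kres f (p z') := by
    rw [kres, ← toStalk_stalkSpecializes f hx]
    rfl
  have hk₂ : j₂.comp (algebraMap K _) = kres g (q z') := by
    rw [kres, ← toStalk_stalkSpecializes g hy]
    rfl
  let a₁ : (X.presheaf.stalk (p z)) ⧸ I →ₐ[K] P.residueField z' :=
    ⟨(p.residueFieldMap z').hom.comp j₁, fun k => by
      have h1 := kres_comp p f z'
      have h2 := RingHom.congr_fun hk₁ k
      change (p.residueFieldMap z').hom ((j₁.comp (algebraMap K _)) k) = _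
      rw [h2]
      exact RingHom.congr_fun h1 k⟩
  let a₂ : (Y.presheaf.stalk (q z)) ⧸ J →ₐ[K] P.residueField z' :=
    ⟨(q.residueFieldMap z').hom.comp j₂, fun k => by
      have h1 := kres_comp p f z'
      have h3 := kres_fst_eq_snd H.w z'
      have h2 := RingHom.congr_fun hk₂ k
      change (q.residueFieldMap z').hom ((j₂.comp (algebraMap K _)) k) = _
      rw [h2]
      exact (RingHom.congr_fun h3 k).symm.trans (RingHom.congr_fun h1 k)⟩
  let Ψ : ((X.presheaf.stalk (p z)) ⧸ I) ⊗[K] ((Y.presheaf.stalk (q z)) ⧸ J) →ₐ[K]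
      P.residueField z' := Algebra.TensorProduct.lift a₁ a₂ (fun _ _ => Commute.all _ _)
  let π : (X.presheaf.stalk (p z)) ⊗[K] (Y.presheaf.stalk (q z)) →ₐ[K]
      ((X.presheaf.stalk (p z)) ⧸ I) ⊗[K] ((Y.presheaf.stalk (q z)) ⧸ J) :=
    Algebra.TensorProduct.map (Ideal.Quotient.mkₐ K I) (Ideal.Quotient.mkₐ K J)
  have hπ : Function.Surjective π := TensorProduct.map_surjective
    Ideal.Quotient.mk_surjective Ideal.Quotient.mk_surjective
  have hΨπ : ∀ s, Ψ (π s) = Cyc.specMap z z' hz (φ s) := by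
    intro s
    induction s with
    | zero => rw [map_zero, map_zero, map_zero, map_zero]
    | tmul a b =>
      rw [hφ, map_mul, specMap_stalkMap p hz hx, specMap_stalkMap q hz hy]
      rfl
    | add a b ha hb => rw [map_add, map_add, map_add, map_add, ha, hb]
  have hinj : Function.Injective Ψ := by
    rw [injective_iff_map_eq_zero]
    intro t ht
    obtain ⟨s, rfl⟩ := hπ t
    rw [hΨπ] at ht
    have h1 : φ s ∈ (sumIdeal K I J).map φ := by
      rw [hker]; exact ht
    have h2 : s ∈ sumIdeal K I J := by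
      rw [← hcomap]; exact h1
    rw [sumIdeal_eq_ker] at h2
    exact h2
  exact TensorTrdeg.trd_eq (kres f (p z')) (kres g (q z')) (p.residueFieldMap z').hom
    (q.residueFieldMap z').hom (kres_fst_eq_snd H.w z')
    (fun S h1 h2 w => gen_residue H z' S h1 h2 w) j₁ j₂ hj₁ hj₂ hk₁ hk₂ Ψ.toRingHom
    (fun a b => rfl) hinj

end Pb

end Points

end Groth.Agent.CycA.ProdPoint
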