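import Groth.Agent.CycA.DiagAlg
import Groth.Agent.CycA.ProdPoint
import Groth.Agent.CycA.StalkIdeal

/-!
# Reduction to the diagonal: local rings of schemes

* `ker_stalkMap_prod`: the stalk of the ideal of `V × W` in `X × Y`.
* `chi_diag`: `χ(O_x/I₂, O_x/I₁) = χ(O_{X×X,Δx}/I_Δ, O_{X×X,Δx}/(I₁ + I₂))`.
-/

set_option autoImplicit false

universe u

open CategoryTheory Limits AlgebraicGeometry TensorProduct

namespace Groth.Agent.CycA.DiagStalk

open Groth.Agent.CycA.ProdStalk Groth.Agent.CycA.ProdPoint Groth.Agent.CycA.StalkIdeal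

section Alg

/-- Kernel of a map of localizations of tensor products. -/
theorem ker_eq_of_tensor (K A₁ A₂ A₁' A₂' B B' : Type u) [Field K] [CommRing A₁] [CommRing A₂]
    [CommRing A₁'] [CommRing A₂'] [CommRing B] [CommRing B'] [IsLocalRing B] [IsLocalRing B']
    [Algebra K A₁] [Algebra K A₂] [Algebra K A₁'] [Algebra K A₂']
    (a₁ : A₁ →ₐ[K] A₁') (a₂ : A₂ →ₐ[K] A₂') (h₁ : Function.Surjective a₁)
    (h₂ : Function.Surjective a₂) (φ : A₁ ⊗[K] A₂ →+* B) (φ' : A₁' ⊗[K] A₂' →+* B')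
    (hφ : letI := φ.toAlgebra
      IsLocalization.AtPrime B ((IsLocalRing.maximalIdeal B).comap φ))
    (hφ' : letI := φ'.toAlgebra
      IsLocalization.AtPrime B' ((IsLocalRing.maximalIdeal B').comap φ'))
    (p₁ : A₁ →+* B) (p₂ : A₂ →+* B) (hp : ∀ a b, φ (a ⊗ₜ b) = p₁ a * p₂ b)
    (ψ : B →+* B') [IsLocalHom ψ] (hψ : ∀ a b, ψ (φ (a ⊗ₜ b)) = φ' (a₁ a ⊗ₜ a₂ b)) :
    RingHom.ker ψ = (RingHom.ker a₁).map p₁ ⊔ (RingHom.ker a₂).map p₂ := by
  have hcomp : ∀ x, ψ (φ x) = φ' (Algebra.TensorProduct.map a₁ a₂ x) := by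
    intro x
    induction x with
    | zero => simp
    | add x y hx hy => rw [map_add, map_add, hx, hy, map_add, map_add]
    | tmul a b => rw [hψ, Algebra.TensorProduct.map_tmul]
  have hπ : Function.Surjective (Algebra.TensorProduct.map a₁ a₂) :=
    TensorProduct.map_surjective h₁ h₂
  have hker := Algebra.TensorProduct.map_ker a₁ a₂ h₁ h₂
  have e1 : (φ.comp (Algebra.TensorProduct.includeLeft : A₁ →ₐ[K] A₁ ⊗[K] A₂).toRingHom) = p₁ := by
    ext a
    have := hp a 1
    rw [map_one, mul_one] at this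
    exact this
  have e2 : (φ.comp (Algebra.TensorProduct.includeRight : A₂ →ₐ[K] A₁ ⊗[K] A₂).toRingHom) = p₂ := by
    ext a
    have := hp 1 a
    rw [map_one, one_mul] at this
    exact this
  have hmap : (RingHom.ker (Algebra.TensorProduct.map a₁ a₂)).map φ =
      (RingHom.ker a₁).map p₁ ⊔ (RingHom.ker a₂).map p₂ := by
    rw [hker, Ideal.map_sup]
    congr 1
    · rw [← e1, ← Ideal.map_map]
      rfl
    · rw [← e2, ← Ideal.map_map]
      rfl
  rw [← hmap]
  apply le_antisymm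
  · intro b hb
    let _ : Algebra (A₁ ⊗[K] A₂) B := φ.toAlgebra
    let _ : Algebra (A₁' ⊗[K] A₂') B' := φ'.toAlgebra
    obtain ⟨⟨t, s⟩, hts⟩ := IsLocalization.surj
      ((IsLocalRing.maximalIdeal B).comap φ).primeCompl b
    have hs : IsUnit (φ s) := IsLocalization.map_units (M :=
      ((IsLocalRing.maximalIdeal B).comap φ).primeCompl) B s
    have hts' : b * φ s = φ t := hts
    have h3 : φ' (Algebra.TensorProduct.map a₁ a₂ t) = 0 := by
      rw [← hcomp, ← hts', map_mul, show ψ b = 0 from hb, zero_mul]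
    obtain ⟨s', hs'⟩ := (IsLocalization.map_eq_zero_iff
      ((IsLocalRing.maximalIdeal B').comap φ').primeCompl B' _).1 h3
    obtain ⟨s'', hs''⟩ := hπ s'.1
    have h4 : IsUnit (φ' s') := IsLocalization.map_units (M :=
      ((IsLocalRing.maximalIdeal B').comap φ').primeCompl) B' s'
    have h5 : IsUnit (φ s'') := by
      apply isUnit_of_map_unit ψ
      rw [hcomp, hs'']
      exact h4
    have h6 : s'' * t ∈ RingHom.ker (Algebra.TensorProduct.map a₁ a₂) := by
      rw [RingHom.mem_ker, map_mul, hs'']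
      exact hs'
    have h7 := Ideal.mem_map_of_mem φ h6
    rw [map_mul, Ideal.unit_mul_mem_iff_mem _ h5, ← hts', Ideal.mul_unit_mem_iff_mem _ hs] at h7
    exact h7
  · rw [Ideal.map_le_iff_le_comap]
    intro x hx
    rw [Ideal.mem_comap, RingHom.mem_ker, hcomp, show Algebra.TensorProduct.map a₁ a₂ x = 0 from hx,
      map_zero]

/-- A localization at a prime is flat. -/
theorem flat_of_isLocalization {R B : Type u} [CommRing R] [CommRing B] (φ : R →+* B)
    (P : Ideal R) [P.IsPrime]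
    (hφ : letI := φ.toAlgebra
      IsLocalization.AtPrime B P) : φ.Flat := by
  let _ : Algebra R B := φ.toAlgebra
  exact IsLocalization.flat B P.primeCompl

end Alg

section Stalk

variable {K : Type u} [Field K]

/-- Transport of stalk ideals along equality of points. -/
theorem comap_stalkCongr {X : Scheme.{u}} (I : X.IdealSheafData) {x y : X} (h : x = y) :
    (IntMult.stalkIdeal I y).comap (X.presheaf.stalkCongr (.of_eq h)).hom.hom =
      IntMult.stalkIdeal I x := by
  subst h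
  rw [TopCat.Presheaf.stalkCongr]
  simp only [TopCat.Presheaf.stalkSpecializes_refl]
  exact Ideal.comap_id _

section Prod

variable {X Y P V W Q : Scheme.{u}} {f : X ⟶ Spec (CommRingCat.of K)}
  {g : Y ⟶ Spec (CommRingCat.of K)} {p : P ⟶ X} {q : P ⟶ Y}
  {ι : V ⟶ X} {κ : W ⟶ Y} {p' : Q ⟶ V} {q' : Q ⟶ W}

/-- The stalk of the ideal of `V × W` in `X × Y`. -/
theorem ker_stalkMap_prod (H : IsPullback p q f g) (H' : IsPullback p' q' (ι ≫ f) (κ ≫ g))
    [IsClosedImmersion ι] [IsClosedImmersion κ] (j : Q ⟶ P) (hp : p' ≫ ι = j ≫ p)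
    (hq : q' ≫ κ = j ≫ q) (w : Q) :
    RingHom.ker (j.stalkMap w).hom =
      (IntMult.stalkIdeal ι.ker (p (j w))).map (p.stalkMap (j w)).hom ⊔
        (IntMult.stalkIdeal κ.ker (q (j w))).map (q.stalkMap (j w)).hom := by
  have e1 : p (j w) = ι (p' w) := by
    rw [← Scheme.Hom.comp_apply, ← Scheme.Hom.comp_apply, hp]
  have e2 : q (j w) = κ (q' w) := by
    rw [← Scheme.Hom.comp_apply, ← Scheme.Hom.comp_apply, hq]
  let _ := algStalk f (p (j w))
  let _ := algStalk g (q (j w))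
  let _ := algStalk (ι ≫ f) (p' w)
  let _ := algStalk (κ ≫ g) (q' w)
  obtain ⟨φ, hφ, hloc⟩ := exists_prodMap H (j w)
  obtain ⟨φ', hφ', hloc'⟩ := exists_prodMap H' w
  have hst : ∀ (Z T : Scheme.{u}) (i : Z ⟶ T) (t : T ⟶ Spec (CommRingCat.of K)) (z : Z) (x : T)
      (h : x = i z), toStalk t x ≫ (T.presheaf.stalkCongr (.of_eq h)).hom ≫ i.stalkMap z =
        toStalk (i ≫ t) z := by
    rintro Z T i t z _ rfl
    rw [TopCat.Presheaf.stalkCongr]
    simp only [TopCat.Presheaf.stalkSpecializes_refl, Category.id_comp]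
    exact toStalk_stalkMap i t z
  let b₁ := (X.presheaf.stalkCongr (.of_eq e1)).hom ≫ ι.stalkMap (p' w)
  let b₂ := (Y.presheaf.stalkCongr (.of_eq e2)).hom ≫ κ.stalkMap (q' w)
  let a₁ : X.presheaf.stalk (p (j w)) →ₐ[K] V.presheaf.stalk (p' w) :=
    { b₁.hom with
      commutes' := fun r => congr(($(hst V X ι f (p' w) (p (j w)) e1)).hom r) }
  let a₂ : Y.presheaf.stalk (q (j w)) →ₐ[K] W.presheaf.stalk (q' w) :=
    { b₂.hom with
      commutes' := fun r => congr(($(hst W Y κ g (q' w) (q (j w)) e2)).hom r) }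
  have s1 : Function.Surjective a₁ := by
    have h1 : Function.Surjective (ι.stalkMap (p' w)).hom := ι.stalkMap_surjective (p' w)
    have h2 := (ConcreteCategory.isIso_iff_bijective
      (X.presheaf.stalkCongr (.of_eq e1)).hom).mp inferInstance
    exact h1.comp h2.2
  have s2 : Function.Surjective a₂ := by
    have h1 : Function.Surjective (κ.stalkMap (q' w)).hom := κ.stalkMap_surjective (q' w)
    have h2 := (ConcreteCategory.isIso_iff_bijective
      (Y.presheaf.stalkCongr (.of_eq e2)).hom).mp inferInstance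
    exact h1.comp h2.2
  have k1 : RingHom.ker a₁ = IntMult.stalkIdeal ι.ker (p (j w)) := by
    rw [← comap_stalkCongr ι.ker e1, stalkIdeal_ker]
    rfl
  have k2 : RingHom.ker a₂ = IntMult.stalkIdeal κ.ker (q (j w)) := by
    rw [← comap_stalkCongr κ.ker e2, stalkIdeal_ker]
    rfl
  have hc1 : p.stalkMap (j w) ≫ j.stalkMap w = b₁ ≫ p'.stalkMap w := by
    rw [← Scheme.Hom.stalkMap_comp, Category.assoc, ← Scheme.Hom.stalkMap_comp]
    exact Scheme.Hom.stalkMap_congr_hom _ _ hp.symm w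
  have hc2 : q.stalkMap (j w) ≫ j.stalkMap w = b₂ ≫ q'.stalkMap w := by
    rw [← Scheme.Hom.stalkMap_comp, Category.assoc, ← Scheme.Hom.stalkMap_comp]
    exact Scheme.Hom.stalkMap_congr_hom _ _ hq.symm w
  rw [ker_eq_of_tensor K _ _ _ _ _ _ a₁ a₂ s1 s2 φ φ' hloc hloc' (p.stalkMap (j w)).hom
    (q.stalkMap (j w)).hom hφ (j.stalkMap w).hom ?_, k1, k2]
  intro a b
  rw [hφ, hφ', map_mul]
  congr 1
  · exact congr(($hc1).hom a)
  · exact congr(($hc2).hom b)

end Prod

section Diag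

variable {X P : Scheme.{u}} {f : X ⟶ Spec (CommRingCat.of K)} {p q : P ⟶ X}

/-- Reduction to the diagonal, for quotients of the local rings by arbitrary ideals. -/
theorem chi_diag_ideal (H : IsPullback p q f f) (Δ : X ⟶ P) (hp : Δ ≫ p = 𝟙 X) (hq : Δ ≫ q = 𝟙 X)
    (x : X) (I₁ : Ideal (X.presheaf.stalk (p (Δ x)))) (I₂ : Ideal (X.presheaf.stalk (q (Δ x)))) :
    IntMult.chi (X.presheaf.stalk x)
      (X.presheaf.stalk x ⧸ I₂.map (q.stalkMap (Δ x) ≫ Δ.stalkMap x).hom)
      (X.presheaf.stalk x ⧸ I₁.map (p.stalkMap (Δ x) ≫ Δ.stalkMap x).hom) =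
    IntMult.chi (P.presheaf.stalk (Δ x))
      (P.presheaf.stalk (Δ x) ⧸ RingHom.ker (Δ.stalkMap x).hom)
      (P.presheaf.stalk (Δ x) ⧸ (I₁.map (p.stalkMap (Δ x)).hom ⊔
        I₂.map (q.stalkMap (Δ x)).hom)) := by
  let _ := algStalk f (p (Δ x))
  let _ := algStalk f (q (Δ x))
  obtain ⟨φ, hφ, hloc⟩ := exists_prodMap H (Δ x)
  let _ : Algebra (X.presheaf.stalk (p (Δ x))) (P.presheaf.stalk (Δ x)) :=
    (p.stalkMap (Δ x)).hom.toAlgebra
  let _ : Algebra (X.presheaf.stalk (q (Δ x))) (P.presheaf.stalk (Δ x)) :=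
    (q.stalkMap (Δ x)).hom.toAlgebra
  let _ : Algebra (P.presheaf.stalk (Δ x)) (X.presheaf.stalk x) :=
    (Δ.stalkMap x).hom.toAlgebra
  let _ : Algebra (X.presheaf.stalk (p (Δ x))) (X.presheaf.stalk x) :=
    (p.stalkMap (Δ x) ≫ Δ.stalkMap x).hom.toAlgebra
  let _ : Algebra (X.presheaf.stalk (q (Δ x))) (X.presheaf.stalk x) :=
    (q.stalkMap (Δ x) ≫ Δ.stalkMap x).hom.toAlgebra
  have t1 : IsScalarTower (X.presheaf.stalk (p (Δ x))) (P.presheaf.stalk (Δ x))
    (X.presheaf.stalk x) := IsScalarTower.of_algebraMap_eq fun a => rfl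
  have t2 : IsScalarTower (X.presheaf.stalk (q (Δ x))) (P.presheaf.stalk (Δ x))
    (X.presheaf.stalk x) := IsScalarTower.of_algebraMap_eq fun a => rfl
  have hb : ∀ (r : P ⟶ X), Δ ≫ r = 𝟙 X →
      Function.Bijective (r.stalkMap (Δ x) ≫ Δ.stalkMap x).hom := by
    intro r hr
    rw [← Scheme.Hom.stalkMap_comp]
    have : IsIso (Δ ≫ r) := by rw [hr]; infer_instance
    exact (ConcreteCategory.isIso_iff_bijective ((Δ ≫ r).stalkMap x)).mp inferInstance
  exact DiagAlg.chi_diag_quot K (X.presheaf.stalk (p (Δ x))) (X.presheaf.stalk (q (Δ x)))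
    (P.presheaf.stalk (Δ x)) (X.presheaf.stalk x) φ hφ
    (flat_of_isLocalization φ _ hloc) (hb p hp) (hb q hq) I₁ I₂

/-- The extension of a stalk ideal along the identity. -/
theorem map_stalkIdeal (I : X.IdealSheafData) (r : P ⟶ X) (Δ : X ⟶ P) (hr : Δ ≫ r = 𝟙 X) (x : X) :
    (IntMult.stalkIdeal I (r (Δ x))).map (r.stalkMap (Δ x) ≫ Δ.stalkMap x).hom =
      IntMult.stalkIdeal I x := by
  rw [← Scheme.Hom.stalkMap_comp]
  have key : ∀ (e : X ⟶ X) (_ : e = 𝟙 X), (IntMult.stalkIdeal I (e x)).map (e.stalkMap x).hom =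
      IntMult.stalkIdeal I x := by
    rintro _ rfl
    rw [Scheme.Hom.stalkMap_id]
    exact Ideal.map_id _
  exact key _ hr

/-- Reduction to the diagonal, for stalks of ideal sheaves. -/
theorem chi_diag (H : IsPullback p q f f) (Δ : X ⟶ P) (hp : Δ ≫ p = 𝟙 X) (hq : Δ ≫ q = 𝟙 X)
    (x : X) (I₁ I₂ : X.IdealSheafData) :
    IntMult.chi (X.presheaf.stalk x) (X.presheaf.stalk x ⧸ IntMult.stalkIdeal I₂ x)
      (X.presheaf.stalk x ⧸ IntMult.stalkIdeal I₁ x) =
    IntMult.chi (P.presheaf.stalk (Δ x))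
      (P.presheaf.stalk (Δ x) ⧸ RingHom.ker (Δ.stalkMap x).hom)
      (P.presheaf.stalk (Δ x) ⧸ ((IntMult.stalkIdeal I₁ (p (Δ x))).map (p.stalkMap (Δ x)).hom ⊔
        (IntMult.stalkIdeal I₂ (q (Δ x))).map (q.stalkMap (Δ x)).hom)) := by
  rw [← chi_diag_ideal H Δ hp hq x, map_stalkIdeal I₁ p Δ hp, map_stalkIdeal I₂ q Δ hq]

/-- Reduction to the diagonal, for the primes of generizations. -/
theorem chi_diag_specMap (H : IsPullback p q f f) (Δ : X ⟶ P) (hp : Δ ≫ p = 𝟙 X)
    (hq : Δ ≫ q = 𝟙 X) {x x' y' : X} (hx : x' ⤳ x) (hy : y' ⤳ x) (hx' : x' ⤳ p (Δ x))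
    (hy' : y' ⤳ q (Δ x)) :
    IntMult.chi (X.presheaf.stalk x) (X.presheaf.stalk x ⧸ RingHom.ker (Cyc.specMap x y' hy))
      (X.presheaf.stalk x ⧸ RingHom.ker (Cyc.specMap x x' hx)) =
    IntMult.chi (P.presheaf.stalk (Δ x))
      (P.presheaf.stalk (Δ x) ⧸ RingHom.ker (Δ.stalkMap x).hom)
      (P.presheaf.stalk (Δ x) ⧸
        ((RingHom.ker (Cyc.specMap (p (Δ x)) x' hx')).map (p.stalkMap (Δ x)).hom ⊔
        (RingHom.ker (Cyc.specMap (q (Δ x)) y' hy')).map (q.stalkMap (Δ x)).hom)) := by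
  rw [← stalkIdeal_ptIdeal hx, ← stalkIdeal_ptIdeal hy, ← stalkIdeal_ptIdeal hx',
    ← stalkIdeal_ptIdeal hy']
  exact chi_diag H Δ hp hq x _ _

end Diag

/-- Reduction to the diagonal, for `X` separated over a field and the product `X × X` of
Mathlib: general form of Stacks 0B0U (2) without any properness assumption. -/
theorem mult_eq_mult_diagonal {X : Scheme.{u}} (f : X ⟶ Spec (CommRingCat.of K)) [IsSeparated f]
    (IV IW : X.IdealSheafData) (x : X) (hV : x ∈ IV.support) (hW : x ∈ IW.support) :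
    IntMult.mult IV IW x = IntMult.mult (pullback.map (IV.subschemeι ≫ f) (IW.subschemeι ≫ f) f f
      IV.subschemeι IW.subschemeι (𝟙 _) (Category.comp_id _) (Category.comp_id _)).ker
      (pullback.diagonal f).ker (pullback.diagonal f x) := by
  have H : IsPullback (pullback.fst f f) (pullback.snd f f) f f := IsPullback.of_hasPullback f f
  set j := pullback.map (IV.subschemeι ≫ f) (IW.subschemeι ≫ f) f f
      IV.subschemeι IW.subschemeι (𝟙 _) (Category.comp_id _) (Category.comp_id _) with hj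
  have H' := IsPullback.of_hasPullback (IV.subschemeι ≫ f) (IW.subschemeι ≫ f)
  have e1 : pullback.fst (IV.subschemeι ≫ f) (IW.subschemeι ≫ f) ≫ IV.subschemeι =
      j ≫ pullback.fst f f := by rw [hj, pullback.lift_fst]
  have e2 : pullback.snd (IV.subschemeι ≫ f) (IW.subschemeι ≫ f) ≫ IW.subschemeι =
      j ≫ pullback.snd f f := by rw [hj, pullback.lift_snd]
  have hjc : IsClosedImmersion j := by
    rw [hj]
    apply MorphismProperty.pullbackMap (P := @IsClosedImmersion)
    all_goals first | infer_instance | rfl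
  obtain ⟨w, hw⟩ : ∃ w, j w = pullback.diagonal f x := by
    have hV' : x ∈ Set.range IV.subschemeι := by rw [IV.range_subschemeι]; exact hV
    have hW' : x ∈ Set.range IW.subschemeι := by rw [IW.range_subschemeι]; exact hW
    obtain ⟨v, hv⟩ := hV'
    obtain ⟨v', hv'⟩ := hW'
    obtain ⟨u, hu, -⟩ := Scheme.Pullback.exists_preimage_pullback v v' (hv.trans hv'.symm)
    let m : pullback IV.subschemeι IW.subschemeι ⟶
        pullback (IV.subschemeι ≫ f) (IW.subschemeι ≫ f) :=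
      pullback.lift (pullback.fst _ _) (pullback.snd _ _) (by
        rw [← Category.assoc, pullback.condition, Category.assoc])
    have hm : m ≫ j = (pullback.fst _ _ ≫ IV.subschemeι) ≫ pullback.diagonal f := by
      apply pullback.hom_ext
      · rw [Category.assoc, ← e1, pullback.lift_fst_assoc, Category.assoc, Category.assoc,
          pullback.diagonal_fst, Category.comp_id]
      · rw [Category.assoc, ← e2, pullback.lift_snd_assoc, Category.assoc, Category.assoc,
          pullback.diagonal_snd, Category.comp_id, pullback.condition]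
    refine ⟨m u, ?_⟩
    rw [← Scheme.Hom.comp_apply, hm, Scheme.Hom.comp_apply, Scheme.Hom.comp_apply, hu, hv]
  have hker := ker_stalkMap_prod H H' j e1 e2 w
  rw [← stalkIdeal_ker, hw, Scheme.IdealSheafData.ker_subschemeι,
    Scheme.IdealSheafData.ker_subschemeι] at hker
  rw [IntMult.mult, IntMult.mult, stalkIdeal_ker, hker]
  exact chi_diag H (pullback.diagonal f) (pullback.diagonal_fst f) (pullback.diagonal_snd f) x IV IW

end Stalk

end Groth.Agent.CycA.DiagStalk
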