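import Groth.Agent.CycA.TorDiag
import Groth.Agent.CycA.FlatTensor
import Groth.Agent.CycA.ProdTor

/-!
# Reduction to the diagonal for quotients (ring form)
-/

set_option autoImplicit false

universe u

open TensorProduct

namespace Groth.Agent.CycA.DiagTor

open Groth.Agent.CycA.TorBasic Groth.Agent.CycA.TorShift Groth.Agent.CycA.TorFin
open Groth.Agent.CycA.TorRestr Groth.Agent.CycA.EulerLen

variable {K A₁ A₂ B C : Type u} [Field K] [CommRing A₁] [CommRing A₂] [CommRing B] [CommRing C]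
  [Algebra K A₁] [Algebra K A₂]

/-- Reduction to the diagonal: `B` is flat over `A₁ ⊗ A₂`, `d : B → C` is surjective and
`A₁ → C`, `A₂ → C` are bijective. -/
theorem chi_diag (φ : A₁ ⊗[K] A₂ →+* B) (hfl : letI := φ.toAlgebra; Module.Flat (A₁ ⊗[K] A₂) B)
    (a : A₁ →+* B) (b : A₂ →+* B) (hφ : ∀ x y, φ (x ⊗ₜ y) = a x * b y) (d : B →+* C)
    (hd : Function.Surjective d) (h1 : Function.Bijective (d.comp a))
    (h2 : Function.Bijective (d.comp b)) (I : Ideal A₁) (J : Ideal A₂) :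
    IntMult.chi C (C ⧸ J.map (d.comp b)) (C ⧸ I.map (d.comp a)) =
      IntMult.chi B (B ⧸ RingHom.ker d) (B ⧸ (I.map a ⊔ J.map b)) := by
  let _ : Algebra A₁ B := a.toAlgebra
  let _ : Algebra A₂ B := b.toAlgebra
  let _ : Algebra B C := d.toAlgebra
  let _ : Algebra A₁ C := (d.comp a).toAlgebra
  let _ : Algebra A₂ C := (d.comp b).toAlgebra
  let _ : Algebra (A₁ ⊗[K] A₂) B := φ.toAlgebra
  let _ : Algebra A₂ (A₁ ⊗[K] A₂) := Algebra.TensorProduct.rightAlgebra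
  have : IsScalarTower A₁ B C := IsScalarTower.of_algebraMap_eq fun _ => rfl
  have : IsScalarTower A₂ B C := IsScalarTower.of_algebraMap_eq fun _ => rfl
  have : SMulCommClass A₂ A₁ C := ⟨fun x y c => by
    rw [Algebra.smul_def, Algebra.smul_def, Algebra.smul_def, Algebra.smul_def, mul_left_comm]⟩
  have t1 : IsScalarTower A₁ (A₁ ⊗[K] A₂) B := IsScalarTower.of_algebraMap_eq fun x => by
    change a x = φ (x ⊗ₜ 1)
    rw [hφ, map_one, mul_one]
  have t2 : IsScalarTower A₂ (A₁ ⊗[K] A₂) B := IsScalarTower.of_algebraMap_eq fun x => by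
    change b x = φ (1 ⊗ₜ x)
    rw [hφ, map_one, one_mul]
  have f0 : Module.Flat (A₁ ⊗[K] A₂) B := hfl
  have f1 : Module.Flat A₁ (B ⊗[A₂] (A₂ ⧸ J)) :=
    FlatTensor.flat_of_pushout K A₁ A₂ (A₁ ⊗[K] A₂) B (A₂ ⧸ J)
  have f2 : Module.Flat A₂ B := by
    have : Module.Flat A₂ (A₁ ⊗[K] A₂) :=
      Module.Flat.isBaseChange K A₂ A₁ (A₁ ⊗[K] A₂)
        (Algebra.IsPushout.out : IsBaseChange A₂ (IsScalarTower.toAlgHom K A₁ (A₁ ⊗[K] A₂)).toLinearMap)
    exact Module.Flat.trans A₂ (A₁ ⊗[K] A₂) B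
  have f3 : Module.Flat A₂ C := Module.Flat.of_linearEquiv
    (LinearEquiv.ofBijective (Algebra.linearMap A₂ C) h2).symm
  have f4 : Module.Flat A₁ C := Module.Flat.of_linearEquiv
    (LinearEquiv.ofBijective (Algebra.linearMap A₁ C) h1).symm
  have key := fun n => TorDiag.length_diag A₁ A₂ B C C (A₂ ⧸ J) hd n (A₁ ⧸ I)
  have e1 : (C ⧸ J.map (d.comp b)) ≃ₗ[C] C ⊗[A₂] (A₂ ⧸ J) :=
    (Algebra.TensorProduct.quotIdealMapEquivTensorQuot C J).toLinearEquiv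
  have e2 : (C ⧸ I.map (d.comp a)) ≃ₗ[C] C ⊗[A₁] (A₁ ⧸ I) :=
    (Algebra.TensorProduct.quotIdealMapEquivTensorQuot C I).toLinearEquiv
  have e3 : (B ⧸ RingHom.ker d) ≃ₗ[B] C :=
    (Ideal.quotientKerAlgEquivOfSurjective (f := Algebra.ofId B C) hd).toLinearEquiv
  have e4 : (B ⧸ (I.map a ⊔ J.map b)) ≃ₗ[B] (B ⊗[A₂] (A₂ ⧸ J)) ⊗[A₁] (A₁ ⧸ I) := by
    let e5 : (B ⧸ J.map b) ≃ₗ[B] B ⊗[A₂] (A₂ ⧸ J) :=
      (Algebra.TensorProduct.quotIdealMapEquivTensorQuot B J).toLinearEquiv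
    let e6 : (B ⧸ I.map a) ≃ₗ[B] B ⊗[A₁] (A₁ ⧸ I) :=
      (Algebra.TensorProduct.quotIdealMapEquivTensorQuot B I).toLinearEquiv
    let e7 := (AlgebraTensorModule.cancelBaseChange A₁ B B (B ⊗[A₂] (A₂ ⧸ J)) (A₁ ⧸ I))
    exact (Submodule.quotEquivOfEq _ _ (sup_comm _ _)).trans
      ((ProdTor.quotTensorQuot B (J.map b) (I.map a)).symm.trans
        ((TensorProduct.congr e5 e6).trans e7))
  unfold IntMult.chi
  refine finsum_congr fun i => ?_
  rw [((congrL e1 i _).trans (congrR i _ e2)).length_eq, key i,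
    ← ((congrL e3 i _).trans (congrR i _ e4)).length_eq]

end Groth.Agent.CycA.DiagTor
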