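import Groth.Agent.CycA.IntCore
import Groth.Agent.CycA.StalkIdeal
import Groth.Agent.CycB.GysinCl
import Groth.Agent.CycB.FiberStalk
import Groth.Agent.CycB.DivNat
import Groth.Agent.CycB.PtClosure
import Groth.Agent.CycB.C1Fin
import Mathlib.AlgebraicGeometry.FunctionField

/-!
# Intersection with a divisor by the Tor formula is the cycle of the scheme-theoretic intersection
-/

set_option autoImplicit false
universe u
open CategoryTheory CategoryTheory.Limits AlgebraicGeometry
attribute [local instance] HasDerivedCategory.standard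
open IntMult Cyc TensorProduct

namespace Groth.Agent.CycA.DivMult

section Alg

open Groth.Agent.CycA.TorBasic Groth.Agent.CycA.TorShift

variable {A : Type u} [CommRing A]

theorem tor_vanish {t : A} (ht : t ∈ nonZeroDivisors A) (N : Type u) [AddCommGroup N] [Module A N]
    (hN : ∀ n : N, t • n = 0 → n = 0) (i : ℕ) (hi : 0 < i) :
    Subsingleton (DRing.Tor A i (A ⧸ Ideal.span {t}) N) := by
  have hf : Function.Injective (t • LinearMap.id : A →ₗ[A] A) := by
    rw [injective_iff_map_eq_zero]
    intro a ha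
    exact mem_nonZeroDivisors_iff_right.1 ht a (by
      have : t * a = 0 := ha
      rw [mul_comm]; exact this)
  have hex : Function.Exact (t • LinearMap.id : A →ₗ[A] A) (Submodule.mkQ (Ideal.span {t})) := by
    intro y
    rw [Submodule.mkQ_apply, Submodule.Quotient.mk_eq_zero, Ideal.mem_span_singleton']
    constructor
    · rintro ⟨a, rfl⟩
      exact ⟨a, mul_comm _ _⟩
    · rintro ⟨a, rfl⟩
      exact ⟨a, mul_comm _ _⟩
  obtain ⟨j, rfl⟩ : ∃ j, i = j + 1 := ⟨i - 1, by omega⟩
  cases j with
  | succ j =>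
    obtain ⟨e⟩ := shiftL (t • LinearMap.id : A →ₗ[A] A) (Submodule.mkQ (Ideal.span {t})) hf hex
      (Submodule.mkQ_surjective _) j N
    have := subsingleton_of_flat_left A j A N
    exact e.toEquiv.subsingleton
  | zero =>
    obtain ⟨e⟩ := shiftL_one (t • LinearMap.id : A →ₗ[A] A) (Submodule.mkQ (Ideal.span {t})) hf hex
      (Submodule.mkQ_surjective _) N
    have : Subsingleton (LinearMap.ker (LinearMap.rTensor N (t • LinearMap.id : A →ₗ[A] A))) := by
      refine subsingleton_of_forall_eq 0 fun z => ?_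
      obtain ⟨z, hz⟩ := z
      rw [LinearMap.mem_ker, LinearMap.rTensor_smul, LinearMap.smul_apply, LinearMap.rTensor_id,
        LinearMap.id_apply] at hz
      apply Subtype.ext
      have h1 : t • (TensorProduct.lid A N z) = 0 := by rw [← map_smul, hz, map_zero]
      have h2 := hN _ h1
      exact (LinearEquiv.map_eq_zero_iff _).1 h2
    exact e.toEquiv.subsingleton

theorem chi_eq {t : A} (ht : t ∈ nonZeroDivisors A) (p : Ideal A) [p.IsPrime] (htp : t ∉ p) :
    IntMult.chi A (A ⧸ Ideal.span {t}) (A ⧸ p) =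
      ((Module.length A (A ⧸ (Ideal.span {t} ⊔ p))).toNat : ℤ) := by
  apply IntCore.chi_quot_eq_of_vanish
  intro i hi
  refine tor_vanish ht _ ?_ i hi
  intro n hn
  obtain ⟨n, rfl⟩ := Ideal.Quotient.mk_surjective n
  rw [← Ideal.Quotient.mk_eq_mk, ← Submodule.Quotient.mk_smul, Ideal.Quotient.mk_eq_mk,
    Ideal.Quotient.eq_zero_iff_mem, smul_eq_mul] at hn
  rw [Ideal.Quotient.eq_zero_iff_mem]
  exact (Ideal.IsPrime.mem_or_mem ‹_› hn).resolve_left htp

end Alg

open Groth.Agent.CycB Groth.Agent.CycB.LocQuot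

variable {Y : Scheme.{u}}

theorem ker_specMap_genericPoint {Z : Scheme.{u}} [IsIntegral Z] (z : Z)
    (hz : genericPoint Z ⤳ z) : RingHom.ker (specMap z (genericPoint Z) hz) = ⊥ := by
  have : (⊥ : Ideal (Z.presheaf.stalk z)).IsPrime := Ideal.isPrime_bot
  obtain ⟨w, hw, h⟩ := exists_eq_ker (⊥ : Ideal (Z.presheaf.stalk z))
  rw [eq_bot_iff, h, ker_le_iff hz hw]
  exact genericPoint_specializes w

/-- The kernel of the stalk map of an integral closed subscheme is the prime of its generic
point. -/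
theorem ker_stalkMap_eq {D : Scheme.{u}} [IsIntegral D] (i : D ⟶ Y) [IsClosedImmersion i] (d : D)
    (h : i (genericPoint D) ⤳ i d) :
    RingHom.ker (i.stalkMap d).hom = RingHom.ker (specMap (i d) (i (genericPoint D)) h) := by
  have h1 : genericPoint D ⤳ d := genericPoint_specializes d
  rw [← DivNat.comap_ker_specMap i d (genericPoint D) h1, ker_specMap_genericPoint]
  rfl

theorem specializes_apply {D : Scheme.{u}} [IsIntegral D] (i : D ⟶ Y) (d : D) :
    i (genericPoint D) ⤳ i d := (genericPoint_specializes d).map i.continuous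

theorem stalkIdeal_ptIdeal_genericPoint {D : Scheme.{u}} [IsIntegral D] (i : D ⟶ Y)
    [IsClosedImmersion i] (d : D) :
    stalkIdeal (ptIdeal (i (genericPoint D))) (i d) = RingHom.ker (i.stalkMap d).hom := by
  rw [StalkIdeal.stalkIdeal_ptIdeal (specializes_apply i d), ker_stalkMap_eq]

/-- Intersection multiplicity with a divisor. -/
theorem mult_eq_length {D W : Scheme.{u}} [IsIntegral D] [IsIntegral W] (i : D ⟶ Y) (ι : W ⟶ Y)
    [IsClosedImmersion i] [IsClosedImmersion ι] (z : ↥(pullback ι i))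
    {t : Y.presheaf.stalk (i (pullback.snd ι i z))} (ht : t ∈ nonZeroDivisors _)
    (hker : RingHom.ker (i.stalkMap (pullback.snd ι i z)).hom = Ideal.span {t})
    (hW : ι (genericPoint W) ∉ Set.range ⇑i) :
    mult (ptIdeal (ι (genericPoint W))) (ptIdeal (i (genericPoint D)))
      (i (pullback.snd ι i z)) =
    ((Module.length ((pullback ι i).presheaf.stalk z) ((pullback ι i).presheaf.stalk z)).toNat :
      ℤ) := by
  have hζ : ι (pullback.fst ι i z) = i (pullback.snd ι i z) := by
    rw [← Scheme.Hom.comp_apply, ← Scheme.Hom.comp_apply, pullback.condition]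
  have h : ι (genericPoint W) ⤳ i (pullback.snd ι i z) := by
    rw [← hζ]; exact specializes_apply ι _
  have hp : stalkIdeal (ptIdeal (ι (genericPoint W))) (i (pullback.snd ι i z)) =
      RingHom.ker (specMap (i (pullback.snd ι i z)) (ι (genericPoint W)) h) :=
    StalkIdeal.stalkIdeal_ptIdeal h
  have htp : t ∉ RingHom.ker (specMap (i (pullback.snd ι i z)) (ι (genericPoint W)) h) := by
    intro hcon
    have h1 : RingHom.ker (i.stalkMap (pullback.snd ι i z)).hom ≤
        RingHom.ker (specMap (i (pullback.snd ι i z)) (ι (genericPoint W)) h) := by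
      rw [hker, Ideal.span_singleton_le_iff_mem]
      exact hcon
    rw [ker_stalkMap_eq i _ (specializes_apply i _), ker_le_iff] at h1
    exact hW (h1.mem_closed i.isClosedEmbedding.isClosed_range ⟨_, rfl⟩)
  rw [mult, stalkIdeal_ptIdeal_genericPoint, hker, hp, chi_eq ht _ htp]
  -- the kernel of the composite
  have hk : RingHom.ker ((pullback.snd ι i).stalkMap z).hom =
      (RingHom.ker (specMap (i (pullback.snd ι i z)) (ι (genericPoint W)) h)).map
        (i.stalkMap (pullback.snd ι i z)).hom := by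
    have e1 : (pullback.snd ι i).ker = ι.ker.comap i := by
      rw [← Scheme.IdealSheafData.ker_fst_of_isClosedImmersion ι i,
        ← pullbackSymmetry_hom_comp_fst, Scheme.Hom.ker_comp_of_isIso]
    rw [Divis.CartierStalk.ker_stalkMap, e1, Divis.CartierStalk.stalkIdeal_comap]
    congr 1
    have e2 : ∀ (ζ : Y) (hζ : ι (pullback.fst ι i z) = ζ) (h : ι (genericPoint W) ⤳ ζ),
        stalkIdeal ι.ker ζ = RingHom.ker (specMap ζ (ι (genericPoint W)) h) := by
      rintro _ rfl h
      rw [StalkIdeal.stalkIdeal_ker, ker_stalkMap_eq]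
    exact e2 _ hζ h
  congr 2
  refine FiberStalk.length_quotient_eq
    (((pullback.snd ι i).stalkMap z).hom.comp (i.stalkMap (pullback.snd ι i z)).hom) ?_ _ ?_
  · exact ((pullback.snd ι i).stalkMap_surjective z).comp (i.stalkMap_surjective _)
  · rw [← RingHom.comap_ker, hk,
      Ideal.comap_map_of_surjective _ (i.stalkMap_surjective _), sup_comm]
    congr 1

theorem subschemeFun_eq_zero_of_not_specializes {D W : Scheme.{u}} [IsIntegral W] (i : D ⟶ Y)
    (ι : W ⟶ Y) (δ : D → ℤ) (k : ℤ) (x : D) (h : ¬ ι (genericPoint W) ⤳ i x) :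
    subschemeFun δ k (pullback.snd ι i) x = 0 := by
  apply C1Fin.subschemeFun_apply_notMem
  rintro ⟨z, rfl⟩
  apply h
  have hζ : ι (pullback.fst ι i z) = i (pullback.snd ι i z) := by
    rw [← Scheme.Hom.comp_apply, ← Scheme.Hom.comp_apply, pullback.condition]
  rw [← hζ]; exact specializes_apply ι _

theorem subschemeFun_eq_zero_of_ne {D Z : Scheme.{u}} (j : Z ⟶ D) (δ : D → ℤ) (k : ℤ) (x : D)
    (h : δ x ≠ k) : subschemeFun δ k j x = 0 := by
  classical
  simp only [subschemeFun]
  rw [if_neg h]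

theorem mult_eq_subschemeFun {D W : Scheme.{u}} [IsIntegral D] [IsIntegral W] (i : D ⟶ Y)
    (ι : W ⟶ Y) [IsClosedImmersion i] [IsClosedImmersion ι] (δ : D → ℤ) (k : ℤ) (x : D)
    (hx : δ x = k) {t : Y.presheaf.stalk (i x)} (ht : t ∈ nonZeroDivisors _)
    (hker : RingHom.ker (i.stalkMap x).hom = Ideal.span {t})
    (hW : ι (genericPoint W) ∉ Set.range ⇑i) (h : ι (genericPoint W) ⤳ i x) :
    mult (ptIdeal (ι (genericPoint W))) (ptIdeal (i (genericPoint D))) (i x) =
      subschemeFun δ k (pullback.snd ι i) x := by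
  obtain ⟨w, hw⟩ : i x ∈ Set.range ⇑ι :=
    h.mem_closed ι.isClosedEmbedding.isClosed_range ⟨_, rfl⟩
  obtain ⟨z, -, rfl⟩ := Scheme.Pullback.exists_preimage_pullback w x hw
  rw [mult_eq_length i ι z ht hker hW, C1Fin.subschemeFun_apply_of_injective _
    (pullback.snd ι i).isClosedEmbedding.injective, C1Fin.subschemeFun_id, if_pos hx]

/-- Intersecting a cycle with a divisor: the Tor formula gives the cycles of the scheme-theoretic
intersections. -/
theorem interProd_divisor {D : Scheme.{u}} [IsIntegral D] (i : D ⟶ Y) [IsClosedImmersion i]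
    (hloc : ∀ x : D, ∃ t : Y.presheaf.stalk (i x), t ∈ nonZeroDivisors _ ∧
      RingHom.ker (i.stalkMap x).hom = Ideal.span {t})
    (δY : Y → ℤ) (n k : ℤ) (hn : δY (i (genericPoint D)) = n) (α : Y → ℤ)
    (hα : ∀ ξ, δY ξ ≠ k + 1 → α ξ = 0) (hi : ∀ ξ, α ξ ≠ 0 → ξ ∉ Set.range ⇑i) (x : D) :
    interProd δY (n + 1) α (Set.indicator {i (genericPoint D)} 1) (i x) =
      ∑ᶠ ξ : Y, α ξ * subschemeFun (fun d => δY (i d)) k
        (pullback.snd (PtClosure.ptClι ξ) i) x := by
  classical
  set g := i (genericPoint D) with hg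
  let cond : Set (Y × Y) := {p | p.1 ⤳ i x ∧ p.2 ⤳ i x ∧ δY p.1 + δY p.2 - (n + 1) = δY (i x)}
  let F : Y × Y → ℤ := fun p => α p.1 * (Set.indicator {g} 1 : Y → ℤ) p.2 *
    mult (ptIdeal p.1) (ptIdeal p.2) (i x)
  let j : Y → Y × Y := fun ξ => (ξ, g)
  have hj : Function.Injective j := fun a b h => congrArg Prod.fst h
  have h1 : interProd δY (n + 1) α (Set.indicator {g} 1) (i x) =
      ∑ᶠ p, Set.indicator cond F p := by
    rw [← finsum_mem_def, ← finsum_set_coe_eq_finsum_mem]
    rfl
  have h2 : ∑ᶠ p, Set.indicator cond F p = ∑ᶠ ξ, Set.indicator cond F (j ξ) := by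
    rw [← finsum_mem_range (f := Set.indicator cond F) hj, ← finsum_mem_univ]
    refine finsum_mem_inter_support_eq' _ _ _ fun p hp => ⟨fun _ => ?_, fun _ => trivial⟩
    have h3 : F p ≠ 0 := by
      intro h0
      apply hp
      rw [Set.indicator_apply]
      split_ifs
      · exact h0
      · rfl
    have h4 : (Set.indicator {g} 1 : Y → ℤ) p.2 ≠ 0 :=
      right_ne_zero_of_mul (left_ne_zero_of_mul h3)
    have h5 : p.2 = g := by
      by_contra h
      exact h4 (Set.indicator_of_notMem (s := {g}) (by simpa using h) _)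
    exact ⟨p.1, Prod.ext rfl h5.symm⟩
  rw [h1, h2]
  refine finsum_congr fun ξ => ?_
  have hgx : g ⤳ i x := specializes_apply i x
  by_cases h0 : α ξ = 0
  · rw [h0, zero_mul, Set.indicator_apply]
    split_ifs
    · simp only [F, j, h0, zero_mul]
    · rfl
  have hξ : δY ξ = k + 1 := by
    by_contra h
    exact h0 (hα ξ h)
  by_cases hk : δY (i x) = k
  swap
  · rw [subschemeFun_eq_zero_of_ne _ (fun d => δY (i d)) k x hk, mul_zero]
    apply Set.indicator_of_notMem
    rintro ⟨-, -, h⟩
    apply hk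
    simp only [j] at h
    omega
  have e1 := PtClosure.ptClι_genericPoint ξ
  by_cases hs : ξ ⤳ i x
  · have hmem : j ξ ∈ cond := ⟨hs, hgx, by simp only [j]; omega⟩
    rw [Set.indicator_of_mem hmem]
    obtain ⟨t, ht, hker⟩ := hloc x
    have e2 := mult_eq_subschemeFun i (PtClosure.ptClι ξ) (fun d => δY (i d)) k x hk ht hker
      (by rw [e1]; exact hi ξ h0) (by rw [e1]; exact hs)
    rw [e1] at e2
    simp only [F, j]
    rw [← e2, Set.indicator_of_mem (Set.mem_singleton g)]
    simp [hg]
  · rw [subschemeFun_eq_zero_of_not_specializes i (PtClosure.ptClι ξ) (fun d => δY (i d)) k x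
      (by rw [e1]; exact hs), mul_zero]
    exact Set.indicator_of_notMem (fun h => hs h.1) _

theorem interProd_divisor_notMem {D : Scheme.{u}} [IsIntegral D] (i : D ⟶ Y) [IsClosedImmersion i]
    (δY : Y → ℤ) (N : ℤ) (α : Y → ℤ) (y : Y) (hy : y ∉ Set.range ⇑i) :
    interProd δY N α (Set.indicator {i (genericPoint D)} 1) y = 0 := by
  unfold interProd
  refine finsum_eq_zero_of_forall_eq_zero fun p => ?_
  have h1 : p.1.2 ≠ i (genericPoint D) := by
    intro h
    apply hy
    have h2 := p.2.2.1
    rw [h] at h2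
    exact h2.mem_closed i.isClosedEmbedding.isClosed_range ⟨_, rfl⟩
  rw [Set.indicator_of_notMem (by simpa using h1)]
  simp

end Groth.Agent.CycA.DivMult
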