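import Groth.Agent.CycA.DivMult

set_option autoImplicit false
universe u
open CategoryTheory CategoryTheory.Limits AlgebraicGeometry
attribute [local instance] HasDerivedCategory.standard
open IntMult Cyc

namespace Groth.Agent.CycA.DivMult
open Groth.Agent.CycB Groth.Agent.CycB.LocQuot
variable {Y : Scheme.{u}}

theorem stalkIdeal_ker_eq_ptIdeal {W : Scheme.{u}} [IsIntegral W] (ι : W ⟶ Y)
    [IsClosedImmersion ι] (ζ : Y) : stalkIdeal ι.ker ζ = stalkIdeal (ptIdeal (ι (genericPoint W))) ζ := by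
  by_cases h : ζ ∈ Set.range ⇑ι
  · obtain ⟨w, rfl⟩ := h
    rw [StalkIdeal.stalkIdeal_ker, stalkIdeal_ptIdeal_genericPoint]
  · have h1 : ¬ ι (genericPoint W) ⤳ ζ := fun h' =>
      h (h'.mem_closed ι.isClosedEmbedding.isClosed_range ⟨_, rfl⟩)
    rw [StalkIdeal.stalkIdeal_ptIdeal_eq_top h1]
    by_contra hcon
    apply h
    have h2 := (StalkIdeal.stalkIdeal_ne_top_iff ι.ker ζ).1 hcon
    have h3 : ζ ∈ (ι.ker.support : Set Y) := h2
    rw [Scheme.Hom.support_ker] at h3
    rwa [ι.isClosedEmbedding.isClosed_range.closure_eq] at h3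

theorem subschemeFun_snd {D W : Scheme.{u}} [IsIntegral W] (i : D ⟶ Y)
    (ι : W ⟶ Y) [IsClosedImmersion ι] (δ : D → ℤ) (k : ℤ) (x : D)
    (hx : δ x = k) :
    subschemeFun δ k (pullback.snd ι i) x =
      ((Module.length (D.presheaf.stalk x) (D.presheaf.stalk x ⧸
        (stalkIdeal (ptIdeal (ι (genericPoint W))) (i x)).map (i.stalkMap x).hom)).toNat : ℤ) := by
  have e1 : (pullback.snd ι i).ker = ι.ker.comap i := by
    rw [← Scheme.IdealSheafData.ker_fst_of_isClosedImmersion ι i,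
      ← pullbackSymmetry_hom_comp_fst, Scheme.Hom.ker_comp_of_isIso]
  by_cases h : i x ∈ Set.range ⇑ι
  · obtain ⟨w, hw⟩ := h
    obtain ⟨z, -, rfl⟩ := Scheme.Pullback.exists_preimage_pullback w x hw
    rw [C1Fin.subschemeFun_apply_of_injective _
      (pullback.snd ι i).isClosedEmbedding.injective, C1Fin.subschemeFun_id, if_pos hx]
    congr 2
    symm
    refine FiberStalk.length_quotient_eq ((pullback.snd ι i).stalkMap z).hom
      ((pullback.snd ι i).stalkMap_surjective z) _ ?_
    rw [Divis.CartierStalk.ker_stalkMap, e1, Divis.CartierStalk.stalkIdeal_comap]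
    congr 1
    exact stalkIdeal_ker_eq_ptIdeal ι _
  · have h1 : ¬ ι (genericPoint W) ⤳ i x := fun h' =>
      h (h'.mem_closed ι.isClosedEmbedding.isClosed_range ⟨_, rfl⟩)
    rw [subschemeFun_eq_zero_of_not_specializes i ι δ k x h1,
      StalkIdeal.stalkIdeal_ptIdeal_eq_top h1, Ideal.map_top]
    have : Subsingleton (D.presheaf.stalk x ⧸ (⊤ : Ideal (D.presheaf.stalk x))) :=
      Ideal.Quotient.subsingleton_iff.2 rfl
    rw [Module.length_eq_zero]
    rfl

end Groth.Agent.CycA.DivMult
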