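import Groth.Agent.CycA.GenProd3
import Groth.Agent.CycA.SetupField
import Groth.Agent.CycB.RatTransport
import Groth.Agent.CycB.DivFun
import Groth.Agent.S1856
import Groth.Prelude.Def_IntMult

/-!
# Exterior products and rational equivalence over an algebraically closed field
-/

set_option autoImplicit false
universe u

open AlgebraicGeometry CategoryTheory Limits
open Groth.Agent.CycB.TrdegAlg Groth.Agent.CycB.RelDim Groth.Agent.CycA.GenProd

namespace Groth.Agent.CycA.ExtRat

/-- An algebraic cycle on a quasi-compact scheme has finite support. -/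
theorem finite_support {X : Scheme.{u}} [CompactSpace X] (α : AlgebraicCycle X ℤ) :
    (Function.support ⇑α).Finite := by
  have h : ∀ x : X, ∃ t ∈ nhds x, (t ∩ Function.support ⇑α).Finite := fun x =>
    α.supportLocallyFiniteWithinDomain' x trivial
  choose t ht hfin using h
  obtain ⟨s, hs⟩ := CompactSpace.elim_nhds_subcover t ht
  refine (s.finite_toSet.biUnion fun x _ => hfin x).subset ?_
  intro y hy
  have : y ∈ ⋃ x ∈ s, t x := by rw [hs]; trivial
  simp only [Set.mem_iUnion] at this ⊢
  obtain ⟨x, hx, hyx⟩ := this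
  exact ⟨x, hx, hyx, hy⟩

theorem deltaCompat_immersion {Z Y S : Scheme.{u}} (i : Z ⟶ Y) [IsPreimmersion i] (g : Y ⟶ S)
    {δY : Y → ℤ} {δS : S → ℤ} (h : Cyc.DeltaCompat g δY δS) :
    Cyc.DeltaCompat (i ≫ g) (fun z => δY (i z)) δS := by
  rw [deltaCompat_iff] at h ⊢
  intro z
  obtain ⟨n, hn, hn'⟩ := h (i z)
  refine ⟨n, ?_, hn'⟩
  rw [rtd_comp, rtd_eq_zero_of_isPreimmersion i, add_zero, hn]

theorem deltaCompat_of_comp {X Y S : Scheme.{u}} (p : X ⟶ Y) (f : Y ⟶ S) {δX : X → ℤ}
    {δY : Y → ℤ} {δS : S → ℤ} (h : Cyc.DeltaCompat (p ≫ f) δX δS)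
    (h' : Cyc.DeltaCompat f δY δS) : Cyc.DeltaCompat p δX δY := by
  rw [deltaCompat_iff] at h h' ⊢
  intro x
  obtain ⟨n, hn, hn'⟩ := h x
  obtain ⟨m, hm, hm'⟩ := h' (p x)
  rw [rtd_comp, hm] at hn
  have hlt : rtd p x < Cardinal.aleph0 := by
    refine lt_of_le_of_lt ?_ (Cardinal.natCast_lt_aleph0 (n := n))
    rw [← hn]; exact le_add_self
  obtain ⟨l, hl⟩ := Cardinal.lt_aleph0.mp hlt
  refine ⟨l, hl, ?_⟩
  rw [hl] at hn
  have : m + l = n := by exact_mod_cast hn
  rw [hn', hm', ← this]
  have e : (p ≫ f) x = f (p x) := rfl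
  rw [e]
  push_cast
  ring

variable {K : Type u} [Field K] [IsAlgClosed K] {X Y P : Scheme.{u}}
  {f : X ⟶ Spec (CommRingCat.of K)} {g : Y ⟶ Spec (CommRingCat.of K)} {p : P ⟶ X} {q : P ⟶ Y}

open Classical in
/-- Flat pullback along `X ×_K Y → X`, `Y` integral. -/
theorem exists_pull (H : IsPullback p q f g) [IsIntegral Y] [LocallyOfFiniteType f]
    [LocallyOfFiniteType g] {δX : X → ℤ} {δY : Y → ℤ} {δ : P → ℤ}
    (hX : Cyc.DeltaCompat f δX (fun _ => 0)) (hY : Cyc.DeltaCompat g δY (fun _ => 0))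
    (hP : Cyc.DeltaCompat (p ≫ f) δ (fun _ => 0)) (r : ℤ) (α : AlgebraicCycle X ℤ)
    (hα : α ∈ Cyc.Zk X δX r) (h0 : Cyc.RatEquivZero δX r α) :
    ∃ α' : AlgebraicCycle P ℤ, Cyc.RatEquivZero δ (r + δY (genericPoint Y)) α' ∧
      ∀ z, α' z = if δ z = δX (p z) + δY (q z) ∧ q z = genericPoint Y then α (p z) else 0 := by
  obtain ⟨s, hs, hs'⟩ := (deltaCompat_iff.mp hY) (genericPoint Y)
  have hs'' : δY (genericPoint Y) = s := by rw [hs', zero_add]
  have hrel : Cyc.HasRelDim p s := hasRelDim_fst H s hs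
  have hlft : LocallyOfFiniteType p := MorphismProperty.of_isPullback H.flip ‹LocallyOfFiniteType g›
  have hflat : Flat p := MorphismProperty.of_isPullback H.flip inferInstance
  have hδ : Cyc.DeltaCompat p δ δX := deltaCompat_of_comp p f hP hX
  have hSX := SetupField.isSetup_of_field f hX
  have hSY := SetupField.isSetup_of_field g hY
  have hSP := SetupField.isSetup_of_field (p ≫ f) hP
  have hval : ∀ z, Cyc.pullFun p δ δX s ⇑α z =
      if δ z = δX (p z) + δY (q z) ∧ q z = genericPoint Y then α (p z) else 0 := by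
    intro z
    unfold Cyc.pullFun
    by_cases hz : δ z = δX (p z) + s
    · have h1 := delta_le2 H hX hY hP z
      have h2 : δY (q z) ≤ δY (genericPoint Y) :=
        Groth.Agent.CycB.LocQuot.le_of_specializes hSY.2.2 (genericPoint_specializes (q z))
      have h3 : δY (q z) = δY (genericPoint Y) := by omega
      have h4 : genericPoint Y = q z :=
        Groth.Agent.CycB.LocQuot.eq_of_specializes_of_eq hSY.2.2 (genericPoint_specializes (q z)) h3
      have h5 : δ z = δX (p z) + δY (q z) := by omega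
      rw [if_pos hz, if_pos ⟨h5, h4.symm⟩]
      have h6 := length_eq_one H hX hY hP z h5
      have h7 : ideal2 p q z = Ideal.map (p.stalkMap z).hom
          (IsLocalRing.maximalIdeal (X.presheaf.stalk (p z))) := by
        have h8 : IsLocalRing.maximalIdeal (Y.presheaf.stalk (q z)) = ⊥ := by
          rw [← h4]
          exact (IsLocalRing.isField_iff_maximalIdeal_eq).mp (isField_stalk_genericPoint Y)
        unfold ideal2
        rw [h8, Ideal.map_bot, sup_bot_eq]
      rw [h7] at h6
      rw [h6]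
      simp
    · rw [if_neg hz, if_neg]
      rintro ⟨h1, h2⟩
      rw [h2] at h1
      omega
  let α' : AlgebraicCycle P ℤ :=
    { toFun := Cyc.pullFun p δ δX s ⇑α
      supportWithinDomain' := by simp
      supportLocallyFiniteWithinDomain' := by
        intro z _
        obtain ⟨t, ht, hfin⟩ := α.supportLocallyFiniteWithinDomain' (p z) (by trivial)
        refine ⟨⇑p ⁻¹' t, p.continuous.continuousAt.preimage_mem_nhds ht, ?_⟩
        have hsub : ∀ w ∈ Function.support (Cyc.pullFun p δ δX s ⇑α),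
            w = gen2 H (p w) (genericPoint Y) ∧ α (p w) ≠ 0 := by
          intro w hw
          rw [Function.mem_support, hval] at hw
          split_ifs at hw with hc
          · refine ⟨?_, hw⟩
            have := (eq_gen2_iff H hX hY hP w).mp hc.1
            rwa [hc.2] at this
          · exact absurd rfl hw
        refine Set.Finite.of_finite_image (f := ⇑p) (hfin.subset ?_) ?_
        · rintro _ ⟨w, ⟨hw, hw'⟩, rfl⟩
          exact ⟨hw, (hsub w hw').2⟩
        · intro w hw w' hw' hww
          rw [(hsub w hw.2).1, (hsub w' hw'.2).1, hww] }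
  refine ⟨α', ?_, hval⟩
  have h1 := Groth.Agent.S1856.result P X δ δX hSP hSX p s hrel hδ r α 0 hα (fun _ _ => rfl)
    (Groth.Agent.CycB.DivFun.ratEquiv_zero_iff.mpr h0) α' 0 rfl (by
      funext w
      unfold Cyc.pullFun
      simp)
  rw [Groth.Agent.CycB.DivFun.ratEquiv_zero_iff, ← hs''] at h1
  exact h1

open Classical in
/-- `α × [closure of η]` for `α` rationally equivalent to zero. -/
theorem exists_pull_pt (H : IsPullback p q f g) [LocallyOfFiniteType f]
    [LocallyOfFiniteType g] {δX : X → ℤ} {δY : Y → ℤ} {δ : P → ℤ}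
    (hX : Cyc.DeltaCompat f δX (fun _ => 0)) (hY : Cyc.DeltaCompat g δY (fun _ => 0))
    (hP : Cyc.DeltaCompat (p ≫ f) δ (fun _ => 0)) (r : ℤ) (α : AlgebraicCycle X ℤ)
    (hα : α ∈ Cyc.Zk X δX r) (h0 : Cyc.RatEquivZero δX r α) (η : Y) :
    ∃ γ : AlgebraicCycle P ℤ, Cyc.RatEquivZero δ (r + δY η) γ ∧
      ∀ z, γ z = if δ z = δX (p z) + δY (q z) ∧ q z = η then α (p z) else 0 := by
  obtain ⟨Z, i, hi, hZ, hζ, hrange⟩ := Groth.Agent.CycA.ClosurePt.exists_closure_subscheme η
  have H' : IsPullback (pullback.fst q i ≫ p) (pullback.snd q i) f (i ≫ g) :=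
    ((IsPullback.of_hasPullback q i).flip.paste_vert H.flip).flip
  have hP' : Cyc.DeltaCompat ((pullback.fst q i ≫ p) ≫ f)
      (fun w => δ (pullback.fst q i w)) (fun _ => 0) := by
    rw [Category.assoc]
    exact deltaCompat_immersion (pullback.fst q i) (p ≫ f) hP
  have hZ' := deltaCompat_immersion i g hY
  obtain ⟨α', h1, h2⟩ := exists_pull H' hX hZ' hP' r α hα h0
  have hcond : ∀ w, i (pullback.snd q i w) = q (pullback.fst q i w) := by
    intro w
    have : (pullback.snd q i ≫ i) w = (pullback.fst q i ≫ q) w := by rw [pullback.condition]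
    exact this
  refine ⟨AlgebraicCycle.map (pullback.fst q i) (fun w => δ (pullback.fst q i w)) δ α', ?_, ?_⟩
  · have := Groth.Agent.CycB.RatTransport.ratEquivZero_push (pullback.fst q i) δ _ α' h1
    simp only [hζ] at this
    exact this
  · intro z
    by_cases hz : z ∈ Set.range (pullback.fst q i)
    · obtain ⟨w, rfl⟩ := hz
      rw [Groth.Agent.CycB.DivNat.map_apply_of_isPreimmersion (pullback.fst q i) _ _ _ _ rfl, h2]
      have e1 : (pullback.snd q i w = genericPoint Z) ↔ q (pullback.fst q i w) = η := by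
        rw [← hcond, ← hζ]
        exact i.isEmbedding.injective.eq_iff.symm
      have e2 : (pullback.fst q i ≫ p) w = p (pullback.fst q i w) := rfl
      rw [hcond, e2]
      simp only [e1]
    · rw [Groth.Agent.CycB.DivNat.map_apply_notMem_range (pullback.fst q i) _ _ _ _ hz, if_neg]
      rintro ⟨-, h⟩
      apply hz
      rw [Scheme.Pullback.range_fst, Set.mem_preimage, hrange, h]
      exact subset_closure rfl

/-- If `α` is rationally equivalent to zero on `X` then so is `α × β`. -/
theorem ratEquivZero_prod (H : IsPullback p q f g) [LocallyOfFiniteType f]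
    [LocallyOfFiniteType g] [CompactSpace Y] {δX : X → ℤ} {δY : Y → ℤ} {δ : P → ℤ}
    (hX : Cyc.DeltaCompat f δX (fun _ => 0)) (hY : Cyc.DeltaCompat g δY (fun _ => 0))
    (hP : Cyc.DeltaCompat (p ≫ f) δ (fun _ => 0)) (r s : ℤ) (α : AlgebraicCycle X ℤ)
    (hα : α ∈ Cyc.Zk X δX r) (h0 : Cyc.RatEquivZero δX r α) (β : AlgebraicCycle Y ℤ)
    (hβ : β ∈ Cyc.Zk Y δY s) (γ : AlgebraicCycle P ℤ)
    (hγ : ∀ z, γ z = if δ z = δX (p z) + δY (q z) then α (p z) * β (q z) else 0) :
    Cyc.RatEquivZero δ (r + s) γ := by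
  classical
  choose c hc hc' using exists_pull_pt H hX hY hP r α hα h0
  have hfin := finite_support β
  have e : γ = ∑ η ∈ hfin.toFinset, β η • c η := by
    apply DFunLike.ext
    intro z
    rw [hγ, Function.locallyFinsuppWithin.coe_sum, Finset.sum_apply]
    simp only [Function.locallyFinsuppWithin.coe_zsmul, Pi.smul_apply, hc', smul_eq_mul]
    by_cases hz : δ z = δX (p z) + δY (q z)
    · rw [if_pos hz]
      by_cases hq : q z ∈ hfin.toFinset
      · rw [Finset.sum_eq_single (q z)]
        · rw [if_pos ⟨hz, rfl⟩, mul_comm]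
        · intro η _ hne
          rw [if_neg (fun h => hne h.2.symm), mul_zero]
        · exact fun h => absurd hq h
      · have h1 : β (q z) = 0 := by
          by_contra h
          exact hq (hfin.mem_toFinset.mpr h)
        rw [h1, mul_zero, Finset.sum_eq_zero]
        intro η hη
        rw [if_neg, mul_zero]
        rintro ⟨-, rfl⟩
        exact hq hη
    · rw [if_neg hz, Finset.sum_eq_zero]
      intro η _
      rw [if_neg (fun h => hz h.1), mul_zero]
  rw [e]
  refine AddSubgroup.sum_mem (Groth.Agent.CycB.DivFun.ratSubgroup δ (r + s)) fun η hη => ?_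
  apply Groth.Agent.CycB.DivFun.RatEquivZero.zsmul
  have h1 : δY η = s := by
    by_contra h
    exact (hfin.mem_toFinset.mp hη) (hβ η h)
  rw [← h1]
  exact hc η

end Groth.Agent.CycA.ExtRat
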