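import Groth.Agent.CycB.P1Chart
import Groth.Agent.CycB.P1Sep
import Mathlib.AlgebraicGeometry.Morphisms.ClosedImmersion

/-!
# The sections `0` and `∞` of `P^1_X ⟶ X`: closed immersion, local equation
-/

universe u

open CategoryTheory AlgebraicGeometry CategoryTheory.Limits

namespace Groth.Agent.CycA.P1Sect

open P1 Groth.Agent.CycB.P1Chart

variable (X : Scheme.{u}) (i : Fin (1 + 1))

@[reassoc (attr := simp)]
theorem sect_toBase : sect X i ≫ CohB1.ProjSpaceOver.toBase 1 X = 𝟙 X := by
  rw [sect_eq, lift_toBase]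

theorem toBase_sect (x : X) : CohB1.ProjSpaceOver.toBase 1 X (sect X i x) = x := by
  rw [← Scheme.Hom.comp_apply, sect_toBase]
  rfl

instance isClosedImmersion_sect : IsClosedImmersion (sect X i) := by
  have h1 := Groth.Agent.CycB.P1Sep.isSeparated_toBase 1 X
  have : IsClosedImmersion (sect X i ≫ CohB1.ProjSpaceOver.toBase 1 X) := by
    rw [sect_toBase]; infer_instance
  exact IsClosedImmersion.of_comp (sect X i) (CohB1.ProjSpaceOver.toBase 1 X)

/-- The local ring at a point of the section is a point of the chart `T_i ≠ 0`. -/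
theorem exists_fromSpecStalk_eq_pt (x : X) :
    ∃ b : (CohB1.ProjSpaceOver 1 X).presheaf.stalk (sect X i x),
      (CohB1.ProjSpaceOver 1 X).fromSpecStalk (sect X i x) =
        pt i ((CohB1.ProjSpaceOver 1 X).fromSpecStalk (sect X i x) ≫
          CohB1.ProjSpaceOver.toBase 1 X) b := by
  let j := (CohB1.ProjSpaceOver 1 X).fromSpecStalk (sect X i x)
  have hr : Set.range (j ≫ toZ X) ⊆ Set.range (chartι.{u} i) := by
    rintro _ ⟨z, rfl⟩
    have hz : z ⤳ IsLocalRing.closedPoint _ := IsLocalRing.specializes_closedPoint z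
    have hc : (j ≫ toZ X) (IsLocalRing.closedPoint _) ∈ Set.range (chartι.{u} i) := by
      have e1 : (j ≫ toZ X) (IsLocalRing.closedPoint _) = toZ X (sect X i x) := by
        rw [Scheme.Hom.comp_apply]
        congr 1
        exact Scheme.fromSpecStalk_closedPoint
      rw [e1, ← Scheme.Hom.comp_apply, sect_eq, lift_toZ, ← Category.assoc, Scheme.Hom.comp_apply]
      exact ⟨_, rfl⟩
    exact (hz.map (j ≫ toZ X).continuous).mem_open (chartι.{u} i).isOpenEmbedding.isOpen_range hc
  obtain ⟨φ, hφ⟩ : ∃ φ, Spec.map φ = IsOpenImmersion.lift (chartι.{u} i) (j ≫ toZ X) hr :=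
    ⟨Spec.preimage _, Spec.map_preimage _⟩
  refine ⟨φ.hom (coord i), ?_⟩
  apply Groth.Agent.CycB.P1Chart.hom_ext
  · rw [pt_toZ, ← eq_chartMap i φ.hom]
    have h1 := IsOpenImmersion.lift_fac (chartι.{u} i) (j ≫ toZ X) hr
    rw [← hφ] at h1
    exact h1.symm
  · rw [pt_toBase]

/-- The retraction `O_{X,x} → O_{P,s x}`. -/
noncomputable def sig (x : X) :
    X.presheaf.stalk x ⟶ (CohB1.ProjSpaceOver 1 X).presheaf.stalk (sect X i x) :=
  X.presheaf.stalkSpecializes (specializes_of_eq (toBase_sect X i x)) ≫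
    (CohB1.ProjSpaceOver.toBase 1 X).stalkMap (sect X i x)

theorem fromSpecStalk_toBase (x : X) :
    (CohB1.ProjSpaceOver 1 X).fromSpecStalk (sect X i x) ≫ CohB1.ProjSpaceOver.toBase 1 X =
      Spec.map (sig X i x) ≫ X.fromSpecStalk x := by
  rw [← Scheme.SpecMap_stalkMap_fromSpecStalk, sig, Spec.map_comp, Category.assoc,
    Scheme.SpecMap_stalkSpecializes_fromSpecStalk]

/-- A coordinate function at a point of the section. -/
structure Coord (x : X) where
  /-- the coordinate -/
  t : (CohB1.ProjSpaceOver 1 X).presheaf.stalk (sect X i x)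
  spec : (CohB1.ProjSpaceOver 1 X).fromSpecStalk (sect X i x) =
        pt i ((CohB1.ProjSpaceOver 1 X).fromSpecStalk (sect X i x) ≫
          CohB1.ProjSpaceOver.toBase 1 X) t

variable {X i}

theorem Coord.stalkMap_t {x : X} (b : Coord X i x) :
    ((sect X i).stalkMap x).hom b.t = 0 := by
  have h1 : Spec.map ((sect X i).stalkMap x) ≫
      (CohB1.ProjSpaceOver 1 X).fromSpecStalk (sect X i x) = X.fromSpecStalk x ≫ sect X i :=
    Scheme.SpecMap_stalkMap_fromSpecStalk _
  rw [← pt_zero, b.spec, map_pt] at h1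
  exact pt_injective h1

/-- The kernel of the stalk map of the section is generated by the coordinate. -/
theorem Coord.ker_eq {x : X} (b : Coord X i x) :
    RingHom.ker ((sect X i).stalkMap x).hom = Ideal.span {b.t} := by
  apply le_antisymm
  · intro a ha
    let C := (CohB1.ProjSpaceOver 1 X).presheaf.stalk (sect X i x) ⧸ Ideal.span {b.t}
    let π : (CohB1.ProjSpaceOver 1 X).presheaf.stalk (sect X i x) ⟶ CommRingCat.of C :=
      CommRingCat.ofHom (Ideal.Quotient.mk (Ideal.span {b.t}))
    have hπb : π.hom b.t = 0 :=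
      Ideal.Quotient.eq_zero_iff_mem.mpr (Ideal.mem_span_singleton_self b.t)
    have h2 : Spec.map π ≫ (CohB1.ProjSpaceOver 1 X).fromSpecStalk (sect X i x) =
        (Spec.map π ≫ (CohB1.ProjSpaceOver 1 X).fromSpecStalk (sect X i x) ≫
          CohB1.ProjSpaceOver.toBase 1 X) ≫ sect X i := by
      rw [← pt_zero, ← hπb, ← map_pt, ← b.spec]
    rw [fromSpecStalk_toBase, Category.assoc, Category.assoc,
      ← Scheme.SpecMap_stalkMap_fromSpecStalk,
      ← Category.assoc, ← Category.assoc, cancel_mono, ← Spec.map_comp, ← Spec.map_comp] at h2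
    have h3 := Spec.map_injective h2
    have h4 : π.hom a = 0 := by
      have h5 := congrArg (fun f => f.hom a) h3
      simp only [CommRingCat.hom_comp, RingHom.comp_apply] at h5
      rw [h5, RingHom.mem_ker.mp ha, map_zero, map_zero]
    exact Ideal.Quotient.eq_zero_iff_mem.mp h4
  · rw [Ideal.span_singleton_le_iff_mem]
    exact b.stalkMap_t

theorem Coord.t_mem {x : X} (b : Coord X i x) : b.t ∈ IsLocalRing.maximalIdeal _ := by
  rw [IsLocalRing.mem_maximalIdeal, mem_nonunits_iff]
  intro h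
  have := h.map ((sect X i).stalkMap x).hom
  rw [b.stalkMap_t] at this
  exact not_isUnit_zero this

/-- The prime `(m_x, T)` of `O_{X,x}[T]`. -/
noncomputable def q0 (x : X) : Ideal (Polynomial (X.presheaf.stalk x)) :=
  (IsLocalRing.maximalIdeal (X.presheaf.stalk x)).comap (Polynomial.evalRingHom 0)

instance (x : X) : (q0 x).IsPrime := by unfold q0; infer_instance

theorem mem_q0 {x : X} {p : Polynomial (X.presheaf.stalk x)} :
    p ∈ q0 x ↔ ¬ IsUnit (p.eval 0) := by
  rw [q0, Ideal.mem_comap, IsLocalRing.mem_maximalIdeal, mem_nonunits_iff]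
  rfl

/-- The local ring of the affine line over `X` at the origin over `x`. -/
abbrev LocB (x : X) : Type u := Localization.AtPrime (q0 x)

/-- The structure map `O_{X,x} → O_{X,x}[T]_{(m,T)}`. -/
noncomputable def incl (x : X) : X.presheaf.stalk x ⟶ CommRingCat.of (LocB x) :=
  CommRingCat.ofHom ((algebraMap (Polynomial (X.presheaf.stalk x)) (LocB x)).comp Polynomial.C)

/-- The evaluation at `T = 0`. -/
noncomputable def ev0 (x : X) : CommRingCat.of (LocB x) ⟶ X.presheaf.stalk x :=
  CommRingCat.ofHom (IsLocalization.lift (M := (q0 x).primeCompl) (S := LocB x)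
    (g := Polynomial.evalRingHom 0) (fun y => by
      by_contra h
      exact y.2 (mem_q0.2 h)))

theorem ev0_algebraMap (x : X) (p : Polynomial (X.presheaf.stalk x)) :
    (ev0 x).hom (algebraMap _ (LocB x) p) = p.eval 0 :=
  IsLocalization.lift_eq _ p

theorem incl_ev0 (x : X) : incl x ≫ ev0 x = 𝟙 _ := by
  ext a
  change (ev0 x).hom (algebraMap _ (LocB x) (Polynomial.C a)) = a
  rw [ev0_algebraMap, Polynomial.eval_C]

instance isLocalHom_ev0 (x : X) : IsLocalHom (ev0 x).hom := by
  constructor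
  intro z hz
  obtain ⟨⟨p, s⟩, hps⟩ := IsLocalization.surj (q0 x).primeCompl z
  have hs : IsUnit (algebraMap _ (LocB x) (s : Polynomial (X.presheaf.stalk x))) :=
    IsLocalization.map_units _ s
  have h1 : IsUnit ((ev0 x).hom (algebraMap _ (LocB x) p)) := by
    rw [← hps, map_mul]
    exact hz.mul (hs.map _)
  rw [ev0_algebraMap] at h1
  have h2 : IsUnit (algebraMap _ (LocB x) p) :=
    IsLocalization.map_units (LocB x) (⟨p, fun h => mem_q0.1 h h1⟩ : (q0 x).primeCompl)
  rw [← hps] at h2
  exact isUnit_of_mul_isUnit_left h2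

/-- The point of `P^1_X` with values in `O_{X,x}[T]_{(m,T)}`. -/
noncomputable def ptB (i : Fin (1 + 1)) (x : X) :
    Spec (CommRingCat.of (LocB x)) ⟶ CohB1.ProjSpaceOver 1 X :=
  pt (B := CommRingCat.of (LocB x)) i (Spec.map (incl x) ≫ X.fromSpecStalk x)
    (algebraMap (Polynomial (X.presheaf.stalk x)) (LocB x) Polynomial.X)

theorem specMap_ev0_ptB (i : Fin (1 + 1)) (x : X) :
    Spec.map (ev0 x) ≫ ptB i x = X.fromSpecStalk x ≫ sect X i := by
  rw [ptB, map_pt, ev0_algebraMap, Polynomial.eval_X, ← Category.assoc, ← Spec.map_comp, incl_ev0,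
    Spec.map_id, Category.id_comp, pt_zero]

theorem ptB_closedPoint (i : Fin (1 + 1)) (x : X) :
    ptB i x (IsLocalRing.closedPoint (LocB x)) = sect X i x := by
  have h1 : Spec.map (ev0 x) (IsLocalRing.closedPoint (X.presheaf.stalk x)) =
      IsLocalRing.closedPoint (LocB x) := by
    exact IsLocalRing.comap_closedPoint (ev0 x).hom
  rw [← h1, ← Scheme.Hom.comp_apply, specMap_ev0_ptB, Scheme.Hom.comp_apply,
    Scheme.fromSpecStalk_closedPoint]

/-- The map from the local ring of `P^1_X` to the local ring of the affine line. -/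
noncomputable def psi (i : Fin (1 + 1)) (x : X) :
    (CohB1.ProjSpaceOver 1 X).presheaf.stalk (sect X i x) ⟶ CommRingCat.of (LocB x) :=
  (CohB1.ProjSpaceOver 1 X).presheaf.stalkSpecializes
    (specializes_of_eq (ptB_closedPoint i x)) ≫ Scheme.stalkClosedPointTo (ptB i x)

theorem specMap_psi (i : Fin (1 + 1)) (x : X) :
    Spec.map (psi i x) ≫ (CohB1.ProjSpaceOver 1 X).fromSpecStalk (sect X i x) = ptB i x := by
  rw [psi, Spec.map_comp, Category.assoc, Scheme.SpecMap_stalkSpecializes_fromSpecStalk,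
    Scheme.Spec_stalkClosedPointTo_fromSpecStalk]

/-- The coordinate goes to `T`. -/
theorem Coord.psi_t {x : X} (b : Coord X i x) :
    (psi i x).hom b.t = algebraMap (Polynomial (X.presheaf.stalk x)) (LocB x) Polynomial.X := by
  have h1 := specMap_psi i x
  rw [b.spec, map_pt, ptB] at h1
  exact pt_injective h1

theorem isUnit_eval₂ {R A : Type*} [CommRing R] [CommRing A] [IsLocalRing A] (f : R →+* A)
    {t : A} (ht : t ∈ IsLocalRing.maximalIdeal A) (p : Polynomial R) (hp : IsUnit (p.eval 0)) :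
    IsUnit (p.eval₂ f t) := by
  have h2 := Polynomial.eval₂_eq_sum_range (f := f) (p := p) t
  rw [Finset.sum_range_succ'] at h2
  rw [h2, pow_zero, mul_one, Polynomial.coeff_zero_eq_eval_zero]
  have h3 : ∑ k ∈ Finset.range p.natDegree,
      f (p.coeff (k + 1)) * t ^ (k + 1) ∈ IsLocalRing.maximalIdeal _ :=
    Ideal.sum_mem _ fun k _ => Ideal.mul_mem_left _ _
      (Ideal.pow_mem_of_mem _ ht _ (Nat.succ_pos k))
  by_contra h4
  have h5 : f (p.eval 0) ∈ IsLocalRing.maximalIdeal _ :=
    (Ideal.add_mem_iff_right _ h3).1 ((IsLocalRing.mem_maximalIdeal _).2 h4)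
  exact (IsLocalRing.mem_maximalIdeal _).1 h5 (hp.map _)

/-- The inverse map. -/
noncomputable def Coord.phi {x : X} (b : Coord X i x) :
    CommRingCat.of (LocB x) ⟶ (CohB1.ProjSpaceOver 1 X).presheaf.stalk (sect X i x) :=
  CommRingCat.ofHom (IsLocalization.lift (M := (q0 x).primeCompl) (S := LocB x)
    (g := Polynomial.eval₂RingHom (sig X i x).hom b.t) (fun y =>
      isUnit_eval₂ (sig X i x).hom b.t_mem y.1 (by
        by_contra h
        exact y.2 (mem_q0.2 h))))

theorem Coord.phi_algebraMap {x : X} (b : Coord X i x) (p : Polynomial (X.presheaf.stalk x)) :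
    b.phi.hom (algebraMap _ (LocB x) p) = p.eval₂ (sig X i x).hom b.t :=
  IsLocalization.lift_eq _ p

theorem Coord.incl_phi {x : X} (b : Coord X i x) : incl x ≫ b.phi = sig X i x := by
  ext a
  change b.phi.hom (algebraMap _ (LocB x) (Polynomial.C a)) = _
  rw [b.phi_algebraMap, Polynomial.eval₂_C]

theorem Coord.psi_phi {x : X} (b : Coord X i x) : psi i x ≫ b.phi = 𝟙 _ := by
  apply Spec.map_injective
  rw [← cancel_mono ((CohB1.ProjSpaceOver 1 X).fromSpecStalk (sect X i x)), Spec.map_comp,
    Category.assoc, specMap_psi, ptB, map_pt, b.phi_algebraMap, Polynomial.eval₂_X,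
    ← Category.assoc, ← Spec.map_comp, b.incl_phi, ← fromSpecStalk_toBase, ← b.spec,
    Spec.map_id, Category.id_comp]

theorem Coord.psi_injective {x : X} (b : Coord X i x) : Function.Injective (psi i x).hom := by
  intro a a' h
  have h1 := congrArg b.phi.hom h
  have h2 : ∀ a, b.phi.hom ((psi i x).hom a) = a := fun a =>
    congrArg (fun f => f.hom a) b.psi_phi
  rwa [h2, h2] at h1

/-- The coordinate is a nonzerodivisor. -/
theorem Coord.t_mem_nonZeroDivisors {x : X} (b : Coord X i x) : b.t ∈ nonZeroDivisors _ := by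
  rw [mem_nonZeroDivisors_iff_right]
  intro a ha
  apply b.psi_injective
  rw [map_zero]
  have h1 := congrArg (psi i x).hom ha
  rw [map_mul, b.psi_t, map_zero] at h1
  have h2 : algebraMap (Polynomial (X.presheaf.stalk x)) (LocB x) Polynomial.X ∈
      nonZeroDivisors (LocB x) :=
    IsLocalization.map_nonZeroDivisors_le (q0 x).primeCompl (LocB x)
      ⟨_, Polynomial.X_mem_nonzeroDivisors, rfl⟩
  exact (mem_nonZeroDivisors_iff_right.1 h2) _ h1

theorem nonempty_coord (x : X) : Nonempty (Coord X i x) := by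
  obtain ⟨b, hb⟩ := exists_fromSpecStalk_eq_pt X i x
  exact ⟨⟨b, hb⟩⟩

/-- The kernel of the stalk map of the section is generated by a nonzerodivisor. -/
theorem exists_ker_stalkMap_sect (i : Fin (1 + 1)) (x : X) :
    ∃ t : (CohB1.ProjSpaceOver 1 X).presheaf.stalk (sect X i x), t ∈ nonZeroDivisors _ ∧
      RingHom.ker ((sect X i).stalkMap x).hom = Ideal.span {t} := by
  obtain ⟨b⟩ := nonempty_coord (X := X) (i := i) x
  exact ⟨b.t, b.t_mem_nonZeroDivisors, b.ker_eq⟩

end Groth.Agent.CycA.P1Sect
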