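import Groth.Prelude.Def_P1
import Groth.Agent.CycB.ClosedFac
import Groth.Agent.CycB.PtClosure
import Groth.Agent.CycA.StalkIdeal
import Groth.Agent.CycA.DivMult
import Groth.Agent.CycA.P1Sect

/-!
# Cycles of pullbacks of integral closed subschemes

For an integral closed subscheme `ι : W ⟶ P` with generic point `ω` and `g : X ⟶ P`, the
coefficient at `x` of the cycle of `W ×_P X` is the length of `O_{X,x}/p_ω O_{X,x}`.
-/

set_option autoImplicit false
universe u

open AlgebraicGeometry CategoryTheory CategoryTheory.Limits TopologicalSpace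

namespace Groth.Agent.CycA.MovFib

open Groth.Agent.CycB.ClosedFac IntMult Cyc

variable {W P X : Scheme.{u}}

theorem fac_pullback_snd (ι : W ⟶ P) (g : X ⟶ P) (x : X) {I : Ideal (P.presheaf.stalk (g x))}
    (hI : Fac ι (g x) I) : Fac (pullback.snd ι g) x (I.map (g.stalkMap x).hom) := by
  intro C _ φ _
  rw [Ideal.map_le_iff_le_comap]
  have h1 : IsLocalHom (g.stalkMap x ≫ φ).hom := by
    rw [CommRingCat.hom_comp]
    infer_instance
  have h2 := hI C (g.stalkMap x ≫ φ)
  have e1 : Spec.map (g.stalkMap x ≫ φ) ≫ P.fromSpecStalk (g x) =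
      (Spec.map φ ≫ X.fromSpecStalk x) ≫ g := by
    rw [Spec.map_comp, Category.assoc, Category.assoc, Scheme.SpecMap_stalkMap_fromSpecStalk]
  rw [e1] at h2
  have h3 : I ≤ RingHom.ker (g.stalkMap x ≫ φ).hom ↔
      I ≤ (RingHom.ker φ.hom).comap (g.stalkMap x).hom := by
    rw [CommRingCat.hom_comp, RingHom.ker, RingHom.ker, Ideal.comap_comap]
  rw [← h3, ← h2]
  constructor
  · rintro ⟨h, hh⟩
    refine ⟨h ≫ pullback.fst ι g, ?_⟩
    rw [← hh, Category.assoc, Category.assoc, pullback.condition]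
  · rintro ⟨h, hh⟩
    exact ⟨pullback.lift h (Spec.map φ ≫ X.fromSpecStalk x) hh, pullback.lift_snd _ _ _⟩

theorem fac_of_notMem_range (ι : W ⟶ P) (y : P) (hy : y ∉ Set.range ι) : Fac ι y ⊤ := by
  intro C _ φ _
  constructor
  · rintro ⟨h, hh⟩
    exfalso
    apply hy
    refine ⟨h (IsLocalRing.closedPoint C), ?_⟩
    rw [← Scheme.Hom.comp_apply, hh, specMap_fromSpecStalk_closedPoint]
  · intro h
    exfalso
    have : (1 : P.presheaf.stalk y) ∈ RingHom.ker φ.hom := h trivial
    rw [RingHom.mem_ker, map_one] at this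
    exact one_ne_zero this

/-- The ideal of an integral closed subscheme is the stalk ideal of its generic point. -/
theorem fac_stalkIdeal (ι : W ⟶ P) [IsClosedImmersion ι] [IsIntegral W] (y : P) :
    Fac ι y (stalkIdeal (ptIdeal (ι (genericPoint W))) y) := by
  by_cases hy : y ∈ Set.range ι
  · obtain ⟨w, rfl⟩ := hy
    rw [DivMult.stalkIdeal_ptIdeal_genericPoint]
    exact fac_ker ι w
  · have h1 : ¬ ι (genericPoint W) ⤳ y := fun h =>
      hy (h.mem_closed ι.isClosedEmbedding.isClosed_range ⟨_, rfl⟩)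
    rw [StalkIdeal.stalkIdeal_ptIdeal_eq_top h1]
    exact fac_of_notMem_range ι y hy

/-- **Coefficients of the pullback of an integral closed subscheme.** -/
theorem subschemeFun_pullback_snd (ι : W ⟶ P) [IsClosedImmersion ι] [IsIntegral W] (g : X ⟶ P)
    (δ : X → ℤ) (s : ℤ) (x : X) (hx : δ x = s) :
    subschemeFun δ s (pullback.snd ι g) x =
      ((Module.length (X.presheaf.stalk x) (X.presheaf.stalk x ⧸
        (stalkIdeal (ptIdeal (ι (genericPoint W))) (g x)).map (g.stalkMap x).hom)).toNat : ℤ) := by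
  rw [subschemeFun, if_pos hx]
  exact (fac_pullback_snd ι g x (fac_stalkIdeal ι (g x))).finsum_length

theorem subschemeFun_ptClι (ω : P) (g : X ⟶ P) (δ : X → ℤ) (s : ℤ) (x : X) (hx : δ x = s) :
    subschemeFun δ s (pullback.snd (CycB.PtClosure.ptClι ω) g) x =
      ((Module.length (X.presheaf.stalk x) (X.presheaf.stalk x ⧸
        (stalkIdeal (ptIdeal ω) (g x)).map (g.stalkMap x).hom)).toNat : ℤ) := by
  rw [subschemeFun_pullback_snd _ _ _ _ _ hx, CycB.PtClosure.ptClι_genericPoint]

theorem subschemeFun_ptClι_of_ne (ω : P) (g : X ⟶ P) (δ : X → ℤ) (s : ℤ) (x : X) (hx : δ x ≠ s) :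
    subschemeFun δ s (pullback.snd (CycB.PtClosure.ptClι ω) g) x = 0 := by
  rw [subschemeFun, if_neg hx]

theorem subschemeFun_ptClι_eq_zero (ω : P) (g : X ⟶ P) (δ : X → ℤ) (s : ℤ) (x : X)
    (h : ¬ ω ⤳ g x) : subschemeFun δ s (pullback.snd (CycB.PtClosure.ptClι ω) g) x = 0 := by
  apply DivMult.subschemeFun_eq_zero_of_not_specializes
  rwa [CycB.PtClosure.ptClι_genericPoint]

section Length

variable {Q A : Type u} [CommRing Q] [CommRing A] (φ : Q →+* A) (hφ : Function.Surjective φ)

include hφ in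
/-- `length_A (A/IA) = length_Q (Q/(I + ker φ))` for a surjection `φ : Q → A`. -/
theorem length_map_eq (I : Ideal Q) :
    Module.length A (A ⧸ I.map φ) = Module.length Q (Q ⧸ (I ⊔ RingHom.ker φ)) := by
  let : Algebra Q A := φ.toAlgebra
  have h1 := Module.length_eq_of_surjective (M := A ⧸ I.map φ) (R := A) (S := Q) hφ
  rw [← h1]
  let f : Q →ₗ[Q] (A ⧸ I.map φ) := (((I.map φ).mkQ).restrictScalars Q) ∘ₗ (Algebra.linearMap Q A)
  have hf : Function.Surjective f := (Submodule.mkQ_surjective _).comp hφ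
  have hk : LinearMap.ker f = I ⊔ RingHom.ker φ := by
    ext c
    rw [LinearMap.mem_ker, ← Ideal.comap_map_of_surjective' _ hφ, Ideal.mem_comap]
    exact Submodule.Quotient.mk_eq_zero _
  exact ((Submodule.quotEquivOfEq _ _ hk.symm).trans (f.quotKerEquivOfSurjective hf)).length_eq.symm

end Length

/-- The coefficient at `x` of the fibre over `0` (or `∞`) of the closure of `ω` in `P^1_X`, as a
length over the local ring of `P^1_X`. -/
theorem subschemeFun_sect (ω : ↥(CohB1.ProjSpaceOver 1 X)) (i : Fin (1 + 1)) (δ : X → ℤ) (s : ℤ)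
    (x : X) (hx : δ x = s) (b : P1Sect.Coord X i x) :
    subschemeFun δ s (pullback.snd (CycB.PtClosure.ptClι ω) (P1.sect X i)) x =
      ((Module.length ((CohB1.ProjSpaceOver 1 X).presheaf.stalk (P1.sect X i x))
        ((CohB1.ProjSpaceOver 1 X).presheaf.stalk (P1.sect X i x) ⧸
          (stalkIdeal (ptIdeal ω) (P1.sect X i x) ⊔ Ideal.span {b.t}))).toNat : ℤ) := by
  rw [subschemeFun_ptClι _ _ _ _ _ hx,
    length_map_eq _ (((P1.sect X i)).stalkMap_surjective x), b.ker_eq]

end Groth.Agent.CycA.MovFib
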