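import Groth.Agent.CycA.MovRatZ
import Groth.Agent.CycB.SetupLft
import Groth.Agent.CycB.P1Sep

/-!
# Finiteness of the supports of `[Z]_k` and of intersection products on Noetherian schemes
-/

set_option autoImplicit false
universe u
open CategoryTheory CategoryTheory.Limits AlgebraicGeometry TopologicalSpace

namespace Groth.Agent.CycA.MovFin

open Groth.Agent.CycA.MovRatZ

/-- In a Noetherian sober space, a closed set has finitely many maximal points. -/
theorem finite_maximal {X : Type*} [TopologicalSpace X] [NoetherianSpace X] [QuasiSober X]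
    {C : Set X} (hC : IsClosed C) : {x : X | x ∈ C ∧ ∀ y ∈ C, y ⤳ x → y = x}.Finite := by
  classical
  obtain ⟨S, hS, h1, h2, h3⟩ := NoetherianSpace.exists_finite_set_isClosed_irreducible hC
  have h4 : ∀ t : Set X, t ∈ S → ∃ y : X, IsGenericPoint y t := fun t ht =>
    QuasiSober.sober (h2 t ht) (h1 t ht)
  by_cases hX : Nonempty X
  swap
  · have : IsEmpty X := not_nonempty_iff.1 hX
    exact Set.toFinite _
  let g : Set X → X := fun t => if ht : t ∈ S then (h4 t ht).choose else hX.some
  refine (hS.image g).subset ?_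
  rintro x ⟨hx, hmax⟩
  rw [h3] at hx
  obtain ⟨t, ht, hxt⟩ := hx
  refine ⟨t, ht, ?_⟩
  have hg : IsGenericPoint (g t) t := by
    simp only [g, dif_pos ht]
    exact (h4 t ht).choose_spec
  apply hmax
  · rw [h3]
    exact ⟨t, ht, hg.mem⟩
  · exact hg.specializes hxt

variable {X : Scheme.{u}} {δ : X → ℤ}

theorem eq_of_length_ne_top {Z : Scheme.{u}} {z y : Z}
    (hz : Module.length (Z.presheaf.stalk z) (Z.presheaf.stalk z) ≠ ⊤) (hyz : y ⤳ z) : y = z := by
  have h1 : IsArtinianRing (Z.presheaf.stalk z) := by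
    rw [Module.length_ne_top_iff] at hz
    exact (isFiniteLength_iff_isNoetherian_isArtinian.1 hz).2
  have h2 : y ∈ Set.range (Z.fromSpecStalk z) := by
    rw [Scheme.range_fromSpecStalk]
    exact hyz
  obtain ⟨P, rfl⟩ := h2
  have h3 : P = IsLocalRing.closedPoint (Z.presheaf.stalk z) := by
    apply PrimeSpectrum.ext
    have hP : P.asIdeal.IsPrime := P.2
    have : P.asIdeal.IsMaximal := IsArtinianRing.isMaximal_of_isPrime _
    exact IsLocalRing.eq_maximalIdeal this
  rw [h3]
  exact Scheme.fromSpecStalk_closedPoint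

theorem finite_support_subschemeFun [NoetherianSpace X] (δ : X → ℤ) (k : ℤ) {Z : Scheme.{u}}
    (i : Z ⟶ X) [IsClosedImmersion i] : (Function.support (Cyc.subschemeFun δ k i)).Finite := by
  have hN : NoetherianSpace Z := i.isEmbedding.isInducing.noetherianSpace
  have h1 := finite_maximal (isClosed_univ (X := Z))
  refine (h1.image i).subset ?_
  intro x hx
  rw [Function.mem_support, Cyc.subschemeFun] at hx
  split_ifs at hx with hk
  · obtain ⟨z, hz⟩ : ∃ z : Z, ∑ᶠ (_ : z ∈ {z : Z | i z = x}),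
      ((Module.length (Z.presheaf.stalk z) (Z.presheaf.stalk z)).toNat : ℤ) ≠ 0 := by
      by_contra hcon
      push Not at hcon
      exact hx (finsum_eq_zero_of_forall_eq_zero hcon)
    have hzx : z ∈ {z : Z | i z = x} := by
      by_contra hcon
      apply hz
      simp only [hcon, finsum_false]
    refine ⟨z, ⟨Set.mem_univ _, fun y _ hyz => ?_⟩, hzx⟩
    refine eq_of_length_ne_top ?_ hyz
    intro htop
    apply hz
    simp only [htop, ENat.toNat_top, Nat.cast_zero, finsum_zero]
  · exact absurd rfl hx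

theorem finite_support_interProd [NoetherianSpace X] (hδ : Cyc.IsDimFun X δ) (n : ℤ)
    {α β : X → ℤ} (hα : (Function.support α).Finite) (hβ : (Function.support β).Finite)
    (h : IntMult.IntersectProperly δ n α β) :
    (Function.support (IntMult.interProd δ n α β)).Finite := by
  have h1 : ∀ p : X × X, {x : X | x ∈ closure {p.1} ∩ closure {p.2} ∧
      ∀ y ∈ closure {p.1} ∩ closure {p.2}, y ⤳ x → y = x}.Finite := fun p =>
    finite_maximal (isClosed_closure.inter isClosed_closure)
  refine ((hα.prod hβ).biUnion fun p _ => h1 p).subset ?_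
  intro ζ hζ
  obtain ⟨ξ, η, h2, h3, h4, h5, h6⟩ := interProd_ne_zero δ n hζ
  refine Set.mem_biUnion (x := (ξ, η)) ⟨h2, h3⟩ ⟨⟨?_, ?_⟩, ?_⟩
  · exact specializes_iff_mem_closure.1 h4
  · exact specializes_iff_mem_closure.1 h5
  · rintro y ⟨hy1, hy2⟩ hyζ
    by_contra hne
    have h7 := h ξ η y h2 h3 (specializes_iff_mem_closure.2 hy1) (specializes_iff_mem_closure.2 hy2)
    have h8 := (hδ y ζ hyζ hne).1
    omega

theorem finite_of_locallyFinite {X I : Type*} [TopologicalSpace X] [CompactSpace X]
    (Z : I → Set X) (hZ : ∀ i, (Z i).Nonempty)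
    (h : ∀ p : X, ∃ U : Set X, IsOpen U ∧ p ∈ U ∧ {i | (Z i ∩ U).Nonempty}.Finite) : Finite I := by
  choose U hU hxU hfin using h
  obtain ⟨t, ht⟩ := isCompact_univ.elim_finite_subcover U hU
    (fun x _ => Set.mem_iUnion.2 ⟨x, hxU x⟩)
  have : (Set.univ : Set I).Finite := by
    refine (t.finite_toSet.biUnion (fun x _ => hfin x)).subset ?_
    intro i _
    obtain ⟨z, hz⟩ := hZ i
    obtain ⟨x, hx⟩ := Set.mem_iUnion.1 (ht (Set.mem_univ z))
    obtain ⟨hx1, hx2⟩ := Set.mem_iUnion.1 hx
    exact Set.mem_biUnion hx1 ⟨z, hz, hx2⟩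
  exact Set.finite_univ_iff.1 this

end Groth.Agent.CycA.MovFin
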