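import Groth.Prelude.Def_IntMult
import Groth.Agent.CycB.DivFun
import Groth.Agent.CycA.IntCore

/-!
# Function level rational equivalence and bilinearity of the intersection product

* `RatZ δ k : AddSubgroup (X → ℤ)`: finite sums of principal divisors; on a quasi-compact `X` a cycle
  is rationally equivalent to zero iff its coefficient function lies in `RatZ`.
* `interProd` is additive in both variables on functions with finite support, symmetric, and has
  finite support for properly intersecting functions with finite support on a Noetherian scheme.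
-/

set_option autoImplicit false
universe u
open CategoryTheory CategoryTheory.Limits AlgebraicGeometry

namespace Groth.Agent.CycA.MovRatZ

open Groth.Agent.CycB.DivFun

variable {X : Scheme.{u}} {δ : X → ℤ} {k : ℤ}

/-- Functions which are finite sums of principal divisors of `k + 1`-dimensional points. -/
def RatZ (δ : X → ℤ) (k : ℤ) : AddSubgroup (X → ℤ) :=
  AddSubgroup.closure
    {φ | ∃ (ξ : X) (g : X.residueField ξ), δ ξ = k + 1 ∧ g ≠ 0 ∧ φ = Cyc.divFun δ ξ g}

theorem divFun_mem_ratZ {ξ : X} (hξ : δ ξ = k + 1) {g : X.residueField ξ} (hg : g ≠ 0) :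
    Cyc.divFun δ ξ g ∈ RatZ δ k :=
  AddSubgroup.subset_closure ⟨ξ, g, hξ, hg, rfl⟩

theorem mem_ratZ_of_ratEquivZero [CompactSpace X] {α : AlgebraicCycle X ℤ}
    (h : Cyc.RatEquivZero δ k α) : ⇑α ∈ RatZ δ k := by
  obtain ⟨ι, ξ, g, h1, h2, h3, h4⟩ := (ratEquivZero_iff α).1 h
  have hfin : Finite ι := by
    have := h3.finite_of_isCompact (isCompact_univ (X := X))
    have h5 : (Set.univ : Set ι).Finite := this.subset fun i _ => Set.mem_univ _
    exact Set.finite_univ_iff.1 h5
  have hfin' := Fintype.ofFinite ι
  have h5 : ⇑α = ∑ i, Cyc.divFun δ (ξ i) (g i) := by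
    funext x
    rw [h4, finsum_eq_sum_of_fintype, Finset.sum_apply]
  rw [h5]
  exact AddSubgroup.sum_mem _ fun i _ => divFun_mem_ratZ (h1 i) (h2 i)

theorem exists_cycle_of_mem_ratZ [IsLocallyNoetherian X] (hδ : Cyc.IsDimFun X δ) {φ : X → ℤ}
    (h : φ ∈ RatZ δ k) : ∃ α : AlgebraicCycle X ℤ, ⇑α = φ ∧ Cyc.RatEquivZero δ k α := by
  induction h using AddSubgroup.closure_induction with
  | mem φ hφ =>
    obtain ⟨ξ, g, hξ, hg, rfl⟩ := hφ
    obtain ⟨c, hc⟩ := exists_cycle_divFun hδ ξ g
    exact ⟨c, hc, ratEquivZero_divFun hξ hg (fun x => congrFun hc x)⟩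
  | zero => exact ⟨0, rfl, ratEquivZero_zero⟩
  | add φ ψ _ _ h1 h2 =>
    obtain ⟨a, ha, ha'⟩ := h1
    obtain ⟨b, hb, hb'⟩ := h2
    refine ⟨a + b, ?_, RatEquivZero.add ha' hb'⟩
    rw [← ha, ← hb]
    rfl
  | neg φ _ h1 =>
    obtain ⟨a, ha, ha'⟩ := h1
    refine ⟨-a, ?_, RatEquivZero.neg ha'⟩
    rw [← ha]
    rfl

theorem ratEquivZero_of_mem_ratZ [IsLocallyNoetherian X] (hδ : Cyc.IsDimFun X δ)
    {α : AlgebraicCycle X ℤ} (h : ⇑α ∈ RatZ δ k) : Cyc.RatEquivZero δ k α := by
  obtain ⟨β, hβ, hβ'⟩ := exists_cycle_of_mem_ratZ hδ h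
  exact RatEquivZero.congr hβ' fun x => congrFun hβ x

theorem ratEquivZero_iff_mem_ratZ [IsLocallyNoetherian X] [CompactSpace X]
    (hδ : Cyc.IsDimFun X δ) (α : AlgebraicCycle X ℤ) : Cyc.RatEquivZero δ k α ↔ ⇑α ∈ RatZ δ k :=
  ⟨mem_ratZ_of_ratEquivZero, ratEquivZero_of_mem_ratZ hδ⟩

/-- A cycle on a quasi-compact scheme has finite support. -/
theorem finite_support [CompactSpace X] (α : AlgebraicCycle X ℤ) :
    (Function.support ⇑α).Finite := by
  have := (locFin_support α).finite_of_isCompact (isCompact_univ (X := X))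
  have h2 := this.image (fun x : {x // α x ≠ 0} => x.1)
  refine h2.subset fun x hx => ?_
  exact ⟨⟨x, hx⟩, Set.mem_univ _, rfl⟩

/-- A function with finite support is a cycle. -/
theorem exists_cycle_of_finite_support {φ : X → ℤ} (h : (Function.support φ).Finite) :
    ∃ α : AlgebraicCycle X ℤ, ⇑α = φ :=
  exists_locallyFinsupp φ fun _ => ⟨Set.univ, isOpen_univ, trivial, h.subset (by simp)⟩

section interProd

variable (δ) (n : ℤ)

theorem mult_comm (I J : X.IdealSheafData) (x : X) : IntMult.mult I J x = IntMult.mult J I x :=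
  IntCore.chi_comm _ _

theorem interProd_comm (α β : X → ℤ) :
    IntMult.interProd δ n α β = IntMult.interProd δ n β α := by
  funext ζ
  let e : {p : X × X // p.1 ⤳ ζ ∧ p.2 ⤳ ζ ∧ δ p.1 + δ p.2 - n = δ ζ} ≃
      {p : X × X // p.1 ⤳ ζ ∧ p.2 ⤳ ζ ∧ δ p.1 + δ p.2 - n = δ ζ} :=
    { toFun := fun p => ⟨(p.1.2, p.1.1), p.2.2.1, p.2.1, by
        have := p.2.2.2
        change δ p.1.2 + δ p.1.1 - n = δ ζ
        omega⟩
      invFun := fun p => ⟨(p.1.2, p.1.1), p.2.2.1, p.2.1, by
        have := p.2.2.2
        change δ p.1.2 + δ p.1.1 - n = δ ζ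
        omega⟩
      left_inv := fun p => rfl
      right_inv := fun p => rfl }
  rw [IntMult.interProd, ← finsum_comp_equiv e, IntMult.interProd]
  refine finsum_congr fun p => ?_
  change α p.1.2 * β p.1.1 * IntMult.mult (IntMult.ptIdeal p.1.2) (IntMult.ptIdeal p.1.1) ζ =
    β p.1.1 * α p.1.2 * IntMult.mult (IntMult.ptIdeal p.1.1) (IntMult.ptIdeal p.1.2) ζ
  rw [mult_comm, mul_comm (α p.1.2)]

theorem intersectProperly_comm {α β : X → ℤ} (h : IntMult.IntersectProperly δ n α β) :
    IntMult.IntersectProperly δ n β α := by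
  intro ξ η ζ h1 h2 h3 h4
  have := h η ξ ζ h2 h1 h4 h3
  omega

theorem finite_support_summand {α β : X → ℤ} (hα : (Function.support α).Finite)
    (hβ : (Function.support β).Finite) (ζ : X) :
    (Function.support
      (fun p : {p : X × X // p.1 ⤳ ζ ∧ p.2 ⤳ ζ ∧ δ p.1 + δ p.2 - n = δ ζ} =>
        α p.1.1 * β p.1.2 * IntMult.mult (IntMult.ptIdeal p.1.1) (IntMult.ptIdeal p.1.2) ζ)).Finite := by
  have h1 : ((Function.support α) ×ˢ (Function.support β)).Finite := hα.prod hβ
  refine (h1.preimage (f := fun p : {p : X × X // p.1 ⤳ ζ ∧ p.2 ⤳ ζ ∧ δ p.1 + δ p.2 - n = δ ζ} =>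
    p.1) Subtype.val_injective.injOn).subset ?_
  intro p hp
  refine ⟨?_, ?_⟩
  · intro h0
    apply hp
    change α p.1.1 * β p.1.2 * _ = 0
    rw [show α p.1.1 = 0 from h0, zero_mul, zero_mul]
  · intro h0
    apply hp
    change α p.1.1 * β p.1.2 * _ = 0
    rw [show β p.1.2 = 0 from h0, mul_zero, zero_mul]

theorem interProd_add_right {α β β' : X → ℤ} (hα : (Function.support α).Finite)
    (hβ : (Function.support β).Finite) (hβ' : (Function.support β').Finite) :
    IntMult.interProd δ n α (β + β') =
      IntMult.interProd δ n α β + IntMult.interProd δ n α β' := by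
  funext ζ
  rw [Pi.add_apply, IntMult.interProd, IntMult.interProd, IntMult.interProd,
    ← finsum_add_distrib (finite_support_summand δ n hα hβ ζ)
      (finite_support_summand δ n hα hβ' ζ)]
  refine finsum_congr fun p => ?_
  rw [Pi.add_apply]
  ring

theorem interProd_add_left {α α' β : X → ℤ} (hα : (Function.support α).Finite)
    (hα' : (Function.support α').Finite) (hβ : (Function.support β).Finite) :
    IntMult.interProd δ n (α + α') β =
      IntMult.interProd δ n α β + IntMult.interProd δ n α' β := by
  rw [interProd_comm, interProd_add_right δ n hβ hα hα', interProd_comm δ n β α,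
    interProd_comm δ n β α']

theorem interProd_zero_right (α : X → ℤ) : IntMult.interProd δ n α 0 = 0 := by
  funext ζ
  refine finsum_eq_zero_of_forall_eq_zero fun p => ?_
  rw [Pi.zero_apply, mul_zero, zero_mul]

theorem interProd_zero_left (β : X → ℤ) : IntMult.interProd δ n 0 β = 0 := by
  rw [interProd_comm, interProd_zero_right]

theorem interProd_zsmul_right (α β : X → ℤ) (c : ℤ) :
    IntMult.interProd δ n α (c • β) = c • IntMult.interProd δ n α β := by
  funext ζ
  rw [Pi.smul_apply, IntMult.interProd, IntMult.interProd, smul_finsum]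
  refine finsum_congr fun p => ?_
  rw [Pi.smul_apply, smul_eq_mul, smul_eq_mul]
  ring

theorem interProd_zsmul_left (α β : X → ℤ) (c : ℤ) :
    IntMult.interProd δ n (c • α) β = c • IntMult.interProd δ n α β := by
  rw [interProd_comm, interProd_zsmul_right, interProd_comm]

theorem interProd_neg_right (α β : X → ℤ) :
    IntMult.interProd δ n α (-β) = - IntMult.interProd δ n α β := by
  have := interProd_zsmul_right δ n α β (-1)
  simpa using this

theorem interProd_neg_left (α β : X → ℤ) :
    IntMult.interProd δ n (-α) β = - IntMult.interProd δ n α β := by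
  have := interProd_zsmul_left δ n α β (-1)
  simpa using this

theorem interProd_sub_right {α β β' : X → ℤ} (hα : (Function.support α).Finite)
    (hβ : (Function.support β).Finite) (hβ' : (Function.support β').Finite) :
    IntMult.interProd δ n α (β - β') =
      IntMult.interProd δ n α β - IntMult.interProd δ n α β' := by
  rw [sub_eq_add_neg, interProd_add_right δ n hα hβ (by rwa [Function.support_neg]),
    interProd_neg_right, ← sub_eq_add_neg]

theorem interProd_sub_left {α α' β : X → ℤ} (hα : (Function.support α).Finite)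
    (hα' : (Function.support α').Finite) (hβ : (Function.support β).Finite) :
    IntMult.interProd δ n (α - α') β =
      IntMult.interProd δ n α β - IntMult.interProd δ n α' β := by
  rw [sub_eq_add_neg, interProd_add_left δ n hα (by rwa [Function.support_neg]) hβ,
    interProd_neg_left, ← sub_eq_add_neg]

theorem finite_support_sum {ι : Type*} (s : Finset ι) (β : ι → X → ℤ)
    (hβ : ∀ i ∈ s, (Function.support (β i)).Finite) :
    (Function.support (∑ i ∈ s, β i)).Finite := by
  classical
  induction s using Finset.induction_on with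
  | empty => simp
  | insert a s ha ih =>
    rw [Finset.sum_insert ha]
    refine ((hβ a (Finset.mem_insert_self _ _)).union
      (ih fun i hi => hβ i (Finset.mem_insert_of_mem hi))).subset ?_
    exact Function.support_add _ _

theorem interProd_sum_right {ι : Type*} (s : Finset ι) {α : X → ℤ} (β : ι → X → ℤ)
    (hα : (Function.support α).Finite) (hβ : ∀ i ∈ s, (Function.support (β i)).Finite) :
    IntMult.interProd δ n α (∑ i ∈ s, β i) = ∑ i ∈ s, IntMult.interProd δ n α (β i) := by
  classical
  induction s using Finset.induction_on with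
  | empty => simp [interProd_zero_right]
  | insert a s ha ih =>
    rw [Finset.sum_insert ha, Finset.sum_insert ha, interProd_add_right δ n hα
      (hβ a (Finset.mem_insert_self _ _))
      (finite_support_sum s β fun i hi => hβ i (Finset.mem_insert_of_mem hi)),
      ih fun i hi => hβ i (Finset.mem_insert_of_mem hi)]

theorem interProd_sum_left {ι : Type*} (s : Finset ι) {β : X → ℤ} (α : ι → X → ℤ)
    (hβ : (Function.support β).Finite) (hα : ∀ i ∈ s, (Function.support (α i)).Finite) :
    IntMult.interProd δ n (∑ i ∈ s, α i) β = ∑ i ∈ s, IntMult.interProd δ n (α i) β := by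
  rw [interProd_comm, interProd_sum_right δ n s α hβ hα]
  exact Finset.sum_congr rfl fun i _ => interProd_comm δ n _ _

/-- A function with finite support is the finite sum of its values times indicator functions. -/
theorem eq_sum_indicator {φ : X → ℤ} (h : (Function.support φ).Finite) :
    φ = ∑ x ∈ h.toFinset, φ x • (Set.indicator {x} (1 : X → ℤ)) := by
  classical
  funext y
  rw [Finset.sum_apply]
  by_cases hy : φ y = 0
  · rw [hy, Finset.sum_eq_zero]
    intro x _
    rw [Pi.smul_apply, Set.indicator_apply]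
    split_ifs with hxy
    · rw [Set.mem_singleton_iff] at hxy
      rw [← hxy, hy, zero_smul]
    · rw [smul_zero]
  · rw [Finset.sum_eq_single y]
    · rw [Pi.smul_apply, Set.indicator_of_mem (Set.mem_singleton _)]
      simp
    · intro x _ hxy
      rw [Pi.smul_apply, Set.indicator_of_notMem, smul_zero]
      simpa using fun h => hxy h.symm
    · intro hy'
      exact absurd (by simpa using hy) hy'

theorem finite_support_indicator (x : X) :
    (Function.support (Set.indicator {x} (1 : X → ℤ))).Finite :=
  (Set.finite_singleton x).subset (Set.support_indicator_subset)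

theorem indicator_ne_zero_iff {x y : X} : Set.indicator {x} (1 : X → ℤ) y ≠ 0 ↔ y = x := by
  classical
  rw [Set.indicator_apply]
  split_ifs with h
  · simp [show y = x from h]
  · simpa using h

/-- `α · β` lies in a subgroup as soon as all `α · [η]`, `η` in the support of `β`, do. -/
theorem interProd_mem_of_right {α β : X → ℤ} (hα : (Function.support α).Finite)
    (hβ : (Function.support β).Finite) (G : AddSubgroup (X → ℤ))
    (h : ∀ η, β η ≠ 0 → IntMult.interProd δ n α (Set.indicator {η} 1) ∈ G) :
    IntMult.interProd δ n α β ∈ G := by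
  rw [eq_sum_indicator hβ, interProd_sum_right δ n _ _ hα]
  · refine AddSubgroup.sum_mem _ fun η hη => ?_
    rw [interProd_zsmul_right]
    exact AddSubgroup.zsmul_mem _ (h η (by simpa using hη)) _
  · intro η _
    refine (finite_support_indicator η).subset ?_
    exact Function.support_const_smul_subset _ _

theorem interProd_mem_of_left {α β : X → ℤ} (hα : (Function.support α).Finite)
    (hβ : (Function.support β).Finite) (G : AddSubgroup (X → ℤ))
    (h : ∀ η, α η ≠ 0 → IntMult.interProd δ n (Set.indicator {η} 1) β ∈ G) :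
    IntMult.interProd δ n α β ∈ G := by
  rw [interProd_comm]
  refine interProd_mem_of_right δ n hβ hα G fun η hη => ?_
  rw [interProd_comm]
  exact h η hη

theorem interProd_ne_zero {α β : X → ℤ} {ζ : X} (h : IntMult.interProd δ n α β ζ ≠ 0) :
    ∃ ξ η : X, α ξ ≠ 0 ∧ β η ≠ 0 ∧ ξ ⤳ ζ ∧ η ⤳ ζ ∧ δ ξ + δ η - n = δ ζ := by
  by_contra hcon
  push Not at hcon
  apply h
  refine finsum_eq_zero_of_forall_eq_zero fun p => ?_
  by_cases h1 : α p.1.1 = 0
  · rw [h1, zero_mul, zero_mul]
  by_cases h2 : β p.1.2 = 0
  · rw [h2, mul_zero, zero_mul]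
  exact absurd p.2.2.2 (hcon _ _ h1 h2 p.2.1 p.2.2.1)

end interProd

end Groth.Agent.CycA.MovRatZ
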