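import Groth.Agent.CycA.FibreLocal
import Groth.Agent.CycA.MovFib
import Groth.Agent.CycA.MovRatZ
import Groth.Agent.CycA.MovFin
import Groth.Agent.S1900

/-!
# Global assembly: sums of fibres of integral closed subschemes of `P^1_X`
-/

set_option autoImplicit false

universe u

open CategoryTheory AlgebraicGeometry CategoryTheory.Limits TopologicalSpace

namespace Groth.Agent.CycA.FibGlob

open MovRatZ MovFin

variable {X : Scheme.{u}}

theorem noetherianSpace {δ : X → ℤ} (hX : Cyc.IsSetup X δ) [CompactSpace X] :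
    NoetherianSpace X := by
  have := hX.1
  have : IsNoetherian X := {}
  infer_instance

/-- The difference of the fibres over `0` and `∞` of the closure of a point `T` of `P^1_X` is
rationally equivalent to zero. -/
theorem sub_mem_ratZ {δ : X → ℤ} (hX : Cyc.IsSetup X δ) [CompactSpace X]
    (δP : ↥(CohB1.ProjSpaceOver 1 X) → ℤ)
    (hP : Cyc.DeltaCompat (CohB1.ProjSpaceOver.toBase 1 X) δP δ) (k : ℤ)
    (T : ↥(CohB1.ProjSpaceOver 1 X)) (hT : δP T = k + 1)
    (hT' : ∀ i, T ∉ Set.range (P1.sect X i)) :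
    Cyc.subschemeFun δ k (pullback.snd (CycB.PtClosure.ptClι T) (P1.sect X 0)) -
      Cyc.subschemeFun δ k (pullback.snd (CycB.PtClosure.ptClι T) (P1.sect X 1)) ∈ RatZ δ k := by
  have hN : NoetherianSpace X := noetherianSpace hX
  have hLN := hX.1
  obtain ⟨α, hα⟩ := exists_cycle_of_finite_support (finite_support_subschemeFun δ k
    (pullback.snd (CycB.PtClosure.ptClι T) (P1.sect X 0)))
  obtain ⟨β, hβ⟩ := exists_cycle_of_finite_support (finite_support_subschemeFun δ k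
    (pullback.snd (CycB.PtClosure.ptClι T) (P1.sect X 1)))
  have h := Groth.Agent.S1900.result X δ hX δP hP k (CycB.PtClosure.ptCl T)
    (CycB.PtClosure.ptClι T) (by rw [CycB.PtClosure.ptClι_genericPoint]; exact hT)
    (by rw [CycB.PtClosure.ptClι_genericPoint]; exact hT' 0)
    (by rw [CycB.PtClosure.ptClι_genericPoint]; exact hT' 1) α β hα hβ
  have h2 := mem_ratZ_of_ratEquivZero h
  have h3 : ⇑(α - β) = ⇑α - ⇑β := rfl
  rw [h3, hα, hβ] at h2
  exact h2

theorem ratEquiv_of_sum {δ : X → ℤ} (hX : Cyc.IsSetup X δ) [CompactSpace X]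
    (δP : ↥(CohB1.ProjSpaceOver 1 X) → ℤ)
    (hP : Cyc.DeltaCompat (CohB1.ProjSpaceOver.toBase 1 X) δP δ) (k : ℤ)
    (𝒯 : Finset ↥(CohB1.ProjSpaceOver 1 X)) (e : ↥(CohB1.ProjSpaceOver 1 X) → ℤ)
    (h𝒯 : ∀ T ∈ 𝒯, δP T = k + 1 ∧ ∀ i, T ∉ Set.range (P1.sect X i)) (γ₀ γ₁ : AlgebraicCycle X ℤ)
    (h₀ : ∀ x, γ₀ x = if δ x = k then ∑ T ∈ 𝒯, FibreLocal.fmult (P1.sect X 0) T x * e T else 0)
    (h₁ : ∀ x, γ₁ x = if δ x = k then ∑ T ∈ 𝒯, FibreLocal.fmult (P1.sect X 1) T x * e T else 0) :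
    Cyc.RatEquiv δ k γ₀ γ₁ := by
  have hLN := hX.1
  refine ratEquivZero_of_mem_ratZ hX.2.2 ?_
  have key : ⇑(γ₀ - γ₁) = ∑ T ∈ 𝒯, e T •
      (Cyc.subschemeFun δ k (pullback.snd (CycB.PtClosure.ptClι T) (P1.sect X 0)) -
      Cyc.subschemeFun δ k (pullback.snd (CycB.PtClosure.ptClι T) (P1.sect X 1))) := by
    have h3 : ⇑(γ₀ - γ₁) = ⇑γ₀ - ⇑γ₁ := rfl
    rw [h3]
    funext x
    rw [Pi.sub_apply, Finset.sum_apply, h₀, h₁]
    split_ifs with hx
    · rw [← Finset.sum_sub_distrib]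
      refine Finset.sum_congr rfl fun T _ => ?_
      rw [Pi.smul_apply, Pi.sub_apply, MovFib.subschemeFun_ptClι _ _ _ _ _ hx,
        MovFib.subschemeFun_ptClι _ _ _ _ _ hx, smul_eq_mul]
      unfold FibreLocal.fmult
      ring
    · rw [sub_zero]
      symm
      refine Finset.sum_eq_zero fun T _ => ?_
      rw [Pi.smul_apply, Pi.sub_apply, MovFib.subschemeFun_ptClι_of_ne _ _ _ _ _ hx,
        MovFib.subschemeFun_ptClι_of_ne _ _ _ _ _ hx, sub_zero, smul_zero]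
  rw [key]
  exact AddSubgroup.sum_mem _ fun T hT => AddSubgroup.zsmul_mem _
    (sub_mem_ratZ hX δP hP k T (h𝒯 T hT).1 (h𝒯 T hT).2) _

end Groth.Agent.CycA.FibGlob
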