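import Groth.Agent.CycA.FibreDev
import Groth.Agent.CycA.MovFin
import Groth.Agent.CycB.P1PtClosure

/-!
# Components of the fibres over `0` and `∞` and of `W ∩ π⁻¹ V`
-/

set_option autoImplicit false

universe u

open CategoryTheory AlgebraicGeometry CategoryTheory.Limits

namespace Groth.Agent.CycA.FibreComp

open Groth.Agent.CycB Groth.Agent.CycB.RelDim Groth.Agent.CycB.LocQuot
open Groth.Agent.CycA.SectPt Groth.Agent.CycA.FibreLocal Groth.Agent.CycA.FibreDev

section Dom

theorem toP1_sect {X Y : Scheme.{u}} (f : X ⟶ Y) (i : Fin (1 + 1)) :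
    P1.sect X i ≫ P1.toP1 f = f ≫ P1.sect Y i := by
  apply P1Chart.hom_ext
  · rw [Category.assoc, Category.assoc]
    have h1 : P1.toP1 f ≫ P1Chart.toZ Y = P1Chart.toZ X :=
      (pullback.lift_fst _ _ _).trans (Category.comp_id _)
    rw [h1, P1Chart.sect_eq, P1Chart.sect_eq, P1Chart.lift_toZ, P1Chart.lift_toZ,
      ← Category.assoc f, specULiftZIsTerminal.comp_from]
  · rw [Category.assoc, Category.assoc]
    have h1 : P1.toP1 f ≫ CohB1.ProjSpaceOver.toBase 1 Y = CohB1.ProjSpaceOver.toBase 1 X ≫ f :=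
      pullback.lift_snd _ _ _
    rw [h1, ← Category.assoc, SectGeom.sect_toBase, SectGeom.sect_toBase, Category.id_comp,
      Category.comp_id]

/-- A closed subscheme dominating `P^1_K` is not contained in a section. -/
theorem notMem_range_of_dominates (K : Type u) [Field K] {X W : Scheme.{u}}
    (f : X ⟶ Spec (CommRingCat.of K)) [IsIntegral W] (ιW : W ⟶ CohB1.ProjSpaceOver 1 X)
    (hdom : ∀ U : (CohB1.ProjSpaceOver 1 (Spec (CommRingCat.of K))).Opens,
      (U : Set ↥(CohB1.ProjSpaceOver 1 (Spec (CommRingCat.of K)))).Nonempty →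
        ∃ w : W, (ιW ≫ P1.toP1 f) w ∈ U) (i : Fin (1 + 1)) :
    ιW (genericPoint W) ∉ Set.range (P1.sect X i) := by
  rintro ⟨z, hz⟩
  have hcl : IsClosed (Set.range (P1.sect (Spec (CommRingCat.of K)) i)) :=
    (P1.sect (Spec (CommRingCat.of K)) i).isClosedEmbedding.isClosed_range
  let U : (CohB1.ProjSpaceOver 1 (Spec (CommRingCat.of K))).Opens :=
    ⟨(Set.range (P1.sect (Spec (CommRingCat.of K)) i))ᶜ, hcl.isOpen_compl⟩
  have hU : (U : Set ↥(CohB1.ProjSpaceOver 1 (Spec (CommRingCat.of K)))).Nonempty := by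
    refine ⟨P1Chart.pt (B := CommRingCat.of K) 0 (𝟙 _) (1 : K) (IsLocalRing.closedPoint K), ?_⟩
    exact P1PtClosure.pt_notMem_range_sect' (K := CommRingCat.of K) (Field.toIsField K) 0 i (𝟙 _)
      (1 : K) one_ne_zero _
  obtain ⟨w, hw⟩ := hdom U hU
  apply hw
  have h1 : ιW w ∈ Set.range (P1.sect X i) := by
    have h2 : ιW (genericPoint W) ⤳ ιW w := (genericPoint_specializes w).map ιW.continuous
    exact h2.mem_closed (P1.sect X i).isClosedEmbedding.isClosed_range ⟨z, hz⟩
  obtain ⟨y, hy⟩ := h1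
  refine ⟨f y, ?_⟩
  rw [Scheme.Hom.comp_apply, ← hy, ← Scheme.Hom.comp_apply, ← Scheme.Hom.comp_apply, toP1_sect]

end Dom

variable {X P W : Scheme.{u}}

/-- Components of `closure w ∩ π⁻¹ closure v` through `σ(x)`. -/
theorem delta_component (π : P ⟶ X) [IsLocallyNoetherian P] {δP : P → ℤ}
    (hδ : Cyc.IsDimFun P δP) (σ : X ⟶ P) [IsClosedImmersion σ] (hσ : σ ≫ π = 𝟙 X) (x : X)
    (hprin : ∃ t, RingHom.ker (σ.stalkMap x).hom = Ideal.span {t})
    {w : P} {v : X}
    (hmeet : ∀ z : X, z ⤳ x → w ⤳ σ z → v ⤳ z → z = x) {T : P} (hT : T ⤳ σ x) (hwT : w ⤳ T)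
    (hvT : v ⤳ π T) (hne : T ≠ σ x) : δP T = δP (σ x) + 1 := by
  obtain ⟨t, ht⟩ := hprin
  have hπσ : ∀ z, π (σ z) = z := fun z => by rw [← Scheme.Hom.comp_apply, hσ]; rfl
  have htm : t ∈ IsLocalRing.maximalIdeal (P.presheaf.stalk (σ x)) := by
    rw [IsLocalRing.mem_maximalIdeal]
    intro hu
    have h1 : σ.stalkMap x t = 0 := by
      have : t ∈ RingHom.ker (σ.stalkMap x).hom := by rw [ht]; exact Ideal.mem_span_singleton_self t
      exact this
    have h2 := hu.map (σ.stalkMap x).hom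
    have h3 : IsUnit (0 : X.presheaf.stalk x) := by
      rw [← h1]; exact h2
    exact not_isUnit_zero h3
  have hpt : ∀ (z : P) (hz : z ⤳ σ x), w ⤳ z → v ⤳ π z →
      t ∈ RingHom.ker (Cyc.specMap (σ x) z hz) → z = σ x := by
    intro z hz hwz hvz htz
    have h1 : z ∈ Set.range σ := by
      rw [mem_range_iff_ker_le σ hz, ht, Ideal.span_singleton_le_iff_mem]
      exact htz
    obtain ⟨z, rfl⟩ := h1
    have h2 : z ⤳ x := (σ.isClosedEmbedding.isEmbedding.isInducing.specializes_iff).1 hz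
    rw [hπσ] at hvz
    rw [hmeet z h2 hwz hvz]
  refine delta_eq_succ hδ hT t htm (fun h0 => hne (hpt T hT hwT hvT h0)) ?_
  intro z hz hTz htz
  exact hpt z hz (hwT.trans hTz) (hvT.trans (hTz.map π.continuous)) htz

/-- Dimension of a component of the fibre of the closure of `w` along `σ`. -/
theorem delta_fibre_component [IsLocallyNoetherian P] {δP : P → ℤ}
    (hδ : Cyc.IsDimFun P δP) (σ : X ⟶ P) [IsClosedImmersion σ] (η : X)
    (hprin : ∃ t, RingHom.ker (σ.stalkMap η).hom = Ideal.span {t})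
    {w : P} (hw : w ⤳ σ η) (hwσ : w ∉ Set.range σ) (hmax : ∀ z : X, z ⤳ η → w ⤳ σ z → z = η) :
    δP w = δP (σ η) + 1 := by
  obtain ⟨t, ht⟩ := hprin
  have htm : t ∈ IsLocalRing.maximalIdeal (P.presheaf.stalk (σ η)) := by
    rw [IsLocalRing.mem_maximalIdeal]
    intro hu
    have h1 : σ.stalkMap η t = 0 := by
      have : t ∈ RingHom.ker (σ.stalkMap η).hom := by rw [ht]; exact Ideal.mem_span_singleton_self t
      exact this
    have h2 := hu.map (σ.stalkMap η).hom
    have h3 : IsUnit (0 : X.presheaf.stalk η) := by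
      rw [← h1]; exact h2
    exact not_isUnit_zero h3
  refine delta_eq_succ hδ hw t htm ?_ ?_
  · intro h0
    apply hwσ
    rw [mem_range_iff_ker_le σ hw, ht, Ideal.span_singleton_le_iff_mem]
    exact h0
  · intro z hz hwz htz
    have h1 : z ∈ Set.range σ := by
      rw [mem_range_iff_ker_le σ hz, ht, Ideal.span_singleton_le_iff_mem]
      exact htz
    obtain ⟨z, rfl⟩ := h1
    have h2 : z ⤳ η := (σ.isClosedEmbedding.isEmbedding.isInducing.specializes_iff).1 hz
    rw [hmax z h2 hwz]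

/-- The multiplicity of a closed subscheme at a maximal point is not zero. -/
theorem subschemeFun_ne_zero [IsLocallyNoetherian X] (j : W ⟶ X) [IsClosedImmersion j] {δ : X → ℤ}
    {s : ℤ} {η : X} (hη : δ η = s) (hmem : η ∈ Set.range j)
    (hmax : ∀ z : X, z ⤳ η → z ∈ Set.range j → z = η) : Cyc.subschemeFun δ s j η ≠ 0 := by
  rw [subschemeFun_closed δ s j η hη]
  have h1 : Module.length (X.presheaf.stalk η)
      (X.presheaf.stalk η ⧸ IntMult.stalkIdeal j.ker η) ≠ ⊤ := by
    refine ChiRec.length_ne_top_of_support fun p hp => ?_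
    rw [Module.support_eq_zeroLocus, Ideal.annihilator_quotient, PrimeSpectrum.mem_zeroLocus,
      SetLike.coe_subset_coe] at hp
    have e1 : p.asIdeal = RingHom.ker (Cyc.specMap η (ptOf p) (ptOf_specializes p)) := by
      rw [← primeOf_asIdeal, primeOf_ptOf]
    rw [e1, mem_range_iff_stalkIdeal_le] at hp
    have h2 := hmax _ (ptOf_specializes p) hp
    have h5 : ∀ (T : X) (hT : T ⤳ η), T = η →
        RingHom.ker (Cyc.specMap η T hT) = IsLocalRing.maximalIdeal _ := by
      rintro T hT rfl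
      exact ker_refl _
    rw [e1, h5 _ _ h2]
    exact IsLocalRing.maximalIdeal.isMaximal _
  have h2 : Module.length (X.presheaf.stalk η)
      (X.presheaf.stalk η ⧸ IntMult.stalkIdeal j.ker η) ≠ 0 := by
    rw [Ne, Module.length_eq_zero_iff, Submodule.Quotient.subsingleton_iff]
    intro h0
    have h3 : IntMult.stalkIdeal j.ker η ≠ ⊤ := by
      rw [StalkIdeal.stalkIdeal_ne_top_iff]
      have h4 : (j.ker.support : Set X) = Set.range j := by
        rw [Scheme.Hom.support_ker, j.isClosedEmbedding.isClosed_range.closure_eq]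
      have h5 : η ∈ (j.ker.support : Set X) := by rw [h4]; exact hmem
      exact h5
    exact h3 h0
  intro h0
  have h3 : (Module.length (X.presheaf.stalk η)
      (X.presheaf.stalk η ⧸ IntMult.stalkIdeal j.ker η)).toNat = 0 := by exact_mod_cast h0
  rcases ENat.toNat_eq_zero.1 h3 with h | h
  · exact h2 h
  · exact h1 h

theorem mem_range_snd_iff (ιW : W ⟶ P) [IsIntegral W] [IsClosedImmersion ιW] (σ : X ⟶ P) (x : X) :
    x ∈ Set.range (pullback.snd ιW σ) ↔ ιW (genericPoint W) ⤳ σ x := by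
  rw [Scheme.Pullback.range_snd, ← mem_range_integral]
  rfl

/-- Every point of the fibre is a specialization of a component of dimension `s` with nonzero
multiplicity. -/
theorem exists_component [IsLocallyNoetherian X] [IsLocallyNoetherian P] {δP : P → ℤ} {δ : X → ℤ}
    (hδ : Cyc.IsDimFun P δP) (hδX : Cyc.IsDimFun X δ) (σ : X ⟶ P) [IsClosedImmersion σ]
    (hδσ : ∀ x, δP (σ x) = δ x)
    (hprin : ∀ x, ∃ t, RingHom.ker (σ.stalkMap x).hom = Ideal.span {t})
    (ιW : W ⟶ P) [IsIntegral W] [IsClosedImmersion ιW] {s : ℤ}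
    (hW : δP (ιW (genericPoint W)) = s + 1) (hwσ : ιW (genericPoint W) ∉ Set.range σ) (ζ : X)
    (hζ : ιW (genericPoint W) ⤳ σ ζ) :
    ∃ η : X, η ⤳ ζ ∧ Cyc.subschemeFun δ s (pullback.snd ιW σ) η ≠ 0 ∧ δ η = s := by
  classical
  have hbound : ∀ η : X, ιW (genericPoint W) ⤳ σ η → δ η ≤ s := by
    intro η hη
    have h1 : ιW (genericPoint W) ≠ σ η := fun h => hwσ ⟨η, h.symm⟩
    have h2 := lt_of_specializes hδ hη h1
    rw [hδσ] at h2
    omega
  -- choose a maximal one
  obtain ⟨η, h1, h2, h3⟩ : ∃ η : X, η ⤳ ζ ∧ ιW (genericPoint W) ⤳ σ η ∧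
      ∀ z : X, z ⤳ η → ιW (genericPoint W) ⤳ σ z → z = η := by
    let Q : ℕ → Prop := fun m => ∃ η : X, η ⤳ ζ ∧ ιW (genericPoint W) ⤳ σ η ∧ s - δ η = m
    have hQ : ∃ m, Q m := ⟨(s - δ ζ).toNat, ζ, specializes_refl _, hζ, by
      have := hbound ζ hζ
      omega⟩
    obtain ⟨η, h1, h2, h3⟩ := Nat.find_spec hQ
    refine ⟨η, h1, h2, fun z hz hwz => ?_⟩
    by_contra hne
    have h4 := lt_of_specializes hδX hz hne
    have h5 := hbound z hwz
    refine Nat.find_min hQ (m := (s - δ z).toNat) ?_ ⟨z, hz.trans h1, hwz, by omega⟩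
    omega
  have h4 := delta_fibre_component hδ σ η (hprin η) h2 hwσ h3
  have h5 : δ η = s := by
    rw [hδσ] at h4
    omega
  refine ⟨η, h1, ?_, h5⟩
  refine subschemeFun_ne_zero (pullback.snd ιW σ) h5 ((mem_range_snd_iff ιW σ η).2 h2) ?_
  intro z hz hz'
  exact h3 z hz ((mem_range_snd_iff ιW σ z).1 hz')

end Groth.Agent.CycA.FibreComp
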