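import Groth.Agent.CycA.SectPt
import Groth.Agent.CycA.ChiSect
import Groth.Agent.CycA.TorReg
import Groth.Agent.VarietyA.RegSmoothSch
import Groth.Agent.CycB.SetupLft

/-!
# The local fibre formula

For `x : X`, `w : P = P^1_X`, `v : X`, the Tor multiplicity at `x` of the fibre of the closure of `w`
along a section with the closure of `v` as a sum over the components of
`closure w ∩ π⁻¹ (closure v)`.
-/

set_option autoImplicit false

universe u

open CategoryTheory AlgebraicGeometry CategoryTheory.Limits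

namespace Groth.Agent.CycA.FibreLocal

open Groth.Agent.CycB Groth.Agent.CycB.RelDim Groth.Agent.CycB.LocQuot
open Groth.Agent.CycA.SectGeom Groth.Agent.CycA.ProdPoint Groth.Agent.CycA.SectPt

variable {X P Q : Scheme.{u}}

/-- Compatibility of stalk ideals with generization. -/
theorem stalkIdeal_map_specializes (I : X.IdealSheafData) {x y : X} (h : x ⤳ y) :
    (IntMult.stalkIdeal I y).map (X.presheaf.stalkSpecializes h).hom = IntMult.stalkIdeal I x := by
  obtain ⟨U, hU, hyU, -⟩ := exists_isAffineOpen_mem_and_subset (X := X) (x := y) (U := ⊤) trivial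
  have hxU : x ∈ U := h.mem_open U.2 hyU
  rw [StalkIdeal.stalkIdeal_eq_map _ y ⟨U, hU⟩ hyU, StalkIdeal.stalkIdeal_eq_map _ x ⟨U, hU⟩ hxU,
    Ideal.map_map, ← CommRingCat.hom_comp]
  congr 2
  exact X.presheaf.germ_stalkSpecializes hyU h

/-- The ideal of the inverse image of the closure of `v` along `g`, at `y`. -/
noncomputable def pullIdeal (g : P ⟶ X) (v : X) (y : P) : Ideal (P.presheaf.stalk y) :=
  (IntMult.stalkIdeal (IntMult.ptIdeal v) (g y)).map (g.stalkMap y).hom

theorem pullIdeal_map_specializes (g : P ⟶ X) (v : X) {y y' : P} (h : y ⤳ y') :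
    (pullIdeal g v y').map (P.presheaf.stalkSpecializes h).hom = pullIdeal g v y := by
  unfold pullIdeal
  have h1 : X.presheaf.stalkSpecializes (h.map g.continuous) ≫ g.stalkMap y =
      g.stalkMap y' ≫ P.presheaf.stalkSpecializes h :=
    Scheme.Hom.stalkSpecializes_stalkMap _ _ _ _
  rw [Ideal.map_map, ← CommRingCat.hom_comp, ← h1, CommRingCat.hom_comp, ← Ideal.map_map,
    stalkIdeal_map_specializes]

/-- Primes of `O_{P,y}` containing the ideal of the inverse image of `closure v`. -/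
theorem pullIdeal_le_iff (g : P ⟶ X) (v : X) {y T : P} (h : T ⤳ y) :
    pullIdeal g v y ≤ RingHom.ker (Cyc.specMap y T h) ↔ v ⤳ g T := by
  unfold pullIdeal
  rw [Ideal.map_le_iff_le_comap, comap_ker_specMap g h (h.map g.continuous)]
  by_cases hv : v ⤳ g y
  · rw [StalkIdeal.stalkIdeal_ptIdeal hv, ker_le_iff]
  · rw [StalkIdeal.stalkIdeal_ptIdeal_eq_top hv, top_le_iff]
    constructor
    · intro h0
      exact absurd h0 (ker_isPrime (h.map g.continuous)).ne_top
    · intro h0
      exact absurd (h0.trans (h.map g.continuous)) hv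

/-- The Tor multiplicity of the closure of `w` and the inverse image of the closure of `v`. -/
noncomputable def pmult (g : P ⟶ X) (w : P) (v : X) (T : P) : ℤ :=
  IntMult.chi (P.presheaf.stalk T)
    (P.presheaf.stalk T ⧸ IntMult.stalkIdeal (IntMult.ptIdeal w) T)
    (P.presheaf.stalk T ⧸ pullIdeal g v T)

theorem lchi_eq_pmult (g : P ⟶ X) (w : P) (v : X) {y T : P} (h : T ⤳ y) :
    ChiFibre.lchi (primeOf h) (P.presheaf.stalk y ⧸ IntMult.stalkIdeal (IntMult.ptIdeal w) y)
      (P.presheaf.stalk y ⧸ pullIdeal g v y) = pmult g w v T := by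
  let _ : Algebra (P.presheaf.stalk y) (P.presheaf.stalk T) :=
    (P.presheaf.stalkSpecializes h).hom.toAlgebra
  have hloc : IsLocalization.AtPrime (P.presheaf.stalk T) (primeOf h).asIdeal := by
    have h1 := isLocalization_stalkSpecializes h
    have h2 : (primeOf h).asIdeal.primeCompl =
        (RingHom.ker (Cyc.specMap y T h)).primeCompl := by
      ext a
      change a ∉ (primeOf h).asIdeal ↔ a ∉ RingHom.ker (Cyc.specMap y T h)
      rw [primeOf_asIdeal]
    change IsLocalization _ _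
    rw [h2]
    exact h1
  rw [ChiFibre.lchi_eq_chi (primeOf h) _ _ (P.presheaf.stalk T)]
  obtain ⟨e1⟩ := ChiSect.tensor_quot (P.presheaf.stalk y) (P.presheaf.stalk T)
    (IntMult.stalkIdeal (IntMult.ptIdeal w) y)
  obtain ⟨e2⟩ := ChiSect.tensor_quot (P.presheaf.stalk y) (P.presheaf.stalk T)
    (pullIdeal g v y)
  rw [IntCore.chi_congr_left e1, IntCore.chi_congr_right _ e2]
  unfold pmult
  have h3 : (IntMult.stalkIdeal (IntMult.ptIdeal w) y).map
      (algebraMap (P.presheaf.stalk y) (P.presheaf.stalk T)) =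
      IntMult.stalkIdeal (IntMult.ptIdeal w) T := stalkIdeal_map_specializes _ h
  have h4 : (pullIdeal g v y).map (algebraMap (P.presheaf.stalk y) (P.presheaf.stalk T)) =
      pullIdeal g v T := pullIdeal_map_specializes g v h
  rw [h3, h4]

/-- Multiplicity at `x` of the fibre along `σ` of the closure of `T`. -/
noncomputable def fmult (σ : X ⟶ P) (T : P) (x : X) : ℤ :=
  ((Module.length (X.presheaf.stalk x) (X.presheaf.stalk x ⧸
    (IntMult.stalkIdeal (IntMult.ptIdeal T) (σ x)).map (σ.stalkMap x).hom)).toNat : ℤ)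

theorem fmult_eq_zero (σ : X ⟶ P) {T : P} {x : X} (h : ¬ T ⤳ σ x) : fmult σ T x = 0 := by
  unfold fmult
  rw [StalkIdeal.stalkIdeal_ptIdeal_eq_top h, Ideal.map_top]
  have : Subsingleton (X.presheaf.stalk x ⧸ (⊤ : Ideal (X.presheaf.stalk x))) :=
    Submodule.Quotient.subsingleton_iff.2 rfl
  rw [Module.length_eq_zero]
  rfl

/-- **The local fibre formula.** `π : P ⟶ X` flat with regular local rings of `P`, `σ` a section
with principal ideal. -/
theorem chi_fibre (π : P ⟶ X) [Flat π] [IsLocallyNoetherian P] {δP : P → ℤ}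
    (hδ : Cyc.IsDimFun P δP) (σ : X ⟶ P) [IsClosedImmersion σ] (hσ : σ ≫ π = 𝟙 X) (x : X)
    (hreg : IsRegularLocalRing (P.presheaf.stalk (σ x)))
    (hprin : ∃ t, RingHom.ker (σ.stalkMap x).hom = Ideal.span {t})
    {w : P} {v : X} (hw : w ⤳ σ x) (hv : v ⤳ x) (hwσ : w ∉ Set.range σ)
    (hmeet : ∀ z : X, z ⤳ x → w ⤳ σ z → v ⤳ z → z = x)
    (𝒯 : Finset P) (h𝒯 : ∀ T ∈ 𝒯, w ⤳ T ∧ v ⤳ π T ∧ T ∉ Set.range σ)
    (h𝒯' : ∀ T : P, T ⤳ σ x → w ⤳ T → v ⤳ π T → T ≠ σ x → T ∈ 𝒯) :
    IntMult.chi (X.presheaf.stalk x)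
      (X.presheaf.stalk x ⧸
        (IntMult.stalkIdeal (IntMult.ptIdeal w) (σ x)).map (σ.stalkMap x).hom)
      (X.presheaf.stalk x ⧸ IntMult.stalkIdeal (IntMult.ptIdeal v) x) =
    ∑ T ∈ 𝒯, fmult σ T x * pmult π w v T := by
  classical
  obtain ⟨t, ht⟩ := hprin
  have hπσ : ∀ z, π (σ z) = z := fun z => by rw [← Scheme.Hom.comp_apply, hσ]; rfl
  let _ : Algebra (X.presheaf.stalk (π (σ x))) (P.presheaf.stalk (σ x)) :=
    (π.stalkMap (σ x)).hom.toAlgebra
  let _ : Algebra (P.presheaf.stalk (σ x)) (X.presheaf.stalk x) := (σ.stalkMap x).hom.toAlgebra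
  let _ : Algebra (X.presheaf.stalk (π (σ x))) (X.presheaf.stalk x) :=
    ((σ.stalkMap x).hom.comp (π.stalkMap (σ x)).hom).toAlgebra
  have tower : IsScalarTower (X.presheaf.stalk (π (σ x))) (P.presheaf.stalk (σ x))
      (X.presheaf.stalk x) := IsScalarTower.of_algebraMap_eq' rfl
  have hflat : Module.Flat (X.presheaf.stalk (π (σ x))) (P.presheaf.stalk (σ x)) :=
    Flat.stalkMap π (σ x)
  have hs : Function.Surjective (algebraMap (P.presheaf.stalk (σ x)) (X.presheaf.stalk x)) :=
    σ.stalkMap_surjective x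
  have hker : RingHom.ker (algebraMap (P.presheaf.stalk (σ x)) (X.presheaf.stalk x)) =
      Ideal.span {t} := ht
  -- the composite is bijective
  have hcomp : π.stalkMap (σ x) ≫ σ.stalkMap x = (σ ≫ π).stalkMap x :=
    (Scheme.Hom.stalkMap_comp _ _ _).symm
  have hiso : IsIso ((σ ≫ π).stalkMap x) := by
    have : IsIso (σ ≫ π) := by rw [hσ]; infer_instance
    infer_instance
  have hb : Function.Bijective (algebraMap (X.presheaf.stalk (π (σ x))) (X.presheaf.stalk x)) := by
    have h1 : Function.Bijective (π.stalkMap (σ x) ≫ σ.stalkMap x).hom := by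
      rw [hcomp]
      exact (ConcreteCategory.isIso_iff_bijective _).mp hiso
    exact h1
  -- ideals
  let I := IntMult.stalkIdeal (IntMult.ptIdeal w) (σ x)
  let J := IntMult.stalkIdeal (IntMult.ptIdeal v) (π (σ x))
  have hI : I = RingHom.ker (Cyc.specMap (σ x) w hw) := StalkIdeal.stalkIdeal_ptIdeal hw
  have hv' : v ⤳ π (σ x) := by rw [hπσ]; exact hv
  have hJ : J.map (algebraMap (X.presheaf.stalk (π (σ x))) (X.presheaf.stalk x)) =
      IntMult.stalkIdeal (IntMult.ptIdeal v) x := by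
    have h1 : J = (IntMult.stalkIdeal (IntMult.ptIdeal v) x).comap
        (algebraMap (X.presheaf.stalk (π (σ x))) (X.presheaf.stalk x)) := by
      have h2 : σ v ⤳ σ x := hv.map σ.continuous
      have h3 : π (σ v) ⤳ π (σ x) := h2.map π.continuous
      have h4 : RingHom.ker (Cyc.specMap (π (σ x)) (π (σ v)) h3) =
          (RingHom.ker (Cyc.specMap x v hv)).comap
            (algebraMap (X.presheaf.stalk (π (σ x))) (X.presheaf.stalk x)) := by
        rw [← comap_ker_specMap π h2 h3, ← comap_ker_specMap σ hv h2, Ideal.comap_comap]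
        rfl
      rw [StalkIdeal.stalkIdeal_ptIdeal hv, ← h4, ← StalkIdeal.stalkIdeal_ptIdeal h3, hπσ v]
    rw [h1, Ideal.map_comap_of_surjective _ hb.2]
  have hJ' : J.map (algebraMap (X.presheaf.stalk (π (σ x))) (P.presheaf.stalk (σ x))) =
      pullIdeal π v (σ x) := rfl
  have htw : t ∉ RingHom.ker (Cyc.specMap (σ x) w hw) := by
    intro h0
    apply hwσ
    rw [mem_range_iff_ker_le σ hw, ht, Ideal.span_singleton_le_iff_mem]
    exact h0
  have htm : t ∈ IsLocalRing.maximalIdeal (P.presheaf.stalk (σ x)) := by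
    rw [IsLocalRing.mem_maximalIdeal]
    intro hu
    have h1 : σ.stalkMap x t = 0 := by
      have : t ∈ RingHom.ker (σ.stalkMap x).hom := by rw [ht]; exact Ideal.mem_span_singleton_self t
      exact this
    have h2 := hu.map (σ.stalkMap x).hom
    have h3 : IsUnit (0 : X.presheaf.stalk x) := by
      rw [← h1]; exact h2
    exact not_isUnit_zero h3
  -- points with `t` in the prime
  have hpt : ∀ (z : P) (hz : z ⤳ σ x), w ⤳ z → v ⤳ π z →
      t ∈ RingHom.ker (Cyc.specMap (σ x) z hz) → z = σ x := by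
    intro z hz hwz hvz htz
    have h1 : z ∈ Set.range σ := by
      rw [mem_range_iff_ker_le σ hz, ht, Ideal.span_singleton_le_iff_mem]
      exact htz
    obtain ⟨z, rfl⟩ := h1
    have h2 : z ⤳ x := (σ.isClosedEmbedding.isEmbedding.isInducing.specializes_iff).1 hz
    rw [hπσ] at hvz
    rw [hmeet z h2 hwz hvz]
  -- heights
  have hδT : ∀ (T : P) (_ : T ⤳ σ x), w ⤳ T → v ⤳ π T → T ≠ σ x → δP T = δP (σ x) + 1 := by
    intro T hT hwT hvT hne
    refine delta_eq_succ hδ hT t htm (fun h0 => hne (hpt T hT hwT hvT h0)) ?_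
    intro z hz hTz htz
    exact hpt z hz (hwT.trans hTz) (hvT.trans (hTz.map π.continuous)) htz
  have hmf : ∀ T, T ∈ 𝒯.filter (fun T => T ⤳ σ x) → T ⤳ σ x := fun T hT =>
    (Finset.mem_filter.1 hT).2
  let S : Finset (PrimeSpectrum (P.presheaf.stalk (σ x))) :=
    (𝒯.filter (fun T => T ⤳ σ x)).attach.image (fun T => primeOf (hmf T.1 T.2))
  have hSmem : ∀ q, q ∈ S ↔ ∃ (T : P) (h : T ⤳ σ x), T ∈ 𝒯 ∧ q = primeOf h := by
    intro q
    simp only [S, Finset.mem_image, Finset.mem_attach, true_and, Subtype.exists, Finset.mem_filter]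
    constructor
    · rintro ⟨T, ⟨h1, h2⟩, rfl⟩
      exact ⟨T, h2, h1, rfl⟩
    · rintro ⟨T, h1, h2, rfl⟩
      exact ⟨T, ⟨h2, h1⟩, rfl⟩
  obtain ⟨d, hd⟩ := Groth.Agent.CalgA.RegBasic.ringKrullDim_eq_natCast (P.presheaf.stalk (σ x))
  have key := ChiSect.chi_sect (P.presheaf.stalk (σ x)) (X.presheaf.stalk x) hb hs t hker I J
    (by
      intro c hc
      rw [hI] at hc ⊢
      exact ((ker_isPrime hw).mem_or_mem hc).resolve_left htw) d
    (fun i hi => TorReg.vanish_of_finite_left d hd _ _ i hi) S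
    (by
      intro q h1 h2
      rw [hI] at h1
      by_cases hq : q.asIdeal = IsLocalRing.maximalIdeal (P.presheaf.stalk (σ x))
      · exact Or.inl hq
      · right
        rw [hSmem]
        refine ⟨ptOf q, ptOf_specializes q, ?_, (primeOf_ptOf q).symm⟩
        have e1 : q.asIdeal = RingHom.ker (Cyc.specMap (σ x) (ptOf q) (ptOf_specializes q)) := by
          rw [← primeOf_asIdeal, primeOf_ptOf]
        refine h𝒯' _ (ptOf_specializes q) ?_ ?_ ?_
        · rw [← ker_le_iff hw (ptOf_specializes q), ← e1]; exact h1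
        · rw [← pullIdeal_le_iff π v (ptOf_specializes q), ← e1]; exact h2
        · intro h0
          apply hq
          have h5 : ∀ (T : P) (hT : T ⤳ σ x), T = σ x →
              RingHom.ker (Cyc.specMap (σ x) T hT) = IsLocalRing.maximalIdeal _ := by
            rintro T hT rfl
            exact ker_refl _
          rw [e1, h5 _ _ h0])
    (by
      intro q hq h0
      obtain ⟨T, hT, hT𝒯, rfl⟩ := (hSmem q).1 hq
      rw [primeOf_asIdeal] at h0
      apply (h𝒯 T hT𝒯).2.2
      rw [mem_range_iff_ker_le σ hT, h0]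
      exact IsLocalRing.le_maximalIdeal (RingHom.ker_ne_top _))
    (by
      intro q hq q' hq' hle
      obtain ⟨T, hT, hT𝒯, rfl⟩ := (hSmem q).1 hq
      obtain ⟨T', hT', hT𝒯', rfl⟩ := (hSmem q').1 hq'
      obtain ⟨a1, a2, a3⟩ := h𝒯 T hT𝒯
      obtain ⟨b1, b2, b3⟩ := h𝒯 T' hT𝒯'
      rw [primeOf_le_iff] at hle
      rw [primeOf_inj]
      refine eq_of_specializes_of_eq hδ hle ?_
      rw [hδT T hT a1 a2 (fun h0 => a3 ⟨x, h0.symm⟩), hδT T' hT' b1 b2 (fun h0 => b3 ⟨x, h0.symm⟩)])
    (by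
      intro q hq h0
      obtain ⟨T, hT, hT𝒯, rfl⟩ := (hSmem q).1 hq
      rw [primeOf_asIdeal] at h0
      apply (h𝒯 T hT𝒯).2.2
      rw [mem_range_iff_ker_le σ hT, ht, Ideal.span_singleton_le_iff_mem]
      exact h0)
  rw [hJ] at key
  have hmain : (IntMult.stalkIdeal (IntMult.ptIdeal w) (σ x)).map (σ.stalkMap x).hom =
      I.map (algebraMap (P.presheaf.stalk (σ x)) (X.presheaf.stalk x)) := rfl
  rw [hmain]
  refine key.trans ?_
  -- compare the sums
  have hfil : ∑ T ∈ 𝒯, fmult σ T x * pmult π w v T =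
      ∑ T ∈ 𝒯.filter (fun T => T ⤳ σ x), fmult σ T x * pmult π w v T := by
    symm
    refine Finset.sum_filter_of_ne fun T _ hne => ?_
    by_contra h0
    apply hne
    rw [fmult_eq_zero σ h0, zero_mul]
  rw [hfil, ← Finset.sum_attach (𝒯.filter (fun T => T ⤳ σ x))]
  rw [Finset.sum_image]
  · refine Finset.sum_congr rfl fun T _ => ?_
    have hT : T.1 ⤳ σ x := hmf T.1 T.2
    congr 1
    · unfold fmult
      have : IntMult.stalkIdeal (IntMult.ptIdeal T.1) (σ x) = (primeOf hT).asIdeal := by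
        rw [StalkIdeal.stalkIdeal_ptIdeal hT, primeOf_asIdeal]
      rw [this]
      rfl
    · exact lchi_eq_pmult π w v hT
  · intro T _ T' _ h0
    exact Subtype.ext ((primeOf_inj _ _).1 h0)

end Groth.Agent.CycA.FibreLocal
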