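import Groth.Agent.Models.CMSeq
import Groth.Agent.S1833
import Groth.Agent.CycA.LocLen
import Mathlib.RingTheory.Length
import Mathlib.RingTheory.Ideal.KrullsHeightTheorem
import Mathlib.RingTheory.KrullDimension.Module
import Mathlib.RingTheory.LocalProperties.Basic
import Mathlib.RingTheory.RegularLocalRing.Defs

/-!
# The length formula for the moving lemma

`Q` a Cohen-Macaulay local ring of dimension `a + 1`, `I` an ideal generated by `a` elements and
`t ∈ 𝔪` such that `Q/(I + t)` has finite length.  Then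
`length Q/(I + t) = ∑_q length(Q_q/I Q_q) · length(Q/(q + t))` over the minimal primes of `I`.
-/

set_option autoImplicit false
universe u v

namespace Groth.Agent.CycA.MovLen

open IsLocalRing Module
open scoped Pointwise

section Loc

variable {R : Type u} [CommRing R] (p : Ideal R) [p.IsPrime] (B : Type v) [CommRing B]
  [Algebra R B] [IsLocalization.AtPrime B p] (I : Ideal R)

/-- The length over `R_p` of `(R/I)_p`, for any model `B` of the localization. -/
theorem length_loc_quotient :
    Module.length (Localization.AtPrime p) (LocalizedModule p.primeCompl (R ⧸ I)) =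
      Module.length B (B ⧸ I.map (algebraMap R B)) := by
  let e : Localization.AtPrime p ≃ₐ[R] B := IsLocalization.algEquiv p.primeCompl _ _
  let : Algebra (Localization.AtPrime p) B := e.toRingHom.toAlgebra
  have : IsScalarTower R (Localization.AtPrime p) B := IsScalarTower.of_algebraMap_eq' (by
    ext x
    exact (e.commutes x).symm)
  let f : (R ⧸ I) →ₗ[R] (B ⧸ Submodule.localized' B p.primeCompl (Algebra.linearMap R B) I) :=
    Submodule.toLocalizedQuotient' B p.primeCompl (Algebra.linearMap R B) I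
  have hf : IsLocalizedModule p.primeCompl f := inferInstance
  let g : LocalizedModule p.primeCompl (R ⧸ I) ≃ₗ[R]
      (B ⧸ Submodule.localized' B p.primeCompl (Algebra.linearMap R B) I) :=
    IsLocalizedModule.linearEquiv p.primeCompl (LocalizedModule.mkLinearMap p.primeCompl (R ⧸ I)) f
  let g' := LinearEquiv.extendScalarsOfIsLocalization p.primeCompl (Localization.AtPrime p) g
  rw [LinearEquiv.length_eq g', Module.length_eq_of_surjective
    (R := B) (S := Localization.AtPrime p) e.surjective]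
  exact LinearEquiv.length_eq (Submodule.quotEquivOfEq _ _ (Ideal.localized'_eq_map B _ I))

end Loc

section Quot

variable {R : Type u} [CommRing R]

/-- `(R/I)/t(R/I) ≅ R/(I + t)`. -/
theorem nonempty_quot_equiv (I : Ideal R) (t : R) :
    Nonempty (((R ⧸ I) ⧸ t • (⊤ : Submodule R (R ⧸ I))) ≃ₗ[R] R ⧸ (I ⊔ Ideal.span {t})) := by
  have h : t • (⊤ : Submodule R (R ⧸ I)) =
      ((Ideal.span {t}).map (Ideal.Quotient.mk I)).restrictScalars R := by
    rw [Ideal.map_span, Set.image_singleton]
    ext y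
    rw [Submodule.mem_smul_pointwise_iff_exists]
    simp only [Submodule.mem_top, true_and, Submodule.restrictScalars_mem,
      Ideal.mem_span_singleton']
    constructor
    · rintro ⟨b, rfl⟩
      exact ⟨b, by rw [Algebra.smul_def, Ideal.Quotient.algebraMap_eq, mul_comm]⟩
    · rintro ⟨b, rfl⟩
      exact ⟨b, by rw [Algebra.smul_def, Ideal.Quotient.algebraMap_eq, mul_comm]⟩
  rw [h]
  exact ⟨(DoubleQuot.quotQuotEquivQuotSupₐ R I (Ideal.span {t})).toLinearEquiv⟩

theorem ord_eq (I : Ideal R) (t : R) :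
    Ring.ord (R ⧸ I) (Ideal.Quotient.mk I t) = Module.length R (R ⧸ (I ⊔ Ideal.span {t})) := by
  rw [← Groth.Agent.CycA.LenSum.length_coker_quotient]
  exact (nonempty_quot_equiv I t).some.length_eq

theorem ringKrullDim_le_zero_of_length_ne_top (J : Ideal R) (h : Module.length R (R ⧸ J) ≠ ⊤) :
    ringKrullDim (R ⧸ J) ≤ 0 := by
  have h1 : IsArtinian R (R ⧸ J) :=
    (isFiniteLength_iff_isNoetherian_isArtinian.mp (Module.length_ne_top_iff.mp h)).2
  have h2 : IsArtinianRing (R ⧸ J) := isArtinian_of_tower R h1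
  have h3 : Ring.KrullDimLE 0 (R ⧸ J) := inferInstance
  rw [Ring.KrullDimLE, Order.krullDimLE_iff] at h3
  exact h3

end Quot

section Main

variable {Q : Type u} [CommRing Q] [IsNoetherianRing Q] [IsLocalRing Q]

theorem main (hQ : LocCoh.IsCohenMacaulayModule Q Q) (I : Ideal Q) (xs : List Q)
    (hI : Ideal.ofList xs = I) (hxs : I ≤ maximalIdeal Q)
    (hdim : ringKrullDim Q = xs.length + 1) (t : Q) (ht : t ∈ maximalIdeal Q)
    (hfin : Module.length Q (Q ⧸ (I ⊔ Ideal.span {t})) ≠ ⊤) :
    I.minimalPrimes.Finite ∧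
    (∀ q ∈ I.minimalPrimes, t ∉ q) ∧
    (∀ q ∈ I.minimalPrimes, ringKrullDim (Q ⧸ q) = 1) ∧
    (∀ q ∈ I.minimalPrimes, Module.length Q (Q ⧸ (q ⊔ Ideal.span {t})) ≠ ⊤) ∧
    Module.length Q (Q ⧸ (I ⊔ Ideal.span {t})) =
      ∑ᶠ (p : PrimeSpectrum Q) (_ : p.asIdeal ∈ I.minimalPrimes),
        Module.length (Localization.AtPrime p.asIdeal)
          (Localization.AtPrime p.asIdeal ⧸ I.map (algebraMap Q (Localization.AtPrime p.asIdeal))) *
        Module.length Q (Q ⧸ (p.asIdeal ⊔ Ideal.span {t})) := by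
  have hxs' : ∀ x ∈ xs, x ∈ maximalIdeal Q := fun x hx =>
    hxs (hI ▸ Ideal.subset_span hx)
  have hd0 : ringKrullDim (Q ⧸ (I ⊔ Ideal.span {t})) ≤ 0 :=
    ringKrullDim_le_zero_of_length_ne_top _ hfin
  have hJ : Ideal.ofList (xs ++ [t]) = I ⊔ Ideal.span {t} := by
    rw [Ideal.ofList_append, hI, Ideal.ofList_singleton]
  have hreg : RingTheory.Sequence.IsWeaklyRegular Q (xs ++ [t]) := by
    refine Groth.Agent.Models.CMSeq.isWeaklyRegular_of_supportDim_le hQ _ ?_ ?_
    · intro r hr
      rcases List.mem_append.mp hr with h | h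
      · exact hxs' r h
      · rw [List.mem_singleton.mp h]; exact ht
    · rw [supportDim_self_eq_ringKrullDim, hdim, hJ,
        supportDim_eq_of_equiv (Submodule.quotEquivOfEq _ _
          (show (I ⊔ Ideal.span {t}) • (⊤ : Submodule Q Q) = I ⊔ Ideal.span {t} by
            rw [smul_eq_mul, Ideal.mul_top])),
        supportDim_quotient_eq_ringKrullDim]
      simp only [List.length_append, List.length_singleton, Nat.cast_add, Nat.cast_one]
      exact (add_le_add_left hd0 _).trans (zero_add _).le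
  have htreg : IsSMulRegular (Q ⧸ I) t := by
    have h1 := ((RingTheory.Sequence.isWeaklyRegular_append_iff Q xs [t]).mp hreg).2
    rw [RingTheory.Sequence.isWeaklyRegular_singleton_iff, hI] at h1
    have h2 : I • (⊤ : Submodule Q Q) = I := by rw [smul_eq_mul, Ideal.mul_top]
    exact ((Submodule.quotEquivOfEq _ _ h2).isSMulRegular_congr t).mp h1
  have h0 : supportDim Q ((Q ⧸ I) ⧸ t • (⊤ : Submodule Q (Q ⧸ I))) ≤ 0 := by
    rw [supportDim_eq_of_equiv (nonempty_quot_equiv I t).some, supportDim_quotient_eq_ringKrullDim]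
    exact hd0
  have h1 : supportDim Q (Q ⧸ I) ≤ 1 := by
    refine (supportDim_le_supportDim_quotSMulTop_succ (M := Q ⧸ I) ht).trans ?_
    exact (add_le_add_left h0 _).trans (zero_add _).le
  have h1' : ringKrullDim (Q ⧸ I) ≤ 1 := by rwa [supportDim_quotient_eq_ringKrullDim] at h1
  -- minimal primes
  have hne : ∀ q ∈ I.minimalPrimes, q ≠ maximalIdeal Q := by
    rintro q hq rfl
    have h3 : (maximalIdeal Q).height ≤ xs.length := by
      have hne' : I ≠ ⊤ := fun h => (Ideal.IsPrime.ne_top' (I := maximalIdeal Q))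
        (top_le_iff.mp (h ▸ hq.1.2))
      have h7 := Ideal.height_le_spanRank_toENat_of_mem_minimalPrimes I _ hq
      have h8 : I.spanRank.toENat ≤ (xs.length : ℕ∞) := by
        rw [← hI, Submodule.FG.spanRank_eq_spanFinrank (IsNoetherian.noetherian _),
          Cardinal.toENat_nat]
        exact_mod_cast Groth.Agent.Models.CMSeq.spanFinrank_ofList_le xs
      exact h7.trans h8
    have h4 : ((maximalIdeal Q).height : WithBot ℕ∞) = ringKrullDim Q :=
      IsLocalRing.maximalIdeal_height_eq_ringKrullDim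
    rw [hdim] at h4
    have h5 : (maximalIdeal Q).height = xs.length + 1 := by exact_mod_cast h4
    rw [h5] at h3
    have h6 : xs.length + 1 ≤ xs.length := by exact_mod_cast h3
    omega
  have hset : ∀ p : PrimeSpectrum Q, p.asIdeal ∈ I.minimalPrimes ↔
      p ∈ Module.support Q (Q ⧸ I) ∧ p.asIdeal ≠ maximalIdeal Q := by
    intro p
    constructor
    · intro hp
      refine ⟨?_, hne _ hp⟩
      rw [Module.support_eq_zeroLocus, Ideal.annihilator_quotient]
      exact hp.1.2
    · rintro ⟨hp, hpm⟩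
      have hp' := hp
      rw [Module.support_eq_zeroLocus, Ideal.annihilator_quotient] at hp'
      refine ⟨⟨p.2, hp'⟩, ?_⟩
      rintro J ⟨hJ, hJ'⟩ hle
      have hq : (⟨J, hJ⟩ : PrimeSpectrum Q) ∈ Module.support Q (Q ⧸ I) := by
        rw [Module.support_eq_zeroLocus, Ideal.annihilator_quotient]
        exact hJ'
      have := Groth.Agent.S1833.minimal_of_ne h1 hp hq hpm hle
      exact (congrArg PrimeSpectrum.asIdeal this).ge
  have hdimq : ∀ q ∈ I.minimalPrimes, ringKrullDim (Q ⧸ q) = 1 := by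
    intro q hq
    have hqp : q.IsPrime := hq.1.1
    apply le_antisymm
    · exact (ringKrullDim_le_of_surjective (Ideal.Quotient.factor hq.1.2)
        (Ideal.Quotient.factor_surjective hq.1.2)).trans h1'
    · refine Order.succ_le_of_lt (lt_of_not_ge fun hlt : ringKrullDim (Q ⧸ q) ≤ 0 => ?_)
      have h0 : Ring.KrullDimLE 0 (Q ⧸ q) := Ring.krullDimLE_iff.mpr hlt
      have hf : IsField (Q ⧸ q) := Ring.KrullDimLE.isField_of_isDomain
      exact hne q hq (IsLocalRing.eq_maximalIdeal (Ideal.Quotient.maximal_of_isField q hf))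
  have htq : ∀ q ∈ I.minimalPrimes, t ∉ q := by
    intro q hq htq
    have hle : I ⊔ Ideal.span {t} ≤ q := sup_le hq.1.2 ((Ideal.span_singleton_le_iff_mem _).mpr htq)
    have := (ringKrullDim_le_of_surjective (Ideal.Quotient.factor hle)
        (Ideal.Quotient.factor_surjective hle)).trans hd0
    rw [hdimq q hq] at this
    exact absurd this (by decide)
  have hfinq : ∀ q ∈ I.minimalPrimes, Module.length Q (Q ⧸ (q ⊔ Ideal.span {t})) ≠ ⊤ := by
    intro q hq
    have hle : I ⊔ Ideal.span {t} ≤ q ⊔ Ideal.span {t} := sup_le_sup_right hq.1.2 _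
    refine ne_top_of_le_ne_top hfin (Module.length_le_of_surjective
      (Submodule.factor hle) (Submodule.factor_surjective hle))
  refine ⟨I.finite_minimalPrimes_of_isNoetherianRing Q, htq, hdimq, hfinq, ?_⟩
  have key := Groth.Agent.S1833.result Q (Q ⧸ I) t h1 h0
  have hker : LinearMap.ker (LinearMap.lsmul Q (Q ⧸ I) t) = ⊥ := by
    rw [LinearMap.ker_eq_bot]
    exact htreg
  rw [(nonempty_quot_equiv I t).some.length_eq, hker, Module.length_bot, zero_add] at key
  rw [key]
  refine finsum_congr fun p => ?_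
  refine finsum_congr_Prop (propext (hset p).symm) fun hp => ?_
  rw [ord_eq, length_loc_quotient p.asIdeal (Localization.AtPrime p.asIdeal) I, mul_comm]

end Main

section ToNat

/-- Passing from `ℕ∞` to `ℕ` in a finite sum of products. -/
theorem toNat_finsum {ι : Type*} (s : Set ι) (hs : s.Finite) (f g : ι → ℕ∞)
    (h : (∑ᶠ (i : ι) (_ : i ∈ s), f i * g i) ≠ ⊤) :
    (∑ᶠ (i : ι) (_ : i ∈ s), f i * g i).toNat =
      ∑ᶠ (i : ι) (_ : i ∈ s), (f i).toNat * (g i).toNat := by
  classical
  rw [finsum_mem_eq_finite_toFinset_sum _ hs] at h ⊢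
  rw [finsum_mem_eq_finite_toFinset_sum _ hs]
  have hne : ∀ i ∈ hs.toFinset, f i * g i ≠ ⊤ := by
    intro i hi htop
    apply h
    rw [← Finset.add_sum_erase _ _ hi, htop, top_add]
  have h1 : ∑ i ∈ hs.toFinset, f i * g i =
      ((∑ i ∈ hs.toFinset, (f i).toNat * (g i).toNat : ℕ) : ℕ∞) := by
    rw [Nat.cast_sum]
    refine Finset.sum_congr rfl fun i hi => ?_
    rw [← ENat.toNat_mul, ENat.natCast_toNat (hne i hi)]
  rw [h1, ENat.toNat_natCast]

end ToNat

section Regular

variable {A : Type v} {Q : Type u} [CommRing A] [CommRing Q] [IsRegularLocalRing A]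
  [IsRegularLocalRing Q] [Algebra A Q] [IsLocalHom (algebraMap A Q)]

/-- **Length formula for the moving lemma.** -/
theorem regular (hdim : ringKrullDim Q = ringKrullDim A + 1) (t : Q) (ht : t ∈ maximalIdeal Q)
    (I : Ideal Q) (hI : I = (maximalIdeal A).map (algebraMap A Q))
    (hfin : Module.length Q (Q ⧸ (I ⊔ Ideal.span {t})) ≠ ⊤) :
    I.minimalPrimes.Finite ∧
    (∀ q ∈ I.minimalPrimes, t ∉ q) ∧
    (∀ q ∈ I.minimalPrimes, ringKrullDim (Q ⧸ q) = 1) ∧
    (∀ q ∈ I.minimalPrimes, Module.length Q (Q ⧸ (q ⊔ Ideal.span {t})) ≠ ⊤) ∧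
    Module.length Q (Q ⧸ (I ⊔ Ideal.span {t})) =
      ∑ᶠ (p : PrimeSpectrum Q) (_ : p.asIdeal ∈ I.minimalPrimes),
        Module.length (Localization.AtPrime p.asIdeal)
          (Localization.AtPrime p.asIdeal ⧸ I.map (algebraMap Q (Localization.AtPrime p.asIdeal))) *
        Module.length Q (Q ⧸ (p.asIdeal ⊔ Ideal.span {t})) := by
  obtain ⟨ys, hylen, hys⟩ := Groth.Agent.Models.CMSeq.exists_list_of_fg
    (IsNoetherian.noetherian (maximalIdeal A))
  have hspan : Ideal.ofList (ys.map (algebraMap A Q)) = I := by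
    rw [hI, ← hys, Ideal.map_ofList]
  have hle : I ≤ maximalIdeal Q := by
    rw [hI, Ideal.map_le_iff_le_comap, IsLocalRing.maximalIdeal_comap (algebraMap A Q)]
  refine main Groth.Agent.Models.CMSeq.isCohenMacaulayModule_self I _ hspan hle ?_ t ht hfin
  rw [hdim, List.length_map, hylen, IsRegularLocalRing.spanFinrank_maximalIdeal]

/-- **Length formula for the moving lemma**, in `ℕ`. -/
theorem regular_toNat (hdim : ringKrullDim Q = ringKrullDim A + 1) (t : Q)
    (ht : t ∈ maximalIdeal Q)
    (I : Ideal Q) (hI : I = (maximalIdeal A).map (algebraMap A Q))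
    (hfin : Module.length Q (Q ⧸ (I ⊔ Ideal.span {t})) ≠ ⊤) :
    (Module.length Q (Q ⧸ (I ⊔ Ideal.span {t}))).toNat =
      ∑ᶠ (p : PrimeSpectrum Q) (_ : p.asIdeal ∈ I.minimalPrimes),
        (Module.length (Localization.AtPrime p.asIdeal)
          (Localization.AtPrime p.asIdeal ⧸
            I.map (algebraMap Q (Localization.AtPrime p.asIdeal)))).toNat *
        (Module.length Q (Q ⧸ (p.asIdeal ⊔ Ideal.span {t}))).toNat := by
  obtain ⟨hf, -, -, -, h⟩ := regular hdim t ht I hI hfin
  have hs : {p : PrimeSpectrum Q | p.asIdeal ∈ I.minimalPrimes}.Finite :=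
    Set.Finite.of_finite_image (f := PrimeSpectrum.asIdeal)
      (hf.subset (by rintro _ ⟨p, hp, rfl⟩; exact hp))
      (fun p _ q _ h => PrimeSpectrum.ext h)
  rw [h] at hfin ⊢
  exact toNat_finsum _ hs _ _ hfin

end Regular

end Groth.Agent.CycA.MovLen
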