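import Groth.Agent.CycA.SerreGeom
import Groth.Agent.CycA.Devissage
import Groth.Agent.CycA.MovLen
import Groth.Agent.CycA.FibreLocal

/-!
# Intersection of a point cycle with the cycle of a closed subscheme

`interProd_subscheme`: for a closed subscheme `Z` of dimension `≤ s` of a smooth variety and the
closure of `v`, meeting properly, the intersection product at `x` is
`χ(O_x/I_Z, O_x/p_v)`.
-/

set_option autoImplicit false

universe u

open CategoryTheory AlgebraicGeometry CategoryTheory.Limits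

namespace Groth.Agent.CycA.FibreDev

open Groth.Agent.CycB Groth.Agent.CycB.RelDim Groth.Agent.CycB.LocQuot
open Groth.Agent.CycA.SectPt Groth.Agent.CycA.FibreLocal Groth.Agent.CycA.Devissage
open Groth.Agent.CycA.ChiRec

variable {K : Type u} [Field K] [IsAlgClosed K] {X Z : Scheme.{u}}

theorem mem_range_iff_stalkIdeal_le (j : Z ⟶ X) [IsClosedImmersion j] {x η : X} (h : η ⤳ x) :
    IntMult.stalkIdeal j.ker x ≤ RingHom.ker (Cyc.specMap x η h) ↔ η ∈ Set.range j := by
  have h3 : (j.ker.support : Set X) = Set.range j := by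
    rw [Scheme.Hom.support_ker, j.isClosedEmbedding.isClosed_range.closure_eq]
  have key : IntMult.stalkIdeal j.ker x ≤ RingHom.ker (Cyc.specMap x η h) ↔
      IntMult.stalkIdeal j.ker η ≠ ⊤ := by
    rw [← stalkIdeal_map_specializes j.ker h]
    constructor
    · intro hle htop
      have h1 : (IntMult.stalkIdeal j.ker x).map (X.presheaf.stalkSpecializes h).hom ≤
          IsLocalRing.maximalIdeal (X.presheaf.stalk η) := by
        rw [Ideal.map_le_iff_le_comap]
        intro a ha
        have := hle ha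
        rw [mem_ker_specMap_iff] at this
        rw [Ideal.mem_comap, IsLocalRing.mem_maximalIdeal]
        exact this
      rw [htop] at h1
      exact (IsLocalRing.maximalIdeal.isMaximal (X.presheaf.stalk η)).ne_top (top_le_iff.1 h1)
    · intro hne a ha
      rw [mem_ker_specMap_iff]
      intro hu
      exact hne (Ideal.eq_top_of_isUnit_mem _ (Ideal.mem_map_of_mem _ ha) hu)
  rw [key, StalkIdeal.stalkIdeal_ne_top_iff, ← h3]
  rfl

theorem ll_primeOf (j : Z ⟶ X) [IsClosedImmersion j] {δ : X → ℤ} {s : ℤ} {x η : X} (h : η ⤳ x)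
    (hη : δ η = s) : ll (primeOf h) (X.presheaf.stalk x ⧸ IntMult.stalkIdeal j.ker x) =
      Cyc.subschemeFun δ s j η := by
  rw [subschemeFun_closed δ s j η hη]
  unfold ll EulerLen.il
  let _ : Algebra (X.presheaf.stalk x) (X.presheaf.stalk η) :=
    (X.presheaf.stalkSpecializes h).hom.toAlgebra
  have hloc : IsLocalization.AtPrime (X.presheaf.stalk η) (primeOf h).asIdeal := by
    have h1 := isLocalization_stalkSpecializes h
    have h2 : (primeOf h).asIdeal.primeCompl =
        (RingHom.ker (Cyc.specMap x η h)).primeCompl := by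
      ext a
      change a ∉ (primeOf h).asIdeal ↔ a ∉ RingHom.ker (Cyc.specMap x η h)
      rw [primeOf_asIdeal]
    change IsLocalization _ _
    rw [h2]
    exact h1
  rw [MovLen.length_loc_quotient (primeOf h).asIdeal (X.presheaf.stalk η)
    (IntMult.stalkIdeal j.ker x)]
  have h3 : (IntMult.stalkIdeal j.ker x).map
      (algebraMap (X.presheaf.stalk x) (X.presheaf.stalk η)) =
      IntMult.stalkIdeal j.ker η := stalkIdeal_map_specializes _ h
  rw [h3]

/-- **Dévissage for the intersection product.** -/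
theorem interProd_subscheme [IsIntegral X] (f : X ⟶ Spec (CommRingCat.of K)) [Smooth f]
    [IsSeparated f] {δ : X → ℤ} (hδ : Cyc.DeltaCompat f δ (fun _ => 0)) {n r s : ℤ}
    (hn : δ (genericPoint X) = n) (j : Z ⟶ X) [IsClosedImmersion j]
    (hs : ∀ z ∈ Set.range j, δ z ≤ s) {v x : X} (hv : δ v = r) (hx : δ x = r + s - n)
    (hvx : v ⤳ x) (hm : ∀ z : X, z ⤳ x → z ∈ Set.range j → v ⤳ z → z = x) :
    IntMult.interProd δ n (Set.indicator {v} 1) (Cyc.subschemeFun δ s j) x =
      IntMult.chi (X.presheaf.stalk x) (X.presheaf.stalk x ⧸ IntMult.stalkIdeal j.ker x)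
        (X.presheaf.stalk x ⧸ IntMult.stalkIdeal (IntMult.ptIdeal v) x) := by
  classical
  have hset := SetupField.isSetup_of_field f hδ
  have hN : IsLocallyNoetherian X := hset.1
  have hdim := hset.2.2
  have hreg : IsRegularLocalRing (X.presheaf.stalk x) := SerreGeom.isRegularLocalRing_stalk f x
  let A := X.presheaf.stalk x
  let I := IntMult.stalkIdeal j.ker x
  let N := A ⧸ IntMult.stalkIdeal (IntMult.ptIdeal v) x
  have hpt : ∀ q : PrimeSpectrum A, q.asIdeal =
      RingHom.ker (Cyc.specMap x (ptOf q) (ptOf_specializes q)) := by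
    intro q
    rw [← primeOf_asIdeal, primeOf_ptOf]
  have hsuppI : ∀ q : PrimeSpectrum A, q ∈ Module.support A (A ⧸ I) ↔ ptOf q ∈ Set.range j := by
    intro q
    rw [Module.support_eq_zeroLocus, Ideal.annihilator_quotient, PrimeSpectrum.mem_zeroLocus,
      SetLike.coe_subset_coe, hpt q]
    exact mem_range_iff_stalkIdeal_le j (ptOf_specializes q)
  have hsuppN : ∀ q : PrimeSpectrum A, q ∈ Module.support A N ↔ v ⤳ ptOf q := by
    intro q
    rw [Module.support_eq_zeroLocus, Ideal.annihilator_quotient, PrimeSpectrum.mem_zeroLocus,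
      SetLike.coe_subset_coe, hpt q, StalkIdeal.stalkIdeal_ptIdeal hvx, ker_le_iff]
  have hmax : ∀ q : PrimeSpectrum A, ptOf q = x → q.asIdeal = IsLocalRing.maximalIdeal A := by
    intro q h0
    have h5 : ∀ (T : X) (hT : T ⤳ x), T = x →
        RingHom.ker (Cyc.specMap x T hT) = IsLocalRing.maximalIdeal _ := by
      rintro T hT rfl
      exact ker_refl _
    rw [hpt q, h5 _ _ h0]
  have hmeets : Meets A (A ⧸ I) N := by
    intro q h1 h2
    rw [hsuppI] at h1
    rw [hsuppN] at h2
    rw [hmax q (hm _ (ptOf_specializes q) h1 h2)]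
    exact IsLocalRing.maximalIdeal.isMaximal _
  -- minimal elements of the support
  have hminl : ∀ p q : PrimeSpectrum A, δ (ptOf p) = s → q ∈ Module.support A (A ⧸ I) → q ≤ p →
      q = p := by
    intro p q hp hq hle
    rw [hsuppI] at hq
    have h1 := (ptOf_specializes_iff q p).2 hle
    have h2 := hs _ hq
    have h3 := le_of_specializes hdim h1
    exact ptOf_injective x (eq_of_specializes_of_eq hdim h1 (by omega))
  have hfin : {p : PrimeSpectrum A | ptOf p ∈ Set.range j ∧ δ (ptOf p) = s}.Finite := by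
    have h1 : I.minimalPrimes.Finite := Ideal.finite_minimalPrimes_of_isNoetherianRing A I
    refine Set.Finite.of_finite_image (f := PrimeSpectrum.asIdeal) (h1.subset ?_)
      (fun p _ q _ h => PrimeSpectrum.ext h)
    rintro _ ⟨p, ⟨hp1, hp2⟩, rfl⟩
    have hp3 : p ∈ Module.support A (A ⧸ I) := (hsuppI p).2 hp1
    have hIp : I ≤ p.asIdeal := by
      rw [Module.support_eq_zeroLocus, Ideal.annihilator_quotient, PrimeSpectrum.mem_zeroLocus,
        SetLike.coe_subset_coe] at hp3
      exact hp3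
    refine ⟨⟨p.2, hIp⟩, ?_⟩
    rintro Q ⟨hQ, hIQ⟩ hQp
    have hQs : (⟨Q, hQ⟩ : PrimeSpectrum A) ∈ Module.support A (A ⧸ I) := by
      rw [Module.support_eq_zeroLocus, Ideal.annihilator_quotient, PrimeSpectrum.mem_zeroLocus,
        SetLike.coe_subset_coe]
      exact hIQ
    have := hminl p ⟨Q, hQ⟩ hp2 hQs hQp
    rw [← this]
  let S : Finset (PrimeSpectrum A) := hfin.toFinset
  have hSmem : ∀ p, p ∈ S ↔ ptOf p ∈ Set.range j ∧ δ (ptOf p) = s := fun p => by
    simp [S]
  -- vanishing for the other primes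
  have hvan : ∀ q ∈ Module.support A (A ⧸ I), q ∉ S → IntMult.chi A (A ⧸ q.asIdeal) N = 0 := by
    intro q hq hqS
    have h1 := (hsuppI q).1 hq
    have h2 : δ (ptOf q) < s := lt_of_le_of_ne (hs _ h1) fun h0 => hqS ((hSmem q).2 ⟨h1, h0⟩)
    have h3 := (SerreGeom.chi_main f hδ (ptOf_specializes q) hvx (fun z h4 h5 h6 =>
      hm z h6 (h4.mem_closed j.isClosedEmbedding.isClosed_range h1) h5)).2.2.1 (by omega)
    rw [hpt q]
    change IntMult.chi A _ (A ⧸ IntMult.stalkIdeal (IntMult.ptIdeal v) x) = 0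
    rw [StalkIdeal.stalkIdeal_ptIdeal hvx]
    exact h3
  obtain ⟨d, hd⟩ := Groth.Agent.CalgA.RegBasic.ringKrullDim_eq_natCast A
  have key := chi_devissage (A := A) N d (fun M' _ _ _ i hi => TorReg.vanish_of_finite_left d hd _ _ i hi)
    (A ⧸ I) hmeets S (fun p hp q hq hle => hminl p q ((hSmem p).1 hp).2 hq hle) hvan
  change _ = IntMult.chi A (A ⧸ I) N
  rw [key]
  -- the finite sum
  unfold IntMult.interProd
  let φ : {p : PrimeSpectrum A // p ∈ S} →
      {p : X × X // p.1 ⤳ x ∧ p.2 ⤳ x ∧ δ p.1 + δ p.2 - n = δ x} := fun p =>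
    ⟨(v, ptOf p.1), hvx, ptOf_specializes p.1, by
      change δ v + δ (ptOf p.1) - n = δ x
      rw [hv, ((hSmem p.1).1 p.2).2, hx]⟩
  have hφ : Function.Injective φ := by
    intro p q h
    have h1 : ptOf p.1 = ptOf q.1 := congrArg (fun z => z.1.2) h
    exact Subtype.ext (ptOf_injective x h1)
  rw [finsum_eq_sum_of_support_subset (s := S.attach.image φ)]
  · rw [Finset.sum_image (fun p _ q _ h => hφ h), ← Finset.sum_attach S]
    refine Finset.sum_congr rfl fun p _ => ?_
    have h1 : (φ p).1 = (v, ptOf p.1) := rfl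
    rw [h1]
    have h2 : (Set.indicator {v} 1 : X → ℤ) v = 1 := by simp
    change (Set.indicator {v} 1 : X → ℤ) v * Cyc.subschemeFun δ s j (ptOf p.1) *
      IntMult.mult (IntMult.ptIdeal v) (IntMult.ptIdeal (ptOf p.1)) x = _
    rw [h2, one_mul]
    congr 1
    · rw [← ll_primeOf j (ptOf_specializes p.1) ((hSmem p.1).1 p.2).2, primeOf_ptOf]
    · rw [IntMult.mult, StalkIdeal.stalkIdeal_ptIdeal (ptOf_specializes p.1), ← hpt]
  · intro p hp
    rw [Function.mem_support] at hp
    have h1 : (Set.indicator {v} 1 : X → ℤ) p.1.1 ≠ 0 := left_ne_zero_of_mul (left_ne_zero_of_mul hp)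
    have h2 : Cyc.subschemeFun δ s j p.1.2 ≠ 0 := right_ne_zero_of_mul (left_ne_zero_of_mul hp)
    have h3 : p.1.1 = v := by
      by_contra hne
      have hne' : p.1.1 ∉ ({v} : Set X) := hne
      exact h1 (Set.indicator_of_notMem hne' _)
    have h4 : p.1.2 ∈ Set.range j := by
      by_contra hne
      exact h2 (C1Fin.subschemeFun_apply_notMem j δ s _ hne)
    have h5 : δ p.1.2 = s := by
      by_contra hne
      apply h2
      unfold Cyc.subschemeFun
      rw [if_neg hne]
    rw [Finset.coe_image]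
    have h6 : primeOf p.2.2.1 ∈ S := by
      rw [hSmem, ptOf_primeOf]
      exact ⟨h4, h5⟩
    refine ⟨⟨primeOf p.2.2.1, h6⟩, Finset.mem_coe.2 (Finset.mem_attach _ _), ?_⟩
    apply Subtype.ext
    change (v, ptOf (primeOf p.2.2.1)) = p.1
    rw [ptOf_primeOf, ← h3]

end Groth.Agent.CycA.FibreDev
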