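import Groth.Agent.CycA.FinExtDomain
import Groth.Prelude.Def_CycAlg
import Mathlib.RingTheory.Artinian.Module
import Mathlib.RingTheory.HopkinsLevitzki
import Mathlib.RingTheory.OrderOfVanishing.Basic
import Mathlib.RingTheory.LocalRing.Quotient
import Mathlib.RingTheory.Ideal.Over
import Mathlib.RingTheory.Localization.Integral

/-!
# Finite extensions of one-dimensional Noetherian local rings inside the total ring of fractions

For a Noetherian local ring `A` of dimension one with a nonzerodivisor in its maximal ideal, the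
total ring of fractions `Q = FractionRing A` is Artinian and its elements integral over `A` admit
gcd's and coprime factorizations (all regular elements), by Krull–Akizuki.
-/

set_option autoImplicit false
set_option linter.unusedSectionVars false

universe u

namespace Groth.Agent.CycA.FinExt

open IsLocalRing CycAlg

section General

variable {A : Type*} [CommRing A] {Q : Type*} [CommRing Q] [Algebra A Q] [IsArtinianRing Q]

/-- Over an Artinian ring, integrality can be checked modulo the maximal ideals. -/
theorem isIntegral_of_forall (z : Q)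
    (h : ∀ P : MaximalSpectrum Q, IsIntegral A (Ideal.Quotient.mk P.asIdeal z)) :
    IsIntegral A z := by
  classical
  have := Fintype.ofFinite (MaximalSpectrum Q)
  choose f hf hf0 using h
  let F : Polynomial A := ∏ P, f P
  have hF : F.Monic := Polynomial.monic_prod_of_monic _ _ (fun P _ => hf P)
  have hz : Polynomial.aeval z F ∈ nilradical Q := by
    rw [IsArtinianRing.nilradical_eq_iInf, Ideal.mem_iInf]
    intro P
    have h1 : Polynomial.aeval (Ideal.Quotient.mk P.asIdeal z) (f P) = 0 := by
      rw [Polynomial.aeval_def]; exact hf0 P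
    have h2 : Ideal.Quotient.mk P.asIdeal (Polynomial.aeval z F) = 0 := by
      have h3 : Ideal.Quotient.mk P.asIdeal (Polynomial.aeval z F) =
          Polynomial.aeval (Ideal.Quotient.mk P.asIdeal z) F := by
        have := (Polynomial.aeval_algHom_apply (Ideal.Quotient.mkₐ A P.asIdeal) z F).symm
        simpa using this
      rw [h3, map_prod]
      exact Finset.prod_eq_zero (Finset.mem_univ P) h1
    exact Ideal.Quotient.eq_zero_iff_mem.mp h2
  obtain ⟨n, hn⟩ := hz
  refine ⟨F ^ n, hF.pow n, ?_⟩
  rw [← Polynomial.aeval_def, map_pow, hn]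

omit [IsArtinianRing Q] in
theorem isUnit_of_forall (z : Q)
    (h : ∀ P : MaximalSpectrum Q, Ideal.Quotient.mk P.asIdeal z ≠ 0) : IsUnit z := by
  by_contra hz
  obtain ⟨P, hP, hzP⟩ := exists_max_ideal_of_mem_nonunits (mem_nonunits_iff.mpr hz)
  exact h ⟨P, hP⟩ (Ideal.Quotient.eq_zero_iff_mem.mpr hzP)

omit [IsArtinianRing Q] in
theorem mk_ne_zero_of_isUnit {z : Q} (hz : IsUnit z) (P : MaximalSpectrum Q) :
    Ideal.Quotient.mk P.asIdeal z ≠ 0 := by
  intro h
  exact P.isMaximal.ne_top (P.asIdeal.eq_top_of_isUnit_mem (Ideal.Quotient.eq_zero_iff_mem.mp h) hz)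

theorem exists_lift (z : ∀ P : MaximalSpectrum Q, Q ⧸ P.asIdeal) :
    ∃ w : Q, ∀ P, Ideal.Quotient.mk P.asIdeal w = z P := by
  have h : Pairwise (Function.onFun IsCoprime (fun P : MaximalSpectrum Q => P.asIdeal)) := by
    intro P P' hPP'
    rw [Function.onFun, Ideal.isCoprime_iff_sup_eq]
    exact P.isMaximal.coprime_of_ne P'.isMaximal (fun h' => hPP' (MaximalSpectrum.ext h'))
  exact Ideal.pi_quotient_surjective h z

end General

section Frac

variable {A : Type u} [CommRing A] [IsNoetherianRing A] [IsLocalRing A]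

theorem krullDimLE_one (hA : ringKrullDim A = 1) : Ring.KrullDimLE 1 A := by
  rw [Ring.KrullDimLE, Order.krullDimLE_iff]
  exact hA.le

/-- The total ring of fractions of a one-dimensional Noetherian local ring with a
nonzerodivisor in its maximal ideal is Artinian. -/
theorem isArtinianRing_fractionRing (hA : ringKrullDim A = 1) {x : A} (hx : x ∈ nonZeroDivisors A)
    (hxm : x ∈ maximalIdeal A) : IsArtinianRing (FractionRing A) := by
  have : IsNoetherianRing (FractionRing A) :=
    IsLocalization.isNoetherianRing (nonZeroDivisors A) _ inferInstance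
  rw [isArtinianRing_iff_krullDimLE_zero, Ring.krullDimLE_zero_iff]
  have h1 := krullDimLE_one hA
  intro P hP
  obtain ⟨M, hM, hPM⟩ := P.exists_le_maximal hP.ne_top
  have hp := (IsLocalization.isPrime_iff_isPrime_disjoint (nonZeroDivisors A)
    (FractionRing A) P).mp hP
  have hm := (IsLocalization.isPrime_iff_isPrime_disjoint (nonZeroDivisors A)
    (FractionRing A) M).mp hM.isPrime
  have hne : ¬ (M.under A).IsMaximal := by
    intro h
    have h2 : M.under A = maximalIdeal A := IsLocalRing.eq_maximalIdeal h
    exact Set.disjoint_left.mp hm.2 hx (by rw [SetLike.mem_coe, h2]; exact hxm)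
  have hmin := (Ring.krullDimLE_one_iff.mp h1 (M.under A) hm.1).resolve_right hne
  have hle : P.under A ≤ M.under A := Ideal.comap_mono hPM
  have heq : M.under A ≤ P.under A := hmin.2 ⟨hp.1, bot_le⟩ hle
  have : M ≤ P := (IsLocalization.under_le_under_iff (nonZeroDivisors A) (FractionRing A)).mp heq
  rwa [le_antisymm hPM this]

theorem ringKrullDim_quotient (hA : ringKrullDim A = 1) (p : Ideal A) [hp : p.IsPrime]
    (hpm : p ≠ maximalIdeal A) : ringKrullDim (A ⧸ p) = 1 := by
  refine le_antisymm ((ringKrullDim_quotient_le p).trans hA.le) ?_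
  refine Order.succ_le_of_lt (lt_of_not_ge fun hlt : ringKrullDim (A ⧸ p) ≤ 0 => ?_)
  have h0 : Ring.KrullDimLE 0 (A ⧸ p) := Ring.krullDimLE_iff.mpr hlt
  have hf : IsField (A ⧸ p) := Ring.KrullDimLE.isField_of_isDomain
  exact hpm (IsLocalRing.eq_maximalIdeal (Ideal.Quotient.maximal_of_isField p hf))

section AtMax

variable (hA : ringKrullDim A = 1) {x : A} (hx : x ∈ nonZeroDivisors A)
    (hxm : x ∈ maximalIdeal A) (P : Ideal (FractionRing A)) [hP : P.IsMaximal]

include hx hxm in
theorem under_ne_maximalIdeal : P.under A ≠ maximalIdeal A := by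
  intro h
  have hp := (IsLocalization.isPrime_iff_isPrime_disjoint (nonZeroDivisors A)
    (FractionRing A) P).mp hP.isPrime
  exact Set.disjoint_left.mp hp.2 hx (by rw [SetLike.mem_coe, h]; exact hxm)

theorem isFractionRing_quotient :
    IsFractionRing (A ⧸ P.under A) (FractionRing A ⧸ P) := by
  let _ := Ideal.Quotient.field P
  have : FaithfulSMul (A ⧸ P.under A) (FractionRing A ⧸ P) := by
    rw [faithfulSMul_iff_algebraMap_injective]
    exact Ideal.algebraMap_quotient_injective
  refine IsFractionRing.of_field _ _ (fun z => ?_)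
  obtain ⟨z, rfl⟩ := Ideal.Quotient.mk_surjective z
  obtain ⟨a, s, rfl⟩ := IsLocalization.exists_mk'_eq (nonZeroDivisors A) z
  refine ⟨Ideal.Quotient.mk _ a, Ideal.Quotient.mk _ s, ?_⟩
  have hs : Ideal.Quotient.mk P (algebraMap A (FractionRing A) s) ≠ 0 := by
    intro h
    have h1 := Ideal.Quotient.eq_zero_iff_mem.mp h
    exact hP.ne_top (P.eq_top_of_isUnit_mem h1 (IsLocalization.map_units _ s))
  have h1 : algebraMap (A ⧸ P.under A) (FractionRing A ⧸ P) (Ideal.Quotient.mk _ (s : A)) =
    Ideal.Quotient.mk P (algebraMap A (FractionRing A) s) := rfl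
  have h2 : algebraMap (A ⧸ P.under A) (FractionRing A ⧸ P) (Ideal.Quotient.mk _ a) =
    Ideal.Quotient.mk P (algebraMap A (FractionRing A) a) := rfl
  rw [h1, h2, eq_div_iff hs, ← map_mul, IsLocalization.mk'_spec]

theorem isIntegral_quotient_iff (z : FractionRing A ⧸ P) :
    IsIntegral (A ⧸ P.under A) z ↔ IsIntegral A z := by
  refine ⟨fun h => ?_, fun h => h.tower_top⟩
  have : Algebra.IsIntegral A (A ⧸ P.under A) :=
    Algebra.isIntegral_of_surjective Ideal.Quotient.mk_surjective
  exact isIntegral_trans z h

include hA hx hxm in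
theorem isPrincipalIdealRing_local :
    IsPrincipalIdealRing (integralClosure (A ⧸ P.under A) (FractionRing A ⧸ P)) := by
  let _ := Ideal.Quotient.field P
  have := isFractionRing_quotient P
  have hp : (P.under A).IsPrime := inferInstance
  have hd := ringKrullDim_quotient hA (P.under A) (under_ne_maximalIdeal hx hxm P)
  have : IsLocalRing (A ⧸ P.under A) :=
    IsLocalRing.of_surjective' (Ideal.Quotient.mk _) Ideal.Quotient.mk_surjective
  exact FinExtDomain.isPrincipalIdealRing_integralClosure (A ⧸ P.under A) (FractionRing A ⧸ P)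
    (FractionRing A ⧸ P) hd

include hA hx hxm in
theorem finite_maximalSpectrum_local :
    Finite (MaximalSpectrum (integralClosure (A ⧸ P.under A) (FractionRing A ⧸ P))) := by
  let _ := Ideal.Quotient.field P
  have := isFractionRing_quotient P
  have hp : (P.under A).IsPrime := inferInstance
  have hd := ringKrullDim_quotient hA (P.under A) (under_ne_maximalIdeal hx hxm P)
  have : IsLocalRing (A ⧸ P.under A) :=
    IsLocalRing.of_surjective' (Ideal.Quotient.mk _) Ideal.Quotient.mk_surjective
  have := FinExtDomain.finite_isMaximal (A ⧸ P.under A) (FractionRing A ⧸ P)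
    (FractionRing A ⧸ P) hd
  have := this.to_subtype
  exact Finite.of_injective
    (fun m : MaximalSpectrum (integralClosure (A ⧸ P.under A) (FractionRing A ⧸ P)) =>
      (⟨m.asIdeal, m.isMaximal⟩ : {I : Ideal _ | I.IsMaximal}))
    (fun m m' h => MaximalSpectrum.ext (congrArg Subtype.val h))

include hA hx hxm in
theorem not_isField_local :
    ¬ IsField (integralClosure (A ⧸ P.under A) (FractionRing A ⧸ P)) := by
  intro hF
  have hp : (P.under A).IsPrime := inferInstance
  have hd := ringKrullDim_quotient hA (P.under A) (under_ne_maximalIdeal hx hxm P)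
  have h1 : IsField (A ⧸ P.under A) := isField_of_isIntegral_of_isField
    (R := A ⧸ P.under A) (S := integralClosure (A ⧸ P.under A) (FractionRing A ⧸ P)) (by
      intro a b hab
      have := congrArg Subtype.val hab
      exact Ideal.algebraMap_quotient_injective this) hF
  rw [ringKrullDim_eq_zero_of_isField h1] at hd
  exact zero_ne_one hd

include hA hx hxm in
theorem local_gcd {a b : FractionRing A ⧸ P} (ha : IsIntegral A a) (hb : IsIntegral A b)
    (ha0 : a ≠ 0) (hb0 : b ≠ 0) : ∃ t a' b' u v : FractionRing A ⧸ P,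
    IsIntegral A t ∧ IsIntegral A a' ∧ IsIntegral A b' ∧ IsIntegral A u ∧ IsIntegral A v ∧
    t ≠ 0 ∧ a' ≠ 0 ∧ b' ≠ 0 ∧ a = t * a' ∧ b = t * b' ∧ u * a' + v * b' = 1 := by
  have := isPrincipalIdealRing_local hA hx hxm P
  let D := integralClosure (A ⧸ P.under A) (FractionRing A ⧸ P)
  obtain ⟨t, a', b', u, v, ht, ha', hb', h1, h2, h3⟩ := FinExtDomain.exists_gcd (D := D)
    (a := ⟨a, (isIntegral_quotient_iff P a).mpr ha⟩)
    (b := ⟨b, (isIntegral_quotient_iff P b).mpr hb⟩)
    (fun h => ha0 (congrArg Subtype.val h)) (fun h => hb0 (congrArg Subtype.val h))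
  refine ⟨t, a', b', u, v, (isIntegral_quotient_iff P _).mp t.2,
    (isIntegral_quotient_iff P _).mp a'.2, (isIntegral_quotient_iff P _).mp b'.2,
    (isIntegral_quotient_iff P _).mp u.2, (isIntegral_quotient_iff P _).mp v.2,
    fun h => ht (Subtype.ext h), fun h => ha' (Subtype.ext h),
    fun h => hb' (Subtype.ext h), congrArg Subtype.val h1,
    congrArg Subtype.val h2, congrArg Subtype.val h3⟩

include hA hx hxm in
theorem local_base : ∃ (J : Type u) (_ : Fintype J) (g : J → FractionRing A ⧸ P),
    (∀ j, IsIntegral A (g j)) ∧ (∀ j, g j ≠ 0) ∧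
    (∀ i j, i ≠ j → ∃ s t, IsIntegral A s ∧ IsIntegral A t ∧ s * g i + t * g j = 1) ∧
    ∀ a, IsIntegral A a → a ≠ 0 → ∃ (e : J → ℕ) (w w' : FractionRing A ⧸ P),
      IsIntegral A w ∧ IsIntegral A w' ∧ w * w' = 1 ∧ a = w * ∏ j, g j ^ e j := by
  have := isPrincipalIdealRing_local hA hx hxm P
  have := finite_maximalSpectrum_local hA hx hxm P
  have hnf := not_isField_local hA hx hxm P
  let D := integralClosure (A ⧸ P.under A) (FractionRing A ⧸ P)
  let _ : Fintype (MaximalSpectrum D) := Fintype.ofFinite _
  refine ⟨MaximalSpectrum D, inferInstance, fun j => (FinExtDomain.gen D j : D),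
    fun j => (isIntegral_quotient_iff P _).mp (FinExtDomain.gen D j).2, ?_, ?_, ?_⟩
  · intro j h
    exact FinExtDomain.gen_ne_zero hnf j (Subtype.ext h)
  · intro i j hij
    obtain ⟨s, t, hst⟩ := FinExtDomain.isCoprime_gen (D := D) hij
    exact ⟨s, t, (isIntegral_quotient_iff P _).mp s.2, (isIntegral_quotient_iff P _).mp t.2,
      congrArg Subtype.val hst⟩
  · intro a ha ha0
    obtain ⟨e, w, hw⟩ := FinExtDomain.exists_factorization (D := D)
      (a := ⟨a, (isIntegral_quotient_iff P a).mpr ha⟩)
      (fun h => ha0 (congrArg Subtype.val h))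
    refine ⟨e, (w : D), ((w⁻¹ : Dˣ) : D), (isIntegral_quotient_iff P _).mp (w : D).2,
      (isIntegral_quotient_iff P _).mp ((w⁻¹ : Dˣ) : D).2, ?_, ?_⟩
    · exact congrArg Subtype.val (w.mul_inv)
    · refine (congrArg Subtype.val hw).trans ?_
      simp

end AtMax

variable (hA : ringKrullDim A = 1) {x : A} (hx : x ∈ nonZeroDivisors A)
    (hxm : x ∈ maximalIdeal A)

theorem isIntegral_mk {P : Ideal (FractionRing A)} {z : FractionRing A} (hz : IsIntegral A z) :
    IsIntegral A (Ideal.Quotient.mk P z) :=
  hz.map (Ideal.Quotient.mkₐ A P)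

include hA hx hxm in
/-- Common factors in the integral closure of `A` in its total ring of fractions. -/
theorem total_gcd {a b : FractionRing A} (ha : IsIntegral A a) (hb : IsIntegral A b)
    (hau : IsUnit a) (hbu : IsUnit b) : ∃ t a' b' u v : FractionRing A,
    IsIntegral A t ∧ IsIntegral A a' ∧ IsIntegral A b' ∧ IsIntegral A u ∧ IsIntegral A v ∧
    IsUnit t ∧ IsUnit a' ∧ IsUnit b' ∧ a = t * a' ∧ b = t * b' ∧ u * a' + v * b' = 1 := by
  have := isArtinianRing_fractionRing hA hx hxm
  have hloc := fun P : MaximalSpectrum (FractionRing A) =>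
    local_gcd hA hx hxm P.asIdeal (isIntegral_mk ha) (isIntegral_mk hb)
      (mk_ne_zero_of_isUnit hau P) (mk_ne_zero_of_isUnit hbu P)
  choose t a' b' u v ht ha' hb' hu hv ht0 ha0 hb0 h1 h2 h3 using hloc
  obtain ⟨T, hT⟩ := exists_lift t
  obtain ⟨U, hU⟩ := exists_lift u
  have hTu : IsUnit T := isUnit_of_forall T (fun P => by rw [hT]; exact ht0 P)
  obtain ⟨T', hTT'⟩ := hTu.exists_right_inv
  have hT' : ∀ P : MaximalSpectrum (FractionRing A), t P * Ideal.Quotient.mk P.asIdeal T' = 1 := by
    intro P
    rw [← hT P, ← map_mul, hTT', map_one]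
  have hmka : ∀ P : MaximalSpectrum (FractionRing A),
      Ideal.Quotient.mk P.asIdeal (T' * a) = a' P := by
    intro P
    rw [map_mul, h1 P]
    linear_combination (a' P) * hT' P
  have hmkb : ∀ P : MaximalSpectrum (FractionRing A),
      Ideal.Quotient.mk P.asIdeal (T' * b) = b' P := by
    intro P
    rw [map_mul, h2 P]
    linear_combination (b' P) * hT' P
  have hbu' : IsUnit (T' * b) := by
    apply isUnit_of_forall
    intro P
    rw [hmkb]; exact hb0 P
  have hau' : IsUnit (T' * a) := by
    apply isUnit_of_forall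
    intro P
    rw [hmka]; exact ha0 P
  obtain ⟨c, hc⟩ := hbu'.exists_right_inv
  refine ⟨T, T' * a, T' * b, U, c * (1 - U * (T' * a)), ?_, ?_, ?_, ?_, ?_, hTu, hau', hbu',
    ?_, ?_, ?_⟩
  · exact isIntegral_of_forall _ (fun P => by rw [hT]; exact ht P)
  · exact isIntegral_of_forall _ (fun P => by rw [hmka]; exact ha' P)
  · exact isIntegral_of_forall _ (fun P => by rw [hmkb]; exact hb' P)
  · exact isIntegral_of_forall _ (fun P => by rw [hU]; exact hu P)
  · refine isIntegral_of_forall _ (fun P => ?_)
    have hcP : b' P * Ideal.Quotient.mk P.asIdeal c = 1 := by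
      rw [← hmkb P, ← map_mul, hc, map_one]
    have : Ideal.Quotient.mk P.asIdeal (c * (1 - U * (T' * a))) = v P := by
      rw [map_mul, map_sub, map_one, map_mul _ U, hmka, hU]
      linear_combination (v P) * hcP - (Ideal.Quotient.mk P.asIdeal c) * h3 P
    rw [this]; exact hv P
  · linear_combination (-a) * hTT'
  · linear_combination (-b) * hTT'
  · linear_combination (1 - U * (T' * a)) * hc

include hA hx hxm in
/-- A finite coprime base for the regular elements of the integral closure of `A` in its total
ring of fractions. -/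
theorem total_base : ∃ (J : Type u) (_ : Fintype J) (π : J → FractionRing A),
    (∀ j, IsIntegral A (π j)) ∧ (∀ j, IsUnit (π j)) ∧
    (∀ i j, i ≠ j → ∃ s t, IsIntegral A s ∧ IsIntegral A t ∧ s * π i + t * π j = 1) ∧
    ∀ a, IsIntegral A a → IsUnit a → ∃ (e : J → ℕ) (w w' : FractionRing A),
      IsIntegral A w ∧ IsIntegral A w' ∧ w * w' = 1 ∧ a = w * ∏ j, π j ^ e j := by
  classical
  have := isArtinianRing_fractionRing hA hx hxm
  have := Fintype.ofFinite (MaximalSpectrum (FractionRing A))
  have hloc := fun P : MaximalSpectrum (FractionRing A) => local_base hA hx hxm P.asIdeal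
  choose J hJ g hg hg0 hgc hga using hloc
  have hπ : ∀ j : (Σ P, J P), ∃ w : FractionRing A, ∀ P, Ideal.Quotient.mk P.asIdeal w =
      Function.update (fun P : MaximalSpectrum (FractionRing A) => (1 : FractionRing A ⧸ P.asIdeal))
        j.1 (g j.1 j.2) P := fun j => exists_lift _
  choose π hπ using hπ
  have hπs : ∀ j : (Σ P, J P), Ideal.Quotient.mk j.1.asIdeal (π j) = g j.1 j.2 := by
    intro j; rw [hπ, Function.update_self]
  have hπn : ∀ (j : (Σ P, J P)) (P), P ≠ j.1 → Ideal.Quotient.mk P.asIdeal (π j) = 1 := by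
    intro j P hP; rw [hπ, Function.update_of_ne hP]
  have hint : ∀ j, IsIntegral A (π j) := by
    intro j
    refine isIntegral_of_forall _ (fun P => ?_)
    by_cases hP : P = j.1
    · subst hP; rw [hπs]; exact hg _ _
    · rw [hπn j P hP]; exact isIntegral_one
  have hunit : ∀ j, IsUnit (π j) := by
    intro j
    refine isUnit_of_forall _ (fun P => ?_)
    by_cases hP : P = j.1
    · subst hP; rw [hπs]; exact hg0 _ _
    · rw [hπn j P hP]
      have := Ideal.Quotient.nontrivial_iff.mpr P.isMaximal.ne_top
      exact one_ne_zero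
  refine ⟨(Σ P, J P), inferInstance, π, hint, hunit, ?_, ?_⟩
  · intro i j hij
    have hex : ∀ P : MaximalSpectrum (FractionRing A), ∃ s t : FractionRing A ⧸ P.asIdeal,
        IsIntegral A s ∧ IsIntegral A t ∧
        s * Ideal.Quotient.mk P.asIdeal (π i) + t * Ideal.Quotient.mk P.asIdeal (π j) = 1 := by
      intro P
      by_cases hPi : P = i.1
      · by_cases hPj : P = j.1
        · obtain ⟨Pi, i⟩ := i
          obtain ⟨Pj, j⟩ := j
          simp only at hPi hPj
          subst hPi
          subst hPj
          rw [hπs ⟨P, i⟩, hπs ⟨P, j⟩]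
          have hij' : i ≠ j := fun h => hij (by rw [h])
          exact hgc P i j hij'
        · exact ⟨0, 1, isIntegral_zero, isIntegral_one, by rw [hπn j P hPj]; ring⟩
      · exact ⟨1, 0, isIntegral_one, isIntegral_zero, by rw [hπn i P hPi]; ring⟩
    choose s t hs ht hst using hex
    obtain ⟨S, hS⟩ := exists_lift s
    obtain ⟨c, hc⟩ := (hunit j).exists_right_inv
    refine ⟨S, c * (1 - S * π i), ?_, ?_, ?_⟩
    · exact isIntegral_of_forall _ (fun P => by rw [hS]; exact hs P)
    · refine isIntegral_of_forall _ (fun P => ?_)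
      have hcP : Ideal.Quotient.mk P.asIdeal (π j) * Ideal.Quotient.mk P.asIdeal c = 1 := by
        rw [← map_mul, hc, map_one]
      have : Ideal.Quotient.mk P.asIdeal (c * (1 - S * π i)) = t P := by
        rw [map_mul, map_sub, map_one, map_mul _ S, hS]
        linear_combination (t P) * hcP - (Ideal.Quotient.mk P.asIdeal c) * hst P
      rw [this]; exact ht P
    · linear_combination (1 - S * π i) * hc
  · intro a ha hau
    have hex := fun P : MaximalSpectrum (FractionRing A) =>
      hga P (Ideal.Quotient.mk P.asIdeal a) (isIntegral_mk ha) (mk_ne_zero_of_isUnit hau P)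
    choose e w w' hw hw' hww' hae using hex
    have hprodu : IsUnit (∏ j : (Σ P, J P), π j ^ e j.1 j.2) := by
      have : ∀ s : Finset (Σ P, J P), IsUnit (∏ j ∈ s, π j ^ e j.1 j.2) := by
        intro s
        induction s using Finset.induction_on with
        | empty => simp
        | insert i s hi ih => rw [Finset.prod_insert hi]; exact ((hunit i).pow _).mul ih
      exact this Finset.univ
    obtain ⟨c, hc⟩ := hprodu.exists_right_inv
    have hprodP : ∀ P : MaximalSpectrum (FractionRing A),
        Ideal.Quotient.mk P.asIdeal (∏ j : (Σ P, J P), π j ^ e j.1 j.2) =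
          ∏ j : J P, g P j ^ e P j := by
      intro P
      rw [map_prod, Fintype.prod_sigma]
      rw [Finset.prod_eq_single P]
      · refine Finset.prod_congr rfl (fun j _ => ?_)
        rw [map_pow, hπs ⟨P, j⟩]
      · intro P' _ hP'
        refine Finset.prod_eq_one (fun j _ => ?_)
        rw [map_pow, hπn ⟨P', j⟩ P (Ne.symm hP'), one_pow]
      · intro h; exact absurd (Finset.mem_univ P) h
    have hwc : ∀ P : MaximalSpectrum (FractionRing A),
        Ideal.Quotient.mk P.asIdeal (a * c) = w P := by
      intro P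
      have hcP : (∏ j : J P, g P j ^ e P j) * Ideal.Quotient.mk P.asIdeal c = 1 := by
        rw [← hprodP, ← map_mul, hc, map_one]
      rw [map_mul, hae P]
      linear_combination (w P) * hcP
    obtain ⟨W', hW'⟩ := exists_lift w'
    have hacu : IsUnit (a * c) := hau.mul (IsUnit.of_mul_eq_one _ (by rw [mul_comm]; exact hc))
    obtain ⟨d, hd⟩ := hacu.exists_right_inv
    refine ⟨fun j => e j.1 j.2, a * c, d, ?_, ?_, hd, ?_⟩
    · exact isIntegral_of_forall _ (fun P => by rw [hwc]; exact hw P)
    · refine isIntegral_of_forall _ (fun P => ?_)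
      have hdP : w P * Ideal.Quotient.mk P.asIdeal d = 1 := by
        rw [← hwc, ← map_mul, hd, map_one]
      have : Ideal.Quotient.mk P.asIdeal d = w' P := by
        linear_combination (w' P) * hdP - (Ideal.Quotient.mk P.asIdeal d) * hww' P
      rw [this]; exact hw' P
    · linear_combination (-a) * hc

include hA in
/-- Every module-finite subalgebra of the total ring of fractions is a finite extension ring with
cokernel killed by a power of the maximal ideal. -/
theorem isFinExt_of_finite (B : Subalgebra A (FractionRing A)) [Module.Finite A B] :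
    IsFinExt A B (maximalIdeal A) := by
  have := krullDimLE_one hA
  refine ⟨?_, inferInstance, ?_⟩
  · intro a b hab
    have h := congrArg Subtype.val hab
    exact IsLocalization.injective (FractionRing A) (le_refl (nonZeroDivisors A)) h
  · obtain ⟨T, hT⟩ : B.toSubmodule.FG := Module.Finite.iff_fg.mp ‹_›
    obtain ⟨s, hs⟩ := IsLocalization.exist_integer_multiples_of_finset (nonZeroDivisors A) T
    have hB : ∀ b ∈ B, IsLocalization.IsInteger A ((s : A) • b) := by
      intro b hb
      have hb' : b ∈ Submodule.span A (T : Set (FractionRing A)) := by rw [hT]; exact hb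
      induction hb' using Submodule.span_induction with
      | mem t ht => exact hs t ht
      | zero => rw [smul_zero]; exact ⟨0, map_zero _⟩
      | add y z hy hz ihy ihz =>
        rw [smul_add]
        exact IsLocalization.isInteger_add
          (ihy (by rw [← Subalgebra.mem_toSubmodule, ← hT]; exact hy))
          (ihz (by rw [← Subalgebra.mem_toSubmodule, ← hT]; exact hz))
      | smul c y hy ihy =>
        rw [smul_comm]
        exact IsLocalization.isInteger_smul
          (ihy (by rw [← Subalgebra.mem_toSubmodule, ← hT]; exact hy))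
    have hfl := isFiniteLength_quotient_span_singleton A s.2
    rw [isFiniteLength_iff_isNoetherian_isArtinian] at hfl
    have : IsArtinianRing (A ⧸ Ideal.span {(s : A)}) := isArtinian_of_tower A hfl.2
    obtain ⟨n, hn⟩ := exists_maximalIdeal_pow_le_of_isArtinianRing_quotient (Ideal.span {(s : A)})
    refine ⟨n, fun r hr b => ?_⟩
    obtain ⟨r', rfl⟩ := Ideal.mem_span_singleton.mp (hn hr)
    obtain ⟨y, hy⟩ := hB b b.2
    refine ⟨r' * y, Subtype.ext ?_⟩
    have h1 : ((algebraMap A B (r' * y) : B) : FractionRing A) =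
      algebraMap A (FractionRing A) (r' * y) := rfl
    rw [h1, map_mul, hy]
    have h2 : (((((s : A) * r') • b : B)) : FractionRing A) = ((s : A) * r') • (b : FractionRing A) :=
      rfl
    rw [h2, mul_comm (s : A) r', mul_smul, Algebra.smul_def r']

end Frac

end Groth.Agent.CycA.FinExt
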