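import Groth.Agent.S0556
import Mathlib.RingTheory.DedekindDomain.PID
import Mathlib.RingTheory.DedekindDomain.IntegralClosure
import Mathlib.RingTheory.KrullDimension.LocalRing
import Mathlib.RingTheory.KrullDimension.Basic
import Mathlib.RingTheory.Ideal.KrullsHeightTheorem
import Mathlib.RingTheory.Filtration
import Mathlib.RingTheory.DedekindDomain.Factorization

/-!
# Normalization of a one-dimensional Noetherian local domain in a finite extension of its
fraction field is a semilocal PID (consequence of Krull–Akizuki, S0556)
-/

set_option autoImplicit false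
set_option linter.unusedSectionVars false

universe u

namespace Groth.Agent.CycA.FinExtDomain

open IsLocalRing

section Dedekind

variable (R : Type u) [CommRing R] [IsDomain R] [IsNoetherianRing R]
  (K L : Type u) [Field K] [Field L] [Algebra R K] [IsFractionRing R K] [Algebra K L]
  [FiniteDimensional K L] [Algebra R L] [IsScalarTower R K L]

omit [IsNoetherianRing R] in
/-- A one-dimensional domain satisfies `Ring.DimensionLEOne`. -/
theorem dimensionLEOne (hdim : ringKrullDim R = 1) : Ring.DimensionLEOne R := by
  have h1 : Ring.KrullDimLE 1 R := by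
    rw [Ring.KrullDimLE, Order.krullDimLE_iff]
    exact hdim.le
  exact ⟨fun {p} hp hpr => Ring.krullDimLE_one_iff_of_noZeroDivisors.mp h1 p hp hpr⟩

include K in
/-- The integral closure of a one-dimensional Noetherian domain in a finite extension of its
fraction field is a Dedekind domain. -/
theorem isDedekindDomain_integralClosure (hdim : ringKrullDim R = 1) :
    IsDedekindDomain (integralClosure R L) := by
  have : Ring.DimensionLEOne R := dimensionLEOne R hdim
  have : IsNoetherianRing (integralClosure R L) :=
    Groth.Agent.S0556.result R hdim K L (integralClosure R L)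
      (by exact Subtype.coe_injective)
  have : Ring.DimensionLEOne (integralClosure R L) := Ring.DimensionLEOne.integralClosure R L
  have : IsIntegrallyClosed (integralClosure R L) :=
    integralClosure.isIntegrallyClosedOfFiniteExtension K
  exact {}

include K in
omit [IsDomain R] [IsNoetherianRing R] [FiniteDimensional K L] in
theorem injective_algebraMap [IsDomain R] : Function.Injective (algebraMap R L) := by
  rw [IsScalarTower.algebraMap_eq R K L]
  exact (algebraMap K L).injective.comp (IsFractionRing.injective R K)

variable [IsLocalRing R]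

omit [IsDomain R] [IsNoetherianRing R] in
/-- An element of the maximal ideal of `R` lies in every maximal ideal of the integral closure. -/
theorem mem_of_isMaximal {x : R} (hx : x ∈ maximalIdeal R)
    (n : Ideal (integralClosure R L)) (hn : n.IsMaximal) :
    algebraMap R (integralClosure R L) x ∈ n := by
  have := hn
  have h : (n.comap (algebraMap R (integralClosure R L))).IsMaximal :=
    Ideal.isMaximal_comap_of_isIntegral_of_isMaximal n
  have h2 : n.comap (algebraMap R (integralClosure R L)) = maximalIdeal R :=
    IsLocalRing.eq_maximalIdeal h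
  have h3 : x ∈ n.comap (algebraMap R (integralClosure R L)) := h2 ▸ hx
  exact h3

include K in
theorem finite_isMaximal (hdim : ringKrullDim R = 1) :
    {I : Ideal (integralClosure R L) | I.IsMaximal}.Finite := by
  have := isDedekindDomain_integralClosure R K L hdim
  obtain ⟨x, hx, hx0⟩ : ∃ x ∈ maximalIdeal R, x ≠ 0 := by
    by_contra! h
    have h0 : maximalIdeal R = ⊥ := (Submodule.eq_bot_iff _).mpr h
    have : IsField R := IsLocalRing.isField_iff_maximalIdeal_eq.mpr h0
    have h1 := ringKrullDim_eq_zero_of_isField this
    rw [hdim] at h1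
    exact one_ne_zero h1
  have hx0' : algebraMap R (integralClosure R L) x ≠ 0 := by
    intro h
    have h' : algebraMap R L x = 0 := by
      have := congrArg (algebraMap (integralClosure R L) L) h
      simpa using this
    exact hx0 (injective_algebraMap R K L (by simpa using h'))
  have hfin := Ideal.finite_factors (R := integralClosure R L)
    (I := Ideal.span {algebraMap R (integralClosure R L) x}) (by simpa using hx0')
  refine (hfin.image (fun v => v.asIdeal)).subset ?_
  intro n hn
  have hmem := mem_of_isMaximal R L hx n hn
  have hne : n ≠ ⊥ := by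
    rintro rfl
    exact hx0' (by simpa using hmem)
  refine ⟨⟨n, hn.isPrime, hne⟩, ?_, rfl⟩
  simp only [Set.mem_ofPred_eq]
  rw [Ideal.dvd_span_singleton]
  exact hmem

include K in
/-- The integral closure of a one-dimensional Noetherian local domain in a finite extension of its
fraction field is a PID. -/
theorem isPrincipalIdealRing_integralClosure (hdim : ringKrullDim R = 1) :
    IsPrincipalIdealRing (integralClosure R L) := by
  have := isDedekindDomain_integralClosure R K L hdim
  exact IsPrincipalIdealRing.of_finite_maximals (finite_isMaximal R K L hdim)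

end Dedekind

section PID

variable {D : Type*} [CommRing D] [IsDomain D] [IsPrincipalIdealRing D]

/-- Existence of greatest common divisors in a PID, in explicit form. -/
theorem exists_gcd {a b : D} (ha : a ≠ 0) (hb : b ≠ 0) : ∃ t a' b' u v : D,
    t ≠ 0 ∧ a' ≠ 0 ∧ b' ≠ 0 ∧ a = t * a' ∧ b = t * b' ∧ u * a' + v * b' = 1 := by
  obtain ⟨t, ht⟩ := (IsPrincipalIdealRing.principal (Ideal.span {a, b})).principal
  rw [Ideal.submodule_span_eq] at ht
  have hat : a ∈ Ideal.span {t} := ht ▸ Ideal.subset_span (by simp)
  have hbt : b ∈ Ideal.span {t} := ht ▸ Ideal.subset_span (by simp)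
  obtain ⟨a', rfl⟩ := Ideal.mem_span_singleton.mp hat
  obtain ⟨b', rfl⟩ := Ideal.mem_span_singleton.mp hbt
  have htt : t ∈ Ideal.span {t * a', t * b'} := by
    rw [ht]; exact Ideal.mem_span_singleton_self t
  obtain ⟨u, v, huv⟩ := Ideal.mem_span_pair.mp htt
  have ht0 : t ≠ 0 := left_ne_zero_of_mul ha
  refine ⟨t, a', b', u, v, ht0, right_ne_zero_of_mul ha, right_ne_zero_of_mul hb, rfl, rfl, ?_⟩
  apply mul_left_cancel₀ ht0
  linear_combination huv

variable (D) in
/-- A choice of generators of the maximal ideals of a PID. -/
noncomputable def gen (n : MaximalSpectrum D) : D :=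
  Submodule.IsPrincipal.generator n.asIdeal

omit [IsDomain D] in
theorem span_gen (n : MaximalSpectrum D) : Ideal.span {gen D n} = n.asIdeal :=
  Ideal.span_singleton_generator n.asIdeal

theorem gen_ne_zero (hD : ¬ IsField D) (n : MaximalSpectrum D) : gen D n ≠ 0 := by
  intro h
  have h1 := span_gen n
  rw [h, Ideal.span_singleton_eq_bot.mpr rfl] at h1
  exact Ring.ne_bot_of_isMaximal_of_not_isField n.isMaximal hD h1.symm

theorem isCoprime_gen {n m : MaximalSpectrum D} (h : n ≠ m) : IsCoprime (gen D n) (gen D m) := by
  rw [← Ideal.isCoprime_span_singleton_iff, span_gen, span_gen, Ideal.isCoprime_iff_sup_eq]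
  exact n.isMaximal.coprime_of_ne m.isMaximal (fun h' => h (MaximalSpectrum.ext h'))

theorem exists_factorization [Fintype (MaximalSpectrum D)] {a : D} (ha : a ≠ 0) :
    ∃ (e : MaximalSpectrum D → ℕ) (u : Dˣ), a = u * ∏ n, gen D n ^ e n := by
  classical
  induction a using UniqueFactorizationMonoid.induction_on_prime with
  | h₁ => exact absurd rfl ha
  | h₂ x hx => exact ⟨0, hx.unit, by simp⟩
  | h₃ a p ha0 hp ih =>
    obtain ⟨e, u, he⟩ := ih ha0
    have hmax : (Ideal.span {p}).IsMaximal :=
      PrincipalIdealRing.isMaximal_of_irreducible hp.irreducible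
    set n : MaximalSpectrum D := ⟨Ideal.span {p}, hmax⟩ with hn
    have hass : Associated (gen D n) p := by
      rw [← Ideal.span_singleton_eq_span_singleton, span_gen]
    obtain ⟨w, hw⟩ := hass
    refine ⟨e + Pi.single n 1, w * u, ?_⟩
    have hsingle : ∏ m, gen D m ^ ((Pi.single n 1 : MaximalSpectrum D → ℕ) m) = gen D n := by
      rw [Finset.prod_eq_single n]
      · simp
      · intro m _ hm
        rw [Pi.single_eq_of_ne hm, pow_zero]
      · intro h; exact absurd (Finset.mem_univ n) h
    simp only [Pi.add_apply, pow_add, Finset.prod_mul_distrib, hsingle]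
    rw [he, ← hw, Units.val_mul]
    ring

end PID

end Groth.Agent.CycA.FinExtDomain
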