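import Mathlib.RingTheory.Ideal.GoingDown
import Mathlib.RingTheory.Ideal.GoingUp
import Mathlib.RingTheory.KrullDimension.Basic
import Mathlib.RingTheory.Noetherian.Nilpotent
import Mathlib.RingTheory.QuasiFinite.Basic
import Mathlib.RingTheory.Flat.Basic
import Mathlib.RingTheory.Spectrum.Maximal.Defs
import Mathlib.RingTheory.LocalRing.RingHom.Basic
import Mathlib.RingTheory.TensorProduct.Finite
import Groth.Prelude.Def_CycAlg

/-!
# Finite algebras over local rings, and flat local homomorphisms in dimension one
-/

set_option autoImplicit false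

universe u v w

namespace Groth.Agent.CycA.FinLocal

open TensorProduct IsLocalRing

section finite

variable {A : Type u} [CommRing A] [IsLocalRing A] {S : Type v} [CommRing S] [Algebra A S]

/-- A maximal ideal of an integral algebra over a local ring lies over the maximal ideal. -/
theorem comap_eq [Algebra.IsIntegral A S] (q : Ideal S) [q.IsMaximal] :
    q.comap (algebraMap A S) = maximalIdeal A :=
  IsLocalRing.eq_maximalIdeal (Ideal.isMaximal_comap_of_isIntegral_of_isMaximal q)

theorem liesOver [Algebra.IsIntegral A S] (q : Ideal S) [q.IsMaximal] :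
    q.LiesOver (maximalIdeal A) := ⟨(comap_eq q).symm⟩

/-- The maps `A → S_q` are local. -/
theorem isLocalHom [Algebra.IsIntegral A S] (q : MaximalSpectrum S) :
    IsLocalHom (algebraMap A (Localization.AtPrime q.asIdeal)) := by
  constructor
  intro a ha
  by_contra hn
  have h1 : a ∈ maximalIdeal A := hn
  have := q.isMaximal
  rw [← comap_eq (A := A) q.asIdeal, Ideal.mem_comap] at h1
  have h2 : algebraMap S (Localization.AtPrime q.asIdeal) (algebraMap A S a) ∈
      maximalIdeal (Localization.AtPrime q.asIdeal) :=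
    (IsLocalization.AtPrime.to_map_mem_maximal_iff _ q.asIdeal _).mpr h1
  rw [← IsScalarTower.algebraMap_apply] at h2
  exact h2 ha

/-- A finite algebra over a local ring has finitely many maximal ideals. -/
theorem finite_maximalSpectrum [Module.Finite A S] : Finite (MaximalSpectrum S) := by
  have h : ((maximalIdeal A).primesOver S).Finite := Algebra.QuasiFinite.finite_primesOver _
  have := h.to_subtype
  refine Finite.of_injective (β := (maximalIdeal A).primesOver S)
    (fun q => ⟨q.asIdeal, q.isMaximal.isPrime, ?_⟩) ?_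
  · have := q.isMaximal
    exact liesOver q.asIdeal
  · intro q q' h
    exact MaximalSpectrum.ext (congrArg Subtype.val h)

end finite

section flat

variable {A A' : Type u} [CommRing A] [IsLocalRing A] [CommRing A'] [IsLocalRing A']
  [Algebra A A'] [Module.Flat A A']

/-- For a flat local homomorphism of Noetherian local rings of dimension one, powers of the maximal
ideal downstairs generate ideals of definition upstairs. -/
theorem exists_pow_le [IsNoetherianRing A'] (hA : ringKrullDim A = 1) (hA' : ringKrullDim A' = 1)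
    (n : ℕ) : ∃ N : ℕ, maximalIdeal A' ^ N ≤ (maximalIdeal A ^ n).map (algebraMap A A') := by
  have hdim : Ring.KrullDimLE 1 A' := by
    rw [Ring.KrullDimLE, Order.krullDimLE_iff]
    exact hA'.le
  -- a non-maximal prime of A
  obtain ⟨p₀, hp₀⟩ : ∃ p₀ : PrimeSpectrum A, p₀.asIdeal < maximalIdeal A := by
    have h1 : 0 < Order.krullDim (PrimeSpectrum A) := by
      change 0 < ringKrullDim A
      rw [hA]
      exact one_pos
    obtain ⟨x, y, hxy⟩ := Order.krullDim_pos_iff.mp h1
    have hxy' : x.asIdeal < y.asIdeal := hxy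
    exact ⟨x, hxy'.trans_le (le_maximalIdeal y.2.ne_top)⟩
  have hrad : maximalIdeal A' ≤ ((maximalIdeal A ^ n).map (algebraMap A A')).radical := by
    rw [Ideal.radical_eq_sInf]
    refine le_sInf ?_
    rintro P ⟨hP1, hP2⟩
    have h1 : maximalIdeal A ≤ P.comap (algebraMap A A') := by
      have h2 : maximalIdeal A ^ n ≤ P.comap (algebraMap A A') := Ideal.map_le_iff_le_comap.mp hP1
      intro a ha
      exact (hP2.comap (algebraMap A A')).mem_of_pow_mem n (h2 (Ideal.pow_mem_pow ha n))
    have h3 : P.comap (algebraMap A A') = maximalIdeal A :=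
      ((maximalIdeal.isMaximal A).eq_of_le (Ideal.comap_ne_top _ hP2.ne_top) h1).symm
    have : P.LiesOver (maximalIdeal A) := ⟨h3.symm⟩
    have := p₀.2
    obtain ⟨P₀, hlt, hP₀, -⟩ := Ideal.exists_ideal_lt_liesOver_of_lt P hp₀
    rcases Ring.krullDimLE_one_iff.mp hdim P hP2 with h | h
    · exact absurd (h.2 ⟨hP₀, bot_le⟩ hlt.le) hlt.not_ge
    · rw [IsLocalRing.eq_maximalIdeal h]
  obtain ⟨N, hN⟩ := Ideal.exists_radical_pow_le_of_fg
    ((maximalIdeal A ^ n).map (algebraMap A A')) (IsNoetherian.noetherian _)
  exact ⟨N, (Ideal.pow_right_mono hrad N).trans hN⟩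

/-- Base change of finite extensions. -/
theorem isFinExt_baseChange [IsNoetherianRing A'] (hA : ringKrullDim A = 1)
    (hA' : ringKrullDim A' = 1) {B : Type u} [CommRing B] [Algebra A B]
    (hB : CycAlg.IsFinExt A B (maximalIdeal A)) :
    CycAlg.IsFinExt A' (A' ⊗[A] B) (maximalIdeal A') := by
  obtain ⟨h1, h2, n, hn⟩ := hB
  refine ⟨Algebra.TensorProduct.includeLeft_injective (S := A') h1, inferInstance, ?_⟩
  obtain ⟨N, hN⟩ := exists_pow_le hA hA' n
  refine ⟨N, ?_⟩
  intro r hr b
  have key : ∀ (a : A) (_ : a ∈ maximalIdeal A ^ n) (b : A' ⊗[A] B),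
      algebraMap A A' a • b ∈ (algebraMap A' (A' ⊗[A] B)).range := by
    intro a ha b
    induction b with
    | zero => rw [smul_zero]; exact Subring.zero_mem _
    | add x y hx hy => rw [smul_add]; exact Subring.add_mem _ hx hy
    | tmul x y =>
      obtain ⟨c, hc⟩ := hn a ha y
      refine ⟨c • x, ?_⟩
      rw [algebraMap_smul, smul_tmul', smul_tmul, ← hc, Algebra.algebraMap_eq_smul_one (A := B) c,
        ← smul_tmul]
      rfl
  have hr' := hN hr
  clear hr
  revert b
  refine Submodule.span_induction (p := fun r _ => ∀ b : A' ⊗[A] B,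
    r • b ∈ (algebraMap A' (A' ⊗[A] B)).range) ?_ ?_ ?_ ?_ hr'
  · rintro _ ⟨a, ha, rfl⟩ b
    exact key a ha b
  · intro b
    rw [zero_smul]; exact Subring.zero_mem _
  · intro x y _ _ hx hy b
    rw [add_smul]; exact Subring.add_mem _ (hx b) (hy b)
  · intro c x _ hx b
    rw [smul_eq_mul, mul_comm, mul_smul]
    exact hx (c • b)

end flat

end Groth.Agent.CycA.FinLocal
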