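import Mathlib.LinearAlgebra.TensorProduct.RightExactness
import Mathlib.LinearAlgebra.TensorProduct.Quotient
import Mathlib.RingTheory.TensorProduct.Basic
import Mathlib.LinearAlgebra.Basis.VectorSpace
import Mathlib.RingTheory.SimpleModule.Basic
import Groth.Agent.CycA.DetRes

/-!
# Dévissage of lengths of `(A' ⊗_A L) ⊗_{A'} T` in `T`

For a local homomorphism `A → A'` and an `A`-algebra `L` the functor
`T ↦ (A' ⊗_A L) ⊗_{A'} T` is exact on `A'`-modules killed by the maximal ideal of `A`.
-/

set_option autoImplicit false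

universe u v w

namespace Groth.Agent.CycA.FlatDev

open TensorProduct IsLocalRing Groth.Agent.CycA.DetRes Groth.Agent.CycA.LocLen

section inj

variable {A A' : Type u} {L : Type v} [CommRing A] [IsLocalRing A] [CommRing A'] [Algebra A A']
  [CommRing L] [Algebra A L]

/-- Injectivity of `(A' ⊗_A L) ⊗_{A'} f` for an injective `f` between modules killed by the maximal
ideal of `A`. -/
theorem lTensor_injective {T₁ T₂ : Type w} [AddCommGroup T₁] [Module A' T₁] [AddCommGroup T₂]
    [Module A' T₂] (f : T₁ →ₗ[A'] T₂) (hf : Function.Injective f)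
    (h : ∀ a ∈ maximalIdeal A, ∀ t : T₂, algebraMap A A' a • t = 0) :
    Function.Injective (f.lTensor (A' ⊗[A] L)) := by
  let _ : Module A T₁ := Module.compHom T₁ (algebraMap A A')
  let _ : Module A T₂ := Module.compHom T₂ (algebraMap A A')
  have hs₁ : ∀ (a : A) (t : T₁), a • t = algebraMap A A' a • t := fun a t => rfl
  have hs₂ : ∀ (a : A) (t : T₂), a • t = algebraMap A A' a • t := fun a t => rfl
  have : IsScalarTower A A' T₁ := ⟨fun a s n => by rw [Algebra.smul_def, mul_smul]; rfl⟩
  have : IsScalarTower A A' T₂ := ⟨fun a s n => by rw [Algebra.smul_def, mul_smul]; rfl⟩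
  obtain ⟨i₂, c₂⟩ := exists_compat (A := A) (S := A') T₂ h
  obtain ⟨i₁, c₁⟩ := exists_compat (A := A) (S := A') T₁ (by
    intro a ha t
    apply hf
    rw [map_smul, map_zero]
    exact h a ha (f t))
  obtain ⟨g, hg⟩ := (toRes c₁ c₂ f).exists_leftInverse_of_injective (LinearMap.ker_eq_bot.mpr hf)
  have hg' : ∀ t, g (f t) = t := fun t => congr($hg t)
  let gA : T₂ →ₗ[A] T₁ :=
    { toFun := g
      map_add' := map_add g
      map_smul' := by
        intro a t
        rw [RingHom.id_apply, hs₁, hs₂, ← c₁ a, ← c₂ a, map_smul] }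
  let fA : T₁ →ₗ[A] T₂ := f.restrictScalars A
  have h1 : Function.Injective (fA.rTensor L) := by
    have : Function.LeftInverse (gA.rTensor L) (fA.rTensor L) := by
      intro x
      rw [← LinearMap.comp_apply, ← LinearMap.rTensor_comp]
      have : gA ∘ₗ fA = LinearMap.id := by
        ext t
        exact hg' t
      rw [this, LinearMap.rTensor_id, LinearMap.id_apply]
    exact this.injective
  rw [LinearMap.lTensor_inj_iff_rTensor_inj]
  let e₁ := AlgebraTensorModule.cancelBaseChange A A' A' T₁ L
  let e₂ := AlgebraTensorModule.cancelBaseChange A A' A' T₂ L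
  have hcomm : ∀ x, e₂ (f.rTensor (A' ⊗[A] L) x) = fA.rTensor L (e₁ x) := by
    intro x
    induction x with
    | zero => simp
    | add x y hx hy => simp only [map_add, hx, hy]
    | tmul t y =>
      induction y with
      | zero => simp
      | add x y hx hy => simp only [tmul_add, map_add, hx, hy]
      | tmul a l =>
        simp only [LinearMap.rTensor_tmul, e₁, e₂, AlgebraTensorModule.cancelBaseChange_tmul]
        rw [← map_smul]
        rfl
  intro x y hxy
  apply e₁.injective
  apply h1
  rw [← hcomm, ← hcomm, hxy]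

end inj

section dev

variable {A' : Type u} [CommRing A'] [IsLocalRing A'] {S : Type v} [CommRing S] [Algebra A' S]

/-- Dévissage: lengths at `q` of `N ⊗ T` for `T` of finite length in a class `C` of modules on
which `N ⊗ -` is exact. -/
theorem ll_tensor (N : Type w) [AddCommGroup N] [Module S N] [Module A' N] [IsScalarTower A' S N]
    (I : Ideal A')
    (hinj : ∀ (T₁ T₂ : Type u) [AddCommGroup T₁] [Module A' T₁] [AddCommGroup T₂] [Module A' T₂]
      (f : T₁ →ₗ[A'] T₂), Function.Injective f → (∀ a ∈ I, ∀ t : T₂, a • t = 0) →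
      Function.Injective (f.lTensor N))
    (q : MaximalSpectrum S) (T : Type u) [AddCommGroup T] [Module A' T] (hT : IsFiniteLength A' T)
    (hk : ∀ a ∈ I, ∀ t : T, a • t = 0) :
    ll q (N ⊗[A'] T) = Module.length A' T * ll q (N ⊗[A'] (A' ⧸ maximalIdeal A')) := by
  induction hT with
  | @of_subsingleton T _ _ hs =>
    have : Subsingleton (N ⊗[A'] T) := inferInstance
    unfold ll
    rw [Module.length_eq_zero, Module.length_eq_zero, zero_mul]
  | @of_simple_quotient T _ _ M' hs _ ih =>
    have hex := lTensor_exact N (LinearMap.exact_subtype_mkQ M') (Submodule.mkQ_surjective M')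
    have e1 := length_loc_add q.asIdeal (AlgebraTensorModule.lTensor S N M'.subtype)
      (AlgebraTensorModule.lTensor S N M'.mkQ)
      (hinj M' T M'.subtype M'.subtype_injective hk)
      (LinearMap.lTensor_surjective N (Submodule.mkQ_surjective M')) hex
    have e2 := Module.length_eq_add_of_exact M'.subtype M'.mkQ M'.subtype_injective
      (Submodule.mkQ_surjective M') (LinearMap.exact_subtype_mkQ M')
    have ih' := ih (fun a ha t => Subtype.ext (hk a ha t))
    unfold ll at ih' ⊢
    rw [e1, e2, ih', add_mul]
    congr 1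
    rw [Module.length_eq_one A' (T ⧸ M'), one_mul]
    obtain ⟨J, hJ, ⟨e⟩⟩ := isSimpleModule_iff_quot_maximal.mp hs
    obtain rfl := IsLocalRing.eq_maximalIdeal hJ
    exact length_loc_equiv q.asIdeal (AlgebraTensorModule.congr (LinearEquiv.refl S N) e)

end dev

end Groth.Agent.CycA.FlatDev
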