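import Mathlib.RingTheory.TensorProduct.Quotient
import Mathlib.RingTheory.Localization.BaseChange
import Mathlib.RingTheory.LocalRing.Length
import Mathlib.RingTheory.OrderOfVanishing.Basic
import Mathlib.LinearAlgebra.Charpoly.BaseChange
import Groth.Agent.CycA.FlatDev

/-!
# Isomorphisms and length formulas used for tame symbols and flat local homomorphisms
-/

set_option autoImplicit false

universe u v w

namespace Groth.Agent.CycA.FlatIso

open TensorProduct IsLocalRing Groth.Agent.CycA.DetRes Groth.Agent.CycA.LocLen

section quotient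

variable {S : Type v} [CommRing S]

/-- `(S/J)_q = S_q / J S_q` in terms of lengths. -/
theorem ll_quotient (q : MaximalSpectrum S) (J : Ideal S) :
    ll q (S ⧸ J) = Module.length (Localization.AtPrime q.asIdeal)
      (Localization.AtPrime q.asIdeal ⧸ J.map (algebraMap S (Localization.AtPrime q.asIdeal))) := by
  let e₁ := LocalizedModule.equivTensorProduct q.asIdeal.primeCompl (S ⧸ J)
  let e₂ := (Algebra.TensorProduct.quotIdealMapEquivTensorQuot
    (Localization.AtPrime q.asIdeal) J).toLinearEquiv
  exact (e₁.trans e₂.symm).length_eq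

/-- Flat local homomorphisms multiply orders of vanishing. -/
theorem ord_flat {R T : Type*} [CommRing R] [CommRing T] [IsLocalRing R] [IsLocalRing T]
    [Algebra R T] [IsLocalHom (algebraMap R T)] [Module.Flat R T] (x : R) :
    Ring.ord T (algebraMap R T x) =
      Ring.ord R x * Module.length T (T ⧸ (maximalIdeal R).map (algebraMap R T)) := by
  unfold Ring.ord
  rw [← IsLocalRing.length_baseChange R T (R ⧸ Ideal.span {x})]
  have h : Ideal.span {algebraMap R T x} = (Ideal.span {x}).map (algebraMap R T) := by
    rw [Ideal.map_span, Set.image_singleton]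
  rw [h]
  exact (Algebra.TensorProduct.quotIdealMapEquivTensorQuot T (Ideal.span {x})).toLinearEquiv.length_eq

/-- `N ⊗ A/I ≅ N` if `I` kills `N`. -/
theorem ll_tensor_quot {A' : Type u} [CommRing A'] [Algebra A' S] (N : Type w) [AddCommGroup N]
    [Module S N] [Module A' N] [IsScalarTower A' S N] (I : Ideal A')
    (h : ∀ a ∈ I, ∀ n : N, a • n = 0) (q : MaximalSpectrum S) :
    ll q (N ⊗[A'] (A' ⧸ I)) = ll q N := by
  symm
  let φ : N →ₗ[S] N ⊗[A'] (A' ⧸ I) :=
    { toFun := fun n => n ⊗ₜ 1
      map_add' := fun x y => TensorProduct.add_tmul _ _ _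
      map_smul' := fun b x => by simp [TensorProduct.smul_tmul'] }
  have hφ : ∀ n, φ n = (TensorProduct.tensorQuotEquivQuotSMul N I).symm
      (Submodule.Quotient.mk n) := fun n => rfl
  have hsurj : Function.Surjective φ := by
    intro x
    obtain ⟨y, rfl⟩ := (TensorProduct.tensorQuotEquivQuotSMul N I).symm.surjective x
    obtain ⟨n, rfl⟩ := Submodule.Quotient.mk_surjective _ y
    exact ⟨n, hφ n⟩
  have hinj : Function.Injective φ := by
    rw [← LinearMap.ker_eq_bot, eq_bot_iff]
    intro n hn
    rw [LinearMap.mem_ker, hφ, LinearEquiv.map_eq_zero_iff, Submodule.Quotient.mk_eq_zero] at hn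
    have hbot : (I • (⊤ : Submodule A' N)) = ⊥ := by
      rw [eq_bot_iff, Submodule.smul_le]
      intro a ha n _
      rw [Submodule.mem_bot]
      exact h a ha n
    rw [hbot, Submodule.mem_bot] at hn
    exact hn
  exact length_loc_equiv q.asIdeal (LinearEquiv.ofBijective φ ⟨hinj, hsurj⟩)

end quotient

section norm

variable {A A' B : Type u} [CommRing A] [IsLocalRing A] [CommRing A'] [IsLocalRing A']
  [Algebra A A'] [IsLocalHom (algebraMap A A')]
  (L : Type u) [Field L] [Algebra A L] [Algebra (ResidueField A) L]
  [IsScalarTower A (ResidueField A) L]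

/-- compatibility of scalar actions -/
local instance compat₁ : CompatibleSMul (ResidueField A) A (ResidueField A') L :=
  ⟨fun a m n => by
    rw [← IsScalarTower.algebraMap_smul (ResidueField A) a m,
      ← IsScalarTower.algebraMap_smul (ResidueField A) a n, smul_tmul]⟩

/-- compatibility of scalar actions -/
local instance compat₂ : CompatibleSMul A (ResidueField A) (ResidueField A') L :=
  CompatibleSMul.of_algebraMap_surjective _ _ residue_surjective

/-- `κ' ⊗_{A'} (A' ⊗_A L) ≅ κ' ⊗_κ L`. -/
noncomputable def fibEquiv :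
    ((A' ⊗[A] L) ⊗[A'] (A' ⧸ maximalIdeal A')) ≃+ ResidueField A' ⊗[ResidueField A] L :=
  ((TensorProduct.comm A' (A' ⊗[A] L) (ResidueField A')).toAddEquiv.trans
    (AlgebraTensorModule.cancelBaseChange A A' A' (ResidueField A') L).toAddEquiv).trans
    (equivOfCompatibleSMul (ResidueField A) A ℤ (ResidueField A') L).toAddEquiv

theorem fibEquiv_tmul (a : A') (l : L) (c : ResidueField A') :
    fibEquiv (A := A) (A' := A') L ((a ⊗ₜ l) ⊗ₜ c) = (residue A' a * c) ⊗ₜ l := by
  change (equivOfCompatibleSMul (ResidueField A) A ℤ (ResidueField A') L)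
    (AlgebraTensorModule.cancelBaseChange A A' A' (ResidueField A') L (c ⊗ₜ (a ⊗ₜ l))) = _
  rw [AlgebraTensorModule.cancelBaseChange_tmul]
  rfl

/-- The determinant over `κ'` of multiplication by `l` on `κ' ⊗_{A'} (A' ⊗_A L)` is the image of the
norm of `l`. -/
theorem det_eq_norm [Module.Finite (ResidueField A) L] {S : Type u} [CommRing S] [Algebra A' S]
    [Module S (A' ⊗[A] L)] [IsScalarTower A' S (A' ⊗[A] L)] (s : S) (l : L)
    (hs : ∀ (a : A') (x : L), s • (a ⊗ₜ[A] x : A' ⊗[A] L) = a ⊗ₜ (l * x))
    [Module (ResidueField A') ((A' ⊗[A] L) ⊗[A'] (A' ⧸ maximalIdeal A'))]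
    (c : Compat A' S ((A' ⊗[A] L) ⊗[A'] (A' ⧸ maximalIdeal A'))) :
    LinearMap.det (mulRes c s) =
      algebraMap (ResidueField A) (ResidueField A') (Algebra.norm (ResidueField A) l) := by
  have hsmul : ∀ (b : A') (v : (A' ⊗[A] L) ⊗[A'] (A' ⧸ maximalIdeal A')),
      fibEquiv L (algebraMap A' S b • v) = residue A' b • fibEquiv L v := by
    intro b v
    induction v with
    | zero => simp
    | add x y hx hy => rw [smul_add, map_add, map_add, smul_add, hx, hy]
    | tmul y d =>
      induction y with
      | zero => simp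
      | add x y hx hy => rw [add_tmul, smul_add, map_add, map_add, smul_add, hx, hy]
      | tmul a x =>
        have e1 := fibEquiv_tmul (A := A) (A' := A') L (b * a) x d
        have e2 := fibEquiv_tmul (A := A) (A' := A') L a x d
        rw [smul_tmul', algebraMap_smul, smul_tmul', smul_eq_mul, e1, e2, smul_tmul',
          smul_eq_mul, map_mul]
        exact congrArg (fun z : ResidueField A' => z ⊗ₜ[ResidueField A] x)
          (mul_assoc (residue A' b) (residue A' a) d)
  let e : ((A' ⊗[A] L) ⊗[A'] (A' ⧸ maximalIdeal A')) ≃ₗ[ResidueField A']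
      ResidueField A' ⊗[ResidueField A] L :=
    { fibEquiv (A := A) (A' := A') L with
      map_smul' := by
        intro r v
        obtain ⟨b, rfl⟩ := residue_surjective r
        change fibEquiv L (residue A' b • v) = residue A' b • fibEquiv L v
        rw [c b v, hsmul] }
  have he : ∀ v, e v = fibEquiv L v := fun v => rfl
  rw [← LinearMap.det_conj (mulRes c s) e, Algebra.norm_apply, ← LinearMap.det_baseChange]
  congr 1
  have key : ∀ v, fibEquiv L (s • v) =
      ((LinearMap.mul (ResidueField A) L l).baseChange (ResidueField A')) (fibEquiv L v) := by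
    intro v
    induction v with
    | zero => simp
    | add x y hx hy => rw [smul_add, map_add, map_add, map_add, hx, hy]
    | tmul y d =>
      induction y with
      | zero => simp
      | add x y hx hy => rw [add_tmul, smul_add, map_add, map_add, map_add, hx, hy]
      | tmul a x =>
        have e1 := fibEquiv_tmul (A := A) (A' := A') L a (l * x) d
        have e2 := fibEquiv_tmul (A := A) (A' := A') L a x d
        rw [smul_tmul', hs, e1, e2, LinearMap.baseChange_tmul]
        rfl
  apply LinearMap.ext
  intro x
  obtain ⟨v, rfl⟩ := e.surjective x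
  rw [LinearMap.comp_apply, LinearMap.comp_apply, LinearEquiv.coe_coe, LinearEquiv.coe_coe,
    LinearEquiv.symm_apply_apply]
  exact key v

end norm

end Groth.Agent.CycA.FlatIso
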