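import Groth.Agent.CycA.TrdTensor
import Groth.Agent.CycB.RelDim3
import Groth.Agent.Fdesc.TensorDomain
import Mathlib.AlgebraicGeometry.FunctionField
import Mathlib.AlgebraicGeometry.Pullbacks

/-!
# Transcendence degrees for fibre products over an algebraically closed field: the field case

* `rtd_genericPoint_Spec`: for an injective ring map `φ` from a field to a domain the residue
  transcendence degree of `Spec.map φ` at the generic point is `trd φ`.
* `isIntegral_and_rtd`: `T = Spec L₁ ×_{Spec K} Spec L₂` is integral for `K` algebraically closed,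
  and `rtd (T → Spec K)` at its generic point is `trd φ₁ + trd φ₂`.
-/

set_option autoImplicit false
universe u

open AlgebraicGeometry CategoryTheory Limits TensorProduct
open Groth.Agent.CycB.TrdegAlg Groth.Agent.CycB.RelDim

namespace Groth.Agent.CycA.GenProd

theorem trd_eq_zero_of_fracGen {B L : Type u} [CommRing B] [IsDomain B] [Field L] {ψ : B →+* L}
    (h : FracGen ψ) (hinj : Function.Injective ψ) : trd ψ = 0 := by
  have : (RingHom.ker ψ).IsPrime := RingHom.ker_isPrime ψ
  have e : ψ = (RingHom.kerLift ψ).comp (Ideal.Quotient.mk (RingHom.ker ψ)) := by ext; rfl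
  have h1 : Function.Injective (Ideal.Quotient.mk (RingHom.ker ψ)) := by
    intro a b hab
    apply hinj
    rw [e, RingHom.comp_apply, RingHom.comp_apply, hab]
  rw [e, trd_comp' _ _ h1 (RingHom.kerLift_injective ψ), h.trd_kerLift,
    trd_eq_zero_of_surjective _ h1 Ideal.Quotient.mk_surjective, add_zero]

theorem FracGen.comp_iso {A B : CommRingCat.{u}} {L : Type u} [Field L] {ψ : B →+* L}
    (h : FracGen ψ) (e : A ≅ B) : FracGen (ψ.comp e.hom.hom) := by
  intro z
  obtain ⟨a, b, hb, hab⟩ := h z
  refine ⟨e.inv.hom a, e.inv.hom b, ?_, ?_⟩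
  · rw [RingHom.comp_apply]
    have : e.hom.hom (e.inv.hom b) = b := e.inv_hom_id_apply b
    rwa [this]
  · rw [RingHom.comp_apply, RingHom.comp_apply]
    have h1 : e.hom.hom (e.inv.hom b) = b := e.inv_hom_id_apply b
    have h2 : e.hom.hom (e.inv.hom a) = a := e.inv_hom_id_apply a
    rw [h1, h2, hab]

/-- The map `B → κ(x)` for `x` a point of `Spec B`. -/
noncomputable def toRes (B : CommRingCat.{u}) (x : Spec B) : B ⟶ (Spec B).residueField x :=
  (Scheme.ΓSpecIso B).inv ≫ (Spec B).evaluation ⊤ x trivial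

theorem fracGen_toRes (B : CommRingCat.{u}) (x : Spec B) : FracGen (toRes B x).hom :=
  FracGen.comp_iso (fracGen_evaluation (isAffineOpen_top (Spec B)) x trivial)
    (Scheme.ΓSpecIso B).symm

theorem toRes_genericPoint_injective (B : CommRingCat.{u}) [IsDomain B] :
    Function.Injective (toRes B (genericPoint (Spec B))).hom := by
  have h1 : Function.Injective ((Spec B).evaluation ⊤ (genericPoint (Spec B)) trivial).hom := by
    rw [injective_iff_map_eq_zero]
    intro s hs
    have hker := ker_evaluation (isAffineOpen_top (Spec B)) (genericPoint (Spec B)) trivial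
    have hs' : s ∈ ((isAffineOpen_top (Spec B)).primeIdealOf
        ⟨genericPoint (Spec B), trivial⟩).asIdeal := by
      rw [← hker]; exact hs
    have hne : Nonempty (⊤ : (Spec B).Opens) := ⟨⟨genericPoint (Spec B), trivial⟩⟩
    have h2 := (isAffineOpen_top (Spec B)).primeIdealOf_genericPoint
    rw [h2, genericPoint_eq_bot_of_affine] at hs'
    exact hs'
  exact h1.comp (Scheme.ΓSpecIso B).symm.commRingCatIsoToRingEquiv.injective

theorem toRes_comp {A B : CommRingCat.{u}} (φ : A ⟶ B) (x : Spec B) :
    toRes A (Spec.map φ x) ≫ (Spec.map φ).residueFieldMap x = φ ≫ toRes B x := by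
  unfold toRes
  rw [Category.assoc, evaluation_comp_residueFieldMap (Spec.map φ) ⊤ ⊤ le_top x trivial trivial,
    ← Category.assoc, ← Category.assoc, Scheme.ΓSpecIso_inv_naturality]
  rfl

/-- Residue transcendence degree at the generic point of the spectrum of a domain over a field. -/
theorem rtd_genericPoint_Spec {A B : CommRingCat.{u}} (φ : A ⟶ B) (hA : IsField A) [IsDomain B] :
    rtd (Spec.map φ) (genericPoint (Spec B)) = trd φ.hom := by
  let _ : Field A := hA.toField
  have hinjA : Function.Injective (toRes A (Spec.map φ (genericPoint (Spec B)))).hom :=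
    (toRes A (Spec.map φ (genericPoint (Spec B)))).hom.injective
  have hφ : Function.Injective φ.hom := φ.hom.injective
  have hB := toRes_genericPoint_injective B
  have h := congrArg CommRingCat.Hom.hom (toRes_comp φ (genericPoint (Spec B)))
  rw [CommRingCat.hom_comp, CommRingCat.hom_comp] at h
  have h1 := trd_comp' (toRes A (Spec.map φ (genericPoint (Spec B)))).hom
    ((Spec.map φ).residueFieldMap (genericPoint (Spec B))).hom hinjA
    ((Spec.map φ).residueFieldMap (genericPoint (Spec B))).hom.injective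
  have h2 := trd_comp' φ.hom (toRes B (genericPoint (Spec B))).hom hφ hB
  rw [trd_eq_zero_of_fracGen (fracGen_toRes _ _) hinjA, zero_add] at h1
  rw [trd_eq_zero_of_fracGen (fracGen_toRes _ _) hB, add_zero] at h2
  unfold rtd
  rw [← h1, ← h2, h]

/-- `rtd` at the generic point is invariant under isomorphisms. -/
theorem rtd_genericPoint_iso {T T' S : Scheme.{u}} [IsIntegral T] [IsIntegral T'] (e : T ≅ T')
    (h : T' ⟶ S) : rtd (e.hom ≫ h) (genericPoint T) = rtd h (genericPoint T') := by
  rw [rtd_comp, rtd_eq_zero_of_isPreimmersion e.hom, add_zero,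
    genericPoint_eq_of_isOpenImmersion e.hom]

/-- The fibre product of two fields over an algebraically closed field is integral, and the
transcendence degree of its function field is the sum of the transcendence degrees. -/
theorem isIntegral_and_rtd {K : Type u} [Field K] [IsAlgClosed K] {L₁ L₂ : CommRingCat.{u}}
    (h₁ : IsField L₁) (h₂ : IsField L₂) {T : Scheme.{u}} {a : T ⟶ Spec L₁} {b : T ⟶ Spec L₂}
    (φ₁ : CommRingCat.of K ⟶ L₁) (φ₂ : CommRingCat.of K ⟶ L₂)
    (H : IsPullback a b (Spec.map φ₁) (Spec.map φ₂)) :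
    ∃ _ : IsIntegral T,
      rtd (a ≫ Spec.map φ₁) (genericPoint T) = trd φ₁.hom + trd φ₂.hom := by
  let _ : Algebra K L₁ := φ₁.hom.toAlgebra
  let _ : Algebra K L₂ := φ₂.hom.toAlgebra
  have : IsDomain L₁ := h₁.isDomain
  have : IsDomain L₂ := h₂.isDomain
  have hD : IsDomain (L₁ ⊗[K] L₂) := Groth.Agent.Fdesc.TensorDomain.isDomain_tensorProduct
  have hD' : IsDomain (CommRingCat.of (L₁ ⊗[K] L₂)) := hD
  let e : T ≅ Spec (CommRingCat.of (L₁ ⊗[K] L₂)) := H.isoPullback ≪≫ pullbackSpecIso K L₁ L₂
  have : Nonempty T := ⟨e.inv (genericPoint (Spec (CommRingCat.of (L₁ ⊗[K] L₂))))⟩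
  have hT : IsIntegral T := isIntegral_of_isOpenImmersion e.hom
  refine ⟨hT, ?_⟩
  let ψ : CommRingCat.of K ⟶ CommRingCat.of (L₁ ⊗[K] L₂) :=
    CommRingCat.ofHom (algebraMap K (L₁ ⊗[K] L₂))
  have he : e.hom ≫ Spec.map ψ = a ≫ Spec.map φ₁ := by
    rw [← Iso.eq_inv_comp]
    have : e.inv ≫ a = Spec.map (CommRingCat.ofHom
        (algebraMap L₁ (L₁ ⊗[K] L₂))) := by
      simp only [e, Iso.trans_inv, Category.assoc, IsPullback.isoPullback_inv_fst]
      exact pullbackSpecIso_inv_fst' K L₁ L₂
    rw [← Category.assoc, this, ← Spec.map_comp]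
    rfl
  rw [← he, rtd_genericPoint_iso e, rtd_genericPoint_Spec ψ (Field.toIsField K)]
  exact Groth.Agent.CycA.TrdTensor.trdeg_tensor_add L₁ L₂

end Groth.Agent.CycA.GenProd
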