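import Groth.Agent.CycA.GenProd
import Groth.Agent.Flat2D.PbStalk

/-!
# The fibre of `P → X × Y` over a pair of points

For `p : P ⟶ X`, `q : P ⟶ Y`, `fib2 p q x y` is the fibre of `(p, q)` over `(x, y)`, with its
preimmersion `fib2ι` into `P`.

* `range_fib2ι`, `ker_fib2ι_stalkMap`: the image is `{z | p z = x ∧ q z = y}`, the stalk map is
  surjective with kernel `m_x O_z + m_y O_z`.
* `fib2_isPullback`: if `P = X ×_S Y` then `fib2` is the fibre product of the residue fields.
* for `S = Spec K`, `K` algebraically closed: `fib2` is integral, `gen2 H x y` is (the image of)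
  its generic point; `rtd (p ≫ f) (gen2 H x y) = rtd f x + rtd g y`.
-/

set_option autoImplicit false
universe u

open AlgebraicGeometry CategoryTheory Limits
open Groth.Agent.CycB.TrdegAlg Groth.Agent.CycB.RelDim Groth.Agent.Flat2D.PbStalk

namespace Groth.Agent.CycA.GenProd

section general

variable {X Y P S : Scheme.{u}} (p : P ⟶ X) (q : P ⟶ Y) (x : X) (y : Y)

/-- The fibre of `(p, q)` over `(x, y)`. -/
noncomputable abbrev fib2 : Scheme.{u} := (p.fiberι x ≫ q).fiber y

/-- The inclusion of the fibre of `(p, q)` over `(x, y)`. -/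
noncomputable abbrev fib2ι : fib2 p q x y ⟶ P := (p.fiberι x ≫ q).fiberι y ≫ p.fiberι x

instance : IsPreimmersion (fib2ι p q x y) := by
  unfold fib2ι
  infer_instance

theorem range_fib2ι : Set.range (fib2ι p q x y) = {z | p z = x ∧ q z = y} := by
  ext z
  constructor
  · rintro ⟨t, rfl⟩
    constructor
    · have : p.fiberι x ((p.fiberι x ≫ q).fiberι y t) ∈ Set.range (p.fiberι x) := ⟨_, rfl⟩
      rw [Scheme.Hom.range_fiberι] at this
      exact this
    · have : (p.fiberι x ≫ q).fiberι y t ∈ Set.range ((p.fiberι x ≫ q).fiberι y) := ⟨_, rfl⟩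
      rw [Scheme.Hom.range_fiberι] at this
      exact this
  · rintro ⟨hx, hy⟩
    have h1 : z ∈ Set.range (p.fiberι x) := by
      rw [Scheme.Hom.range_fiberι]; exact hx
    obtain ⟨w, rfl⟩ := h1
    have h2 : w ∈ Set.range ((p.fiberι x ≫ q).fiberι y) := by
      rw [Scheme.Hom.range_fiberι]; exact hy
    obtain ⟨t, rfl⟩ := h2
    exact ⟨t, rfl⟩

theorem p_fib2ι (t : fib2 p q x y) : p (fib2ι p q x y t) = x :=
  ((range_fib2ι p q x y).le ⟨t, rfl⟩).1

theorem q_fib2ι (t : fib2 p q x y) : q (fib2ι p q x y t) = y :=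
  ((range_fib2ι p q x y).le ⟨t, rfl⟩).2

/-- The ideal `m_{p z} O_z + m_{q z} O_z`. -/
noncomputable abbrev ideal2 (z : P) : Ideal (P.presheaf.stalk z) :=
  (IsLocalRing.maximalIdeal (X.presheaf.stalk (p z))).map (p.stalkMap z).hom ⊔
    (IsLocalRing.maximalIdeal (Y.presheaf.stalk (q z))).map (q.stalkMap z).hom

theorem ker_comp_eq {A B C : Type*} [CommRing A] [CommRing B] [CommRing C] (α : A →+* B)
    (β : B →+* C) (hα : Function.Surjective α) (I J : Ideal A) (hI : RingHom.ker α = I)
    (hJ : RingHom.ker β = J.map α) : RingHom.ker (β.comp α) = I ⊔ J := by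
  rw [← RingHom.comap_ker, hJ, Ideal.comap_map_of_surjective' _ hα, hI, sup_comm]

theorem ker_aux (w : p.fiber x) (t : (p.fiberι x ≫ q).fiber y)
    (hw : (p.fiberι x ≫ q).fiberι y t = w) :
    RingHom.ker (stalkTo ((p.fiberι x ≫ q).fiberι y) t hw).hom =
      (fiberIdeal q (p.fiberι x w)).map ((p.fiberι x).stalkMap w).hom := by
  subst hw
  rw [stalkTo_rfl, ker_fiberι_stalkMap]
  unfold fiberIdeal
  have e2 : (p.fiberι x ≫ q).stalkMap ((p.fiberι x ≫ q).fiberι y t) =
      q.stalkMap (p.fiberι x ((p.fiberι x ≫ q).fiberι y t)) ≫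
        (p.fiberι x).stalkMap ((p.fiberι x ≫ q).fiberι y t) :=
    Scheme.Hom.stalkMap_comp _ _ _
  rw [e2, Ideal.map_map]
  rfl

theorem ker_fib2ι_stalkMap (t : fib2 p q x y) :
    RingHom.ker ((fib2ι p q x y).stalkMap t).hom = ideal2 p q (fib2ι p q x y t) := by
  have e : (fib2ι p q x y).stalkMap t =
      (p.fiberι x).stalkMap ((p.fiberι x ≫ q).fiberι y t) ≫
        ((p.fiberι x ≫ q).fiberι y).stalkMap t := Scheme.Hom.stalkMap_comp _ _ _
  refine (congrArg (fun φ => RingHom.ker (CommRingCat.Hom.hom φ)) e).trans ?_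
  refine ker_comp_eq _ _ (fiberι_stalkMap_surjective p x _) _ _ (ker_fiberι_stalkMap p x _) ?_
  have := ker_aux p q x y _ t rfl
  rw [stalkTo_rfl] at this
  exact this

theorem fib2_isPullback {f : X ⟶ S} {g : Y ⟶ S} {p : P ⟶ X} {q : P ⟶ Y}
    (H : IsPullback p q f g) (x : X) (y : Y) :
    IsPullback ((p.fiberι x ≫ q).fiberι y ≫ p.fiberToSpecResidueField x)
      ((p.fiberι x ≫ q).fiberToSpecResidueField y)
      (X.fromSpecResidueField x ≫ f) (Y.fromSpecResidueField y ≫ g) := by
  have h1 : IsPullback (p.fiberι x) (p.fiberToSpecResidueField x) p (X.fromSpecResidueField x) :=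
    IsPullback.of_hasPullback p (X.fromSpecResidueField x)
  have h2 : IsPullback (p.fiberι x ≫ q) (p.fiberToSpecResidueField x) g
      (X.fromSpecResidueField x ≫ f) :=
    (h1.flip.paste_vert H.flip.flip).flip
  have h3 : IsPullback ((p.fiberι x ≫ q).fiberι y) ((p.fiberι x ≫ q).fiberToSpecResidueField y)
      (p.fiberι x ≫ q) (Y.fromSpecResidueField y) :=
    IsPullback.of_hasPullback (p.fiberι x ≫ q) (Y.fromSpecResidueField y)
  exact (h3.flip.paste_vert h2).flip

end general

section algClosed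

variable {K : Type u} [Field K] {X Y P : Scheme.{u}}
  {f : X ⟶ Spec (CommRingCat.of K)} {g : Y ⟶ Spec (CommRingCat.of K)} {p : P ⟶ X} {q : P ⟶ Y}

theorem trd_eq_rtd (f : X ⟶ Spec (CommRingCat.of K)) (x : X)
    (φ : CommRingCat.of K ⟶ X.residueField x)
    (hφ : Spec.map φ = X.fromSpecResidueField x ≫ f) : trd φ.hom = rtd f x := by
  rw [← rtd_genericPoint_Spec φ (Field.toIsField K), hφ, rtd_comp,
    rtd_eq_zero_of_isPreimmersion (X.fromSpecResidueField x), add_zero]
  congr 1
  have : X.fromSpecResidueField x (genericPoint (Spec (X.residueField x))) ∈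
      Set.range (X.fromSpecResidueField x) := ⟨_, rfl⟩
  rw [Scheme.range_fromSpecResidueField] at this
  exact this

variable [IsAlgClosed K] (H : IsPullback p q f g) (x : X) (y : Y)

include H in
theorem fib2_aux : ∃ _ : IsIntegral (fib2 p q x y),
    rtd (fib2ι p q x y ≫ p ≫ f) (genericPoint (fib2 p q x y)) = rtd f x + rtd g y := by
  obtain ⟨φ₁, h₁⟩ := Spec.map_surjective (X.fromSpecResidueField x ≫ f)
  obtain ⟨φ₂, h₂⟩ := Spec.map_surjective (Y.fromSpecResidueField y ≫ g)
  have H' := fib2_isPullback H x y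
  rw [← h₁, ← h₂] at H'
  obtain ⟨hT, h⟩ := isIntegral_and_rtd (Field.toIsField _) (Field.toIsField _) φ₁ φ₂ H'
  refine ⟨hT, ?_⟩
  rw [trd_eq_rtd f x φ₁ h₁, trd_eq_rtd g y φ₂ h₂] at h
  rw [← h, h₁]
  congr 1
  unfold fib2ι
  rw [Category.assoc, Category.assoc, ← Category.assoc (p.fiberι x), Scheme.Hom.fiber_fac,
    Category.assoc]

include H in
theorem isIntegral_fib2 : IsIntegral (fib2 p q x y) := (fib2_aux H x y).1

/-- The generic point of the fibre of `X ×_K Y` over `(x, y)`. -/
noncomputable def gen2 : P :=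
  haveI := isIntegral_fib2 H x y
  fib2ι p q x y (genericPoint (fib2 p q x y))

theorem p_gen2 : p (gen2 H x y) = x := p_fib2ι p q x y _

theorem q_gen2 : q (gen2 H x y) = y := q_fib2ι p q x y _

theorem gen2_specializes {z : P} (hx : p z = x) (hy : q z = y) : gen2 H x y ⤳ z := by
  haveI := isIntegral_fib2 H x y
  have : z ∈ Set.range (fib2ι p q x y) := by
    rw [range_fib2ι]; exact ⟨hx, hy⟩
  obtain ⟨t, rfl⟩ := this
  exact (genericPoint_specializes t).map (fib2ι p q x y).continuous

theorem rtd_gen2 : rtd (p ≫ f) (gen2 H x y) = rtd f x + rtd g y := by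
  obtain ⟨hT, h⟩ := fib2_aux H x y
  rw [rtd_comp, rtd_eq_zero_of_isPreimmersion (fib2ι p q x y), add_zero] at h
  exact h

theorem isField_stalk_genericPoint (T : Scheme.{u}) [IsIntegral T] :
    IsField (T.presheaf.stalk (genericPoint T)) := Field.toIsField T.functionField

theorem ideal2_gen2 : ideal2 p q (gen2 H x y) =
    IsLocalRing.maximalIdeal (P.presheaf.stalk (gen2 H x y)) := by
  haveI := isIntegral_fib2 H x y
  have h1 := ker_fib2ι_stalkMap p q x y (genericPoint (fib2 p q x y))
  have hsurj := (fib2ι p q x y).stalkMap_surjective (genericPoint (fib2 p q x y))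
  have hf := isField_stalk_genericPoint (fib2 p q x y)
  have hmax : (RingHom.ker ((fib2ι p q x y).stalkMap
      (genericPoint (fib2 p q x y))).hom).IsMaximal :=
    let _ := hf.toField
    RingHom.ker_isMaximal_of_surjective ((fib2ι p q x y).stalkMap
      (genericPoint (fib2 p q x y))).hom hsurj
  rw [h1] at hmax
  exact IsLocalRing.eq_maximalIdeal hmax

/-- The length of `O_z / (m_x + m_y)` at the generic point over `(x, y)` is one. -/
theorem length_gen2 : Module.length (P.presheaf.stalk (gen2 H x y))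
    (P.presheaf.stalk (gen2 H x y) ⧸ ideal2 p q (gen2 H x y)) = 1 := by
  rw [Module.length_eq_one_iff, isSimpleModule_iff_quot_maximal]
  exact ⟨_, IsLocalRing.maximalIdeal.isMaximal _, ⟨Submodule.quotEquivOfEq _ _ (ideal2_gen2 H x y)⟩⟩

section delta

variable {δX : X → ℤ} {δY : Y → ℤ} {δ : P → ℤ} (hX : Cyc.DeltaCompat f δX (fun _ => 0))
  (hY : Cyc.DeltaCompat g δY (fun _ => 0)) (hP : Cyc.DeltaCompat (p ≫ f) δ (fun _ => 0))

include hX hY hP in
theorem delta_gen2 : δ (gen2 H x y) = δX x + δY y := by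
  obtain ⟨n, hn, hn'⟩ := (deltaCompat_iff.mp hX) x
  obtain ⟨m, hm, hm'⟩ := (deltaCompat_iff.mp hY) y
  obtain ⟨l, hl, hl'⟩ := (deltaCompat_iff.mp hP) (gen2 H x y)
  rw [rtd_gen2 H x y, hn, hm] at hl
  have : n + m = l := by exact_mod_cast hl
  rw [hn', hm', hl', ← this]
  push_cast
  ring

include H hX hY hP in
theorem delta_lt_or_eq [LocallyOfFiniteType f] [LocallyOfFiniteType g] (z : P) :
    δ z < δX (p z) + δY (q z) ∨ z = gen2 H (p z) (q z) := by
  by_cases h : gen2 H (p z) (q z) = z
  · exact Or.inr h.symm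
  · left
    have : LocallyOfFiniteType p := MorphismProperty.of_isPullback H.flip ‹LocallyOfFiniteType g›
    have h1 := gen2_specializes H (p z) (q z) (z := z) rfl rfl
    have h2 := rtd_lt_of_specializes (p ≫ f) h1 h (Subsingleton.elim _ _)
    rw [← delta_gen2 H (p z) (q z) hX hY hP]
    obtain ⟨n, hn, hn'⟩ := (deltaCompat_iff.mp hP) z
    obtain ⟨m, hm, hm'⟩ := (deltaCompat_iff.mp hP) (gen2 H (p z) (q z))
    rw [hn, hm] at h2
    have : n < m := by exact_mod_cast h2
    rw [hn', hm']
    omega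

include H hX hY hP in
theorem delta_le2 [LocallyOfFiniteType f] [LocallyOfFiniteType g] (z : P) :
    δ z ≤ δX (p z) + δY (q z) := by
  rcases delta_lt_or_eq H hX hY hP z with h | h
  · exact h.le
  · rw [h, delta_gen2 H _ _ hX hY hP, p_gen2, q_gen2]

include hX hY hP in
theorem eq_gen2_iff [LocallyOfFiniteType f] [LocallyOfFiniteType g] (z : P) :
    δ z = δX (p z) + δY (q z) ↔ z = gen2 H (p z) (q z) := by
  constructor
  · intro h
    rcases delta_lt_or_eq H hX hY hP z with h' | h'
    · omega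
    · exact h'
  · intro h
    have h2 := delta_gen2 H (p z) (q z) hX hY hP
    rw [← h] at h2
    exact h2

include H hX hY hP in
theorem length_eq_one [LocallyOfFiniteType f] [LocallyOfFiniteType g] (z : P)
    (hz : δ z = δX (p z) + δY (q z)) :
    Module.length (P.presheaf.stalk z) (P.presheaf.stalk z ⧸ ideal2 p q z) = 1 := by
  have h := (eq_gen2_iff H hX hY hP z).mp hz
  generalize p z = x' at h
  generalize q z = y' at h
  subst h
  exact length_gen2 H x' y'

end delta

end algClosed

end Groth.Agent.CycA.GenProd
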