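import Groth.Agent.CycA.GenProd2
import Groth.Agent.Fdesc.GeomAlgClosed
import Groth.Agent.CycA.ClosurePt

/-!
# Products with an irreducible scheme over an algebraically closed field

* `gen2_genericPoint_specializes`: for `Y` irreducible with generic point `ζ`,
  `gen2 H (p z) ζ ⤳ z`.
* `hasRelDim_fst`: `X ×_K Y → X` has relative dimension `rtd g ζ`.
-/

set_option autoImplicit false
universe u

open AlgebraicGeometry CategoryTheory Limits
open Groth.Agent.CycB.TrdegAlg Groth.Agent.CycB.RelDim Groth.Agent.Flat2D.PbStalk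

namespace Groth.Agent.CycA.GenProd

variable {K : Type u} [Field K] [IsAlgClosed K] {X Y P : Scheme.{u}}
  {f : X ⟶ Spec (CommRingCat.of K)} {g : Y ⟶ Spec (CommRingCat.of K)} {p : P ⟶ X} {q : P ⟶ Y}
  (H : IsPullback p q f g)

theorem gen2_genericPoint_specializes [IrreducibleSpace Y] (z : P) :
    gen2 H (p z) (genericPoint Y) ⤳ z := by
  have : GeometricallyIrreducible g :=
    Groth.Agent.Fdesc.GeomAlgClosed.geometricallyIrreducible_of_irreducibleSpace g
  have : GeometricallyIrreducible p := MorphismProperty.of_isPullback H.flip this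
  have hirr : IrreducibleSpace (p.fiber (p z)) := inferInstance
  have h1 : IsPullback (p.fiberι (p z)) (p.fiberToSpecResidueField (p z)) p
      (X.fromSpecResidueField (p z)) :=
    IsPullback.of_hasPullback p (X.fromSpecResidueField (p z))
  have h2 : IsPullback (p.fiberι (p z) ≫ q) (p.fiberToSpecResidueField (p z)) g
      (X.fromSpecResidueField (p z) ≫ f) :=
    (h1.flip.paste_vert H.flip.flip).flip
  have hfl : Flat (p.fiberι (p z) ≫ q) :=
    MorphismProperty.of_isPullback h2.flip inferInstance
  let ω := genericPoint (p.fiber (p z))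
  have h3 : (p.fiberι (p z) ≫ q) ω = genericPoint Y := by
    obtain ⟨ω', h, h'⟩ := exists_specializes_of_flat (p.fiberι (p z) ≫ q)
      (genericPoint_specializes ((p.fiberι (p z) ≫ q) ω))
    have : ω' = ω := (h.antisymm (genericPoint_specializes ω')).eq
    rw [← this, h']
  have h4 : p (p.fiberι (p z) ω) = p z := by
    have : p.fiberι (p z) ω ∈ Set.range (p.fiberι (p z)) := ⟨_, rfl⟩
    rw [Scheme.Hom.range_fiberι] at this
    exact this
  have h5 : p.fiberι (p z) ω ⤳ z := by
    have hz : z ∈ Set.range (p.fiberι (p z)) := by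
      rw [Scheme.Hom.range_fiberι]; rfl
    obtain ⟨w, hw⟩ := hz
    have := (genericPoint_specializes w).map (p.fiberι (p z)).continuous
    rw [hw] at this
    exact this
  exact (gen2_specializes H (p z) (genericPoint Y) h4 h3).trans h5

/-- For `Y` irreducible, a point of `X ×_K Y` is generic in its fibre over `X` iff it is
`gen2 (p z) ζ`. -/
theorem eq_gen2_of_fibGeneric [IrreducibleSpace Y] (z : P) (hz : FibGeneric p z) :
    z = gen2 H (p z) (genericPoint Y) :=
  (hz _ (p_gen2 H _ _) (gen2_genericPoint_specializes H z)).symm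

theorem rtd_fst_gen2 [LocallyOfFiniteType f] (x : X) (y : Y) :
    rtd p (gen2 H x y) = rtd g y := by
  have h1 := rtd_gen2 H x y
  rw [rtd_comp] at h1
  have h2 : rtd f (p (gen2 H x y)) = rtd f x := by rw [p_gen2]
  rw [h2] at h1
  exact Cardinal.eq_of_add_eq_add_left h1 (rtd_lt_aleph0 f x)

include H in
/-- `X ×_K Y → X` has relative dimension the dimension of `Y`. -/
theorem hasRelDim_fst [IrreducibleSpace Y] [LocallyOfFiniteType f] [LocallyOfFiniteType g] (s : ℕ)
    (hs : rtd g (genericPoint Y) = s) : Cyc.HasRelDim p s := by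
  have : LocallyOfFiniteType p := MorphismProperty.of_isPullback H.flip ‹LocallyOfFiniteType g›
  rw [hasRelDim_iff]
  intro z hz
  have h := eq_gen2_of_fibGeneric H z hz
  generalize p z = x' at h
  subst h
  rw [rtd_fst_gen2, hs]

/-- The closure of `gen2 H x y` is the product of the closures. -/
theorem gen2_specializes_iff (x : X) (y : Y) (z : P) :
    gen2 H x y ⤳ z ↔ x ⤳ p z ∧ y ⤳ q z := by
  constructor
  · intro h
    have h1 := h.map p.continuous
    have h2 := h.map q.continuous
    rw [p_gen2] at h1
    rw [q_gen2] at h2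
    exact ⟨h1, h2⟩
  · rintro ⟨hx, hy⟩
    obtain ⟨Z, i, hi, hZ, hζ, hrange⟩ := Groth.Agent.CycA.ClosurePt.exists_closure_subscheme y
    have H' : IsPullback (pullback.fst q i ≫ p) (pullback.snd q i) f (i ≫ g) :=
      ((IsPullback.of_hasPullback q i).flip.paste_vert H.flip).flip
    have hz : z ∈ Set.range (pullback.fst q i) := by
      rw [Scheme.Pullback.range_fst, Set.mem_preimage, hrange]
      exact specializes_iff_mem_closure.mp hy
    obtain ⟨w, rfl⟩ := hz
    have hfl : Flat (pullback.fst q i ≫ p) :=
      MorphismProperty.of_isPullback H'.flip inferInstance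
    obtain ⟨w', hw', hw''⟩ := exists_specializes_of_flat (pullback.fst q i ≫ p) (x := w) hx
    have h1 := (gen2_genericPoint_specializes H' w').trans hw'
    rw [hw''] at h1
    have h2 := h1.map (pullback.fst q i).continuous
    refine (gen2_specializes H x y ?_ ?_).trans h2
    · exact p_gen2 H' x (genericPoint Z)
    · have e : (pullback.fst q i ≫ q) (gen2 H' x (genericPoint Z)) =
          (pullback.snd q i ≫ i) (gen2 H' x (genericPoint Z)) := by rw [pullback.condition]
      refine e.trans ?_
      have h3 : pullback.snd q i (gen2 H' x (genericPoint Z)) = genericPoint Z := q_gen2 H' _ _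
      have h4 : (pullback.snd q i ≫ i) (gen2 H' x (genericPoint Z)) =
        i (pullback.snd q i (gen2 H' x (genericPoint Z))) := rfl
      rw [h4, h3, hζ]

end Groth.Agent.CycA.GenProd
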