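import Groth.Agent.CycA.LocLen
import Groth.Prelude.Def_CycDet
import Mathlib.RingTheory.Ideal.AssociatedPrime.Localization

/-!
# Good sequences in the sense of Stacks Tag 02QC

Elementary facts on `CycDet.spanBefore` and the two halves of Tag 02QC.
-/

set_option autoImplicit false
universe u v w

open Submodule Groth.Agent.CycA.LocLen

namespace Groth.Agent.CycA.GoodSeq

variable {R : Type u} [CommRing R] {M : Type v} [AddCommGroup M] [Module R M]

set_option backward.isDefEq.respectTransparency false in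
theorem quot_equiv {N₁ N₂ : Submodule R M} {x : M} (hx' : N₂ = N₁ ⊔ span R {x}) :
    Nonempty ((↥N₂ ⧸ N₁.submoduleOf N₂) ≃ₗ[R]
      (R ⧸ (⊥ : Submodule R (M ⧸ N₁)).colon {N₁.mkQ x})) := by
  have hxN₂ : x ∈ N₂ := (le_sup_right.trans_eq hx'.symm) (mem_span_singleton_self x)
  refine ⟨.symm (.ofBijective (Submodule.mapQ _ _ (LinearMap.toSpanSingleton R _ ⟨x, hxN₂⟩) ?_)
    ⟨?_, ?_⟩)⟩
  · simp [SetLike.le_def, ← Quotient.mk_smul, submoduleOf]
  · refine LinearMap.ker_eq_bot.mp (ker_liftQ_eq_bot _ _ _ ?_)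
    simp [← Quotient.mk_smul, SetLike.le_def, submoduleOf]
  · rw [mapQ, ← LinearMap.range_eq_top, range_liftQ, LinearMap.range_comp]
    have := congr($(hx').submoduleOf N₂)
    rw [submoduleOf_self, submoduleOf_sup_of_le (by simp_all) (by simp_all),
      LinearMap.submoduleOf_span_singleton_of_mem _ hxN₂] at this
    simpa [← LinearMap.span_singleton_eq_range, LinearMap.range_toSpanSingleton] using this.symm

end Groth.Agent.CycA.GoodSeq

namespace Groth.Agent.CycA.GoodSeq

section spanBefore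

variable {R : Type u} [CommRing R] {M : Type v} [AddCommGroup M] [Module R M]

theorem spanBefore_zero {l : ℕ} (x : Fin l → M) : CycDet.spanBefore R M x 0 = ⊥ := by
  simp [CycDet.spanBefore]

theorem spanBefore_mono {l : ℕ} (x : Fin l → M) {i j : ℕ} (h : i ≤ j) :
    CycDet.spanBefore R M x i ≤ CycDet.spanBefore R M x j :=
  Submodule.span_mono (Set.image_mono fun _ hk => lt_of_lt_of_le hk h)

theorem spanBefore_top {l : ℕ} (x : Fin l → M) {i : ℕ} (h : l ≤ i) :
    CycDet.spanBefore R M x i = Submodule.span R (Set.range x) := by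
  rw [CycDet.spanBefore]
  congr 1
  ext y
  constructor
  · rintro ⟨j, -, rfl⟩
    exact ⟨j, rfl⟩
  · rintro ⟨j, rfl⟩
    exact ⟨j, lt_of_lt_of_le j.2 h, rfl⟩

theorem spanBefore_succ {l : ℕ} (x : Fin l → M) (i : Fin l) :
    CycDet.spanBefore R M x (i + 1) = CycDet.spanBefore R M x i ⊔ Submodule.span R {x i} := by
  rw [CycDet.spanBefore, CycDet.spanBefore, ← Submodule.span_union]
  congr 1
  ext y
  constructor
  · rintro ⟨j, hj, rfl⟩
    rcases Nat.lt_succ_iff_lt_or_eq.mp (show (j : ℕ) < (i : ℕ) + 1 from hj) with h | h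
    · exact Or.inl ⟨j, h, rfl⟩
    · right
      rw [Fin.ext h]
      rfl
  · rintro (⟨j, hj, rfl⟩ | hy)
    · exact ⟨j, Nat.lt_succ_of_lt hj, rfl⟩
    · rw [Set.mem_singleton_iff] at hy
      exact ⟨i, Nat.lt_succ_self _, hy.symm⟩

theorem spanBefore_snoc {l : ℕ} (x : Fin l → M) (y : M) {i : ℕ} (h : i ≤ l) :
    CycDet.spanBefore R M (Fin.snoc x y : Fin (l + 1) → M) i = CycDet.spanBefore R M x i := by
  rw [CycDet.spanBefore, CycDet.spanBefore]
  congr 1
  ext z
  constructor
  · rintro ⟨j, hj, rfl⟩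
    have hj' : (j : ℕ) < i := hj
    have hjl : (j : ℕ) < l := lt_of_lt_of_le hj' h
    refine ⟨⟨j, hjl⟩, hj', ?_⟩
    exact (Fin.snoc_castSucc (α := fun _ => M) y x ⟨j, hjl⟩).symm
  · rintro ⟨j, hj, rfl⟩
    exact ⟨j.castSucc, hj, by rw [Fin.snoc_castSucc]⟩

end spanBefore

section length

variable {R : Type u} [CommRing R] {M : Type v} [AddCommGroup M] [Module R M]

/-- Length of the localizations of the partial spans of a good sequence. -/
theorem length_loc_spanBefore (q : Ideal R) [q.IsPrime] {l : ℕ} (x : Fin l → M)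
    (h : ∀ i : Fin l, Nonempty ((↥(CycDet.spanBefore R M x (i + 1)) ⧸
      (CycDet.spanBefore R M x i).submoduleOf (CycDet.spanBefore R M x (i + 1))) ≃ₗ[R] (R ⧸ q)))
    (i : ℕ) (hi : i ≤ l) :
    Module.length (Localization.AtPrime q)
      (LocalizedModule q.primeCompl ↥(CycDet.spanBefore R M x i)) = i := by
  induction i with
  | zero =>
    have : Subsingleton ↥(CycDet.spanBefore R M x 0) := by
      rw [spanBefore_zero]; infer_instance
    rw [Module.length_eq_zero]
    rfl
  | succ i ih =>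
    obtain ⟨e⟩ := h ⟨i, hi⟩
    have hle : CycDet.spanBefore R M x i ≤ CycDet.spanBefore R M x (i + 1) :=
      spanBefore_mono x (Nat.le_succ i)
    rw [length_loc_add (M := ↥(CycDet.spanBefore R M x (i + 1))) q (Submodule.inclusion hle)
      ((CycDet.spanBefore R M x i).submoduleOf (CycDet.spanBefore R M x (i + 1))).mkQ
      (Submodule.inclusion_injective hle) (Submodule.mkQ_surjective _) ?_, ih (Nat.le_of_succ_le hi),
      length_loc_equiv (M := R ⧸ q) q e, length_loc_quotient_self]
    · rfl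
    · rw [LinearMap.exact_iff, Submodule.ker_mkQ, Submodule.range_inclusion]
      rfl

theorem length_loc_eq_of_good (q : PrimeSpectrum R) {l : ℕ} (x : Fin l → M)
    (hx : q ∉ Module.support R (M ⧸ Submodule.span R (Set.range x)))
    (h : ∀ i : Fin l, Nonempty ((↥(CycDet.spanBefore R M x (i + 1)) ⧸
      (CycDet.spanBefore R M x i).submoduleOf (CycDet.spanBefore R M x (i + 1))) ≃ₗ[R]
      (R ⧸ q.asIdeal))) :
    (l : ℕ∞) = Module.length (Localization.AtPrime q.asIdeal)
      (LocalizedModule q.asIdeal.primeCompl M) := by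
  rw [length_loc_add q.asIdeal (Submodule.span R (Set.range x)).subtype
    (Submodule.span R (Set.range x)).mkQ (Submodule.subtype_injective _)
    (Submodule.mkQ_surjective _) (LinearMap.exact_subtype_mkQ _),
    (length_loc_eq_zero_iff q).mpr hx, add_zero, ← spanBefore_top x le_rfl,
    length_loc_spanBefore q.asIdeal x h l le_rfl]

end length

section existence

variable {R : Type u} [CommRing R] {M : Type v} [AddCommGroup M] [Module R M]

/-- Extend a good sequence. -/
theorem good_snoc (q : Ideal R) {l : ℕ} (x : Fin l → M) (y : M)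
    (h : ∀ i : Fin l, Nonempty ((↥(CycDet.spanBefore R M x (i + 1)) ⧸
      (CycDet.spanBefore R M x i).submoduleOf (CycDet.spanBefore R M x (i + 1))) ≃ₗ[R] (R ⧸ q)))
    (hy : q = (⊥ : Submodule R (M ⧸ Submodule.span R (Set.range x))).colon
      {(Submodule.span R (Set.range x)).mkQ y}) :
    ∀ i : Fin (l + 1), Nonempty ((↥(CycDet.spanBefore R M (Fin.snoc x y : Fin (l + 1) → M) (i + 1)) ⧸
      (CycDet.spanBefore R M (Fin.snoc x y : Fin (l + 1) → M) i).submoduleOf
        (CycDet.spanBefore R M (Fin.snoc x y : Fin (l + 1) → M) (i + 1))) ≃ₗ[R] (R ⧸ q)) := by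
  intro i
  rcases Nat.lt_succ_iff_lt_or_eq.mp i.2 with hi | hi
  · rw [spanBefore_snoc x y (i := i + 1) hi, spanBefore_snoc x y (i := i) hi.le]
    exact h ⟨i, hi⟩
  · have h1 := spanBefore_succ (R := R) (Fin.snoc x y : Fin (l + 1) → M) i
    have h2 : (Fin.snoc x y : Fin (l + 1) → M) i = y := by
      have : i = Fin.last l := Fin.ext hi
      rw [this, Fin.snoc_last]
    rw [h2] at h1
    have h3 : CycDet.spanBefore R M (Fin.snoc x y : Fin (l + 1) → M) i =
        Submodule.span R (Set.range x) := by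
      rw [spanBefore_snoc x y hi.le, spanBefore_top x hi.ge]
    rw [h3] at h1 ⊢
    obtain ⟨e⟩ := quot_equiv h1
    exact ⟨e.trans (Submodule.quotEquivOfEq _ _ hy.symm)⟩

theorem exists_good [IsNoetherianRing R] [Module.Finite R M] (q : PrimeSpectrum R)
    (hq : Minimal (fun p : PrimeSpectrum R => p ∈ Module.support R M) q) :
    ∃ (l : ℕ) (x : Fin l → M), q ∉ Module.support R (M ⧸ Submodule.span R (Set.range x)) ∧
      ∀ i : Fin l, Nonempty ((↥(CycDet.spanBefore R M x (i + 1)) ⧸
      (CycDet.spanBefore R M x i).submoduleOf (CycDet.spanBefore R M x (i + 1))) ≃ₗ[R]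
      (R ⧸ q.asIdeal)) := by
  let S : Set (Submodule R M) := {N | ∃ (l : ℕ) (x : Fin l → M), N = Submodule.span R (Set.range x) ∧
    ∀ i : Fin l, Nonempty ((↥(CycDet.spanBefore R M x (i + 1)) ⧸
      (CycDet.spanBefore R M x i).submoduleOf (CycDet.spanBefore R M x (i + 1))) ≃ₗ[R]
      (R ⧸ q.asIdeal))}
  have hS : S.Nonempty := ⟨_, 0, Fin.elim0, rfl, fun i => i.elim0⟩
  obtain ⟨N, ⟨l, x, rfl, hx⟩, hmax⟩ :=
    (wellFounded_gt : WellFounded ((· > ·) : Submodule R M → Submodule R M → Prop)).has_min S hS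
  refine ⟨l, x, ?_, hx⟩
  intro hqs
  have hmin : q.asIdeal ∈ (Module.annihilator R (M ⧸ Submodule.span R (Set.range x))).minimalPrimes := by
    refine ⟨⟨q.2, Module.annihilator_le_of_mem_support hqs⟩, ?_⟩
    rintro J ⟨hJ, hJ'⟩ hle
    have hJs : (⟨J, hJ⟩ : PrimeSpectrum R) ∈
        Module.support R (M ⧸ Submodule.span R (Set.range x)) := by
      rw [Module.support_eq_zeroLocus]
      exact hJ'
    exact hq.2 (Module.support_subset_of_surjective _ (Submodule.mkQ_surjective _) hJs) hle
  have hass := Module.associatedPrimes.minimalPrimes_annihilator_subset_associatedPrimes R _ hmin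
  rw [AssociatedPrimes.mem_iff, isAssociatedPrime_iff] at hass
  obtain ⟨hprime, y, hy⟩ := hass
  obtain ⟨y, rfl⟩ := Submodule.mkQ_surjective _ y
  have hgood := good_snoc q.asIdeal x y hx hy
  refine hmax _ ⟨l + 1, Fin.snoc x y, rfl, hgood⟩ ?_
  have hle : Submodule.span R (Set.range x) ≤
      Submodule.span R (Set.range (Fin.snoc x y : Fin (l + 1) → M)) := by
    rw [← spanBefore_top x le_rfl, ← spanBefore_snoc x y le_rfl,
      ← spanBefore_top (Fin.snoc x y : Fin (l + 1) → M) le_rfl]
    exact spanBefore_mono _ (Nat.le_succ l)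
  refine lt_of_le_of_ne hle ?_
  intro heq
  have hymem : y ∈ Submodule.span R (Set.range (Fin.snoc x y : Fin (l + 1) → M)) :=
    Submodule.subset_span ⟨Fin.last l, Fin.snoc_last _ _⟩
  rw [← heq] at hymem
  have hzero : (Submodule.span R (Set.range x)).mkQ y = 0 := by simpa using hymem
  rw [hzero] at hy
  apply q.2.ne_top
  rw [hy, Ideal.eq_top_iff_one]
  simp

end existence

end Groth.Agent.CycA.GoodSeq
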