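import Groth.Prelude.Def_CycAlg
import Groth.Agent.CycA.LengthCalc

/-!
# Herbrand quotients: additivity in short exact sequences

`hexagon` decomposes the six cohomology lengths of a short exact sequence of 2-periodic complexes
into six numbers `a, b, c, a', b', c'`.
-/

set_option autoImplicit false

universe u v

namespace Groth.Agent.CycA.Herbrand

open LinearMap CycAlg Groth.Agent.CycA.LengthCalc

variable {R : Type u} [CommRing R]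

theorem length_perH {M N : Type v} [AddCommGroup M] [Module R M] [AddCommGroup N] [Module R N]
    (φ : M →ₗ[R] N) (ψ : N →ₗ[R] M) : Module.length R (perH φ ψ) = sl (ker φ) (range ψ) := rfl

section

variable {M₁ N₁ M₂ N₂ M₃ N₃ : Type v} [AddCommGroup M₁] [Module R M₁] [AddCommGroup N₁]
  [Module R N₁] [AddCommGroup M₂] [Module R M₂] [AddCommGroup N₂] [Module R N₂] [AddCommGroup M₃]
  [Module R M₃] [AddCommGroup N₃] [Module R N₃]

/-- Half of the hexagon. -/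
theorem half (φ₁ : M₁ →ₗ[R] N₁) (ψ₁ : N₁ →ₗ[R] M₁) (φ₂ : M₂ →ₗ[R] N₂) (ψ₂ : N₂ →ₗ[R] M₂)
    (φ₃ : M₃ →ₗ[R] N₃) (ψ₃ : N₃ →ₗ[R] M₃) (h₁ : IsPeriodic φ₁ ψ₁) (h₂ : IsPeriodic φ₂ ψ₂)
    (h₃ : IsPeriodic φ₃ ψ₃) (f₁ : M₁ →ₗ[R] M₂) (g₁ : N₁ →ₗ[R] N₂)
    (f₂ : M₂ →ₗ[R] M₃) (g₂ : N₂ →ₗ[R] N₃) (cφ₁ : φ₂ ∘ₗ f₁ = g₁ ∘ₗ φ₁)
    (cψ₁ : ψ₂ ∘ₗ g₁ = f₁ ∘ₗ ψ₁) (cφ₂ : φ₃ ∘ₗ f₂ = g₂ ∘ₗ φ₂) (cψ₂ : ψ₃ ∘ₗ g₂ = f₂ ∘ₗ ψ₂)
    (hf₁ : Function.Injective f₁) (hg₁ : Function.Injective g₁)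
    (hf₂ : Function.Surjective f₂) (hg₂ : Function.Surjective g₂)
    (hM : range f₁ = ker f₂) (hN : range g₁ = ker g₂) :
    -- H⁰(2) = a + b
    sl (ker φ₂) (range ψ₂) = sl ((ker φ₂).map f₂) (range ψ₃) +
      sl (ker φ₁) ((range ψ₂).comap f₁) ∧
    -- H⁰(1) = b + c
    sl (ker φ₁) (range ψ₁) = sl (ker φ₁) ((range ψ₂).comap f₁) +
      sl ((range ψ₂).comap f₁) (range ψ₁) ∧
    -- H⁰(3) = c' + a
    sl (ker φ₃) (range ψ₃) = sl (ker φ₃) ((ker φ₂).map f₂) + sl ((ker φ₂).map f₂) (range ψ₃) ∧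
    -- c'
    sl (ker φ₃) ((ker φ₂).map f₂) = sl ((range φ₂).comap g₁) (range φ₁) := by
  have eφ₁ : ∀ m, φ₂ (f₁ m) = g₁ (φ₁ m) := fun m => congr($cφ₁ m)
  have eψ₁ : ∀ m, ψ₂ (g₁ m) = f₁ (ψ₁ m) := fun m => congr($cψ₁ m)
  have eφ₂ : ∀ m, φ₃ (f₂ m) = g₂ (φ₂ m) := fun m => congr($cφ₂ m)
  have eψ₂ : ∀ m, ψ₃ (g₂ m) = f₂ (ψ₂ m) := fun m => congr($cψ₂ m)
  have p₁ : ∀ m, φ₁ (ψ₁ m) = 0 := fun m => congr($(h₁.1) m)
  have p₂ : ∀ m, φ₂ (ψ₂ m) = 0 := fun m => congr($(h₂.1) m)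
  have p₃ : ∀ m, φ₃ (ψ₃ m) = 0 := fun m => congr($(h₃.1) m)
  have q₁ : ∀ m, ψ₁ (φ₁ m) = 0 := fun m => congr($(h₁.2) m)
  have q₂ : ∀ m, ψ₂ (φ₂ m) = 0 := fun m => congr($(h₂.2) m)
  have hMk : ∀ m, f₂ m = 0 ↔ ∃ x, f₁ x = m := by
    intro m
    rw [← LinearMap.mem_ker, ← hM, LinearMap.mem_range]
  have hNk : ∀ m, g₂ m = 0 ↔ ∃ x, g₁ x = m := by
    intro m
    rw [← LinearMap.mem_ker, ← hN, LinearMap.mem_range]
  have l₁ : range ψ₁ ≤ (range ψ₂).comap f₁ := by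
    rintro _ ⟨n, rfl⟩
    exact ⟨g₁ n, eψ₁ n⟩
  have l₂ : (range ψ₂).comap f₁ ≤ ker φ₁ := by
    rintro m ⟨n, hn⟩
    rw [LinearMap.mem_ker]
    apply hg₁
    rw [← eφ₁, ← hn, p₂, map_zero]
  have l₃ : range ψ₂ ≤ ker φ₂ := by
    rintro _ ⟨n, rfl⟩
    exact p₂ n
  have l₄ : range ψ₃ ≤ (ker φ₂).map f₂ := by
    rintro _ ⟨n, rfl⟩
    obtain ⟨n, rfl⟩ := hg₂ n
    rw [eψ₂]
    exact ⟨_, p₂ n, rfl⟩
  have l₅ : (ker φ₂).map f₂ ≤ ker φ₃ := by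
    rintro _ ⟨m, hm, rfl⟩
    have hm' : φ₂ m = 0 := hm
    rw [LinearMap.mem_ker, eφ₂, hm', map_zero]
  have l₆ : range ψ₃ = (range ψ₂).map f₂ := by
    ext x
    constructor
    · rintro ⟨n, rfl⟩
      obtain ⟨n, rfl⟩ := hg₂ n
      rw [eψ₂]
      exact ⟨_, ⟨n, rfl⟩, rfl⟩
    · rintro ⟨_, ⟨n, rfl⟩, rfl⟩
      rw [← eψ₂]
      exact ⟨_, rfl⟩
  have l₇ : ker φ₂ ⊓ ker f₂ = (ker φ₁).map f₁ := by
    ext x
    constructor
    · rintro ⟨h, h'⟩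
      obtain ⟨y, rfl⟩ := (hMk x).mp h'
      have h'' : φ₂ (f₁ y) = 0 := h
      refine ⟨y, ?_, rfl⟩
      change φ₁ y = 0
      apply hg₁
      rw [← eφ₁, h'', map_zero]
    · rintro ⟨y, hy, rfl⟩
      have hy' : φ₁ y = 0 := hy
      refine ⟨?_, ?_⟩
      · change φ₂ (f₁ y) = 0
        rw [eφ₁, hy', map_zero]
      · exact (hMk _).mpr ⟨_, rfl⟩
  refine ⟨?_, sl_add l₁ l₂, sl_add l₄ l₅, ?_⟩
  · -- H⁰(2)
    have e1 : sl (ker φ₂) (range ψ₂) = sl (ker φ₂) ((ker φ₁).map f₁ ⊔ range ψ₂) +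
        sl ((ker φ₁).map f₁ ⊔ range ψ₂) (range ψ₂) := by
      refine sl_add le_sup_right ?_
      rw [sup_le_iff]
      exact ⟨l₇ ▸ inf_le_left, l₃⟩
    rw [e1]
    congr 1
    · rw [← sl_map f₂ (A := ker φ₂) (B := (ker φ₁).map f₁ ⊔ range ψ₂) ?_ ?_]
      · congr 1
        rw [Submodule.map_sup, l₆]
        have : Submodule.map f₂ (Submodule.map f₁ (ker φ₁)) = ⊥ := by
          rw [← l₇, eq_bot_iff]
          rintro _ ⟨x, ⟨_, hx⟩, rfl⟩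
          exact hx
        rw [this, bot_sup_eq]
      · rw [sup_le_iff]
        exact ⟨l₇ ▸ inf_le_left, l₃⟩
      · rw [l₇]
        exact le_sup_left
    · rw [sl_sup, ← sl_inf]
      rw [← sl_map f₁ (A := ker φ₁) (B := (range ψ₂).comap f₁) l₂ ?_]
      · congr 1
        ext x
        constructor
        · rintro ⟨⟨y, hy, rfl⟩, hx⟩
          exact ⟨y, hx, rfl⟩
        · rintro ⟨y, hy, rfl⟩
          exact ⟨⟨y, l₂ hy, rfl⟩, hy⟩
      · rintro x ⟨_, hx⟩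
        have hx' : f₁ x = 0 := hx
        have : x = 0 := hf₁ (by rw [hx', map_zero])
        rw [this]
        exact Submodule.zero_mem _
  · -- c' : both sides are computed by X = f₂⁻¹ (ker φ₃) = φ₂⁻¹ (range g₁)
    have hX : (ker φ₃).comap f₂ = (range g₁).comap φ₂ := by
      ext x
      change φ₃ (f₂ x) = 0 ↔ _
      rw [eφ₂, hNk]
      rfl
    have e1 : sl ((ker φ₃).comap f₂) (ker φ₂ ⊔ ker f₂) = sl (ker φ₃) ((ker φ₂).map f₂) := by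
      have h1 := sl_map f₂ (A := (ker φ₃).comap f₂) (B := ker φ₂ ⊔ ker f₂) (by
        rw [sup_le_iff]
        constructor
        · intro x hx
          exact l₅ ⟨x, hx, rfl⟩
        · intro x hx
          have hx' : f₂ x = 0 := hx
          change φ₃ (f₂ x) = 0
          rw [hx', map_zero]) (inf_le_right.trans le_sup_right)
      rw [← h1, Submodule.map_comap_eq_of_surjective hf₂, Submodule.map_sup]
      congr 1
      have : Submodule.map f₂ (ker f₂) = ⊥ := by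
        rw [eq_bot_iff]
        rintro _ ⟨x, hx, rfl⟩
        exact hx
      rw [this, sup_bot_eq]
    have e2 : sl ((range g₁).comap φ₂) (ker φ₂ ⊔ ker f₂) =
        sl (((range φ₂).comap g₁)) (range φ₁) := by
      have h1 := sl_map φ₂ (A := (range g₁).comap φ₂) (B := ker φ₂ ⊔ ker f₂) (by
        rw [← hX, sup_le_iff]
        constructor
        · intro x hx
          exact l₅ ⟨x, hx, rfl⟩
        · intro x hx
          have hx' : f₂ x = 0 := hx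
          change φ₃ (f₂ x) = 0
          rw [hx', map_zero]) (inf_le_right.trans le_sup_left)
      have h2 := sl_map g₁ (A := (range φ₂).comap g₁) (B := range φ₁) (by
        rintro _ ⟨x, rfl⟩
        exact ⟨f₁ x, eφ₁ x⟩) (by
        rintro x ⟨_, hx⟩
        have hx' : g₁ x = 0 := hx
        have : x = 0 := hg₁ (by rw [hx', map_zero])
        rw [this]
        exact Submodule.zero_mem _)
      rw [← h1, ← h2]
      congr 1
      · ext x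
        constructor
        · rintro ⟨y, ⟨z, hz⟩, rfl⟩
          exact ⟨z, ⟨y, hz.symm⟩, hz⟩
        · rintro ⟨y, ⟨z, hz⟩, rfl⟩
          exact ⟨z, ⟨y, hz.symm⟩, hz⟩
      · ext x
        constructor
        · rintro ⟨y, hy, rfl⟩
          obtain ⟨a, ha, b, hb, rfl⟩ := Submodule.mem_sup.mp hy
          obtain ⟨c, rfl⟩ := (hMk b).mp hb
          have ha' : φ₂ a = 0 := ha
          refine ⟨φ₁ c, ⟨c, rfl⟩, ?_⟩
          rw [map_add, ha', zero_add, eφ₁]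
        · rintro ⟨_, ⟨c, rfl⟩, rfl⟩
          refine ⟨f₁ c, Submodule.mem_sup_right ((hMk _).mpr ⟨c, rfl⟩), eφ₁ c⟩
    rw [← e1, hX, e2]

theorem enat_cases (x : ℕ∞) (h : x < ⊤) : ∃ n : ℕ, x = n := by
  obtain ⟨n, hn⟩ := ENat.ne_top_iff_exists.mp h.ne
  exact ⟨n, hn.symm⟩

theorem lt_top_of_add_left {x y z : ℕ∞} (h : z = x + y) (hz : z < ⊤) : x < ⊤ :=
  lt_of_le_of_lt (h ▸ le_self_add) hz

theorem lt_top_of_add_right {x y z : ℕ∞} (h : z = x + y) (hz : z < ⊤) : y < ⊤ :=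
  lt_of_le_of_lt (h ▸ le_add_self) hz

/-- Stacks 0EA7. -/
theorem shortExact (φ₁ : M₁ →ₗ[R] N₁) (ψ₁ : N₁ →ₗ[R] M₁) (φ₂ : M₂ →ₗ[R] N₂) (ψ₂ : N₂ →ₗ[R] M₂)
    (φ₃ : M₃ →ₗ[R] N₃) (ψ₃ : N₃ →ₗ[R] M₃) (h₁ : IsPeriodic φ₁ ψ₁) (h₂ : IsPeriodic φ₂ ψ₂)
    (h₃ : IsPeriodic φ₃ ψ₃) (f₁ : M₁ →ₗ[R] M₂) (g₁ : N₁ →ₗ[R] N₂)
    (f₂ : M₂ →ₗ[R] M₃) (g₂ : N₂ →ₗ[R] N₃) (cφ₁ : φ₂ ∘ₗ f₁ = g₁ ∘ₗ φ₁)
    (cψ₁ : ψ₂ ∘ₗ g₁ = f₁ ∘ₗ ψ₁) (cφ₂ : φ₃ ∘ₗ f₂ = g₂ ∘ₗ φ₂) (cψ₂ : ψ₃ ∘ₗ g₂ = f₂ ∘ₗ ψ₂)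
    (hf₁ : Function.Injective f₁) (hg₁ : Function.Injective g₁)
    (hf₂ : Function.Surjective f₂) (hg₂ : Function.Surjective g₂)
    (hM : range f₁ = ker f₂) (hN : range g₁ = ker g₂)
    (htwo : (FinCoh R φ₁ ψ₁ ∧ FinCoh R φ₂ ψ₂) ∨ (FinCoh R φ₁ ψ₁ ∧ FinCoh R φ₃ ψ₃) ∨
      (FinCoh R φ₂ ψ₂ ∧ FinCoh R φ₃ ψ₃)) :
    FinCoh R φ₁ ψ₁ ∧ FinCoh R φ₂ ψ₂ ∧ FinCoh R φ₃ ψ₃ ∧
      herbrand R φ₂ ψ₂ = herbrand R φ₁ ψ₁ + herbrand R φ₃ ψ₃ := by
  obtain ⟨A, B, C, D⟩ := half φ₁ ψ₁ φ₂ ψ₂ φ₃ ψ₃ h₁ h₂ h₃ f₁ g₁ f₂ g₂ cφ₁ cψ₁ cφ₂ cψ₂ hf₁ hg₁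
    hf₂ hg₂ hM hN
  obtain ⟨A', B', C', D'⟩ := half ψ₁ φ₁ ψ₂ φ₂ ψ₃ φ₃ h₁.symm h₂.symm h₃.symm g₁ f₁ g₂ f₂
    cψ₁ cφ₁ cψ₂ cφ₂ hg₁ hf₁ hg₂ hf₂ hN hM
  unfold herbrand FinCoh at *
  simp only [length_perH] at *
  rw [D] at C
  rw [D'] at C'
  clear D D'
  generalize sl ((ker φ₂).map f₂) (range ψ₃) = a at *
  generalize sl (ker φ₁) ((range ψ₂).comap f₁) = b at *
  generalize sl ((range ψ₂).comap f₁) (range ψ₁) = c at *
  generalize sl ((range φ₂).comap g₁) (range φ₁) = c' at *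
  generalize sl ((ker ψ₂).map g₂) (range φ₃) = a' at *
  generalize sl (ker ψ₁) ((range φ₂).comap g₁) = b' at *
  have hfin : a < ⊤ ∧ b < ⊤ ∧ c < ⊤ ∧ a' < ⊤ ∧ b' < ⊤ ∧ c' < ⊤ := by
    rcases htwo with ⟨⟨x, y⟩, ⟨z, w⟩⟩ | ⟨⟨x, y⟩, ⟨z, w⟩⟩ | ⟨⟨x, y⟩, ⟨z, w⟩⟩
    · exact ⟨lt_top_of_add_left A z, lt_top_of_add_left B x, lt_top_of_add_right B x,
        lt_top_of_add_left A' w, lt_top_of_add_left B' y, lt_top_of_add_right B' y⟩
    · exact ⟨lt_top_of_add_right C z, lt_top_of_add_left B x, lt_top_of_add_right B x,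
        lt_top_of_add_right C' w, lt_top_of_add_left B' y, lt_top_of_add_right B' y⟩
    · exact ⟨lt_top_of_add_left A x, lt_top_of_add_right A x, lt_top_of_add_left C' w,
        lt_top_of_add_left A' y, lt_top_of_add_right A' y, lt_top_of_add_left C z⟩
  obtain ⟨ha, hb, hc, ha', hb', hc'⟩ := hfin
  obtain ⟨a, rfl⟩ := enat_cases a ha
  obtain ⟨b, rfl⟩ := enat_cases b hb
  obtain ⟨c, rfl⟩ := enat_cases c hc
  obtain ⟨a', rfl⟩ := enat_cases a' ha'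
  obtain ⟨b', rfl⟩ := enat_cases b' hb'
  obtain ⟨c', rfl⟩ := enat_cases c' hc'
  rw [A, A', B, B', C, C']
  simp only [← Nat.cast_add, ENat.toNat_natCast]
  refine ⟨⟨ENat.natCast_lt_top _, ENat.natCast_lt_top _⟩, ⟨ENat.natCast_lt_top _, ENat.natCast_lt_top _⟩,
    ⟨ENat.natCast_lt_top _, ENat.natCast_lt_top _⟩, ?_⟩
  push_cast
  ring

end

/-- A (2,1)-periodic complex of finite length has Herbrand quotient zero. -/
theorem herbrand_eq_zero_of_finite {M : Type v} [AddCommGroup M] [Module R M] (φ ψ : M →ₗ[R] M)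
    (h : IsPeriodic φ ψ) (hfin : Module.length R M < ⊤) :
    FinCoh R φ ψ ∧ herbrand R φ ψ = 0 := by
  have l₁ : range ψ ≤ ker φ := by
    rintro _ ⟨n, rfl⟩
    exact congr($(h.1) n)
  have l₂ : range φ ≤ ker ψ := by
    rintro _ ⟨n, rfl⟩
    exact congr($(h.2) n)
  have A := sl_add (bot_le : ⊥ ≤ range ψ) l₁
  have B := sl_add (bot_le : ⊥ ≤ range φ) l₂
  have C : Module.length R M = Module.length R (ker φ) + Module.length R (range φ) :=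
    Module.length_eq_add_of_exact (ker φ).subtype φ.rangeRestrict (Submodule.subtype_injective _)
      φ.surjective_rangeRestrict (by
        rw [LinearMap.exact_iff, ker_rangeRestrict, Submodule.range_subtype])
  have D : Module.length R M = Module.length R (ker ψ) + Module.length R (range ψ) :=
    Module.length_eq_add_of_exact (ker ψ).subtype ψ.rangeRestrict (Submodule.subtype_injective _)
      ψ.surjective_rangeRestrict (by
        rw [LinearMap.exact_iff, ker_rangeRestrict, Submodule.range_subtype])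
  rw [sl_bot, sl_bot] at A B
  rw [A] at C
  rw [B] at D
  unfold herbrand FinCoh
  rw [length_perH, length_perH]
  generalize Module.length R M = m at *
  generalize sl (ker φ) (range ψ) = a at *
  generalize sl (ker ψ) (range φ) = b at *
  generalize Module.length R (range φ) = c at *
  generalize Module.length R (range ψ) = d at *
  have ha := lt_top_of_add_left rfl (lt_top_of_add_left C hfin)
  have hd := lt_top_of_add_right rfl (lt_top_of_add_left C hfin)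
  have hc := lt_top_of_add_right C hfin
  have hb := lt_top_of_add_left rfl (lt_top_of_add_left D hfin)
  obtain ⟨a, rfl⟩ := enat_cases a ha
  obtain ⟨b, rfl⟩ := enat_cases b hb
  obtain ⟨c, rfl⟩ := enat_cases c hc
  obtain ⟨d, rfl⟩ := enat_cases d hd
  rw [C] at D
  norm_cast at D
  refine ⟨⟨ENat.natCast_lt_top _, ENat.natCast_lt_top _⟩, ?_⟩
  simp only [ENat.toNat_natCast]
  omega

/-- Stacks 0EA9. -/
theorem herbrand_eq_of_finite_ker_coker {M M' : Type v} [AddCommGroup M] [Module R M]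
    [AddCommGroup M'] [Module R M'] (φ ψ : M →ₗ[R] M) (φ' ψ' : M' →ₗ[R] M')
    (h : IsPeriodic φ ψ) (h' : IsPeriodic φ' ψ') (f : M →ₗ[R] M')
    (cφ : φ' ∘ₗ f = f ∘ₗ φ) (cψ : ψ' ∘ₗ f = f ∘ₗ ψ) (hfin : FinCoh R φ ψ)
    (hker : Module.length R (ker f) < ⊤) (hcoker : Module.length R (M' ⧸ range f) < ⊤) :
    FinCoh R φ' ψ' ∧ herbrand R φ ψ = herbrand R φ' ψ' := by
  have eφ : ∀ m, φ' (f m) = f (φ m) := fun m => congr($cφ m)
  have eψ : ∀ m, ψ' (f m) = f (ψ m) := fun m => congr($cψ m)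
  have p : ∀ m, φ (ψ m) = 0 := fun m => congr($(h.1) m)
  have q : ∀ m, ψ (φ m) = 0 := fun m => congr($(h.2) m)
  have p' : ∀ m, φ' (ψ' m) = 0 := fun m => congr($(h'.1) m)
  have q' : ∀ m, ψ' (φ' m) = 0 := fun m => congr($(h'.2) m)
  have kφ : ∀ x ∈ ker f, φ x ∈ ker f := fun x hx => by
    have hx' : f x = 0 := hx
    rw [LinearMap.mem_ker, ← eφ, hx', map_zero]
  have kψ : ∀ x ∈ ker f, ψ x ∈ ker f := fun x hx => by
    have hx' : f x = 0 := hx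
    rw [LinearMap.mem_ker, ← eψ, hx', map_zero]
  have rφ : ∀ x ∈ range f, φ' x ∈ range f := by
    rintro _ ⟨x, rfl⟩
    exact ⟨φ x, (eφ x).symm⟩
  have rψ : ∀ x ∈ range f, ψ' x ∈ range f := by
    rintro _ ⟨x, rfl⟩
    exact ⟨ψ x, (eψ x).symm⟩
  -- kernel
  let φk : ker f →ₗ[R] ker f := φ.restrict kφ
  let ψk : ker f →ₗ[R] ker f := ψ.restrict kψ
  have hk : IsPeriodic φk ψk := by
    constructor
    · ext x; exact p x
    · ext x; exact q x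
  obtain ⟨fk, zk⟩ := herbrand_eq_zero_of_finite φk ψk hk hker
  -- image
  let φi : range f →ₗ[R] range f := φ'.restrict rφ
  let ψi : range f →ₗ[R] range f := ψ'.restrict rψ
  have hi : IsPeriodic φi ψi := by
    constructor
    · ext x; exact p' x
    · ext x; exact q' x
  -- cokernel
  let φc : (M' ⧸ range f) →ₗ[R] (M' ⧸ range f) := Submodule.mapQ _ _ φ' rφ
  let ψc : (M' ⧸ range f) →ₗ[R] (M' ⧸ range f) := Submodule.mapQ _ _ ψ' rψ
  have hc : IsPeriodic φc ψc := by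
    constructor
    · apply LinearMap.ext
      intro x
      obtain ⟨x, rfl⟩ := Submodule.Quotient.mk_surjective _ x
      change (Submodule.Quotient.mk (φ' (ψ' x)) : M' ⧸ range f) = 0
      rw [p']; rfl
    · apply LinearMap.ext
      intro x
      obtain ⟨x, rfl⟩ := Submodule.Quotient.mk_surjective _ x
      change (Submodule.Quotient.mk (ψ' (φ' x)) : M' ⧸ range f) = 0
      rw [q']; rfl
  obtain ⟨fc, zc⟩ := herbrand_eq_zero_of_finite φc ψc hc hcoker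
  obtain ⟨-, -, fi, e₁⟩ := shortExact φk ψk φ ψ φi ψi hk h hi (ker f).subtype (ker f).subtype
    f.rangeRestrict f.rangeRestrict rfl rfl (by ext x; exact eφ x) (by ext x; exact eψ x)
    (Submodule.subtype_injective _) (Submodule.subtype_injective _)
    f.surjective_rangeRestrict f.surjective_rangeRestrict
    (by rw [ker_rangeRestrict, Submodule.range_subtype])
    (by rw [ker_rangeRestrict, Submodule.range_subtype]) (Or.inl ⟨fk, hfin⟩)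
  obtain ⟨-, f', -, e₂⟩ := shortExact φi ψi φ' ψ' φc ψc hi h' hc (range f).subtype (range f).subtype
    (range f).mkQ (range f).mkQ rfl rfl rfl rfl
    (Submodule.subtype_injective _) (Submodule.subtype_injective _)
    (Submodule.mkQ_surjective _) (Submodule.mkQ_surjective _)
    (by rw [Submodule.ker_mkQ, Submodule.range_subtype])
    (by rw [Submodule.ker_mkQ, Submodule.range_subtype]) (Or.inr (Or.inl ⟨fi, fc⟩))
  refine ⟨f', ?_⟩
  rw [e₁, e₂, zk, zc]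
  ring

end Groth.Agent.CycA.Herbrand
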