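import Groth.Prelude.Def_CycAlg
import Groth.Agent.CycA.Herbrand

/-!
# Herbrand quotients of the periodic complexes attached to a nilpotent endomorphism
-/

set_option autoImplicit false

universe u v

namespace Groth.Agent.CycA.HerbrandPow

open LinearMap CycAlg Groth.Agent.CycA.LengthCalc Groth.Agent.CycA.Herbrand

variable {R : Type u} [CommRing R] {M : Type v} [AddCommGroup M] [Module R M] (φ : M →ₗ[R] M)

/-- image of the power -/
abbrev I (m : ℕ) : Submodule R M := range (φ ^ m)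
/-- kernel of the power -/
abbrev K (m : ℕ) : Submodule R M := ker (φ ^ m)

theorem mem_I {m : ℕ} {x : M} : x ∈ I φ m ↔ ∃ y, (φ ^ m) y = x := Iff.rfl
theorem mem_K {m : ℕ} {x : M} : x ∈ K φ m ↔ (φ ^ m) x = 0 := Iff.rfl

theorem pow_succ_apply' (m : ℕ) (x : M) : (φ ^ (m + 1)) x = φ ((φ ^ m) x) := by
  rw [pow_succ']; rfl

theorem pow_succ_apply (m : ℕ) (x : M) : (φ ^ (m + 1)) x = (φ ^ m) (φ x) := by
  rw [pow_succ]; rfl

theorem K_zero : K φ 0 = ⊥ := by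
  ext x
  rw [mem_K, pow_zero]
  rfl

theorem I_zero : I φ 0 = ⊤ := by
  ext x
  rw [mem_I]
  exact ⟨fun _ => trivial, fun _ => ⟨x, by rw [pow_zero]; rfl⟩⟩

theorem I_succ_le (m : ℕ) : I φ (m + 1) ≤ I φ m := by
  rintro _ ⟨x, rfl⟩
  exact ⟨φ x, (pow_succ_apply φ m x).symm⟩

theorem I_anti {m n : ℕ} (h : m ≤ n) : I φ n ≤ I φ m := by
  induction h with
  | refl => exact le_rfl
  | step _ ih => exact (I_succ_le φ _).trans ih

/-- `φ` maps `I m ⊓ K (i+1)` onto `I (m+1) ⊓ K i`. -/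
theorem map_IK (m i : ℕ) : (I φ m ⊓ K φ (i + 1)).map φ = I φ (m + 1) ⊓ K φ i := by
  ext x
  constructor
  · rintro ⟨_, ⟨⟨z, rfl⟩, h⟩, rfl⟩
    refine ⟨⟨z, (pow_succ_apply' φ m z)⟩, ?_⟩
    exact (pow_succ_apply φ i _).symm.trans h
  · rintro ⟨⟨z, rfl⟩, h⟩
    refine ⟨(φ ^ m) z, ⟨⟨z, rfl⟩, ?_⟩, (pow_succ_apply' φ m z).symm⟩
    change (φ ^ (i + 1)) ((φ ^ m) z) = 0
    rw [pow_succ_apply, ← pow_succ_apply']
    exact h

theorem inf_ker (m i : ℕ) : I φ m ⊓ K φ (i + 1) ⊓ ker φ = I φ m ⊓ K φ 1 := by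
  ext x
  constructor
  · rintro ⟨⟨h1, h2⟩, h3⟩
    refine ⟨h1, ?_⟩
    change (φ ^ 1) x = 0
    rw [pow_one]
    exact h3
  · rintro ⟨h1, h2⟩
    have h2' : (φ ^ 1) x = 0 := h2
    rw [pow_one] at h2'
    refine ⟨⟨h1, ?_⟩, h2'⟩
    change (φ ^ (i + 1)) x = 0
    rw [pow_succ_apply, h2', map_zero]

theorem G (i : ℕ) : ∀ m, sl (I φ m ⊓ K φ i) (I φ (m + 1) ⊓ K φ i) =
    sl (I φ m ⊓ K φ 1) (I φ (m + i) ⊓ K φ 1) := by
  induction i with
  | zero =>
    intro m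
    rw [K_zero, inf_bot_eq, inf_bot_eq, Nat.add_zero, sl_self, sl_self]
  | succ i ih =>
    intro m
    rw [sl_map_add φ (inf_le_inf_right _ (I_succ_le φ m)), map_IK, map_IK, inf_ker, inf_ker,
      ih (m + 1), add_comm, ← sl_add]
    · congr 3
      omega
    · exact inf_le_inf_right _ (I_anti φ (by omega))
    · exact inf_le_inf_right _ (I_anti φ (by omega))

theorem map_I (m : ℕ) : (I φ m).map φ = I φ (m + 1) := by
  ext x
  constructor
  · rintro ⟨_, ⟨z, rfl⟩, rfl⟩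
    exact ⟨z, pow_succ_apply' φ m z⟩
  · rintro ⟨z, rfl⟩
    exact ⟨_, ⟨z, rfl⟩, (pow_succ_apply' φ m z).symm⟩

theorem I_inf_ker (m : ℕ) : I φ m ⊓ ker φ = I φ m ⊓ K φ 1 := by
  rw [K, pow_one]

theorem I_le_K {m i : ℕ} (h : φ ^ (m + i) = 0) : I φ m ≤ K φ i := by
  rintro _ ⟨x, rfl⟩
  change (φ ^ i) ((φ ^ m) x) = 0
  rw [← Module.End.mul_apply, ← pow_add, add_comm, h]
  rfl

theorem F (k : ℕ) : ∀ m i, φ ^ (m + i + k) = 0 →
    sl (I φ m ⊓ K φ i) (I φ (m + k)) = sl (I φ m ⊓ K φ k) (I φ (m + i)) := by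
  induction k with
  | zero =>
    intro m i h
    have hle : I φ m ≤ K φ i := I_le_K φ (m := m) (i := i) h
    rw [Nat.add_zero, inf_eq_left.mpr hle, sl_self, K_zero, inf_bot_eq, ← sl_inf,
      bot_inf_eq, sl_self]
  | succ k ih =>
    intro m i h
    have e1 : sl (I φ m ⊓ K φ i) (I φ (m + (k + 1))) =
        sl (I φ m ⊓ K φ i) (I φ (m + 1) ⊓ K φ i) +
        sl (I φ (m + 1) ⊓ K φ i) (I φ (m + (k + 1))) := by
      apply sl_add
      · refine le_inf (I_anti φ (by omega)) (I_le_K φ ?_)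
        rw [← h]; congr 1; omega
      · exact inf_le_inf_right _ (I_succ_le φ m)
    have e2 : sl (I φ m ⊓ K φ (k + 1)) (I φ (m + i)) =
        sl (I φ (m + 1) ⊓ K φ k) (I φ (m + i + 1)) + sl (I φ m ⊓ K φ 1) (I φ (m + i) ⊓ K φ 1) := by
      rw [sl_map_add φ (A := I φ m ⊓ K φ (k + 1)) (B := I φ (m + i)) ?_, map_IK, map_I, inf_ker,
        I_inf_ker]
      refine le_inf (I_anti φ (by omega)) (I_le_K φ ?_)
      rw [← h]
    have e3 := ih (m + 1) i (by rw [← h]; congr 1; omega)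
    rw [e1, e2, G φ i m, add_comm]
    congr 1
    have e4 : m + (k + 1) = m + 1 + k := by omega
    have e5 : m + i + 1 = m + 1 + i := by omega
    rw [e4, e5, e3]

theorem fin (n : ℕ) (h : φ ^ n = 0) (hfin : sl (K φ 1) (I φ (n - 1)) < ⊤) :
    ∀ i, i ≤ n → sl (K φ i) (I φ (n - i)) < ⊤ := by
  intro i
  induction i with
  | zero =>
    intro _
    rw [K_zero, ← sl_inf, bot_inf_eq, sl_self]
    exact ENat.top_pos
  | succ i ih =>
    intro hi
    have ih' := ih (by omega)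
    have hle : I φ (n - (i + 1)) ≤ K φ (i + 1) := I_le_K φ (by rw [← h]; congr 1; omega)
    rw [sl_map_add φ hle]
    have e1 : (K φ (i + 1)).map φ = I φ 1 ⊓ K φ i := by
      have := map_IK φ 0 i
      rwa [I_zero, top_inf_eq] at this
    have e2 : (K φ (i + 1)) ⊓ ker φ = K φ 1 := by
      have := inf_ker φ 0 i
      rwa [I_zero, top_inf_eq, top_inf_eq] at this
    rw [e1, e2, map_I, I_inf_ker]
    have e3 : n - (i + 1) + 1 = n - i := by omega
    rw [e3]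
    refine ENat.add_lt_top.mpr ⟨?_, ?_⟩
    · refine lt_of_le_of_lt (sl_mono ?_ inf_le_right) ih'
      exact le_inf (I_anti φ (by omega)) (I_le_K φ (by rw [← h]; congr 1; omega))
    · refine lt_of_le_of_lt (sl_anti ?_ inf_le_right) hfin
      refine le_inf (I_anti φ (by omega)) (I_le_K φ ?_)
      by_cases hn : n = 0
      · subst hn; omega
      · rw [← h]; congr 1; omega

/-- Stacks 0EAB. -/
theorem main (n : ℕ) (_hn : 0 < n) (hφ : φ ^ n = 0)
    (hfin : Module.length R (perH φ (φ ^ (n - 1))) < ⊤) (i : ℕ) (hi : i ≤ n) :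
    FinCoh R (φ ^ i) (φ ^ (n - i)) ∧ herbrand R (φ ^ i) (φ ^ (n - i)) = 0 := by
  have hfin' : sl (K φ 1) (I φ (n - 1)) < ⊤ := by
    rw [K, pow_one]
    exact hfin
  have h1 := fin φ n hφ hfin' i hi
  have h2 := fin φ n hφ hfin' (n - i) (by omega)
  have e : n - (n - i) = i := by omega
  rw [e] at h2
  refine ⟨⟨h1, h2⟩, ?_⟩
  have h3 := F φ (n - i) 0 i (by rw [← hφ]; congr 1; omega)
  rw [I_zero, top_inf_eq, top_inf_eq, Nat.zero_add, Nat.zero_add] at h3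
  unfold herbrand
  rw [length_perH, length_perH, h3, sub_self]

end Groth.Agent.CycA.HerbrandPow
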