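import Groth.Prelude.Def_CycAlg
import Groth.Agent.CycA.Herbrand
import Groth.Agent.CycA.FiniteLen

/-!
# Herbrand quotients after multiplying one of the maps by a ring element (Stacks 0EAC)
-/

set_option autoImplicit false

universe u v

namespace Groth.Agent.CycA.HerbrandSmul

open LinearMap CycAlg Groth.Agent.CycA.LengthCalc Groth.Agent.CycA.Herbrand
open Groth.Agent.CycA.FiniteLen
open scoped Pointwise

variable {R : Type u} [CommRing R] {M : Type v} [AddCommGroup M] [Module R M]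

theorem smul_id_apply (x : R) (m : M) : (x • (LinearMap.id : M →ₗ[R] M)) m = x • m := rfl

theorem herbrand_swap (φ ψ : M →ₗ[R] M) : herbrand R ψ φ = - herbrand R φ ψ := by
  unfold herbrand
  ring

/-- `ker (xφ) / im ψ`. -/
theorem ker_smul (φ ψ : M →ₗ[R] M) (h : IsPeriodic φ ψ) (x : R) :
    sl (ker (x • φ)) (range ψ) =
      Module.length R (ker (x • (LinearMap.id : range φ →ₗ[R] range φ))) + sl (ker φ) (range ψ) := by
  have h1 : range ψ ≤ ker φ := by
    rintro _ ⟨n, rfl⟩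
    exact congr($(h.1) n)
  have h2 : ker φ ≤ ker (x • φ) := by
    intro y hy
    have hy' : φ y = 0 := hy
    change x • φ y = 0
    rw [hy', smul_zero]
  rw [sl_add h1 h2]
  congr 1
  -- the map φ : ker (xφ) → ker (x | im φ) is onto with kernel ker φ
  unfold sl
  let g : ker (x • φ) →ₗ[R] ker (x • (LinearMap.id : range φ →ₗ[R] range φ)) :=
    (φ.rangeRestrict.domRestrict (ker (x • φ))).codRestrict _ (fun y => by
      have hy : x • φ (y : M) = 0 := y.2
      exact Subtype.ext hy)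
  refine length_quot_eq_of_surjective g ?_ _ ?_
  · rintro ⟨⟨_, ⟨y, rfl⟩⟩, hy⟩
    have hy' : x • φ y = 0 := congrArg Subtype.val hy
    exact ⟨⟨y, hy'⟩, rfl⟩
  · ext y
    rw [LinearMap.mem_ker, mem_submoduleOf, LinearMap.mem_ker]
    constructor
    · intro hy
      exact congrArg (fun z => ((z : range φ) : M)) (congrArg Subtype.val hy)
    · intro hy
      exact Subtype.ext (Subtype.ext hy)

/-- `ker ψ / im (xφ)`. -/
theorem range_smul (φ ψ : M →ₗ[R] M) (h : IsPeriodic φ ψ) (x : R) :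
    sl (ker ψ) (range (x • φ)) = sl (ker ψ) (range φ) +
      Module.length R (range φ ⧸ range (x • (LinearMap.id : range φ →ₗ[R] range φ))) := by
  have h1 : range φ ≤ ker ψ := by
    rintro _ ⟨n, rfl⟩
    exact congr($(h.2) n)
  have h2 : range (x • φ) ≤ range φ := by
    rintro _ ⟨y, rfl⟩
    exact ⟨x • y, map_smul _ _ _⟩
  rw [sl_add h2 h1]
  congr 1
  rw [← sl_top, ← sl_map (range φ).subtype le_top (by
    rintro y ⟨_, hy⟩
    have : y = 0 := Subtype.ext hy
    rw [this]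
    exact Submodule.zero_mem _), Submodule.map_top, Submodule.range_subtype]
  congr 1
  ext y
  constructor
  · rintro ⟨z, rfl⟩
    exact ⟨x • ⟨φ z, ⟨z, rfl⟩⟩, ⟨⟨φ z, ⟨z, rfl⟩⟩, rfl⟩, rfl⟩
  · rintro ⟨_, ⟨⟨_, ⟨z, rfl⟩⟩, rfl⟩, rfl⟩
    exact ⟨z, rfl⟩

theorem perH_zero_left {N : Type v} [AddCommGroup N] [Module R N] (x : N →ₗ[R] N) :
    Module.length R (perH (0 : N →ₗ[R] N) x) = Module.length R (N ⧸ range x) := by
  rw [length_perH, ← sl_top]
  congr 1
  exact LinearMap.ker_zero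

theorem perH_zero_right {N : Type v} [AddCommGroup N] [Module R N] (x : N →ₗ[R] N) :
    Module.length R (perH x (0 : N →ₗ[R] N)) = Module.length R (ker x) := by
  rw [length_perH, ← sl_bot]
  congr 1
  exact LinearMap.range_zero

variable [IsNoetherianRing R] [Module.Finite R M]

/-- One half of Stacks 0EAC. -/
theorem main (φ ψ : M →ₗ[R] M) (hper : IsPeriodic φ ψ) (hfin : FinCoh R φ ψ) (x : R)
    (hx : Module.supportDim R (M ⧸ x • (⊤ : Submodule R M)) ≤ 0) :
    FinCoh R (x • φ) ψ ∧ herbrand R (x • φ) ψ = herbrand R φ ψ -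
      herbrand R (0 : range φ →ₗ[R] range φ) (x • LinearMap.id) := by
  have h0 : Module.length R (M ⧸ x • (⊤ : Submodule R M)) < ⊤ :=
    length_lt_top_of_supportDim_le_zero hx
  have h1 : Module.length R (range φ ⧸ range (x • (LinearMap.id : range φ →ₗ[R] range φ))) < ⊤ := by
    refine lt_of_le_of_lt ?_ h0
    let g : (M ⧸ x • (⊤ : Submodule R M)) →ₗ[R]
        (range φ ⧸ range (x • (LinearMap.id : range φ →ₗ[R] range φ))) :=
      Submodule.mapQ _ _ φ.rangeRestrict (by
        intro y hy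
        obtain ⟨z, -, rfl⟩ := (Submodule.mem_smul_pointwise_iff_exists _ _ _).mp hy
        exact ⟨φ.rangeRestrict z, (map_smul φ.rangeRestrict x z).symm⟩)
    refine Module.length_le_of_surjective g ?_
    intro y
    obtain ⟨⟨_, ⟨z, rfl⟩⟩, rfl⟩ := Submodule.Quotient.mk_surjective _ y
    exact ⟨Submodule.Quotient.mk z, rfl⟩
  have h2 := length_ker_lt_top _ h1
  have e1 := ker_smul φ ψ hper x
  have e2 := range_smul φ ψ hper x
  obtain ⟨f1, f2⟩ := hfin
  unfold FinCoh herbrand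
  rw [perH_zero_left, perH_zero_right]
  rw [length_perH] at f1 f2
  rw [length_perH, length_perH, length_perH, length_perH, e1, e2]
  obtain ⟨a, ha⟩ := enat_cases _ h1
  obtain ⟨b, hb⟩ := enat_cases _ h2
  obtain ⟨c, hc⟩ := enat_cases _ f1
  obtain ⟨d, hd⟩ := enat_cases _ f2
  rw [ha, hb, hc, hd]
  simp only [← Nat.cast_add, ENat.toNat_natCast]
  refine ⟨⟨ENat.natCast_lt_top _, ENat.natCast_lt_top _⟩, ?_⟩
  push_cast
  ring

/-- Stacks 0EAC. -/
theorem main' (φ ψ : M →ₗ[R] M) (hper : IsPeriodic φ ψ) (hfin : FinCoh R φ ψ) (x : R)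
    (hx : Module.supportDim R (M ⧸ x • (⊤ : Submodule R M)) ≤ 0) :
    (FinCoh R (x • φ) ψ ∧ herbrand R (x • φ) ψ = herbrand R φ ψ -
      herbrand R (0 : range φ →ₗ[R] range φ) (x • LinearMap.id)) ∧
    (FinCoh R φ (x • ψ) ∧ herbrand R φ (x • ψ) = herbrand R φ ψ +
      herbrand R (0 : range ψ →ₗ[R] range ψ) (x • LinearMap.id)) := by
  refine ⟨main φ ψ hper hfin x hx, ?_⟩
  obtain ⟨h1, h2⟩ := main ψ φ hper.symm hfin.symm x hx
  refine ⟨h1.symm, ?_⟩
  rw [herbrand_swap (x • ψ) φ, h2, herbrand_swap φ ψ]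
  ring

end Groth.Agent.CycA.HerbrandSmul
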