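import Groth.Agent.CycA.IntCore
import Groth.Agent.Localalg.Depth2

/-!
# Multiplicity one (local form of Stacks 0B1I)
-/

universe u

open TensorProduct IsLocalRing RingTheory.Sequence Pointwise

namespace Groth.Agent.CycA.IntCore2

open Groth.Agent.CycA.IntCore

/-- Regular local rings are Cohen-Macaulay. -/
theorem isCohenMacaulayLocalRing_of_regular (A : Type u) [CommRing A] [IsRegularLocalRing A] :
    LocCoh.IsCohenMacaulayLocalRing A := by
  refine { supportDim_eq_depth := ?_ }
  obtain ⟨d, hd⟩ := Groth.Agent.CalgA.RegBasic.ringKrullDim_eq_natCast A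
  obtain ⟨rs, hlen, hspan, hreg⟩ := Groth.Agent.CycA.TorReg.exists_regular_list (A := A) d hd
  rw [Module.supportDim_self_eq_ringKrullDim]
  have hne : maximalIdeal A • (⊤ : Submodule A A) ≠ ⊤ := by
    rw [smul_eq_mul, Ideal.mul_top]
    exact (maximalIdeal.isMaximal A).ne_top
  apply le_antisymm
  · rw [hd]
    have h := (Groth.Agent.Localalg.Depth.natCast_le_idealDepth_iff hne d).2
      ⟨rs, hlen, fun r hr => by rw [← hspan]; exact Ideal.subset_span hr, hreg⟩
    exact WithBot.coe_le_coe.2 h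
  · have := Groth.Agent.Localalg.Depth2.depth_le_supportDim (R := A) A
    rwa [Module.supportDim_self_eq_ringKrullDim] at this

section One

variable {A : Type u} [CommRing A] [IsRegularLocalRing A]

open Classical in
lemma spanFinrank_quotient_le (I : Ideal A) (s : Finset A) (hs : Ideal.span (s : Set A) = maximalIdeal A)
    [IsLocalRing (A ⧸ I)] (sI sJ : Finset A) (hU : s ⊆ sI ∪ sJ) (hI : (sI : Set A) ⊆ I)
    (hJm : (sJ : Set A) ⊆ maximalIdeal A) :
    (maximalIdeal (A ⧸ I)).spanFinrank ≤ sJ.card := by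
  classical
  have h1 : maximalIdeal (A ⧸ I) = Ideal.span ((Ideal.Quotient.mk I) '' (sJ : Set A)) := by
    rw [← Groth.Agent.CalgA.RegBasic.map_maximalIdeal_quotient]
    apply le_antisymm
    · rw [← hs, Ideal.map_span, Ideal.span_le]
      rintro _ ⟨x, hx, rfl⟩
      rcases Finset.mem_union.1 (hU hx) with h | h
      · have : Ideal.Quotient.mk I x = 0 := Ideal.Quotient.eq_zero_iff_mem.2 (hI h)
        rw [this]
        exact Submodule.zero_mem _
      · exact Ideal.subset_span ⟨x, h, rfl⟩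
    · rw [Ideal.span_le]
      rintro _ ⟨x, hx, rfl⟩
      exact Ideal.mem_map_of_mem _ (hJm hx)
  rw [h1]
  have h4 := Submodule.spanFinrank_span_le_ncard_of_finite (R := A ⧸ I)
    (s := (Ideal.Quotient.mk I) '' (sJ : Set A)) (sJ.finite_toSet.image _)
  have h5 : ((Ideal.Quotient.mk I) '' (sJ : Set A)).ncard ≤ sJ.card := by
    have := Set.ncard_image_le (f := Ideal.Quotient.mk I) sJ.finite_toSet
    rwa [Set.ncard_coe_finset] at this
  exact h4.trans h5

/-- If `I + J = m` in a regular local ring and the dimensions of `A/I`, `A/J` add up to at least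
`dim A` then `A/I` and `A/J` are regular. -/
theorem regular_of_sup_eq (I J : Ideal A) (hI : I ≠ ⊤) (hJ : J ≠ ⊤)
    (hIJ : I ⊔ J = maximalIdeal A)
    (hle : ringKrullDim A ≤ ringKrullDim (A ⧸ I) + ringKrullDim (A ⧸ J)) :
    IsRegularLocalRing (A ⧸ I) ∧ IsRegularLocalRing (A ⧸ J) := by
  classical
  have lI := Groth.Agent.CalgA.RegBasic.isLocalRing_quotient I hI
  have lJ := Groth.Agent.CalgA.RegBasic.isLocalRing_quotient J hJ
  have hIm : I ≤ maximalIdeal A := le_maximalIdeal hI
  have hJm : J ≤ maximalIdeal A := le_maximalIdeal hJ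
  obtain ⟨s, t, hsT, htm, hT, hspan, hcard⟩ :=
    Groth.Agent.CalgA.RegBasic.exists_generators_adapted ((I : Set A) ∪ J)
      (Set.union_subset hIm hJm)
  have hs : Ideal.span (s : Set A) = maximalIdeal A := by
    apply le_antisymm
    · rw [Ideal.span_le]
      exact hsT.trans (Set.union_subset hIm hJm)
    · refine Submodule.le_of_le_smul_of_le_jacobson_bot (I := maximalIdeal A)
        (maximalIdeal A).fg_of_isNoetherianRing (maximalIdeal_le_jacobson _) ?_
      rw [smul_eq_mul, ← pow_two]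
      conv_lhs => rw [← hIJ]
      exact sup_le (fun x hx => hT (Or.inl hx)) (fun x hx => hT (Or.inr hx))
  let sI := s.filter (· ∈ I)
  let sJ := s.filter (· ∉ I)
  have hU : s ⊆ sI ∪ sJ := by
    intro x hx
    by_cases h : x ∈ I
    · exact Finset.mem_union_left _ (Finset.mem_filter.2 ⟨hx, h⟩)
    · exact Finset.mem_union_right _ (Finset.mem_filter.2 ⟨hx, h⟩)
  have hsI : (sI : Set A) ⊆ I := fun x hx => (Finset.mem_filter.1 hx).2
  have hsJ : (sJ : Set A) ⊆ J := fun x hx => by
    rcases hsT (Finset.mem_filter.1 hx).1 with h | h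
    · exact absurd h (Finset.mem_filter.1 hx).2
    · exact h
  have h1 := spanFinrank_quotient_le I s hs sI sJ hU hsI (hsJ.trans hJm)
  have h2 := spanFinrank_quotient_le J s hs sJ sI (by rwa [Finset.union_comm]) hsJ (hsI.trans hIm)
  have hc : sI.card + sJ.card = s.card := Finset.card_filter_add_card_filter_not _
  have h3 := IsRegularLocalRing.spanFinrank_maximalIdeal (R := A)
  obtain ⟨d, hd⟩ := Groth.Agent.CalgA.RegBasic.ringKrullDim_eq_natCast A
  obtain ⟨e, he⟩ := Groth.Agent.CalgA.RegBasic.ringKrullDim_eq_natCast (A ⧸ I)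
  obtain ⟨f, hf⟩ := Groth.Agent.CalgA.RegBasic.ringKrullDim_eq_natCast (A ⧸ J)
  rw [hd] at h3
  have h3' : (maximalIdeal A).spanFinrank = d := by exact_mod_cast h3
  rw [hd, he, hf] at hle
  have hle' : d ≤ e + f := by exact_mod_cast hle
  have h4 := ringKrullDim_le_spanFinrank_maximalIdeal (A ⧸ I)
  have h5 := ringKrullDim_le_spanFinrank_maximalIdeal (A ⧸ J)
  rw [he] at h4
  rw [hf] at h5
  have h4' : e ≤ (maximalIdeal (A ⧸ I)).spanFinrank := by exact_mod_cast h4
  have h5' : f ≤ (maximalIdeal (A ⧸ J)).spanFinrank := by exact_mod_cast h5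
  constructor
  · apply IsRegularLocalRing.of_spanFinrank_maximalIdeal_le
    rw [he]
    have : (maximalIdeal (A ⧸ I)).spanFinrank ≤ e := by omega
    exact_mod_cast this
  · apply IsRegularLocalRing.of_spanFinrank_maximalIdeal_le
    rw [hf]
    have : (maximalIdeal (A ⧸ J)).spanFinrank ≤ f := by omega
    exact_mod_cast this

/-- Local form of Stacks 0B1I. -/
theorem multiplicity_one (I J : Ideal A) (h1 : Module.length A (A ⧸ (I ⊔ J)) = 1)
    (hI : I ≠ ⊤) (hJ : J ≠ ⊤)
    (hle : ringKrullDim A ≤ ringKrullDim (A ⧸ I) + ringKrullDim (A ⧸ J)) :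
    IntMult.chi A (A ⧸ J) (A ⧸ I) = 1 ∧ IsRegularLocalRing (A ⧸ I) ∧
      IsRegularLocalRing (A ⧸ J) := by
  have hs : IsSimpleModule A (A ⧸ (I ⊔ J)) := Module.length_eq_one_iff.1 h1
  have hmax : (I ⊔ J).IsMaximal := ⟨isSimpleModule_iff_isCoatom.1 hs⟩
  have hIJ : I ⊔ J = maximalIdeal A := eq_maximalIdeal hmax
  obtain ⟨rI, rJ⟩ := regular_of_sup_eq I J hI hJ hIJ hle
  refine ⟨?_, rI, rJ⟩
  rw [chi_eq_length_of_CM I J (isCohenMacaulayLocalRing_of_regular _)
    (isCohenMacaulayLocalRing_of_regular _) (by rw [hIJ]; exact Ideal.le_radical) hle, h1]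
  simp

end One

end Groth.Agent.CycA.IntCore2
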