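import Groth.Agent.CycA.ProdPoint
import Groth.Agent.CycA.StalkIdeal
import Groth.Agent.CycB.RelDim2
import Groth.Agent.VarietyB.DimSch
import Groth.Prelude.Def_IntMult
import Mathlib.AlgebraicGeometry.IdealSheaf.Subscheme

/-!
# Local algebra at the generic point of a component of a proper intersection

From the common hypotheses of the intersection multiplicity rows: the stalk ideals are prime, their
sum is primary for the maximal ideal, and `dim O ≤ dim O/I + dim O/J`.
-/

set_option autoImplicit false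

universe u

namespace Groth.Agent.CycA.IntLocal

open CategoryTheory CategoryTheory.Limits AlgebraicGeometry
open Groth.Agent.CycA.ProdStalk Groth.Agent.CycA.ProdPoint Groth.Agent.CycB.RelDim
open Groth.Agent.CycB.TrdegAlg

variable {K : Type u} [Field K]

theorem toStalk_eq {X : Scheme.{u}} (f : X ⟶ Spec (CommRingCat.of K)) (x : X) :
    toStalk f x = (Scheme.ΓSpecIso (CommRingCat.of K)).inv ≫ f.appTop ≫
      X.presheaf.germ ⊤ x trivial := by
  apply Spec.map_injective
  rw [SpecMap_toStalk, Spec.map_comp, Spec.map_comp, ← Scheme.fromSpecStalk_toSpecΓ]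
  rw [Category.assoc, Category.assoc, ← Scheme.toSpecΓ_naturality_assoc]
  rw [toSpecΓ_SpecMap_ΓSpecIso_inv, Category.comp_id]

theorem rtd_eq_trdeg {X : Scheme.{u}} (f : X ⟶ Spec (CommRingCat.of K)) [LocallyOfFiniteType f]
    (x : X) : letI : X.Over (Spec (CommRingCat.of K)) := ⟨f⟩
    rtd f x = VarietyB.DimSch.trd K X x := by
  let _ : X.Over (Spec (CommRingCat.of K)) := ⟨f⟩
  have : LocallyOfFiniteType (X ↘ Spec (CommRingCat.of K)) := ‹LocallyOfFiniteType f›
  rw [rtd_eq_trd_kres]
  have h1 : kres f x = Curv2.resMap K X x := by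
    rw [kres, toStalk_eq]
    rfl
  rw [h1]
  exact VarietyB.DimSch.trdeg_eq_trd K x

/-- Dimension formula at a point of an integral scheme locally of finite type over a field. -/
theorem exists_dims {X : Scheme.{u}} (f : X ⟶ Spec (CommRingCat.of K)) [LocallyOfFiniteType f]
    [IsIntegral X] (x : X) :
    ∃ a t n : ℕ, ringKrullDim (X.presheaf.stalk x) = a ∧ rtd f x = t ∧
      topologicalKrullDim (closure {x} : Set X) = t ∧ topologicalKrullDim X = n ∧ a + t = n := by
  let _ : X.Over (Spec (CommRingCat.of K)) := ⟨f⟩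
  have : LocallyOfFiniteType (X ↘ Spec (CommRingCat.of K)) := ‹LocallyOfFiniteType f›
  obtain ⟨t, ht, ht'⟩ := exists_dim_closure f (isAffineOpen_top _)
    ((Scheme.ΓSpecIso (CommRingCat.of K)).commRingCatIsoToRingEquiv.toMulEquiv.isField
      (Field.toIsField _)) x
  have h1 := rtd_eq_trdeg f x
  have h2 : VarietyB.DimSch.trd K X x = t := by
    rw [ht] at h1
    exact_mod_cast h1.symm
  have h3 := VarietyB.DimSch.localDim_eq K x
  rw [VarietyB.DimSch.localDim_eq_of_irreducible K x, h2] at h3
  have h4 := VarietyB.DimSch.topologicalKrullDim_eq_trd (X := X) K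
  set n := VarietyB.DimSch.trd K X (genericPoint X)
  have hne : ringKrullDim (X.presheaf.stalk x) ≠ ⊥ := by
    intro h0
    have := ringKrullDim_nonneg_of_nontrivial (R := X.presheaf.stalk x)
    rw [h0] at this
    exact absurd this (by simp)
  obtain ⟨a, ha⟩ : ∃ a : ℕ, ringKrullDim (X.presheaf.stalk x) = a := by
    induction hd : ringKrullDim (X.presheaf.stalk x) using WithBot.recBotCoe with
    | bot => exact absurd hd hne
    | coe d =>
      rw [hd] at h3
      have h5 : (n : ℕ∞) = d + t := by exact_mod_cast h3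
      have h6 : d ≠ ⊤ := by
        rintro rfl
        rw [top_add] at h5
        exact ENat.natCast_ne_top n h5
      obtain ⟨a, rfl⟩ := ENat.ne_top_iff_exists.1 h6
      exact ⟨a, rfl⟩
  refine ⟨a, t, n, ha, ht, ht', h4, ?_⟩
  rw [ha] at h3
  have : ((n : ℕ) : WithBot ℕ∞) = ((a + t : ℕ) : WithBot ℕ∞) := by
    rw [h3]; push_cast; rfl
  exact_mod_cast this.symm

theorem dim_subscheme {Y : Scheme.{u}} (I : Y.IdealSheafData) :
    topologicalKrullDim I.subscheme = topologicalKrullDim I.support := by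
  have e : I.subscheme ≃ₜ (I.support : Set Y) :=
    I.subschemeι.isEmbedding.toHomeomorph.trans (Homeomorph.setCongr I.range_subschemeι)
  exact (IsHomeomorph.topologicalKrullDim_eq _ e.isHomeomorph)

/-- The quotient of a local ring by the stalk of an ideal sheaf. -/
theorem exists_quotEquiv {X : Scheme.{u}} (I : X.IdealSheafData) (x : X) (hx : x ∈ I.support) :
    ∃ z : I.subscheme, I.subschemeι z = x ∧
      Nonempty ((X.presheaf.stalk x ⧸ IntMult.stalkIdeal I x) ≃+* I.subscheme.presheaf.stalk z) := by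
  have hx' : x ∈ Set.range I.subschemeι := by rw [I.range_subschemeι]; exact hx
  obtain ⟨z, rfl⟩ := hx'
  refine ⟨z, rfl, ?_⟩
  have h1 : IntMult.stalkIdeal I (I.subschemeι z) = RingHom.ker (I.subschemeι.stalkMap z).hom := by
    have := StalkIdeal.stalkIdeal_ker I.subschemeι z
    rwa [I.ker_subschemeι] at this
  have h2 : Function.Surjective (I.subschemeι.stalkMap z).hom :=
    I.subschemeι.stalkMap_surjective z
  exact ⟨(Ideal.quotEquivOfEq h1).trans (RingHom.quotientKerEquivOfSurjective h2)⟩

theorem isPrime_stalkIdeal {X : Scheme.{u}} (I : X.IdealSheafData) [IsIntegral I.subscheme]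
    (x : X) (hx : x ∈ I.support) : (IntMult.stalkIdeal I x).IsPrime := by
  obtain ⟨z, -, ⟨e⟩⟩ := exists_quotEquiv I x hx
  rw [← Ideal.Quotient.isDomain_iff_prime]
  exact e.toMulEquiv.isDomain _

/-- A prime of the local ring at `x` containing the stalk of `I` defines a point of the support. -/
theorem fromSpecStalk_mem_support {X : Scheme.{u}} (I : X.IdealSheafData) (x : X)
    (hx : x ∈ I.support) (P : Spec (X.presheaf.stalk x))
    (hP : IntMult.stalkIdeal I x ≤ P.asIdeal) : X.fromSpecStalk x P ∈ I.support := by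
  have hx' : x ∈ Set.range I.subschemeι := by rw [I.range_subschemeι]; exact hx
  obtain ⟨z, rfl⟩ := hx'
  have h1 : IntMult.stalkIdeal I (I.subschemeι z) = RingHom.ker (I.subschemeι.stalkMap z).hom := by
    have := StalkIdeal.stalkIdeal_ker I.subschemeι z
    rwa [I.ker_subschemeι] at this
  have h2 : Function.Surjective (I.subschemeι.stalkMap z).hom :=
    I.subschemeι.stalkMap_surjective z
  have h3 : P ∈ Set.range (Spec.map (I.subschemeι.stalkMap z)) := by
    have : Set.range (PrimeSpectrum.comap (I.subschemeι.stalkMap z).hom) =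
        PrimeSpectrum.zeroLocus (RingHom.ker (I.subschemeι.stalkMap z).hom) :=
      range_comap_of_surjective _ _ h2
    have hmem : P ∈ PrimeSpectrum.zeroLocus
        (RingHom.ker (I.subschemeι.stalkMap z).hom : Set (X.presheaf.stalk (I.subschemeι z))) := by
      rw [h1] at hP
      exact hP
    rw [← this] at hmem
    exact hmem
  obtain ⟨Q, rfl⟩ := h3
  have h4 : X.fromSpecStalk (I.subschemeι z) (Spec.map (I.subschemeι.stalkMap z) Q) =
      I.subschemeι (I.subscheme.fromSpecStalk z Q) := by
    rw [← Scheme.Hom.comp_apply, Scheme.SpecMap_stalkMap_fromSpecStalk, Scheme.Hom.comp_apply]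
  rw [h4]
  have : I.subschemeι (I.subscheme.fromSpecStalk z Q) ∈ Set.range I.subschemeι := ⟨_, rfl⟩
  rw [I.range_subschemeι] at this
  exact this

/-- The dimension of the closure of a point is at most that of a closed set containing it. -/
theorem dim_closure_le {X : Scheme.{u}} {Z : Set X} (hZ : IsClosed Z) {x : X} (hx : x ∈ Z) :
    topologicalKrullDim (closure {x} : Set X) ≤ topologicalKrullDim Z := by
  have hle : closure {x} ⊆ Z := hZ.closure_subset_iff.2 (Set.singleton_subset_iff.2 hx)
  exact (Topology.IsEmbedding.inclusion hle).isInducing.topologicalKrullDim_le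

/-- Main statement: local algebra at the generic point of a component of a proper intersection. -/
theorem main {X : Scheme.{u}} (f : X ⟶ Spec (CommRingCat.of K)) [LocallyOfFiniteType f]
    [IsIntegral X] (IV IW : X.IdealSheafData) [IsIntegral IV.subscheme] [IsIntegral IW.subscheme]
    (n r s : ℕ) (hn : topologicalKrullDim X = n) (hr : topologicalKrullDim IV.support = r)
    (hs : topologicalKrullDim IW.support = s)
    (hprop : IntMult.ProperInt (IV.support : Set X) (IW.support : Set X) n r s) (ξ : X)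
    (hξV : ξ ∈ IV.support) (hξW : ξ ∈ IW.support)
    (hmax : ∀ ξ' : X, ξ' ∈ IV.support → ξ' ∈ IW.support → ξ' ⤳ ξ → ξ' = ξ) :
    (IntMult.stalkIdeal IV ξ).IsPrime ∧ (IntMult.stalkIdeal IW ξ).IsPrime ∧
    (∀ P : Ideal (X.presheaf.stalk ξ), P.IsPrime → IntMult.stalkIdeal IV ξ ≤ P →
      IntMult.stalkIdeal IW ξ ≤ P → P = IsLocalRing.maximalIdeal _) ∧
    ∃ a b d : ℕ, ringKrullDim (X.presheaf.stalk ξ ⧸ IntMult.stalkIdeal IV ξ) = a ∧
      ringKrullDim (X.presheaf.stalk ξ ⧸ IntMult.stalkIdeal IW ξ) = b ∧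
      ringKrullDim (X.presheaf.stalk ξ) = d ∧ d ≤ a + b := by
  refine ⟨isPrime_stalkIdeal IV ξ hξV, isPrime_stalkIdeal IW ξ hξW, ?_, ?_⟩
  · intro P hP h1 h2
    let P' : Spec (X.presheaf.stalk ξ) := ⟨P, hP⟩
    have h3 := fromSpecStalk_mem_support IV ξ hξV P' h1
    have h4 := fromSpecStalk_mem_support IW ξ hξW P' h2
    have h5 : X.fromSpecStalk ξ P' ⤳ ξ := by
      have : X.fromSpecStalk ξ P' ∈ Set.range (X.fromSpecStalk ξ) := ⟨_, rfl⟩
      rw [Scheme.range_fromSpecStalk] at this
      exact this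
    have h6 := hmax _ h3 h4 h5
    have h7 : X.fromSpecStalk ξ (IsLocalRing.closedPoint (X.presheaf.stalk ξ)) = ξ :=
      Scheme.fromSpecStalk_closedPoint
    have h8 : P' = IsLocalRing.closedPoint (X.presheaf.stalk ξ) :=
      (X.fromSpecStalk ξ).isEmbedding.injective (h6.trans h7.symm)
    exact congrArg PrimeSpectrum.asIdeal h8
  · obtain ⟨d, t, n', hd, ht, htc, hn', hdt⟩ := exists_dims f ξ
    obtain ⟨z, hz, ⟨e⟩⟩ := exists_quotEquiv IV ξ hξV
    obtain ⟨w, hw, ⟨e'⟩⟩ := exists_quotEquiv IW ξ hξW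
    obtain ⟨a, t₁, r', ha, ht₁, -, hr', hat⟩ := exists_dims (IV.subschemeι ≫ f) z
    obtain ⟨b, t₂, s', hb, ht₂, -, hs', hbt⟩ := exists_dims (IW.subschemeι ≫ f) w
    rw [rtd_comp, rtd_eq_zero_of_isPreimmersion IV.subschemeι, add_zero, hz, ht] at ht₁
    rw [rtd_comp, rtd_eq_zero_of_isPreimmersion IW.subschemeι, add_zero, hw, ht] at ht₂
    rw [dim_subscheme, hr] at hr'
    rw [dim_subscheme, hs] at hs'
    rw [hn] at hn'
    have e1 : t = t₁ := by exact_mod_cast ht₁
    have e2 : t = t₂ := by exact_mod_cast ht₂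
    have e3 : r = r' := by exact_mod_cast hr'
    have e4 : s = s' := by exact_mod_cast hs'
    have e5 : n = n' := by exact_mod_cast hn'
    refine ⟨a, b, d, (ringKrullDim_eq_of_ringEquiv e).trans ha,
      (ringKrullDim_eq_of_ringEquiv e').trans hb, hd, ?_⟩
    obtain ⟨h1, h2⟩ := hprop ⟨ξ, hξV, hξW⟩
    have h3 := (dim_closure_le (IV.support.isClosed.inter IW.support.isClosed)
      (x := ξ) ⟨hξV, hξW⟩).trans h2
    rw [htc] at h3
    have h4 : t ≤ r + s - n := by exact_mod_cast h3
    omega

end Groth.Agent.CycA.IntLocal
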