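import Groth.Agent.CycB.KeyDet

/-!
# Global part of the key lemma (Stacks 0EAW)

A lattice in the product of the `M i / (ab)` with vanishing Herbrand index.
-/

set_option autoImplicit false

namespace Groth.Agent.CycA.KeyGlob

open Submodule IsLocalRing Groth.Agent.CycB.KeyIdx Groth.Agent.CycB.KeyLat Groth.Agent.CycB.KeyDet

section Index

variable {A : Type*} [CommRing A] [IsNoetherianRing A] [IsLocalRing A]
  {C V : Type*} [AddCommGroup C] [Module A C] [AddCommGroup V] [Module A V]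

omit [IsNoetherianRing A] [IsLocalRing A] in
theorem idx_formula (π : C →ₗ[A] V) (a b : A) (ha : Function.Injective (LinearMap.lsmul A C a))
    (ht : ∀ c : C, π ((a * b) • c) = 0)
    (hfin : relLen (LinearMap.range (LinearMap.lsmul A C (a * b))) (LinearMap.ker π) ≠ ⊤) :
    idx (LinearMap.ker (LinearMap.lsmul A V a) ⊓ LinearMap.range π)
      ((LinearMap.range π).map (LinearMap.lsmul A V b)) =
    idx (LinearMap.range (LinearMap.lsmul A C a) ⊓ LinearMap.ker π)
        (LinearMap.range (LinearMap.lsmul A C (a * b)))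
      + idx (LinearMap.range (LinearMap.lsmul A C b) ⊓ LinearMap.ker π)
        (LinearMap.range (LinearMap.lsmul A C (a * b)))
      - idx (LinearMap.ker π) (LinearMap.range (LinearMap.lsmul A C (a * b))) := by
  set K := LinearMap.ker π with hK
  set tC := LinearMap.range (LinearMap.lsmul A C (a * b)) with htC
  set bC := LinearMap.range (LinearMap.lsmul A C b) with hbC
  set aC := LinearMap.range (LinearMap.lsmul A C a) with haC
  let Ka := K.comap (LinearMap.lsmul A C a)
  have htK : tC ≤ K := by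
    rintro _ ⟨c, rfl⟩
    exact ht c
  have htb : tC ≤ bC := by
    rintro _ ⟨c, rfl⟩
    exact ⟨a • c, by simp only [LinearMap.lsmul_apply, smul_smul, mul_comm b a]⟩
  have hta : tC ≤ aC := by
    rintro _ ⟨c, rfl⟩
    exact ⟨b • c, by simp only [LinearMap.lsmul_apply, smul_smul]⟩
  -- the maps
  have h1 : Ka.map (LinearMap.lsmul A C a) = aC ⊓ K := by
    rw [Submodule.map_comap_eq]
  have h2 : bC.map (LinearMap.lsmul A C a) = tC := by
    ext c
    constructor
    · rintro ⟨_, ⟨d, rfl⟩, rfl⟩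
      exact ⟨d, by simp only [LinearMap.lsmul_apply, smul_smul]⟩
    · rintro ⟨d, rfl⟩
      exact ⟨_, ⟨d, rfl⟩, by simp only [LinearMap.lsmul_apply, smul_smul]⟩
  have h3 : Ka.map π = LinearMap.ker (LinearMap.lsmul A V a) ⊓ LinearMap.range π := by
    ext v
    constructor
    · rintro ⟨c, hc, rfl⟩
      refine ⟨?_, ⟨c, rfl⟩⟩
      have : π (a • c) = 0 := hc
      rw [SetLike.mem_coe, LinearMap.mem_ker, LinearMap.lsmul_apply, ← map_smul]
      exact this
    · rintro ⟨hv, ⟨c, rfl⟩⟩
      refine ⟨c, ?_, rfl⟩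
      rw [SetLike.mem_coe, LinearMap.mem_ker, LinearMap.lsmul_apply, ← map_smul] at hv
      exact hv
  have h4 : bC.map π = (LinearMap.range π).map (LinearMap.lsmul A V b) := by
    ext v
    constructor
    · rintro ⟨_, ⟨d, rfl⟩, rfl⟩
      exact ⟨π d, ⟨d, rfl⟩, by simp⟩
    · rintro ⟨_, ⟨d, rfl⟩, rfl⟩
      exact ⟨_, ⟨d, rfl⟩, by simp⟩
  have hKKa : K ≤ Ka := by
    intro c hc
    have hc' : π c = 0 := hc
    change π (a • c) = 0
    rw [map_smul, hc', smul_zero]
  -- commensurability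
  have c1 : Comm (aC ⊓ K) tC :=
    ⟨by rw [relLen_eq_zero (le_inf hta htK)]; exact ENat.zero_ne_top,
      ne_top_of_le_ne_top hfin (relLen_mono_right inf_le_right)⟩
  have c2 : Comm (bC ⊓ K) tC :=
    ⟨by rw [relLen_eq_zero (le_inf htb htK)]; exact ENat.zero_ne_top,
      ne_top_of_le_ne_top hfin (relLen_mono_right inf_le_right)⟩
  have c3 : Comm K tC := ⟨by rw [relLen_eq_zero htK]; exact ENat.zero_ne_top, hfin⟩
  have c4 : Comm Ka bC := by
    rw [← comm_map_injective (LinearMap.lsmul A C a) ha, h1, h2]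
    exact c1
  have e1 := idx_map π c4
  rw [h3, h4, inf_eq_right.mpr hKKa] at e1
  have e2 := idx_map_injective (LinearMap.lsmul A C a) ha Ka bC
  rw [h1, h2] at e2
  have e3 := idx_add c3 c2.symm
  have e4 := idx_symm tC (bC ⊓ K)
  linarith

omit [IsNoetherianRing A] [IsLocalRing A] in
theorem eInv_eq_zero_of_map (π : C →ₗ[A] V) (a b : A)
    (ha : Function.Injective (LinearMap.lsmul A C a))
    (hb : Function.Injective (LinearMap.lsmul A C b))
    (ht : ∀ c : C, π ((a * b) • c) = 0)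
    (hfin : relLen (LinearMap.range (LinearMap.lsmul A C (a * b))) (LinearMap.ker π) ≠ ⊤) :
    eInv (LinearMap.lsmul A V a) (LinearMap.lsmul A V b) (LinearMap.range π) = 0 := by
  have e1 := idx_formula π a b ha ht hfin
  have e2 := idx_formula π b a hb (by rwa [mul_comm b a]) (by rwa [mul_comm b a])
  rw [mul_comm b a] at e2
  unfold eInv
  rw [e1, e2]
  ring

omit [IsNoetherianRing A] [IsLocalRing A] in
theorem eInv_eq_zero_of_map' (π : C →ₗ[A] V) (a b t : A) (htab : t = a * b)
    (ha : Function.Injective (LinearMap.lsmul A C a))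
    (hb : Function.Injective (LinearMap.lsmul A C b))
    (ht : ∀ c : C, π (t • c) = 0)
    (hfin : relLen (LinearMap.range (LinearMap.lsmul A C t)) (LinearMap.ker π) ≠ ⊤) :
    eInv (LinearMap.lsmul A V a) (LinearMap.lsmul A V b) (LinearMap.range π) = 0 := by
  subst htab
  exact eInv_eq_zero_of_map π a b ha hb ht hfin

end Index

section Primes

variable {A : Type*} [CommRing A] [IsNoetherianRing A] [IsLocalRing A]

/-- An ideal containing `t` and not inside any of the `q i` contains a power of `𝔪`. -/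
theorem exists_pow_le_of_forall {t : A} {ι : Type*} (q : ι → Ideal A)
    (hP : ∀ p : Ideal A, p.IsPrime → t ∈ p → p = maximalIdeal A ∨ ∃ i, p = q i)
    (J : Ideal A) (htJ : t ∈ J) (hJ : ∀ i, ∃ r ∈ J, r ∉ q i) :
    ∃ k : ℕ, maximalIdeal A ^ k ≤ J := by
  refine Ideal.exists_pow_le_of_le_radical_of_fg ?_ (IsNoetherian.noetherian _)
  rw [Ideal.radical_eq_sInf]
  refine le_sInf ?_
  rintro p ⟨hp1, hp2⟩
  rcases hP p hp2 (hp1 htJ) with h | ⟨i, h⟩
  · exact h.ge
  · obtain ⟨r, hr, hrq⟩ := hJ i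
    exact absurd (hp1 hr) (h ▸ hrq)

omit [IsNoetherianRing A] in
/-- If `w ∈ q j` then `s w ^ k ∈ t ^ N A` for some `s ∉ q j`. -/
theorem exists_mul_pow_mem {t : A} {ι : Type*} (q : ι → Ideal A) (hq : ∀ i, (q i).IsPrime)
    (hinc : ∀ i j, q i ≤ q j → i = j) (hne : ∀ i, q i ≠ maximalIdeal A)
    (hP : ∀ p : Ideal A, p.IsPrime → t ∈ p → p = maximalIdeal A ∨ ∃ i, p = q i)
    (j : ι) (w : A) (hw : w ∈ q j) (N : ℕ) :
    ∃ s ∉ q j, ∃ k : ℕ, ∃ z : A, s * w ^ k = t ^ N * z := by
  have := hq j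
  by_contra hcon
  push Not at hcon
  let S : Submonoid A := (q j).primeCompl ⊔ Submonoid.powers w
  have hdisj : Disjoint ((Ideal.span {t ^ N} : Ideal A) : Set A) (S : Set A) := by
    rw [Set.disjoint_left]
    intro x hx hxS
    obtain ⟨z, rfl⟩ := Ideal.mem_span_singleton.mp hx
    obtain ⟨s, hs, _, ⟨k, rfl⟩, hsk⟩ := Submonoid.mem_sup.mp hxS
    exact hcon s hs k z hsk
  obtain ⟨p, hp, hle, hpS⟩ := Ideal.exists_le_prime_disjoint _ S hdisj
  have htp : t ∈ p := by
    have : t ^ N ∈ p := hle (Ideal.mem_span_singleton_self _)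
    exact hp.mem_of_pow_mem _ this
  have hpq : p ≤ q j := by
    intro x hx
    by_contra hxq
    exact Set.disjoint_left.mp hpS hx ((le_sup_left : (q j).primeCompl ≤ S) hxq)
  have hwp : w ∉ p := fun h =>
    Set.disjoint_left.mp hpS h ((le_sup_right : Submonoid.powers w ≤ S) (Submonoid.mem_powers w))
  rcases hP p hp htp with h | ⟨i, h⟩
  · apply hne j
    refine (IsLocalRing.eq_maximalIdeal ?_)
    have h1 : (maximalIdeal A) ≤ q j := h ▸ hpq
    rw [← (IsLocalRing.maximalIdeal.isMaximal A).eq_of_le this.ne_top h1]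
    exact IsLocalRing.maximalIdeal.isMaximal A
  · rw [h] at hpq
    have := hinc i j hpq
    subst this
    exact hwp (h ▸ hw)

end Primes

section Main

variable {A : Type*} [CommRing A] {ι : Type*}
    (M : ι → Type*) [∀ i, AddCommGroup (M i)] [∀ i, Module A (M i)] (f : ∀ i, A →ₗ[A] M i)

/-- The submodule `{(x, y) | f i x = t ^ N y i}`. -/
def C (t : A) (N : ℕ) : Submodule A (A × (∀ i, M i)) where
  carrier := {p | ∀ i, f i p.1 = t ^ N • p.2 i}
  add_mem' := by
    intro p p' hp hp' i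
    have h1 := hp i
    have h2 := hp' i
    simp only [Prod.fst_add, Prod.snd_add, Pi.add_apply, map_add, smul_add]
    rw [h1, h2]
  zero_mem' := by intro i; simp
  smul_mem' := by
    intro c p hp i
    have h1 := hp i
    simp only [Prod.smul_fst, Prod.smul_snd, Pi.smul_apply, map_smul]
    rw [h1, smul_comm]

/-- The projection of `C` to the product of the `M i / t`. -/
def toV (t : A) (N : ℕ) :
    C M f t N →ₗ[A] (∀ i, M i ⧸ LinearMap.range (LinearMap.lsmul A (M i) t)) :=
  (LinearMap.pi (fun i => (Submodule.mkQ (LinearMap.range (LinearMap.lsmul A (M i) t))) ∘ₗ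
    LinearMap.proj i)) ∘ₗ (LinearMap.snd A A (∀ i, M i)) ∘ₗ (C M f t N).subtype

theorem toV_apply (t : A) (N : ℕ) (c : C M f t N) (i : ι) :
    toV M f t N c i = Submodule.Quotient.mk (c.1.2 i) := rfl

theorem mk_eq_zero_iff (t : A) (i : ι) (y : M i) :
    (Submodule.Quotient.mk y : M i ⧸ LinearMap.range (LinearMap.lsmul A (M i) t)) = 0 ↔
      ∃ m : M i, y = t • m := by
  rw [Submodule.Quotient.mk_eq_zero, LinearMap.mem_range]
  constructor
  · rintro ⟨m, hm⟩; exact ⟨m, hm.symm⟩
  · rintro ⟨m, hm⟩; exact ⟨m, hm.symm⟩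

end Main

section Thm

variable {A : Type*} [CommRing A] [IsNoetherianRing A] [IsLocalRing A] {ι : Type*} [Finite ι]

omit [IsNoetherianRing A] in
theorem exists_rho {t : A} (q : ι → Ideal A) (hq : ∀ i, (q i).IsPrime)
    (hinc : ∀ i j, q i ≤ q j → i = j) (hne : ∀ i, q i ≠ maximalIdeal A)
    (hP : ∀ p : Ideal A, p.IsPrime → t ∈ p → p = maximalIdeal A ∨ ∃ i, p = q i)
    (M : ι → Type*) [∀ i, AddCommGroup (M i)] [∀ i, Module A (M i)] (f : ∀ i, A →ₗ[A] M i)
    (hinv : ∀ i, ∀ s ∉ q i, Function.Bijective (fun m : M i => s • m)) (N : ℕ) (i : ι) :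
    ∃ ρ ∉ q i, ∀ j, j ≠ i → ∀ x : A, ∃ m : M j, f j (ρ * x) = t ^ N • m := by
  classical
  have := Fintype.ofFinite ι
  have h1 : ∀ j, ∃ ρ ∉ q i, j ≠ i → ∀ x : A, ∃ m : M j, f j (ρ * x) = t ^ N • m := by
    intro j
    by_cases hji : j = i
    · exact ⟨1, fun h => (hq i).ne_top ((Ideal.eq_top_iff_one _).mpr h), fun h => absurd hji h⟩
    · obtain ⟨w, hwj, hwi⟩ : ∃ w ∈ q j, w ∉ q i := by
        by_contra! h
        exact hji (hinc j i h)
      obtain ⟨s, hs, k, z, hz⟩ := exists_mul_pow_mem q hq hinc hne hP j w hwj N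
      refine ⟨w ^ k, fun h => hwi ((hq i).mem_of_pow_mem _ h), fun _ x => ?_⟩
      obtain ⟨m, hm⟩ := (hinv j s hs).2 (f j (z * x))
      refine ⟨m, ?_⟩
      apply (hinv j s hs).1
      change s • f j (w ^ k * x) = s • t ^ N • m
      rw [smul_comm s (t ^ N) m]
      change _ = t ^ N • ((fun m : M j => s • m) m)
      rw [hm, ← map_smul, ← map_smul]
      congr 1
      simp only [smul_eq_mul]
      linear_combination x * hz
  choose ρ hρ hρ' using h1
  refine ⟨∏ j, ρ j, ?_, ?_⟩
  · intro h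
    obtain ⟨j, -, hj⟩ := (Ideal.IsPrime.prod_mem_iff (hp := hq i)).mp h
    exact hρ j hj
  · intro j hji x
    obtain ⟨m, hm⟩ := hρ' j hji ((∏ l ∈ Finset.univ.erase j, ρ l) * x)
    refine ⟨m, ?_⟩
    rw [← hm, ← mul_assoc, Finset.mul_prod_erase _ _ (Finset.mem_univ j)]

/-- The global part of the key lemma, with a name for the product. -/
theorem exists_lattice_aux
    (a b t : A) (htab : t = a * b) (ha : a ∈ nonZeroDivisors A) (hb : b ∈ nonZeroDivisors A)
    (q : ι → Ideal A) (hq : ∀ i, (q i).IsPrime)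
    (hinc : ∀ i j, q i ≤ q j → i = j) (hne : ∀ i, q i ≠ maximalIdeal A)
    (hP : ∀ p : Ideal A, p.IsPrime → t ∈ p → p = maximalIdeal A ∨ ∃ i, p = q i)
    (M : ι → Type*) [∀ i, AddCommGroup (M i)] [∀ i, Module A (M i)] (f : ∀ i, A →ₗ[A] M i)
    (hinv : ∀ i, ∀ s ∉ q i, Function.Bijective (fun m : M i => s • m))
    (hker : ∀ i x, f i x = 0 → ∃ s ∉ q i, s * x = 0)
    (ht : ∀ i, Function.Injective (fun m : M i => t • m))
    (hcok : ∀ i, ∃ n : ℕ, ∀ y : M i, ∃ s ∉ q i, ∃ x, f i x = s • t ^ n • y) :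
    ∃ L : Submodule A (∀ i, M i ⧸ LinearMap.range (LinearMap.lsmul A (M i) t)),
      IsLat ⊤ L ∧ eInv (LinearMap.lsmul A _ a) (LinearMap.lsmul A _ b) L = 0 := by
  classical
  have := Fintype.ofFinite ι
  -- uniform exponent
  choose n hn using hcok
  obtain ⟨N, hN⟩ : ∃ N : ℕ, ∀ i, n i ≤ N := ⟨Finset.univ.sup n, fun i =>
    Finset.le_sup (f := n) (Finset.mem_univ i)⟩
  have hcok : ∀ (i) (y : M i), ∃ s ∉ q i, ∃ x, f i x = s • t ^ N • y := by
    intro i y
    obtain ⟨s, hs, x, hx⟩ := hn i y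
    refine ⟨s, hs, t ^ (N - n i) * x, ?_⟩
    have h1 : f i (t ^ (N - n i) * x) = t ^ (N - n i) • f i x := by
      rw [← smul_eq_mul, map_smul]
    rw [h1, hx, smul_comm, smul_smul (t ^ (N - n i)), ← pow_add, Nat.sub_add_cancel (hN i)]
  have htN : ∀ (k : ℕ) (i) (m m' : M i), t ^ k • m = t ^ k • m' → m = m' := by
    intro k i
    induction k with
    | zero => intro m m' h; simpa using h
    | succ k ih =>
      intro m m' h
      rw [pow_succ, mul_smul, mul_smul] at h
      exact ht i (ih _ _ h)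
  have hsinj : ∀ (i) (s : A), s ∉ q i → ∀ m m' : M i, s • m = s • m' → m = m' :=
    fun i s hs m m' h => (hinv i s hs).1 h
  choose ρ hρ hρ' using fun i => exists_rho q hq hinc hne hP M f hinv (N + 1) i
  -- ρ kills M j / t
  have hρM : ∀ i j, j ≠ i → ∀ y : M j, ∃ m : M j, ρ i • y = t • m := by
    intro i j hji y
    obtain ⟨s, hs, x, hx⟩ := hcok j y
    obtain ⟨m, hm⟩ := hρ' i j hji x
    obtain ⟨m', hm'⟩ := (hinv j s hs).2 m
    refine ⟨m', ?_⟩
    apply hsinj j s hs
    apply htN N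
    have h1 : f j (ρ i * x) = ρ i • f j x := by rw [← smul_eq_mul, map_smul]
    rw [h1, hx, ← hm'] at hm
    calc t ^ N • s • ρ i • y = ρ i • s • t ^ N • y := by
          simp only [smul_smul]; congr 1; ring
      _ = t ^ (N + 1) • (s • m') := hm
      _ = t ^ N • s • t • m' := by simp only [smul_smul]; congr 1; ring
  -- C is finitely generated
  have hfst : Function.Injective ((LinearMap.fst A A (∀ i, M i)) ∘ₗ (C M f t N).subtype) := by
    rw [← LinearMap.ker_eq_bot, LinearMap.ker_eq_bot']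
    rintro ⟨⟨x, y⟩, hc⟩ h
    have hx : x = 0 := h
    subst hx
    have hy : y = 0 := by
      funext i
      have h1 := hc i
      simp only [map_zero] at h1
      apply htN N
      rw [← h1, Pi.zero_apply, smul_zero]
    subst hy
    rfl
  have hCfin : Module.Finite A (C M f t N) := Module.Finite.of_injective _ hfst
  have hCnoeth : IsNoetherian A (C M f t N) := isNoetherian_of_isNoetherianRing_of_finite _ _
  have hmulinj : ∀ c : A, c ∈ nonZeroDivisors A →
      Function.Injective (LinearMap.lsmul A (C M f t N) c) := by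
    intro c hc
    rw [← LinearMap.ker_eq_bot, LinearMap.ker_eq_bot']
    intro z hz
    apply hfst
    have h1 : c * z.1.1 = 0 := congrArg (fun z : C M f t N => z.1.1) hz
    rw [map_zero]
    exact (mul_left_mem_nonZeroDivisors_eq_zero_iff hc).mp h1
  let π := toV M f t N
  have htπ : ∀ c : C M f t N, π (t • c) = 0 := by
    intro c
    funext i
    change (Submodule.Quotient.mk (t • c.1.2 i) : M i ⧸ _) = 0
    rw [mk_eq_zero_iff]
    exact ⟨_, rfl⟩
  -- elements of C
  have hmk : ∀ (x : A) (i : ι) (y : M i), f i (ρ i * x) = t ^ N • y →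
      ∃ c : C M f t N, c.1.1 = ρ i * x ∧ c.1.2 i = y ∧
        ∀ j, j ≠ i → ∃ m, c.1.2 j = t • m := by
    intro x i y hxy
    choose m hm using fun j : {j // j ≠ i} => hρ' i j.1 j.2 x
    let y' : ∀ j, M j := fun j => if h : j = i then h ▸ y else t • m ⟨j, h⟩
    have hy'i : y' i = y := by simp [y']
    have hy'j : ∀ j (h : j ≠ i), y' j = t • m ⟨j, h⟩ := by
      intro j h
      simp [y', h]
    refine ⟨⟨(ρ i * x, y'), ?_⟩, rfl, hy'i, fun j h => ⟨_, hy'j j h⟩⟩
    intro j
    by_cases h : j = i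
    · subst h
      change f j (ρ j * x) = t ^ N • y' j
      rw [hxy, hy'i]
    · change f j (ρ i * x) = t ^ N • y' j
      rw [hy'j j h, hm ⟨j, h⟩, smul_smul, ← pow_succ]
  refine ⟨LinearMap.range π, ⟨le_top, ?_, ?_⟩, ?_⟩
  · rw [← Submodule.map_top]
    exact (Module.Finite.fg_top).map π
  · -- absorbing
    intro v _
    obtain ⟨k, hk⟩ := exists_pow_le_of_forall q hP
      ((LinearMap.range π).comap (LinearMap.toSpanSingleton A _ v)) (by
        have : t • v = 0 := by
          funext i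
          obtain ⟨y, hy⟩ := Submodule.Quotient.mk_surjective _ (v i)
          change t • v i = 0
          rw [← hy, ← Submodule.Quotient.mk_smul, mk_eq_zero_iff]
          exact ⟨y, rfl⟩
        change t • v ∈ LinearMap.range π
        rw [this]
        exact Submodule.zero_mem _) (by
        intro i
        choose y hy using fun j => Submodule.Quotient.mk_surjective _ (v j)
        obtain ⟨s, hs, x, hx⟩ := hcok i (y i)
        obtain ⟨c, hc1, hc2, hc3⟩ := hmk x i (ρ i • s • y i) (by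
          rw [← smul_eq_mul, map_smul, hx]
          simp only [smul_smul]; congr 1; ring)
        refine ⟨ρ i * s, ⟨c, ?_⟩, fun h => ((hq i).mem_or_mem h).elim (hρ i) hs⟩
        funext j
        change (Submodule.Quotient.mk (c.1.2 j) : M j ⧸ _) = (ρ i * s) • v j
        rw [← hy j, ← Submodule.Quotient.mk_smul]
        by_cases h : j = i
        · subst h
          rw [hc2, mul_smul]
        · obtain ⟨m, hm⟩ := hc3 j h
          obtain ⟨m', hm'⟩ := hρM i j h (s • y j)
          rw [hm, mul_smul, hm', (mk_eq_zero_iff M t j _).mpr ⟨m, rfl⟩,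
            (mk_eq_zero_iff M t j _).mpr ⟨m', rfl⟩])
    exact ⟨k, fun r hr => hk hr⟩
  · -- vanishing
    refine eInv_eq_zero_of_map' π a b t htab (hmulinj a ha) (hmulinj b hb) htπ ?_
    unfold relLen
    have : Module.Finite A (LinearMap.ker π) := inferInstance
    refine length_ne_top_of_fg_of_torsion ?_
    intro v
    obtain ⟨⟨c, hc⟩, rfl⟩ := Submodule.mkQ_surjective _ v
    have hcy : ∀ i, ∃ z : M i, c.1.2 i = t • z := by
      intro i
      have h1 : π c i = 0 := by
        have : π c = 0 := hc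
        rw [this]; rfl
      exact (mk_eq_zero_iff M t i _).mp h1
    obtain ⟨k, hk⟩ := exists_pow_le_of_forall q hP
      ((LinearMap.range (LinearMap.lsmul A (C M f t N) t)).comap
        (LinearMap.toSpanSingleton A _ c)) ⟨c, rfl⟩ (by
        intro i
        obtain ⟨z, hz⟩ := hcy i
        obtain ⟨s, hs, x1, hx1⟩ := hcok i z
        have hcx : f i c.1.1 = t ^ N • c.1.2 i := c.2 i
        obtain ⟨s', hs', hs'x⟩ := hker i (s * c.1.1 - t * x1) (by
          rw [map_sub, ← smul_eq_mul, map_smul, ← smul_eq_mul t, map_smul, hcx, hx1, hz, sub_eq_zero]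
          simp only [smul_smul]; congr 1; ring)
        obtain ⟨c', hc1, hc2, hc3⟩ := hmk (s' * x1) i ((ρ i * s' * s) • z) (by
          have : ρ i * (s' * x1) = (ρ i * s') • x1 := by rw [smul_eq_mul]; ring
          rw [this, map_smul, hx1]
          simp only [smul_smul]; congr 1; ring)
        refine ⟨ρ i * s' * s, ⟨c', ?_⟩, ?_⟩
        · apply hfst
          change t * c'.1.1 = (ρ i * s' * s) * c.1.1
          rw [hc1]
          linear_combination (-ρ i) * hs'x
        · intro h
          rcases (hq i).mem_or_mem h with h | h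
          · exact ((hq i).mem_or_mem h).elim (hρ i) hs'
          · exact hs h)
    refine ⟨k, fun r hr => ?_⟩
    rw [← map_smul, Submodule.mkQ_apply, Submodule.Quotient.mk_eq_zero, mem_sOf]
    exact hk hr

/-- The global part of the key lemma. -/
theorem exists_lattice_eInv_eq_zero
    (a b : A) (ha : a ∈ nonZeroDivisors A) (hb : b ∈ nonZeroDivisors A)
    (q : ι → Ideal A) (hq : ∀ i, (q i).IsPrime)
    (hinc : ∀ i j, q i ≤ q j → i = j) (hne : ∀ i, q i ≠ maximalIdeal A)
    (_hab : ∀ i, a * b ∈ q i)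
    (hP : ∀ p : Ideal A, p.IsPrime → a * b ∈ p → p = maximalIdeal A ∨ ∃ i, p = q i)
    (M : ι → Type*) [∀ i, AddCommGroup (M i)] [∀ i, Module A (M i)] (f : ∀ i, A →ₗ[A] M i)
    (hinv : ∀ i, ∀ s ∉ q i, Function.Bijective (fun m : M i => s • m))
    (hker : ∀ i x, f i x = 0 → ∃ s ∉ q i, s * x = 0)
    (ht : ∀ i, Function.Injective (fun m : M i => (a * b) • m))
    (hcok : ∀ i, ∃ n : ℕ, ∀ y : M i, ∃ s ∉ q i, ∃ x, f i x = s • (a * b) ^ n • y) :
    ∃ L : Submodule A (∀ i, M i ⧸ LinearMap.range (LinearMap.lsmul A (M i) (a * b))),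
      IsLat ⊤ L ∧ eInv (LinearMap.lsmul A _ a) (LinearMap.lsmul A _ b) L = 0 :=
  exists_lattice_aux a b (a * b) rfl ha hb q hq hinc hne hP M f hinv hker ht hcok

end Thm

end Groth.Agent.CycA.KeyGlob
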