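import Mathlib.Algebra.Group.ForwardDiff
import Mathlib.Analysis.SpecialFunctions.Choose
import Mathlib.Analysis.SpecificLimits.Basic
import Mathlib.Algebra.BigOperators.Field

/-!
Asymptotics of a sequence whose `r`-th forward difference is eventually constant.
-/

set_option autoImplicit false

namespace Groth.Agent.CycA.KoszulAsym

open Filter Topology fwdDiff

theorem eq_sum_choose (g : ℕ → ℤ) (r : ℕ) (c : ℤ) (t₀ : ℕ)
    (h : ∀ t ≥ t₀, (Δ_[1]^[r] g) t = c) (n : ℕ) :
    g (t₀ + n) = ∑ k ∈ Finset.range (r + 1), (n.choose k : ℤ) * (Δ_[1]^[k] g) t₀ := by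
  have hz : ∀ k, r < k → ∀ t ≥ t₀, (Δ_[1]^[k] g) t = 0 := by
    intro k hk
    obtain ⟨j, rfl⟩ : ∃ j, k = r + 1 + j := ⟨k - (r + 1), by omega⟩
    clear hk
    induction j with
    | zero =>
      intro t ht
      rw [add_zero, Function.iterate_succ_apply', fwdDiff, h t ht, h (t + 1) (by omega), sub_self]
    | succ j ih =>
      intro t ht
      rw [← add_assoc, Function.iterate_succ_apply', fwdDiff, ih t ht, ih (t + 1) (by omega),
        sub_self]
  have := shift_eq_sum_fwdDiff_iter (1 : ℕ) g n t₀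
  rw [smul_eq_mul, mul_one] at this
  rw [this]
  have h1 : ∀ m, ∑ k ∈ Finset.range (n + 1), n.choose k • (Δ_[1]^[k] g) t₀ =
      ∑ k ∈ Finset.range (n + 1 + m), (n.choose k : ℤ) * (Δ_[1]^[k] g) t₀ := by
    intro m
    rw [← Finset.sum_subset (Finset.range_mono (show n + 1 ≤ n + 1 + m by omega))]
    · apply Finset.sum_congr rfl
      intro k _
      rw [nsmul_eq_mul]
    · intro k _ hk
      rw [Finset.mem_range, not_lt] at hk
      rw [Nat.choose_eq_zero_of_lt (by omega)]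
      simp
  rw [h1 r]
  rw [← Finset.sum_subset (Finset.range_mono (show r + 1 ≤ n + 1 + r by omega))]
  intro k _ hk
  rw [Finset.mem_range, not_lt] at hk
  rw [hz k (by omega) t₀ le_rfl, mul_zero]

theorem tendsto_choose_div (k : ℕ) :
    Tendsto (fun n : ℕ => (n.choose k : ℝ) / (n : ℝ) ^ k) atTop (𝓝 (1 / (k.factorial : ℝ))) := by
  have h := isEquivalent_choose k
  have hne : ∀ᶠ n : ℕ in atTop, ((n : ℝ) ^ k / (k.factorial : ℝ)) ≠ 0 := by
    filter_upwards [eventually_gt_atTop 0] with n hn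
    have : (n : ℝ) ≠ 0 := by exact_mod_cast hn.ne'
    positivity
  have h2 := (Asymptotics.isEquivalent_iff_tendsto_one hne).1 h
  have h3 := h2.mul_const (1 / (k.factorial : ℝ))
  rw [one_mul] at h3
  refine h3.congr' ?_
  filter_upwards [eventually_gt_atTop 0] with n hn
  have : (n : ℝ) ≠ 0 := by exact_mod_cast hn.ne'
  have hk : (k.factorial : ℝ) ≠ 0 := by exact_mod_cast k.factorial_ne_zero
  simp only [Pi.div_apply]
  field_simp

theorem tendsto_div_add (t₀ : ℕ) :
    Tendsto (fun n : ℕ => (n : ℝ) / ((n + t₀ : ℕ) : ℝ)) atTop (𝓝 1) := by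
  have := tendsto_natCast_div_add_atTop (𝕜 := ℝ) (t₀ : ℝ)
  refine this.congr (fun n => ?_)
  push_cast
  rfl

theorem tendsto_choose_div' (k r t₀ : ℕ) (hk : k ≤ r) :
    Tendsto (fun n : ℕ => (n.choose k : ℝ) / ((n + t₀ : ℕ) : ℝ) ^ r) atTop
      (𝓝 (if k = r then 1 / (r.factorial : ℝ) else 0)) := by
  have h1 := (tendsto_choose_div k).mul ((tendsto_div_add t₀).pow k)
  rw [one_pow, mul_one] at h1
  have h2 : Tendsto (fun n : ℕ => (1 : ℝ) / ((n + t₀ : ℕ) : ℝ) ^ (r - k)) atTop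
      (𝓝 (if k = r then 1 else 0)) := by
    rcases eq_or_lt_of_le hk with rfl | hlt
    · simp
    · rw [if_neg hlt.ne]
      have hpos : r - k ≠ 0 := by omega
      simp only [one_div]
      apply Tendsto.inv_tendsto_atTop
      have h3 : Tendsto (fun n : ℕ => ((n + t₀ : ℕ) : ℝ)) atTop atTop :=
        tendsto_natCast_atTop_atTop.comp (tendsto_add_atTop_nat t₀)
      exact (tendsto_pow_atTop hpos).comp h3
  have h4 := h1.mul h2
  have h5 : (1 / (k.factorial : ℝ)) * (if k = r then 1 else 0) =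
      (if k = r then 1 / (r.factorial : ℝ) else 0) := by
    split_ifs with h
    · rw [h, mul_one]
    · rw [mul_zero]
  rw [h5] at h4
  refine h4.congr' ?_
  filter_upwards [eventually_gt_atTop 0] with n hn
  have hn' : (n : ℝ) ≠ 0 := by exact_mod_cast hn.ne'
  have hn'' : ((n + t₀ : ℕ) : ℝ) ≠ 0 := by exact_mod_cast (by omega : n + t₀ ≠ 0)
  obtain ⟨j, rfl⟩ : ∃ j, r = k + j := ⟨r - k, by omega⟩
  rw [Nat.add_sub_cancel_left, pow_add, div_pow]
  field_simp

theorem tendsto_of_fwdDiff (g : ℕ → ℤ) (r : ℕ) (c : ℤ) (t₀ : ℕ)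
    (h : ∀ t ≥ t₀, (Δ_[1]^[r] g) t = c) :
    Tendsto (fun t : ℕ => (r.factorial : ℝ) * (g t : ℝ) / (t : ℝ) ^ r) atTop (𝓝 (c : ℝ)) := by
  rw [← tendsto_add_atTop_iff_nat t₀]
  have h1 : Tendsto (fun n : ℕ => ∑ k ∈ Finset.range (r + 1),
      ((r.factorial : ℝ) * ((Δ_[1]^[k] g) t₀ : ℝ)) * ((n.choose k : ℝ) / ((n + t₀ : ℕ) : ℝ) ^ r))
      atTop (𝓝 (∑ k ∈ Finset.range (r + 1), ((r.factorial : ℝ) * ((Δ_[1]^[k] g) t₀ : ℝ)) *
        (if k = r then 1 / (r.factorial : ℝ) else 0))) := by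
    apply tendsto_finsetSum
    intro k hk
    exact (tendsto_choose_div' k r t₀ (by rw [Finset.mem_range] at hk; omega)).const_mul _
  have h2 : (∑ k ∈ Finset.range (r + 1), ((r.factorial : ℝ) * ((Δ_[1]^[k] g) t₀ : ℝ)) *
        (if k = r then 1 / (r.factorial : ℝ) else 0)) = (c : ℝ) := by
    rw [Finset.sum_eq_single r]
    · rw [if_pos rfl, h t₀ le_rfl]
      have hk : (r.factorial : ℝ) ≠ 0 := by exact_mod_cast r.factorial_ne_zero
      field_simp
    · intro k _ hk
      rw [if_neg hk, mul_zero]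
    · intro h
      exact absurd (Finset.mem_range.2 (Nat.lt_succ_self r)) h
  rw [h2] at h1
  refine h1.congr (fun n => ?_)
  have h3 := eq_sum_choose g r c t₀ h n
  rw [add_comm t₀ n] at h3
  rw [h3]
  push_cast
  rw [Finset.mul_sum, Finset.sum_div]
  apply Finset.sum_congr rfl
  intro k _
  ring

end Groth.Agent.CycA.KoszulAsym
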