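import Groth.Agent.CycA.KoszulCore
import Groth.Agent.CycA.KoszulAsym
import Mathlib.RingTheory.Artinian.Module
import Mathlib.LinearAlgebra.Pi
import Mathlib.RingTheory.Finiteness.Prod

/-!
The Hilbert-Samuel function and the Euler characteristic of the Koszul complex
(Stacks 0AZZ) for elementary complexes.
-/

set_option autoImplicit false

namespace Groth.Agent.CycA.KoszulSamuel

open Groth.Agent.CycA.KoszulCore Filter Topology fwdDiff

universe u v

variable {A : Type u} [CommRing A]

theorem add_ne_top {a b : ℕ∞} : a + b ≠ ⊤ ↔ a ≠ ⊤ ∧ b ≠ ⊤ := by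
  rw [ne_eq, ENat.add_eq_top, not_or]

open Classical in
theorem isArtinian_quot_pow (M : Type v) [AddCommGroup M] [Module A M]
    (I : Ideal A) (hI : I.FG) (h : IsArtinian A (M ⧸ (I • ⊤ : Submodule A M))) (t : ℕ) :
    IsArtinian A (M ⧸ (I ^ t • ⊤ : Submodule A M)) := by
  induction t with
  | zero =>
    have : Subsingleton (M ⧸ (I ^ 0 • ⊤ : Submodule A M)) := by
      rw [Submodule.Quotient.subsingleton_iff, pow_zero, Ideal.one_eq_top, Submodule.top_smul]
    infer_instance
  | succ t ih =>
    obtain ⟨s, hs⟩ := hI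
    have hmul : ∀ a ∈ s, (I ^ t • ⊤ : Submodule A M) ≤
        (I ^ (t + 1) • ⊤ : Submodule A M).comap (LinearMap.lsmul A M a) := by
      intro a ha x hx
      have ha' : a ∈ I := hs ▸ Ideal.subset_span ha
      rw [Submodule.mem_comap, LinearMap.lsmul_apply, pow_succ', mul_smul]
      exact Submodule.smul_mem_smul ha' hx
    let ψ : (s → (M ⧸ (I ^ t • ⊤ : Submodule A M))) →ₗ[A] (M ⧸ (I ^ (t + 1) • ⊤ : Submodule A M)) :=
      ∑ a : s, ((I ^ t • ⊤ : Submodule A M).mapQ (I ^ (t + 1) • ⊤ : Submodule A M)
        (LinearMap.lsmul A M a.1) (hmul a.1 a.2)) ∘ₗ LinearMap.proj a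
    have hψ : ∀ (a : s) (x : M), ψ (Pi.single a (Submodule.Quotient.mk x)) =
        Submodule.Quotient.mk (a.1 • x) := by
      intro a x
      simp only [ψ, LinearMap.sum_apply, LinearMap.comp_apply, LinearMap.proj_apply]
      rw [Finset.sum_eq_single a]
      · rw [Pi.single_eq_same]
        rfl
      · intro b _ hb
        rw [Pi.single_eq_of_ne hb, map_zero]
      · intro h
        exact absurd (Finset.mem_univ a) h
    have hle : (I ^ (t + 1) • ⊤ : Submodule A M) ≤ (I • ⊤ : Submodule A M) := by
      rw [pow_succ', mul_smul]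
      exact smul_mono_right I le_top
    let g : (M ⧸ (I ^ (t + 1) • ⊤ : Submodule A M)) →ₗ[A] (M ⧸ (I • ⊤ : Submodule A M)) :=
      (I ^ (t + 1) • ⊤ : Submodule A M).mapQ _ LinearMap.id hle
    have hrange : (I • ⊤ : Submodule A M) ≤
        (LinearMap.range ψ).comap (I ^ (t + 1) • ⊤ : Submodule A M).mkQ := by
      rw [Submodule.smul_le]
      intro r hr w _
      rw [← hs] at hr
      induction hr using Submodule.span_induction with
      | mem a ha => exact ⟨Pi.single ⟨a, ha⟩ (Submodule.Quotient.mk w), hψ ⟨a, ha⟩ w⟩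
      | zero => rw [zero_smul]; exact zero_mem _
      | add a b _ _ ha hb => rw [add_smul]; exact add_mem ha hb
      | smul a b _ hb => rw [smul_assoc]; exact Submodule.smul_mem _ _ hb
    refine isArtinian_of_range_eq_ker ψ g (le_antisymm ?_ ?_)
    · rintro _ ⟨x, rfl⟩
      rw [LinearMap.mem_ker]
      simp only [ψ, LinearMap.sum_apply, LinearMap.comp_apply, LinearMap.proj_apply, map_sum]
      apply Finset.sum_eq_zero
      intro a _
      obtain ⟨y, hy⟩ := Submodule.Quotient.mk_surjective _ (x a)
      rw [← hy]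
      change (Submodule.Quotient.mk (a.1 • y) : M ⧸ (I • ⊤ : Submodule A M)) = 0
      rw [Submodule.Quotient.mk_eq_zero]
      exact Submodule.smul_mem_smul (hs ▸ Ideal.subset_span a.2) trivial
    · intro x hx
      obtain ⟨x, rfl⟩ := Submodule.Quotient.mk_surjective _ x
      rw [LinearMap.mem_ker] at hx
      change (Submodule.Quotient.mk x : M ⧸ (I • ⊤ : Submodule A M)) = 0 at hx
      rw [Submodule.Quotient.mk_eq_zero] at hx
      exact hrange hx

theorem length_quot_prod {M N : Type v} [AddCommGroup M] [Module A M] [AddCommGroup N] [Module A N]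
    (P : Submodule A M) (Q : Submodule A N) :
    Module.length A ((M × N) ⧸ P.prod Q) = Module.length A (M ⧸ P) + Module.length A (N ⧸ Q) := by
  rw [← Module.length_prod]
  let φ : (M × N) →ₗ[A] (M ⧸ P) × (N ⧸ Q) := LinearMap.prodMap P.mkQ Q.mkQ
  have hφ : Function.Surjective φ := by
    rintro ⟨x, y⟩
    obtain ⟨x, rfl⟩ := Submodule.Quotient.mk_surjective _ x
    obtain ⟨y, rfl⟩ := Submodule.Quotient.mk_surjective _ y
    exact ⟨(x, y), rfl⟩
  have hker : P.prod Q = LinearMap.ker φ := by
    ext ⟨x, y⟩
    rw [LinearMap.mem_ker, Submodule.mem_prod]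
    change _ ↔ ((Submodule.Quotient.mk x : M ⧸ P), (Submodule.Quotient.mk y : N ⧸ Q)) = 0
    rw [Prod.mk_eq_zero, Submodule.Quotient.mk_eq_zero, Submodule.Quotient.mk_eq_zero]
  exact (Submodule.quotEquivOfEq _ _ hker ≪≫ₗ φ.quotKerEquivOfSurjective hφ).length_eq

variable {I : Ideal A}

/-- The quotients by the filtration steps have finite length. -/
def FinLen {S : Set A} {E : EC.{u, v} A} (W : Filt I S E) : Prop :=
  ∀ i t, Module.length A (E.X i ⧸ (W.F i).N t) ≠ ⊤

/-- Euler characteristic of the quotient by the `t`-th step. -/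
noncomputable def chiF {S : Set A} {E : EC.{u, v} A} (W : Filt I S E) (t : ℕ) : ℤ :=
  altSum (fun i => ((Module.length A (E.X i ⧸ (W.F i).N t)).toNat : ℤ))

theorem FinLen.cone {S : Set A} {E : EC.{u, v} A} {W : Filt I S E} (h : FinLen W) (f : A)
    (hf : f ∈ I) : FinLen (W.cone f hf) := by
  intro i t
  have : Module.length A ((E.cone f).X i ⧸ ((W.cone f hf).F i).N t) =
      Module.length A (E.X (i + 1) ⧸ (W.F (i + 1)).N (t - 1)) +
        Module.length A (E.X i ⧸ (W.F i).N t) :=
    length_quot_prod _ _
  rw [this]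
  exact add_ne_top.2 ⟨h _ _, h _ _⟩

theorem support_finite {E : EC.{u, v} A} (hb : E.Bdd) (c : ℤ → ℤ)
    (hc : ∀ i, Subsingleton (E.X i) → c i = 0) : c.support.Finite := by
  obtain ⟨a, b, h⟩ := hb
  refine (Finset.finite_toSet (Finset.Icc a b)).subset (fun i hi => ?_)
  rw [Function.mem_support] at hi
  rw [Finset.coe_Icc, Set.mem_Icc]
  by_contra hcon
  exact hi (hc i (h i (by omega)))

theorem chiF_cone {S : Set A} {E : EC.{u, v} A} {W : Filt I S E} (h : FinLen W) (hb : E.Bdd)
    (f : A) (hf : f ∈ I) (t : ℕ) :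
    chiF (W.cone f hf) (t + 1) = chiF W (t + 1) - chiF W t := by
  have h1 : ∀ i, ((Module.length A ((E.cone f).X i ⧸ ((W.cone f hf).F i).N (t + 1))).toNat : ℤ) =
      ((Module.length A (E.X (i + 1) ⧸ (W.F (i + 1)).N t)).toNat : ℤ) +
        ((Module.length A (E.X i ⧸ (W.F i).N (t + 1))).toNat : ℤ) := by
    intro i
    have : Module.length A ((E.cone f).X i ⧸ ((W.cone f hf).F i).N (t + 1)) =
      Module.length A (E.X (i + 1) ⧸ (W.F (i + 1)).N t) +
        Module.length A (E.X i ⧸ (W.F i).N (t + 1)) :=
      length_quot_prod _ _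
    rw [this, ENat.toNat_add (h _ _) (h _ _)]
    push_cast
    rfl
  unfold chiF
  simp only [h1]
  rw [altSum_add, altSum_shift (fun i => ((Module.length A (E.X i ⧸ (W.F i).N t)).toNat : ℤ))]
  · ring
  · have := support_finite hb (fun i => ((Module.length A (E.X i ⧸ (W.F i).N t)).toNat : ℤ))
      (fun i hi => by
        have : Subsingleton (E.X i ⧸ (W.F i).N t) := inferInstance
        rw [Module.length_eq_zero]; rfl)
    exact this.preimage (fun a _ b _ hab => by
      have : a + 1 = b + 1 := hab
      omega) |>.subset (fun i hi => hi)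
  · exact support_finite hb _ (fun i hi => by
      have : Subsingleton (E.X i ⧸ (W.F i).N (t + 1)) := inferInstance
      rw [Module.length_eq_zero]; rfl)

/-- Change the set of null-homotopic elements along an equality. -/
def congrS {S S' : Set A} {E : EC.{u, v} A} (W : Filt I S E) (h : S = S') : Filt I S' E where
  F := W.F
  zero := W.zero
  stable := W.stable
  map_d := W.map_d
  homotopy := h ▸ W.homotopy

/-- The Koszul complex on a list built on a base complex. -/
def kos (E : EC.{u, v} A) (l : List A) : EC.{u, v} A := l.foldr (fun f K => K.cone f) E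

theorem kos_nil (E : EC.{u, v} A) : kos E [] = E := rfl
theorem kos_cons (E : EC.{u, v} A) (f : A) (l : List A) : kos E (f :: l) = (kos E l).cone f := rfl

theorem kos_bdd {E : EC.{u, v} A} (h : E.Bdd) (l : List A) : (kos E l).Bdd := by
  induction l with
  | nil => exact h
  | cons f l ih => exact ih.cone f

theorem kos_finite {E : EC.{u, v} A} (h : ∀ i, Module.Finite A (E.X i)) (l : List A) :
    ∀ i, Module.Finite A ((kos E l).X i) := by
  induction l with
  | nil => exact h
  | cons f l ih =>
    intro i
    have h1 := ih i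
    have h2 := ih (i + 1)
    change Module.Finite A ((kos E l).X (i + 1) × (kos E l).X i)
    infer_instance

/-- The base filtered complex: `I`-adic filtration. -/
def baseFilt (I : Ideal A) (E : EC.{u, v} A) : Filt I ∅ E where
  F i := I.stableFiltration ⊤
  zero i := by
    change I ^ 0 • (⊤ : Submodule A (E.X i)) = ⊤
    rw [pow_zero, Ideal.one_eq_top, Submodule.top_smul]
  stable i := I.stableFiltration_stable _
  map_d i t x hx := by
    have : E.d i x ∈ (I ^ t • (⊤ : Submodule A (E.X i))).map (E.d i) := ⟨x, hx, rfl⟩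
    rw [Submodule.map_smul''] at this
    have hle : I ^ t • (⊤ : Submodule A (E.X i)).map (E.d i) ≤ I ^ t • (⊤ : Submodule A _) :=
      smul_mono_right (I ^ t) le_top
    exact hle this
  homotopy a ha := ha.elim

theorem exists_filt (E : EC.{u, v} A) (hb : E.Bdd) (hfl : FinLen (baseFilt I E)) (l : List A)
    (hl : ∀ f ∈ l, f ∈ I) :
    ∃ W : Filt I {x | x ∈ l} (kos E l), FinLen W ∧
      ∀ t, chiF W (t + l.length) = (Δ_[1]^[l.length] (chiF (baseFilt I E))) t := by
  induction l with
  | nil =>
    refine ⟨congrS (baseFilt I E) (by ext x; simp), hfl, fun t => rfl⟩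
  | cons f l ih =>
    obtain ⟨W, hW1, hW2⟩ := ih (fun g hg => hl g (List.mem_cons_of_mem _ hg))
    have hf : f ∈ I := hl f List.mem_cons_self
    refine ⟨congrS (W.cone f hf) (by ext x; simp [eq_comm]), hW1.cone f hf, fun t => ?_⟩
    change chiF (W.cone f hf) (t + (l.length + 1)) = _
    rw [← add_assoc, chiF_cone hW1 (kos_bdd hb l) f hf, List.length_cons,
      Function.iterate_succ_apply', fwdDiff, ← hW2, ← hW2]
    congr 2
    omega

/-- Euler characteristic computed by the quotient far out. -/
theorem chiF_eq {S : Set A} {E : EC.{u, v} A} (W : Filt I S E) (h : FinLen W) (hb : E.Bdd) (t : ℕ)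
    (hacyc : ∀ i, ∀ z ∈ (W.F (i + 1)).N t, E.d (i + 1) z = 0 → ∃ y ∈ (W.F i).N t, E.d i y = z) :
    chiF W t = - altSum (fun i => ((Module.length A (E.H i)).toNat : ℤ)) := by
  let F : ∀ i, Submodule A (E.X i) := fun i => (W.F i).N t
  have hF : ∀ i, F i ≤ (F (i + 1)).comap (E.d i) := fun i x hx => W.map_d i t x hx
  have key := length_quot_eq E F hF hacyc
  have hfin : ∀ i, Module.length A (LinearMap.range (quotD E F hF i)) ≠ ⊤ ∧
      Module.length A (E.H i) ≠ ⊤ := by
    intro i
    have h1 : Module.length A (E.X (i + 1) ⧸ F (i + 1)) ≠ ⊤ := h (i + 1) t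
    rw [key i, add_ne_top, add_ne_top] at h1
    exact ⟨h1.1.2, h1.2⟩
  have key2 : ∀ i, ((Module.length A (E.X (i + 1) ⧸ F (i + 1))).toNat : ℤ) =
      (((Module.length A (LinearMap.range (quotD E F hF (i + 1)))).toNat : ℤ) +
        ((Module.length A (LinearMap.range (quotD E F hF i))).toNat : ℤ)) +
        ((Module.length A (E.H i)).toNat : ℤ) := by
    intro i
    rw [key i, ENat.toNat_add (add_ne_top.2 ⟨(hfin (i + 1)).1, (hfin i).1⟩) (hfin i).2,
      ENat.toNat_add (hfin _).1 (hfin _).1]
    push_cast
    rfl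
  have hshift := altSum_shift (fun i => ((Module.length A (E.X i ⧸ F i)).toNat : ℤ))
  simp only [key2] at hshift
  have hsupp : ∀ (c : ℤ → ℤ), (∀ i, Subsingleton (E.X i) → c i = 0) → c.support.Finite :=
    fun c hc => support_finite hb c hc
  have hs1 : (fun i => ((Module.length A (LinearMap.range (quotD E F hF i))).toNat : ℤ)).support.Finite := by
    apply hsupp
    intro i hi
    have : Subsingleton (LinearMap.range (quotD E F hF i)) := by
      have : Subsingleton (E.X i ⧸ F i) := inferInstance
      rw [Submodule.subsingleton_iff_eq_bot, LinearMap.range_eq_bot]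
      ext x
      rw [Subsingleton.elim x 0]
      simp
    rw [Module.length_eq_zero]; rfl
  have hs2 : (fun i => ((Module.length A (LinearMap.range (quotD E F hF (i + 1)))).toNat : ℤ)).support.Finite :=
    hs1.preimage (f := fun i : ℤ => i + 1) (fun a _ b _ hab => by
      have : a + 1 = b + 1 := hab
      omega) |>.subset (fun i hi => hi)
  have hs3 : (fun i => ((Module.length A (E.H i)).toNat : ℤ)).support.Finite := by
    have h0 : (fun i => ((Module.length A (E.X i ⧸ F i)).toNat : ℤ)).support.Finite := by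
      apply hsupp
      intro i hi
      have : Subsingleton (E.X i ⧸ F i) := inferInstance
      rw [Module.length_eq_zero]; rfl
    refine (h0.preimage (f := fun i : ℤ => i + 1) (fun a _ b _ hab => by
      have : a + 1 = b + 1 := hab
      omega)).subset (fun i hi => ?_)
    rw [Set.mem_preimage, Function.mem_support, key2]
    rw [Function.mem_support] at hi
    omega
  have e1 := altSum_add (c := fun i => (((Module.length A (LinearMap.range (quotD E F hF (i + 1)))).toNat : ℤ) +
        ((Module.length A (LinearMap.range (quotD E F hF i))).toNat : ℤ)))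
        (c' := fun i => ((Module.length A (E.H i)).toNat : ℤ))
        ((hs2.union hs1).subset (Function.support_add _ _)) hs3
  have e2 := altSum_add (c := fun i => ((Module.length A (LinearMap.range (quotD E F hF (i + 1)))).toNat : ℤ))
    (c' := fun i => ((Module.length A (LinearMap.range (quotD E F hF i))).toNat : ℤ)) hs2 hs1
  have e3 := altSum_shift (fun i => ((Module.length A (LinearMap.range (quotD E F hF i))).toNat : ℤ))
  rw [e1, e2, e3] at hshift
  change altSum (fun i => ((Module.length A (E.X i ⧸ F i)).toNat : ℤ)) = _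
  linarith

/-- Main theorem on elementary complexes: the Samuel limit equals the Euler characteristic. -/
theorem tendsto_samuel [IsNoetherianRing A] (M : Type v) [AddCommGroup M] [Module A M]
    [Module.Finite A M] (E : EC.{u, v} A) (e : E.X 0 ≃ₗ[A] M)
    (hE : ∀ i, i ≠ 0 → Subsingleton (E.X i)) (l : List A) 
    (hfl : IsArtinian A (M ⧸ (Ideal.span {x | x ∈ l} • ⊤ : Submodule A M))) :
    Tendsto (fun t : ℕ => (l.length.factorial : ℝ) *
      ((Module.length A (M ⧸ (Ideal.span {x | x ∈ l} ^ t • ⊤ : Submodule A M))).toNat : ℝ) /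
        (t : ℝ) ^ l.length) atTop
      (𝓝 ((- altSum (fun i => ((Module.length A ((kos E l).H i)).toNat : ℤ)) : ℤ) : ℝ)) := by
  set I : Ideal A := Ideal.span {x | x ∈ l} with hI
  have hfin0 : ∀ i, Module.Finite A (E.X i) := by
    intro i
    by_cases hi : i = 0
    · subst hi
      exact Module.Finite.equiv e.symm
    · have := hE i hi
      infer_instance
  have hb : E.Bdd := ⟨0, 0, fun i hi => hE i (by omega)⟩
  have hlen0 : ∀ t, Module.length A (E.X 0 ⧸ ((baseFilt I E).F 0).N t) =
      Module.length A (M ⧸ (I ^ t • ⊤ : Submodule A M)) := by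
    intro t
    refine (Submodule.Quotient.equiv _ _ e ?_).length_eq
    change (I ^ t • (⊤ : Submodule A (E.X 0))).map (e : E.X 0 →ₗ[A] M) = _
    rw [Submodule.map_smul'', Submodule.map_top, LinearMap.range_eq_top.2 e.surjective]
  have hart : ∀ t, Module.length A (M ⧸ (I ^ t • ⊤ : Submodule A M)) ≠ ⊤ := by
    intro t
    have := isArtinian_quot_pow M I (IsNoetherian.noetherian I) hfl t
    exact Module.length_ne_top
  have hfl0 : FinLen (baseFilt I E) := by
    intro i t
    by_cases hi : i = 0
    · subst hi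
      rw [hlen0]
      exact hart t
    · have := hE i hi
      have : Subsingleton (E.X i ⧸ ((baseFilt I E).F i).N t) := inferInstance
      rw [Module.length_eq_zero]
      exact ENat.zero_ne_top
  obtain ⟨W, hW1, hW2⟩ := exists_filt E hb hfl0 l (fun f hf => Ideal.subset_span hf)
  obtain ⟨t₀, ht₀⟩ := W.exists_acyclic hI.symm (kos_bdd hb l) (kos_finite hfin0 l)
  have hg : ∀ t, chiF (baseFilt I E) t =
      ((Module.length A (M ⧸ (I ^ t • ⊤ : Submodule A M))).toNat : ℤ) := by
    intro t
    unfold chiF altSum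
    rw [finsum_eq_single _ (0 : ℤ)]
    · beta_reduce
      rw [hlen0]
      simp
    · intro i hi
      beta_reduce
      have := hE i hi
      have : Subsingleton (E.X i ⧸ ((baseFilt I E).F i).N t) := inferInstance
      rw [Module.length_eq_zero]
      simp
  have := KoszulAsym.tendsto_of_fwdDiff (chiF (baseFilt I E)) l.length
    (- altSum (fun i => ((Module.length A ((kos E l).H i)).toNat : ℤ))) t₀ (fun t ht => by
      rw [← hW2, chiF_eq W hW1 (kos_bdd hb l) _ (fun i => ht₀ _ (by omega) i)])
  refine this.congr (fun t => ?_)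
  rw [hg]
  push_cast
  rfl

end Groth.Agent.CycA.KoszulSamuel
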