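import Groth.Prelude.Def_Koszul
import Groth.Prelude.Def_DRing2
import Groth.Agent.CycA.KoszulSamuel
import Mathlib.Algebra.Homology.ShortComplex.ModuleCat
import Mathlib.Algebra.Homology.HomotopyCategory.MappingCone
import Mathlib.Algebra.Category.ModuleCat.Monoidal.Basic

/-!
Bridge between cochain complexes in `ModuleCat A` and elementary complexes; the Koszul complex of
the prelude tensored with a module is the elementary Koszul complex.
-/

set_option autoImplicit false

namespace Groth.Agent.CycA.KoszulBridge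

open Groth.Agent.CycA.KoszulCore Groth.Agent.CycA.KoszulSamuel CategoryTheory CategoryTheory.Limits

universe u v

variable {A : Type u} [CommRing A]

/-- Isomorphisms of elementary complexes. -/
structure Iso (E E' : EC.{u, v} A) where
  e : ∀ i, E.X i ≃ₗ[A] E'.X i
  comm : ∀ i x, e (i + 1) (E.d i x) = E'.d i (e i x)

/-- Identity. -/
def Iso.refl (E : EC.{u, v} A) : Iso E E := ⟨fun _ => LinearEquiv.refl A _, fun _ _ => rfl⟩

/-- Composition. -/
def Iso.trans {E E' E'' : EC.{u, v} A} (φ : Iso E E') (ψ : Iso E' E'') : Iso E E'' :=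
  ⟨fun i => (φ.e i).trans (ψ.e i), fun i x => by
    simp only [LinearEquiv.trans_apply, φ.comm, ψ.comm]⟩

/-- Cones of isomorphic complexes. -/
def Iso.cone {E E' : EC.{u, v} A} (φ : Iso E E') (f : A) : Iso (E.cone f) (E'.cone f) :=
  ⟨fun i => LinearEquiv.prodCongr (φ.e (i + 1)) (φ.e i), fun i x => by
    obtain ⟨x, y⟩ := x
    change ((φ.e (i + 1 + 1)) (-(E.d (i + 1) x)), (φ.e (i + 1)) (f • x + E.d i y)) =
      ((-(E'.d (i + 1) (φ.e (i + 1) x))), f • (φ.e (i + 1) x) + E'.d i (φ.e i y))
    rw [map_neg, map_add, map_smul, φ.comm, φ.comm]⟩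

theorem Iso.length_H {E E' : EC.{u, v} A} (φ : Iso E E') (i : ℤ) :
    Module.length A (E.H i) = Module.length A (E'.H i) := by
  have hk : (LinearMap.ker (E.d (i + 1))).map (φ.e (i + 1) : E.X (i + 1) →ₗ[A] E'.X (i + 1)) =
      LinearMap.ker (E'.d (i + 1)) := by
    ext x
    constructor
    · rintro ⟨y, hy, rfl⟩
      have hy' : E.d (i + 1) y = 0 := hy
      rw [LinearMap.mem_ker]
      change E'.d (i + 1) (φ.e (i + 1) y) = 0
      rw [← φ.comm, hy', map_zero]
    · intro hx
      have hx' : E'.d (i + 1) x = 0 := hx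
      refine ⟨(φ.e (i + 1)).symm x, ?_, by simp⟩
      have : φ.e (i + 1 + 1) (E.d (i + 1) ((φ.e (i + 1)).symm x)) = 0 := by
        rw [φ.comm, LinearEquiv.apply_symm_apply, hx']
      exact (φ.e (i + 1 + 1)).map_eq_zero_iff.1 this
  let ψ : ↥(LinearMap.ker (E.d (i + 1))) ≃ₗ[A] ↥(LinearMap.ker (E'.d (i + 1))) :=
    (φ.e (i + 1)).ofSubmodules _ _ hk
  have hψ : ∀ x, ((ψ x : _) : E'.X (i + 1)) = φ.e (i + 1) (x : E.X (i + 1)) := fun x => rfl
  refine (Submodule.Quotient.equiv _ _ ψ ?_).length_eq
  ext x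
  constructor
  · rintro ⟨y, ⟨w, hw⟩, rfl⟩
    have hw' : E.d i w = (y : E.X (i + 1)) := hw
    refine ⟨φ.e i w, ?_⟩
    change E'.d i (φ.e i w) = φ.e (i + 1) (y : E.X (i + 1))
    rw [← φ.comm, hw']
  · rintro ⟨w, hw⟩
    have hw' : E'.d i w = (x : E'.X (i + 1)) := hw
    refine ⟨ψ.symm x, ⟨(φ.e i).symm w, ?_⟩, by simp⟩
    change E.d i ((φ.e i).symm w) = ((ψ.symm x : _) : E.X (i + 1))
    apply (φ.e (i + 1)).injective
    rw [φ.comm, LinearEquiv.apply_symm_apply, hw', ← hψ, LinearEquiv.apply_symm_apply]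

/-- The elementary complex of a cochain complex. -/
def ofCx (K : CochainComplex (ModuleCat.{u} A) ℤ) : EC.{u, u} A where
  X i := K.X i
  d i := (K.d i (i + 1)).hom
  dd i x := by
    have := K.d_comp_d i (i + 1) (i + 1 + 1)
    exact congrArg (fun g => g.hom x) this

theorem length_homology (K : CochainComplex (ModuleCat.{u} A) ℤ) (i : ℤ) :
    Module.length A (K.homology (i + 1)) = Module.length A ((ofCx K).H i) := by
  let S := K.sc' i (i + 1) (i + 1 + 1)
  have e1 : K.homology (i + 1) ≅ S.homology :=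
    ShortComplex.homologyMapIso (K.isoSc' i (i + 1) (i + 1 + 1) (by simp) (by simp))
  rw [(e1 ≪≫ S.moduleCatHomologyIso).toLinearEquiv.length_eq]
  change Module.length A (↥(LinearMap.ker S.g.hom) ⧸ LinearMap.range S.moduleCatToCycles) =
    Module.length A (↥(LinearMap.ker S.g.hom) ⧸
      (LinearMap.range S.f.hom).submoduleOf (LinearMap.ker S.g.hom))
  refine (Submodule.quotEquivOfEq _ _ ?_).length_eq
  ext ⟨x, hx⟩
  constructor
  · rintro ⟨y, hy⟩
    exact ⟨y, congrArg Subtype.val hy⟩
  · rintro ⟨y, hy⟩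
    exact ⟨y, Subtype.ext hy⟩

/-- Isomorphic cochain complexes give isomorphic elementary complexes. -/
def isoOfIso {K L : CochainComplex (ModuleCat.{u} A) ℤ} (φ : K ≅ L) : Iso (ofCx K) (ofCx L) where
  e i := ((HomologicalComplex.eval _ _ i).mapIso φ).toLinearEquiv
  comm i x := by
    have := φ.hom.comm i (i + 1)
    exact (congrArg (fun g => g.hom x) this).symm

open CochainComplex in
/-- The elementary complex of the mapping cone of a scalar. -/
noncomputable def coneIso (K : CochainComplex (ModuleCat.{u} A) ℤ) (f : A) :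
    Iso (ofCx (CochainComplex.mappingCone (f • 𝟙 K))) ((ofCx K).cone f) where
  e i := LinearEquiv.ofLinearMap
    (LinearMap.prod
      (((CochainComplex.mappingCone.fst (f • 𝟙 K)).1.v i (i + 1) rfl).hom)
      (((CochainComplex.mappingCone.snd (f • 𝟙 K)).v i i (add_zero i)).hom))
    (LinearMap.coprod
      (((CochainComplex.mappingCone.inl (f • 𝟙 K)).v (i + 1) i (by omega)).hom)
      (((CochainComplex.mappingCone.inr (f • 𝟙 K)).f i).hom))
    (by
      apply LinearMap.ext
      rintro ⟨x, y⟩
      let a := ((mappingCone.fst (f • 𝟙 K)).1.v i (i + 1) rfl).hom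
      let b := ((mappingCone.snd (f • 𝟙 K)).v i i (add_zero i)).hom
      let c := ((mappingCone.inl (f • 𝟙 K)).v (i + 1) i (by omega)).hom
      let d := ((mappingCone.inr (f • 𝟙 K)).f i).hom
      have h1 : a (c x) = x :=
        congrArg (fun g => g.hom x) (mappingCone.inl_v_fst_v (f • 𝟙 K) (i + 1) i rfl)
      have h2 : b (c x) = 0 :=
        congrArg (fun g => g.hom x) (mappingCone.inl_v_snd_v (f • 𝟙 K) (i + 1) i (by omega))
      have h3 : a (d y) = 0 :=
        congrArg (fun g => g.hom y) (mappingCone.inr_f_fst_v (f • 𝟙 K) i (i + 1) rfl)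
      have h4 : b (d y) = y :=
        congrArg (fun g => g.hom y) (mappingCone.inr_f_snd_v (f • 𝟙 K) i)
      change (a (c x + d y), b (c x + d y)) = (x, y)
      rw [map_add, map_add, h1, h2, h3, h4]
      exact Prod.ext (add_zero (M := ↑(K.X (i + 1))) x) (zero_add (M := ↑(K.X i)) y))
    (by
      apply LinearMap.ext
      intro x
      have h1 := congrArg (fun g => g.hom x) (mappingCone.id_X (f • 𝟙 K) i (i + 1) rfl)
      exact h1)
  comm i x := by
    have h1 := congrArg (fun g => g.hom x)
      (mappingCone.d_fst_v (f • 𝟙 K) i (i + 1) (i + 1 + 1) rfl rfl)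
    have h2 := congrArg (fun g => g.hom x) (mappingCone.d_snd_v (f • 𝟙 K) i (i + 1) rfl)
    exact Prod.ext h1 h2

/-- Multiplication by a scalar on the tensor product of a complex with a module. -/
theorem map_smul_id (K : DRing.Cx A) (M : ModuleCat.{u} A) (f : A) :
    ((MonoidalCategory.tensorRight M).mapHomologicalComplex (ComplexShape.up ℤ)).map (f • 𝟙 K) =
      f • 𝟙 (DRing.tensorCx K M) := by
  apply HomologicalComplex.hom_ext
  intro i
  change MonoidalCategory.whiskerRight ((f • 𝟙 K : K ⟶ K).f i) M =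
    (f • 𝟙 (DRing.tensorCx K M) : DRing.tensorCx K M ⟶ DRing.tensorCx K M).f i
  rw [HomologicalComplex.smul_f_apply, HomologicalComplex.smul_f_apply,
    MonoidalLinear.smul_whiskerRight]
  simp
  rfl

/-- Tensoring the Koszul complex with a module gives the elementary Koszul complex on the base. -/
noncomputable def tensorKoszulIso (M : ModuleCat.{u} A) : ∀ l : List A,
    Iso (ofCx (DRing.tensorCx (Koszul.koszul A l) M))
      (kos (ofCx (DRing.tensorCx (Koszul.koszul A []) M)) l)
  | [] => Iso.refl _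
  | f :: l =>
    (isoOfIso (CochainComplex.mappingCone.mapHomologicalComplexIso (f • 𝟙 (Koszul.koszul A l))
      (MonoidalCategory.tensorRight M))).trans
      ((map_smul_id (Koszul.koszul A l) M f ▸ coneIso _ f).trans ((tensorKoszulIso M l).cone f))

/-- Degree zero of the base complex. -/
noncomputable def baseEquiv (M : ModuleCat.{u} A) :
    (ofCx (DRing.tensorCx (Koszul.koszul A []) M)).X 0 ≃ₗ[A] M :=
  ((MonoidalCategory.tensorRight M).mapIso
    (HomologicalComplex.singleObjXSelf (ComplexShape.up ℤ) 0 (ModuleCat.of A A)) ≪≫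
    MonoidalCategory.leftUnitor M).toLinearEquiv

theorem base_subsingleton (M : ModuleCat.{u} A) (i : ℤ) (hi : i ≠ 0) :
    Subsingleton ((ofCx (DRing.tensorCx (Koszul.koszul A []) M)).X i) := by
  have h1 : IsZero ((Koszul.koszul A []).X i) :=
    HomologicalComplex.isZero_single_obj_X (ComplexShape.up ℤ) 0 (ModuleCat.of A A) i hi
  have h2 : IsZero ((MonoidalCategory.tensorRight M).obj ((Koszul.koszul A []).X i)) :=
    (MonoidalCategory.tensorRight M).map_isZero h1
  exact ModuleCat.subsingleton_of_isZero h2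

theorem altSum_homology (K : CochainComplex (ModuleCat.{u} A) ℤ) (E : EC.{u, u} A)
    (φ : Iso (ofCx K) E) :
    (∑ᶠ i : ℤ, ((i.negOnePow : ℤˣ) : ℤ) * ((Module.length A (K.homology i)).toNat : ℤ)) =
      - altSum (fun i => ((Module.length A (E.H i)).toNat : ℤ)) := by
  have h := altSum_shift (fun i => ((Module.length A (K.homology i)).toNat : ℤ))
  have h2 : (fun i => ((Module.length A (K.homology (i + 1))).toNat : ℤ)) =
      (fun i => ((Module.length A (E.H i)).toNat : ℤ)) := by
    funext i
    rw [length_homology, φ.length_H]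
  beta_reduce at h
  rw [h2] at h
  rw [h, neg_neg]
  rfl

/-- The Samuel limit for the Koszul complex of the prelude (Stacks 0AZZ), for a not necessarily
local ring and a finite module `M` with `M / (f)M` of finite length. -/
theorem tendsto_samuel_koszul [IsNoetherianRing A] (M : Type u) [AddCommGroup M] [Module A M]
    [Module.Finite A M] (l : List A)
    (hfl : IsArtinian A (M ⧸ (Ideal.span {x | x ∈ l} • ⊤ : Submodule A M))) :
    Filter.Tendsto (fun t : ℕ => (l.length.factorial : ℝ) *
      ((Module.length A (M ⧸ (Ideal.span {x | x ∈ l} ^ t • ⊤ : Submodule A M))).toNat : ℝ) /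
        (t : ℝ) ^ l.length) Filter.atTop
      (nhds ((∑ᶠ i : ℤ, ((i.negOnePow : ℤˣ) : ℤ) * ((Module.length A
        ((DRing.tensorCx (Koszul.koszul A l) (ModuleCat.of A M)).homology i)).toNat : ℤ) : ℤ) : ℝ)) := by
  rw [altSum_homology _ _ (tensorKoszulIso (ModuleCat.of A M) l)]
  exact tendsto_samuel M _ (baseEquiv (ModuleCat.of A M)) (base_subsingleton _) l hfl

end Groth.Agent.CycA.KoszulBridge
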