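import Groth.Agent.CycA.KoszulTor
import Groth.Prelude.Def_IntMult

/-!
The Samuel limit for an ideal generated by a (weakly) regular sequence is the alternating sum of
lengths of Tor (Stacks 0B03).
-/

set_option autoImplicit false

namespace Groth.Agent.CycA.KoszulChi

open Groth.Agent.CycA.KoszulCore Groth.Agent.CycA.KoszulSamuel Groth.Agent.CycA.KoszulTor

universe u

variable {A : Type u} [CommRing A]

/-- The equivalence in degree zero for the base complex. -/
noncomputable def sgEquiv (M : Type u) [AddCommGroup M] [Module A M] : (sg A M).X 0 ≃ₗ[A] M :=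
  LinearEquiv.ofBijective (aug M [] 0 rfl) (aug_bijective M [] 0 rfl)

/-- The Euler characteristic of the Koszul complex on a weakly regular sequence is `chi`. -/
theorem chi_eq (l : List A) (hl : RingTheory.Sequence.IsWeaklyRegular A l) (M : Type u)
    [AddCommGroup M] [Module A M] :
    - altSum (fun i => ((Module.length A ((kos (sg A M) l.reverse).H i)).toNat : ℤ)) =
      IntMult.chi A (A ⧸ Ideal.span {x | x ∈ l}) M := by
  have hset : {x | x ∈ l.reverse} = {x | x ∈ l} := by ext x; simp
  have hinj : Function.Injective (fun n : ℕ => -(n : ℤ) - 1) := by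
    intro a b hab
    have : -(a : ℤ) - 1 = -(b : ℤ) - 1 := hab
    omega
  unfold IntMult.chi altSum
  rw [← finsum_neg_distrib]
  have h1 : ∀ F : ℤ → ℤ, (∀ i, 0 ≤ i → F i = 0) →
      ∑ᶠ i : ℤ, F i = ∑ᶠ n : ℕ, F (-(n : ℤ) - 1) := by
    intro F hF
    rw [← finsum_mem_univ, ← finsum_mem_range hinj]
    refine finsum_mem_inter_support_eq' _ _ _ (fun i hi => ?_)
    simp only [Set.mem_univ, Set.mem_range, true_iff]
    rw [Function.mem_support] at hi
    have : i < 0 := by
      by_contra hcon
      exact hi (hF i (by omega))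
    exact ⟨(-i - 1).toNat, by omega⟩
  rw [h1]
  · apply finsum_congr
    intro n
    obtain ⟨e⟩ := koszul_tor l hl n M (-(n : ℤ) - 1) (by ring)
    rw [hset] at e
    beta_reduce
    rw [e.length_eq]
    have hsign : (((-(n : ℤ) - 1).negOnePow : ℤˣ) : ℤ) = -((-1) ^ n) := by
      rw [Int.negOnePow_sub, Int.negOnePow_neg, Int.negOnePow_one, Int.negOnePow_def, zpow_natCast]
      push_cast
      ring
    rw [hsign]
    ring
  · intro i hi
    have : Subsingleton ((kos (sg A M) l.reverse).X (i + 1)) :=
      kos_subsingleton M l.reverse (i + 1) (by omega)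
    have : Subsingleton ((kos (sg A M) l.reverse).H i) := by
      have : Subsingleton ↥(LinearMap.ker ((kos (sg A M) l.reverse).d (i + 1))) := inferInstance
      infer_instance
    beta_reduce
    rw [Module.length_eq_zero]
    simp

/-- Stacks 0B03 for a Noetherian (not necessarily local) ring. -/
theorem tendsto_samuel_chi [IsNoetherianRing A] (l : List A)
    (hl : RingTheory.Sequence.IsWeaklyRegular A l) (M : Type u) [AddCommGroup M] [Module A M]
    [Module.Finite A M]
    (hfl : IsArtinian A (M ⧸ (Ideal.span {x | x ∈ l} • ⊤ : Submodule A M))) :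
    Filter.Tendsto (fun t : ℕ => (l.length.factorial : ℝ) *
      ((Module.length A (M ⧸ (Ideal.span {x | x ∈ l} ^ t • ⊤ : Submodule A M))).toNat : ℝ) /
        (t : ℝ) ^ l.length) Filter.atTop
      (nhds (IntMult.chi A (A ⧸ Ideal.span {x | x ∈ l}) M : ℝ)) := by
  have hset : {x | x ∈ l.reverse} = {x | x ∈ l} := by ext x; simp
  have := tendsto_samuel M (sg A M) (sgEquiv M) (fun i hi => sg_subsingleton M i hi) l.reverse
    (by rw [hset]; exact hfl)
  rw [hset, List.length_reverse, chi_eq l hl M] at this
  exact this

end Groth.Agent.CycA.KoszulChi
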