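import Mathlib.RingTheory.Length
import Mathlib.RingTheory.Filtration
import Mathlib.Algebra.BigOperators.Finprod
import Mathlib.Algebra.Ring.NegOnePow
import Mathlib.Data.Int.Interval

/-!
Elementary cochain complexes of modules, filtered complexes, and the Euler characteristic argument
for the Koszul complex (Stacks 0AZZ).
-/

set_option autoImplicit false

namespace Groth.Agent.CycA.KoszulCore

universe u v

theorem length_eq_add_quot (R : Type u) [CommRing R] (M : Type v) [AddCommGroup M] [Module R M]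
    (N : Submodule R M) : Module.length R M = Module.length R N + Module.length R (M ⧸ N) :=
  Module.length_eq_add_of_exact N.subtype N.mkQ N.subtype_injective N.mkQ_surjective
    (LinearMap.exact_subtype_mkQ N)

/-- An elementary cochain complex indexed by the integers. -/
structure EC (A : Type u) [CommRing A] where
  X : ℤ → Type v
  [acg : ∀ i, AddCommGroup (X i)]
  [mod : ∀ i, Module A (X i)]
  d : ∀ i, X i →ₗ[A] X (i + 1)
  dd : ∀ i x, d (i + 1) (d i x) = 0

attribute [instance] EC.acg EC.mod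

variable {A : Type u} [CommRing A]

/-- The cohomology in degree `i + 1`. -/
abbrev EC.H (E : EC.{u, v} A) (i : ℤ) : Type v :=
  ↥(LinearMap.ker (E.d (i + 1))) ⧸ (LinearMap.range (E.d i)).submoduleOf (LinearMap.ker (E.d (i + 1)))

/-- The mapping cone of multiplication by `f`. -/
def EC.cone (f : A) (E : EC.{u, v} A) : EC.{u, v} A where
  X i := E.X (i + 1) × E.X i
  d i := LinearMap.prod (-(E.d (i + 1) ∘ₗ LinearMap.fst A _ _))
    (f • LinearMap.fst A _ _ + E.d i ∘ₗ LinearMap.snd A _ _)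
  dd i x := by
    ext
    · simp [E.dd]
    · simp [E.dd]

/-- Bounded complexes. -/
def EC.Bdd (E : EC.{u, v} A) : Prop := ∃ a b : ℤ, ∀ i, (i < a ∨ b < i) → Subsingleton (E.X i)

theorem EC.Bdd.cone {E : EC.{u, v} A} (h : E.Bdd) (f : A) : (E.cone f).Bdd := by
  obtain ⟨a, b, h⟩ := h
  refine ⟨a - 1, b, fun i hi => ?_⟩
  have h1 : Subsingleton (E.X (i + 1)) := h _ (by omega)
  have h2 : Subsingleton (E.X i) := h _ (by omega)
  change Subsingleton (E.X (i + 1) × E.X i)
  infer_instance

/-- A complex with an `I`-stable exhaustive filtration such that the elements of `S` act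
null-homotopically, with a homotopy raising the filtration. -/
structure Filt (I : Ideal A) (S : Set A) (E : EC.{u, v} A) where
  F : ∀ i, I.Filtration (E.X i)
  zero : ∀ i, (F i).N 0 = ⊤
  stable : ∀ i, (F i).Stable
  map_d : ∀ i t x, x ∈ (F i).N t → E.d i x ∈ (F (i + 1)).N t
  homotopy : ∀ a ∈ S, ∃ h : ∀ i, E.X (i + 1) →ₗ[A] E.X i,
    (∀ i x, E.d i (h i x) + h (i + 1) (E.d (i + 1) x) = a • x) ∧
    (∀ i t x, x ∈ (F (i + 1)).N t → h i x ∈ (F i).N (t + 1))

variable {I : Ideal A}

theorem prod_smul_le {M N : Type v} [AddCommGroup M] [Module A M] [AddCommGroup N] [Module A N]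
    (P : Submodule A M) (Q : Submodule A N) : (I • P).prod (I • Q) = I • (P.prod Q) := by
  apply le_antisymm
  · rintro ⟨x, y⟩ ⟨hx, hy⟩
    have h1 : (x, (0 : N)) ∈ I • (P.prod Q) := by
      have : (x, (0 : N)) ∈ (I • P).map (LinearMap.inl A M N) := ⟨x, hx, rfl⟩
      rw [Submodule.map_smul''] at this
      have hle : P.map (LinearMap.inl A M N) ≤ P.prod Q := by
        rintro _ ⟨z, hz, rfl⟩
        exact ⟨hz, Q.zero_mem⟩
      exact smul_mono_right I hle this
    have h2 : ((0 : M), y) ∈ I • (P.prod Q) := by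
      have : ((0 : M), y) ∈ (I • Q).map (LinearMap.inr A M N) := ⟨y, hy, rfl⟩
      rw [Submodule.map_smul''] at this
      have hle : Q.map (LinearMap.inr A M N) ≤ P.prod Q := by
        rintro _ ⟨z, hz, rfl⟩
        exact ⟨P.zero_mem, hz⟩
      exact smul_mono_right I hle this
    have := add_mem h1 h2
    simpa using this
  · rw [Submodule.smul_le]
    rintro r hr ⟨x, y⟩ ⟨hx, hy⟩
    exact ⟨Submodule.smul_mem_smul hr hx, Submodule.smul_mem_smul hr hy⟩

/-- The filtration on the cone. -/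
def Filt.coneF {S : Set A} {E : EC.{u, v} A} (W : Filt I S E) (f : A) (i : ℤ) :
    I.Filtration ((E.cone f).X i) where
  N t := ((W.F (i + 1)).N (t - 1)).prod ((W.F i).N t)
  mono t := by
    rintro ⟨x, y⟩ ⟨hx, hy⟩
    exact ⟨(W.F (i + 1)).antitone (by omega) hx, (W.F i).mono t hy⟩
  smul_le t := by
    have := prod_smul_le (I := I) ((W.F (i + 1)).N (t - 1)) ((W.F i).N t)
    refine this.symm.le.trans ?_
    rintro ⟨x, y⟩ ⟨hx, hy⟩
    refine ⟨?_, (W.F i).smul_le t hy⟩
    rcases t with _ | t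
    · change x ∈ (W.F (i + 1)).N 0
      rw [W.zero]
      trivial
    · exact (W.F (i + 1)).smul_le _ hx

theorem Filt.coneF_N {S : Set A} {E : EC.{u, v} A} (W : Filt I S E) (f : A) (i : ℤ) (t : ℕ) :
    (W.coneF f i).N t = ((W.F (i + 1)).N (t - 1)).prod ((W.F i).N t) := rfl

/-- The cone of a filtered complex by an element of `I`. -/
def Filt.cone {S : Set A} {E : EC.{u, v} A} (W : Filt I S E) (f : A) (hf : f ∈ I) :
    Filt I (insert f S) (E.cone f) where
  F := W.coneF f
  zero i := by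
    have h : ∀ (P : Submodule A (E.X (i + 1))) (Q : Submodule A (E.X i)), P = ⊤ → Q = ⊤ →
        P.prod Q = ⊤ := by
      rintro _ _ rfl rfl
      exact Submodule.prod_top
    exact h _ _ (W.zero (i + 1)) (W.zero i)
  stable i := by
    obtain ⟨n₁, h₁⟩ := W.stable (i + 1)
    obtain ⟨n₂, h₂⟩ := W.stable i
    refine ⟨max n₁ n₂ + 1, fun n hn => ?_⟩
    rw [W.coneF_N, W.coneF_N]
    have := prod_smul_le (I := I) ((W.F (i + 1)).N (n - 1)) ((W.F i).N n)
    refine this.symm.trans ?_
    rw [h₁ (n - 1) (by have := le_max_left n₁ n₂; omega),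
      h₂ n (by have := le_max_right n₁ n₂; omega)]
    congr 2
    omega
  map_d i t := by
    rintro ⟨x, y⟩ ⟨hx, hy⟩
    refine ⟨?_, ?_⟩
    · exact neg_mem (W.map_d _ _ _ hx)
    · refine add_mem ?_ (W.map_d _ _ _ hy)
      rcases t with _ | t
      · rw [W.zero]; trivial
      · exact (W.F (i + 1)).smul_le t (Submodule.smul_mem_smul hf hx)
  homotopy a ha := by
    rcases ha with rfl | ha
    · refine ⟨fun i => LinearMap.inl A _ _ ∘ₗ LinearMap.snd A _ _, ?_, ?_⟩
      · rintro i ⟨x, y⟩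
        change ((-(E.d (i + 1) y) : E.X (i + 1 + 1)), a • y + E.d i 0) +
          ((a • x + E.d (i + 1) y : E.X (i + 1 + 1)), (0 : E.X (i + 1))) = (a • x, a • y)
        ext <;> simp
      · rintro i t ⟨x, y⟩ ⟨hx, hy⟩
        exact ⟨hy, Submodule.zero_mem _⟩
    · obtain ⟨h, h1, h2⟩ := W.homotopy a ha
      refine ⟨fun i => LinearMap.prodMap (-(h (i + 1))) (h i), ?_, ?_⟩
      · rintro i ⟨x, y⟩
        change ((-(E.d (i + 1) (-(h (i + 1) x))) : E.X (i + 1 + 1)),
            f • (-(h (i + 1) x)) + E.d i (h i y)) +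
          ((-(h (i + 1 + 1) (-(E.d (i + 1 + 1) x)))),
            h (i + 1) (f • x + E.d (i + 1) y)) = (a • x, a • y)
        rw [← h1 (i + 1) x, ← h1 i y]
        ext
        · simp
        · simp only [Prod.mk_add_mk, map_add, map_smul, smul_neg]
          abel
      · rintro i t ⟨x, y⟩ ⟨hx, hy⟩
        refine ⟨neg_mem ?_, h2 _ _ _ hy⟩
        rcases t with _ | t
        · change _ ∈ (W.F (i + 1)).N 0
          rw [W.zero]; trivial
        · exact h2 _ _ _ hx

/-- The acyclicity lemma: filtration steps are acyclic far out. -/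
theorem Filt.exists_acyclic_one [IsNoetherianRing A] {S : Set A} {E : EC.{u, v} A}
    (W : Filt I S E) (hS : Ideal.span S = I) (i : ℤ) [Module.Finite A (E.X (i + 1))] :
    ∃ t₀, ∀ t ≥ t₀, ∀ z ∈ (W.F (i + 1)).N t, E.d (i + 1) z = 0 →
      ∃ y ∈ (W.F i).N t, E.d i y = z := by
  obtain ⟨n₀, hn₀⟩ := (W.stable (i + 1)).inter_right
    (F' := Ideal.trivialFiltration I (LinearMap.ker (E.d (i + 1))))
  refine ⟨n₀ + 1, fun t ht z hz hdz => ?_⟩
  obtain ⟨n, rfl⟩ : ∃ n, t = n + 1 := ⟨t - 1, by omega⟩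
  have key := hn₀ n (by omega)
  have hz' : z ∈ (W.F (i + 1) ⊓ Ideal.trivialFiltration I (LinearMap.ker (E.d (i + 1)))).N (n + 1) :=
    ⟨hz, hdz⟩
  rw [← key] at hz'
  have hle : I • (W.F (i + 1) ⊓ Ideal.trivialFiltration I (LinearMap.ker (E.d (i + 1)))).N n ≤
      ((W.F i).N (n + 1)).map (E.d i) := by
    subst hS
    rw [Submodule.smul_le]
    intro r hr w hw
    induction hr using Submodule.span_induction with
    | mem a ha =>
      obtain ⟨h, h1, h2⟩ := W.homotopy a ha
      refine ⟨h i w, h2 _ _ _ hw.1, ?_⟩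
      have := h1 i w
      rw [hw.2, map_zero, add_zero] at this
      exact this
    | zero => rw [zero_smul]; exact zero_mem _
    | add a b _ _ ha hb => rw [add_smul]; exact add_mem ha hb
    | smul a b _ hb => rw [smul_assoc]; exact Submodule.smul_mem _ _ hb
  obtain ⟨y, hy, rfl⟩ := hle hz'
  exact ⟨y, hy, rfl⟩

/-- Uniform version of the acyclicity lemma. -/
theorem Filt.exists_acyclic [IsNoetherianRing A] {S : Set A} {E : EC.{u, v} A}
    (W : Filt I S E) (hS : Ideal.span S = I) (hb : E.Bdd) (hfin : ∀ i, Module.Finite A (E.X i)) :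
    ∃ t₀, ∀ t ≥ t₀, ∀ i, ∀ z ∈ (W.F (i + 1)).N t, E.d (i + 1) z = 0 →
      ∃ y ∈ (W.F i).N t, E.d i y = z := by
  obtain ⟨a, b, hab⟩ := hb
  choose t₀ ht₀ using fun i => W.exists_acyclic_one hS i
  refine ⟨(Finset.Icc (a - 1) b).sup t₀, fun t ht i z hz hdz => ?_⟩
  by_cases hi : i ∈ Finset.Icc (a - 1) b
  · exact ht₀ i t ((Finset.le_sup hi).trans ht) z hz hdz
  · have : Subsingleton (E.X (i + 1)) := hab _ (by
      rw [Finset.mem_Icc] at hi; omega)
    exact ⟨0, zero_mem _, Subsingleton.elim _ _⟩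

section Euler

variable (E : EC.{u, v} A) (F : ∀ i, Submodule A (E.X i))
  (hF : ∀ i, F i ≤ (F (i + 1)).comap (E.d i))

/-- The differential of the quotient complex. -/
def quotD (i : ℤ) : (E.X i ⧸ F i) →ₗ[A] (E.X (i + 1) ⧸ F (i + 1)) :=
  (F i).mapQ (F (i + 1)) (E.d i) (hF i)

theorem quotD_mk (i : ℤ) (x : E.X i) :
    quotD E F hF i (Submodule.Quotient.mk x) = Submodule.Quotient.mk (E.d i x) := rfl

theorem quotD_quotD (i : ℤ) (x : E.X i ⧸ F i) : quotD E F hF (i + 1) (quotD E F hF i x) = 0 := by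
  obtain ⟨x, rfl⟩ := Submodule.Quotient.mk_surjective _ x
  rw [quotD_mk, quotD_mk, E.dd]
  rfl

theorem length_H_eq (hacyc : ∀ i, ∀ z ∈ F (i + 1), E.d (i + 1) z = 0 → ∃ y ∈ F i, E.d i y = z)
    (i : ℤ) : Module.length A (E.H i) = Module.length A
      (↥(LinearMap.ker (quotD E F hF (i + 1))) ⧸ (LinearMap.range (quotD E F hF i)).submoduleOf
        (LinearMap.ker (quotD E F hF (i + 1)))) := by
  let σ : ↥(LinearMap.ker (E.d (i + 1))) →ₗ[A] ↥(LinearMap.ker (quotD E F hF (i + 1))) :=
    (F (i + 1)).mkQ.restrict (fun x hx => by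
      rw [LinearMap.mem_ker] at hx ⊢
      rw [Submodule.mkQ_apply, quotD_mk, hx]; rfl)
  let τ := ((LinearMap.range (quotD E F hF i)).submoduleOf
        (LinearMap.ker (quotD E F hF (i + 1)))).mkQ ∘ₗ σ
  have hσ : ∀ x, ((σ x : _) : E.X (i + 1) ⧸ F (i + 1)) = Submodule.Quotient.mk (x : E.X (i + 1)) :=
    fun x => rfl
  have hτ : Function.Surjective τ := by
    intro x
    obtain ⟨⟨x, hx⟩, rfl⟩ := Submodule.Quotient.mk_surjective _ x
    obtain ⟨x, rfl⟩ := Submodule.Quotient.mk_surjective _ x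
    rw [LinearMap.mem_ker, quotD_mk, Submodule.Quotient.mk_eq_zero] at hx
    obtain ⟨y, hy, hxy⟩ := hacyc (i + 1) _ hx (E.dd _ _)
    refine ⟨⟨x - y, by rw [LinearMap.mem_ker, map_sub, hxy, sub_self]⟩, ?_⟩
    change Submodule.Quotient.mk (σ _) = _
    congr 1
    apply Subtype.ext
    rw [hσ]
    refine (Submodule.Quotient.eq _).2 ?_
    simpa using hy
  have hker : (LinearMap.range (E.d i)).submoduleOf (LinearMap.ker (E.d (i + 1))) =
      LinearMap.ker τ := by
    ext ⟨z, hz⟩
    rw [LinearMap.mem_ker] at hz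
    constructor
    · rintro ⟨w, hw⟩
      rw [LinearMap.mem_ker]
      refine (Submodule.Quotient.mk_eq_zero _).2 ?_
      refine ⟨Submodule.Quotient.mk w, ?_⟩
      rw [quotD_mk, hw]
      rfl
    · intro h
      rw [LinearMap.mem_ker] at h
      obtain ⟨w, hw⟩ := (Submodule.Quotient.mk_eq_zero _).1 h
      obtain ⟨w, rfl⟩ := Submodule.Quotient.mk_surjective _ w
      have hw' : (Submodule.Quotient.mk (E.d i w) : E.X (i + 1) ⧸ F (i + 1)) =
        Submodule.Quotient.mk z := hw
      rw [Submodule.Quotient.eq] at hw'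
      obtain ⟨y, hy, hy'⟩ := hacyc i _ hw' (by rw [map_sub, E.dd, hz, sub_zero])
      refine ⟨w - y, ?_⟩
      change E.d i (w - y) = z
      rw [map_sub, hy']
      abel
  exact (Submodule.quotEquivOfEq _ _ hker ≪≫ₗ τ.quotKerEquivOfSurjective hτ).length_eq

theorem length_quot_eq
    (hacyc : ∀ i, ∀ z ∈ F (i + 1), E.d (i + 1) z = 0 → ∃ y ∈ F i, E.d i y = z) (i : ℤ) :
    Module.length A (E.X (i + 1) ⧸ F (i + 1)) =
      Module.length A (LinearMap.range (quotD E F hF (i + 1))) +
        Module.length A (LinearMap.range (quotD E F hF i)) + Module.length A (E.H i) := by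
  rw [length_H_eq E F hF hacyc i]
  rw [Module.length_eq_add_of_exact (LinearMap.ker (quotD E F hF (i + 1))).subtype
    (quotD E F hF (i + 1)).rangeRestrict (Submodule.subtype_injective _)
    (LinearMap.surjective_rangeRestrict _)
    (by
      intro x
      constructor
      · intro h
        have h' : quotD E F hF (i + 1) x = 0 := congrArg Subtype.val h
        exact ⟨⟨x, h'⟩, rfl⟩
      · rintro ⟨⟨y, hy⟩, rfl⟩
        exact Subtype.ext hy)]
  have hle : LinearMap.range (quotD E F hF i) ≤ LinearMap.ker (quotD E F hF (i + 1)) := by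
    rintro _ ⟨x, rfl⟩
    exact quotD_quotD E F hF i x
  have h2 := length_eq_add_quot A _ 
    ((LinearMap.range (quotD E F hF i)).submoduleOf (LinearMap.ker (quotD E F hF (i + 1))))
  rw [h2, (Submodule.submoduleOfEquivOfLe hle).length_eq]
  ring

end Euler

/-- The alternating sum of a function on the integers. -/
noncomputable def altSum (c : ℤ → ℤ) : ℤ := ∑ᶠ i : ℤ, ((i.negOnePow : ℤˣ) : ℤ) * c i

theorem altSum_add {c c' : ℤ → ℤ} (h : c.support.Finite) (h' : c'.support.Finite) :
    altSum (fun i => c i + c' i) = altSum c + altSum c' := by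
  unfold altSum
  rw [← finsum_add_distrib]
  · simp only [mul_add]
  · exact h.subset (fun i hi => by
      simp only [Function.mem_support] at hi ⊢
      exact fun h0 => hi (by rw [h0, mul_zero]))
  · exact h'.subset (fun i hi => by
      simp only [Function.mem_support] at hi ⊢
      exact fun h0 => hi (by rw [h0, mul_zero]))

theorem altSum_shift (c : ℤ → ℤ) : altSum (fun i => c (i + 1)) = - altSum c := by
  unfold altSum
  rw [← finsum_neg_distrib]
  refine Eq.trans ?_ (finsum_comp_equiv (Equiv.addRight (1 : ℤ))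
    (f := fun i => -(((i.negOnePow : ℤˣ) : ℤ) * c i)))
  apply finsum_congr
  intro i
  simp [Int.negOnePow_succ]

end Groth.Agent.CycA.KoszulCore
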