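import Groth.Agent.CycA.KoszulSamuel
import Groth.Agent.CycA.TorShift
import Mathlib.RingTheory.Regular.RegularSequence
import Mathlib.LinearAlgebra.TensorProduct.Quotient

/-!
Koszul homology of a regular sequence with coefficients in a module is Tor of the quotient.
-/

set_option autoImplicit false

namespace Groth.Agent.CycA.KoszulTor

open Groth.Agent.CycA.KoszulCore Groth.Agent.CycA.KoszulSamuel TensorProduct

universe u v

variable {A : Type u} [CommRing A]

/-- The elementary complex with a module in degree zero. -/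
def sg (A : Type u) [CommRing A] (M : Type v) [AddCommGroup M] [Module A M] : EC.{u, v} A where
  X i := PLift (i = 0) → M
  d _ := 0
  dd _ _ := rfl

theorem sg_subsingleton (M : Type v) [AddCommGroup M] [Module A M] (i : ℤ) (hi : i ≠ 0) :
    Subsingleton ((sg A M).X i) :=
  ⟨fun _ _ => funext fun h => absurd h.down hi⟩

/-- Degree zero part of the Koszul complex. -/
def aug (M : Type v) [AddCommGroup M] [Module A M] :
    ∀ (l : List A) (j : ℤ) (_ : j = 0), (kos (sg A M) l).X j →ₗ[A] M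
  | [], _, hj => LinearMap.proj ⟨hj⟩
  | _ :: l, j, hj => aug M l j hj ∘ₗ
      LinearMap.snd A ((kos (sg A M) l).X (j + 1)) ((kos (sg A M) l).X j)

theorem aug_cons (M : Type v) [AddCommGroup M] [Module A M] (f : A) (l : List A) (j : ℤ)
    (hj : j = 0) (x : (kos (sg A M) l).X (j + 1)) (y : (kos (sg A M) l).X j) :
    aug M (f :: l) j hj ((x, y) : (kos (sg A M) l).X (j + 1) × (kos (sg A M) l).X j) =
      aug M l j hj y := rfl

theorem kos_d_cons (E : EC.{u, v} A) (f : A) (l : List A) (i : ℤ)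
    (x : (kos E l).X (i + 1)) (y : (kos E l).X i) :
    (kos E (f :: l)).d i ((x, y) : (kos E l).X (i + 1) × (kos E l).X i) =
      ((-((kos E l).d (i + 1) x), f • x + (kos E l).d i y) :
        (kos E l).X (i + 1 + 1) × (kos E l).X (i + 1)) := rfl

theorem kos_subsingleton (M : Type v) [AddCommGroup M] [Module A M] (l : List A) :
    ∀ j : ℤ, 0 < j → Subsingleton ((kos (sg A M) l).X j) := by
  induction l with
  | nil => intro j hj; exact sg_subsingleton M j hj.ne'
  | cons f l ih =>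
    intro j hj
    have h1 := ih j hj
    have h2 := ih (j + 1) (by omega)
    change Subsingleton ((kos (sg A M) l).X (j + 1) × (kos (sg A M) l).X j)
    infer_instance

theorem aug_bijective (M : Type v) [AddCommGroup M] [Module A M] (l : List A) (j : ℤ) (hj : j = 0) :
    Function.Bijective (aug M l j hj) := by
  induction l with
  | nil =>
    constructor
    · intro a b hab
      funext h
      exact hab
    · intro m
      exact ⟨fun _ => m, rfl⟩
  | cons f l ih =>
    have h2 := kos_subsingleton M l (j + 1) (by omega)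
    constructor
    · rintro ⟨a, b⟩ ⟨a', b'⟩ hab
      have hab' : aug M l j hj b = aug M l j hj b' := hab
      exact Prod.ext (h2.elim a a') (ih.1 hab')
    · intro m
      obtain ⟨y, hy⟩ := ih.2 m
      exact ⟨((0, y) : (kos (sg A M) l).X (j + 1) × (kos (sg A M) l).X j), hy⟩

theorem map_range_aug (M : Type v) [AddCommGroup M] [Module A M] (l : List A) (i : ℤ)
    (hi : i + 1 = 0) :
    (LinearMap.range ((kos (sg A M) l).d i)).map (aug M l (i + 1) hi) =
      (Ideal.span {x | x ∈ l} • ⊤ : Submodule A M) := by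
  induction l with
  | nil =>
    have : (LinearMap.range ((kos (sg A M) []).d i)) = ⊥ := LinearMap.range_zero
    rw [this]
    simp
  | cons f l ih =>
    have hset : {x | x ∈ f :: l} = insert f {x | x ∈ l} := by ext x; simp
    rw [hset, Ideal.span_insert, Submodule.sup_smul, ← ih]
    apply le_antisymm
    · have key : ∀ (x : (kos (sg A M) l).X (i + 1)) (y : (kos (sg A M) l).X i),
          aug M l (i + 1) hi (f • x + (kos (sg A M) l).d i y) ∈
            (Ideal.span {f} • ⊤ : Submodule A M) ⊔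
              Submodule.map (aug M l (i + 1) hi) (LinearMap.range ((kos (sg A M) l).d i)) := by
        intro x y
        rw [map_add, map_smul]
        refine Submodule.add_mem_sup ?_ ⟨_, ⟨y, rfl⟩, rfl⟩
        exact Submodule.smul_mem_smul (Ideal.mem_span_singleton_self f) trivial
      rintro _ ⟨_, ⟨⟨x, y⟩, rfl⟩, rfl⟩
      exact key x y
    · refine sup_le ?_ ?_
      · rw [Submodule.ideal_span_singleton_smul]
        rintro _ ⟨m, _, rfl⟩
        obtain ⟨x, rfl⟩ := (aug_bijective M l (i + 1) hi).2 m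
        refine ⟨_, ⟨((x, 0) : (kos (sg A M) l).X (i + 1) × (kos (sg A M) l).X i), rfl⟩, ?_⟩
        rw [kos_d_cons, aug_cons, map_zero, add_zero, map_smul]
        rfl
      · rintro _ ⟨_, ⟨y, rfl⟩, rfl⟩
        refine ⟨_, ⟨((0, y) : (kos (sg A M) l).X (i + 1) × (kos (sg A M) l).X i), rfl⟩, ?_⟩
        rw [kos_d_cons, aug_cons, smul_zero, zero_add]

theorem mem_range_iff (M : Type v) [AddCommGroup M] [Module A M] (l : List A) (i : ℤ)
    (hi : i + 1 = 0) (x : (kos (sg A M) l).X (i + 1)) :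
    x ∈ LinearMap.range ((kos (sg A M) l).d i) ↔
      aug M l (i + 1) hi x ∈ (Ideal.span {x | x ∈ l} • ⊤ : Submodule A M) := by
  rw [← map_range_aug M l i hi]
  constructor
  · intro hx
    exact ⟨x, hx, rfl⟩
  · rintro ⟨y, hy, hxy⟩
    rwa [← (aug_bijective M l (i + 1) hi).1 hxy]

/-- Exactness of an elementary complex in degree `i + 1`, in elementary form. -/
def ExactAt (E : EC.{u, v} A) (i : ℤ) : Prop :=
  ∀ x : E.X (i + 1), E.d (i + 1) x = 0 → ∃ y, E.d i y = x

theorem exactAt_iff (E : EC.{u, v} A) (i : ℤ) : ExactAt E i ↔ Subsingleton (E.H i) := by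
  rw [Submodule.Quotient.subsingleton_iff, eq_top_iff]
  constructor
  · rintro h ⟨x, hx⟩ _
    exact h x hx
  · intro h x hx
    exact h (x := ⟨x, hx⟩) trivial

theorem exactAt_cone (E : EC.{u, v} A) (f : A) (i : ℤ) (h : ExactAt E i)
    (h' : ∀ x : E.X (i + 1 + 1), E.d (i + 1 + 1) x = 0 → f • x ∈ LinearMap.range (E.d (i + 1)) →
      x ∈ LinearMap.range (E.d (i + 1))) : ExactAt (E.cone f) i := by
  rintro ⟨x, y⟩ hxy
  have h1 : -(E.d (i + 1 + 1) x) = 0 := congrArg Prod.fst hxy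
  have h2 : f • x + E.d (i + 1) y = 0 := congrArg Prod.snd hxy
  rw [neg_eq_zero] at h1
  obtain ⟨x', rfl⟩ := h' x h1 ⟨-y, by rw [map_neg]; exact (eq_neg_of_add_eq_zero_left h2).symm⟩
  obtain ⟨y', hy'⟩ := h (f • x' + y) (by rw [map_add, map_smul, h2])
  refine ⟨(-x', y'), ?_⟩
  change (-(E.d (i + 1) (-x')), f • (-x') + E.d i y') = (E.d (i + 1) x', y)
  rw [hy', map_neg, neg_neg, smul_neg]
  simp

/-- The Koszul complex on a weakly regular sequence (reversed list) is exact in negative degrees. -/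
theorem exactAt_kos (M : Type v) [AddCommGroup M] [Module A M] (l : List A)
    (hl : RingTheory.Sequence.IsWeaklyRegular M l) :
    ∀ i : ℤ, i + 1 < 0 → ExactAt (kos (sg A M) l.reverse) i := by
  induction l using List.reverseRecOn with
  | nil =>
    intro i hi x _
    have := sg_subsingleton (A := A) M (i + 1) hi.ne
    exact ⟨0, this.elim _ _⟩
  | append_singleton l f ih =>
    intro i hi
    rw [RingTheory.Sequence.isWeaklyRegular_append_iff] at hl
    have ih' := ih hl.1
    have hreg : IsSMulRegular (M ⧸ (Ideal.ofList l • ⊤ : Submodule A M)) f := by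
      have := hl.2
      rw [RingTheory.Sequence.isWeaklyRegular_singleton_iff] at this
      exact this
    rw [List.reverse_append, List.reverse_singleton, List.singleton_append, kos_cons]
    refine exactAt_cone _ _ _ (ih' i hi) (fun x hx hfx => ?_)
    rcases (show i + 1 + 1 < 0 ∨ i + 1 + 1 = 0 by omega) with h | h
    · obtain ⟨y, hy⟩ := ih' (i + 1) h x hx
      exact ⟨y, hy⟩
    · rw [mem_range_iff M l.reverse (i + 1) h] at hfx ⊢
      have hset : Ideal.span {x | x ∈ l.reverse} = Ideal.ofList l := by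
        simp [Ideal.ofList]
      rw [hset] at hfx ⊢
      rw [map_smul] at hfx
      rw [← Submodule.Quotient.mk_eq_zero] at hfx ⊢
      rw [Submodule.Quotient.mk_smul] at hfx
      exact hreg (hfx.trans (smul_zero f).symm)

/-- Short exact sequences of elementary complexes. -/
structure SES (E E' E'' : EC.{u, v} A) where
  φ : ∀ i, E.X i →ₗ[A] E'.X i
  ψ : ∀ i, E'.X i →ₗ[A] E''.X i
  φd : ∀ i x, φ (i + 1) (E.d i x) = E'.d i (φ i x)
  ψd : ∀ i x, ψ (i + 1) (E'.d i x) = E''.d i (ψ i x)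
  inj : ∀ i, Function.Injective (φ i)
  exact : ∀ i, Function.Exact (φ i) (ψ i)
  surj : ∀ i, Function.Surjective (ψ i)

/-- Cones of a short exact sequence. -/
def SES.cone {E E' E'' : EC.{u, v} A} (S : SES E E' E'') (f : A) :
    SES (E.cone f) (E'.cone f) (E''.cone f) where
  φ i := LinearMap.prodMap (S.φ (i + 1)) (S.φ i)
  ψ i := LinearMap.prodMap (S.ψ (i + 1)) (S.ψ i)
  φd i x := by
    obtain ⟨x, y⟩ := x
    change (S.φ (i + 1 + 1) (-(E.d (i + 1) x)), S.φ (i + 1) (f • x + E.d i y)) =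
      (-(E'.d (i + 1) (S.φ (i + 1) x)), f • S.φ (i + 1) x + E'.d i (S.φ i y))
    rw [map_neg, map_add, map_smul, S.φd, S.φd]
  ψd i x := by
    obtain ⟨x, y⟩ := x
    change (S.ψ (i + 1 + 1) (-(E'.d (i + 1) x)), S.ψ (i + 1) (f • x + E'.d i y)) =
      (-(E''.d (i + 1) (S.ψ (i + 1) x)), f • S.ψ (i + 1) x + E''.d i (S.ψ i y))
    rw [map_neg, map_add, map_smul, S.ψd, S.ψd]
  inj i := by
    rintro ⟨x, y⟩ ⟨x', y'⟩ h
    exact Prod.ext (S.inj _ (congrArg Prod.fst h)) (S.inj _ (congrArg Prod.snd h))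
  exact i := by
    rintro ⟨x, y⟩
    constructor
    · intro h
      obtain ⟨a, ha⟩ := (S.exact _ x).1 (congrArg Prod.fst h)
      obtain ⟨b, hb⟩ := (S.exact _ y).1 (congrArg Prod.snd h)
      exact ⟨(a, b), Prod.ext ha hb⟩
    · rintro ⟨⟨a, b⟩, h⟩
      exact Prod.ext ((S.exact _ x).2 ⟨a, congrArg Prod.fst h⟩)
        ((S.exact _ y).2 ⟨b, congrArg Prod.snd h⟩)
  surj i := by
    rintro ⟨x, y⟩
    obtain ⟨a, ha⟩ := S.surj _ x
    obtain ⟨b, hb⟩ := S.surj _ y
    exact ⟨(a, b), Prod.ext ha hb⟩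

/-- Koszul complexes of a short exact sequence. -/
def SES.kos {E E' E'' : EC.{u, v} A} (S : SES E E' E'') :
    ∀ l : List A, SES (kos E l) (kos E' l) (kos E'' l)
  | [] => S
  | f :: l => (S.kos l).cone f

/-- A short exact sequence of modules gives one of elementary complexes. -/
def SES.ofModules {K P M : Type v} [AddCommGroup K] [Module A K] [AddCommGroup P] [Module A P]
    [AddCommGroup M] [Module A M] (f : K →ₗ[A] P) (g : P →ₗ[A] M) (hf : Function.Injective f)
    (h : Function.Exact f g) (hg : Function.Surjective g) : SES (sg A K) (sg A P) (sg A M) where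
  φ i := f.compLeft _
  ψ i := g.compLeft _
  φd i x := by
    change f.compLeft _ 0 = 0
    rw [map_zero]
  ψd i x := by
    change g.compLeft _ 0 = 0
    rw [map_zero]
  inj i := fun a b hab => funext fun j => hf (congrFun hab j)
  exact i := by
    intro x
    constructor
    · intro hx
      refine ⟨fun j => ((h (x j)).1 (congrFun hx j)).choose, ?_⟩
      funext j
      exact ((h (x j)).1 (congrFun hx j)).choose_spec
    · rintro ⟨y, rfl⟩
      funext j
      exact (h _).2 ⟨y j, rfl⟩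
  surj i := fun x => ⟨fun j => (hg (x j)).choose, funext fun j => (hg (x j)).choose_spec⟩

theorem aug_φ {K P M : Type v} [AddCommGroup K] [Module A K] [AddCommGroup P] [Module A P]
    [AddCommGroup M] [Module A M] (f : K →ₗ[A] P) (g : P →ₗ[A] M) (hf : Function.Injective f)
    (h : Function.Exact f g) (hg : Function.Surjective g) (l : List A) (j : ℤ) (hj : j = 0)
    (x : (KoszulSamuel.kos (sg A K) l).X j) :
    aug P l j hj (((SES.ofModules f g hf h hg).kos l).φ j x) = f (aug K l j hj x) := by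
  induction l with
  | nil => rfl
  | cons a l ih =>
    obtain ⟨x, y⟩ := x
    exact ih y

theorem equiv_of_ker_eq {Z P Q : Type v} [AddCommGroup Z] [Module A Z] [AddCommGroup P] [Module A P]
    [AddCommGroup Q] [Module A Q] (α : Z →ₗ[A] P) (β : Z →ₗ[A] Q) (hα : Function.Surjective α)
    (hβ : Function.Surjective β) (h : LinearMap.ker α = LinearMap.ker β) : Nonempty (P ≃ₗ[A] Q) :=
  ⟨(α.quotKerEquivOfSurjective hα).symm ≪≫ₗ Submodule.quotEquivOfEq _ _ h ≪≫ₗ
    β.quotKerEquivOfSurjective hβ⟩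

theorem SES.lemmaA {E E' E'' : EC.{u, v} A} (S : SES E E' E'') (i : ℤ) (h : ExactAt E' i) :
    Nonempty (E''.H i ≃ₗ[A]
      (↥((LinearMap.range (E'.d (i + 1))).comap (S.φ (i + 1 + 1))) ⧸
        (LinearMap.range (E.d (i + 1))).submoduleOf
          ((LinearMap.range (E'.d (i + 1))).comap (S.φ (i + 1 + 1))))) := by
  let Z : Submodule A (E'.X (i + 1)) := (LinearMap.range (S.φ (i + 1 + 1))).comap (E'.d (i + 1))
  have hZ : ∀ p : Z, ∃ k, S.φ (i + 1 + 1) k = E'.d (i + 1) p := fun p => p.2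
  -- the map to the cohomology of `E''`
  let α₀ : Z →ₗ[A] ↥(LinearMap.ker (E''.d (i + 1))) :=
    ((S.ψ (i + 1)).comp Z.subtype).codRestrict _ (fun p => by
      rw [LinearMap.mem_ker]
      change E''.d (i + 1) (S.ψ (i + 1) p) = 0
      rw [← S.ψd]
      exact (S.exact _ _).2 (hZ p))
  let α : Z →ₗ[A] E''.H i := Submodule.mkQ _ ∘ₗ α₀
  have hα : Function.Surjective α := by
    intro x
    obtain ⟨⟨m, hm⟩, rfl⟩ := Submodule.Quotient.mk_surjective _ x
    obtain ⟨p, rfl⟩ := S.surj _ m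
    rw [LinearMap.mem_ker, ← S.ψd] at hm
    exact ⟨⟨p, (S.exact _ _).1 hm⟩, rfl⟩
  -- the map to the cohomology of `E`
  let β₁ : Z →ₗ[A] ↥(LinearMap.range (S.φ (i + 1 + 1))) :=
    ((E'.d (i + 1)).comp Z.subtype).codRestrict _ (fun p => p.2)
  let β₂ : Z →ₗ[A] E.X (i + 1 + 1) :=
    (LinearEquiv.ofInjective (S.φ (i + 1 + 1)) (S.inj _)).symm.toLinearMap ∘ₗ β₁
  have hβ₂ : ∀ p : Z, S.φ (i + 1 + 1) (β₂ p) = E'.d (i + 1) p := by
    intro p
    have := LinearEquiv.apply_symm_apply (LinearEquiv.ofInjective (S.φ (i + 1 + 1)) (S.inj _)) (β₁ p)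
    exact congrArg Subtype.val this
  let β₃ : Z →ₗ[A] ↥((LinearMap.range (E'.d (i + 1))).comap (S.φ (i + 1 + 1))) :=
    β₂.codRestrict _ (fun p => ⟨p, (hβ₂ p).symm⟩)
  let β : Z →ₗ[A] (↥((LinearMap.range (E'.d (i + 1))).comap (S.φ (i + 1 + 1))) ⧸
        (LinearMap.range (E.d (i + 1))).submoduleOf
          ((LinearMap.range (E'.d (i + 1))).comap (S.φ (i + 1 + 1)))) := Submodule.mkQ _ ∘ₗ β₃
  have hβ : Function.Surjective β := by
    intro x
    obtain ⟨⟨k, hk⟩, rfl⟩ := Submodule.Quotient.mk_surjective _ x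
    obtain ⟨p, hp⟩ := hk
    refine ⟨⟨p, ⟨k, hp.symm⟩⟩, ?_⟩
    change Submodule.Quotient.mk _ = Submodule.Quotient.mk _
    congr 1
    apply Subtype.ext
    apply S.inj
    exact (hβ₂ _).trans hp
  refine equiv_of_ker_eq α β hα hβ ?_
  have k1 : ∀ p : Z, p ∈ LinearMap.ker α ↔ ∃ (p' : E'.X i) (k : E.X (i + 1)),
      (p : E'.X (i + 1)) = E'.d i p' + S.φ (i + 1) k := by
    intro p
    rw [LinearMap.mem_ker]
    constructor
    · intro hp
      obtain ⟨m', hm'⟩ := (Submodule.Quotient.mk_eq_zero _).1 hp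
      have hm'' : E''.d i m' = S.ψ (i + 1) p := hm'
      obtain ⟨p', rfl⟩ := S.surj _ m'
      rw [← S.ψd] at hm''
      obtain ⟨k, hk⟩ := (S.exact _ ((p : E'.X (i + 1)) - E'.d i p')).1 (by
        rw [map_sub, hm'', sub_self])
      exact ⟨p', k, by rw [hk]; abel⟩
    · rintro ⟨p', k, hp⟩
      refine (Submodule.Quotient.mk_eq_zero _).2 ⟨S.ψ i p', ?_⟩
      change E''.d i (S.ψ i p') = S.ψ (i + 1) p
      rw [hp, map_add, S.ψd, (S.exact _ _).2 ⟨k, rfl⟩, add_zero]
  have k2 : ∀ p : Z, p ∈ LinearMap.ker β ↔ ∃ (p' : E'.X i) (k : E.X (i + 1)),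
      (p : E'.X (i + 1)) = E'.d i p' + S.φ (i + 1) k := by
    intro p
    rw [LinearMap.mem_ker]
    constructor
    · intro hp
      obtain ⟨k', hk'⟩ := (Submodule.Quotient.mk_eq_zero _).1 hp
      have hk'' : E.d (i + 1) k' = β₂ p := hk'
      have h1 : E'.d (i + 1) ((p : E'.X (i + 1)) - S.φ (i + 1) k') = 0 := by
        rw [map_sub, ← S.φd, hk'', hβ₂, sub_self]
      obtain ⟨p', hp'⟩ := h _ h1
      exact ⟨p', k', by rw [hp']; abel⟩
    · rintro ⟨p', k, hp⟩
      refine (Submodule.Quotient.mk_eq_zero _).2 ⟨k, ?_⟩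
      change E.d (i + 1) k = β₂ p
      apply S.inj
      rw [hβ₂, hp, map_add, E'.dd, zero_add, S.φd]
  ext p
  rw [k1, k2]

theorem SES.lemmaB {E E' E'' : EC.{u, v} A} (S : SES E E' E'') (i : ℤ) (h : ExactAt E' i)
    (h' : ExactAt E' (i + 1)) : Nonempty (E''.H i ≃ₗ[A] E.H (i + 1)) := by
  obtain ⟨e⟩ := S.lemmaA i h
  have hk : (LinearMap.range (E'.d (i + 1))).comap (S.φ (i + 1 + 1)) =
      LinearMap.ker (E.d (i + 1 + 1)) := by
    ext k
    rw [Submodule.mem_comap, LinearMap.mem_ker]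
    constructor
    · rintro ⟨p, hp⟩
      apply S.inj
      rw [S.φd, ← hp, E'.dd, map_zero]
    · intro hk
      have h1 : E'.d (i + 1 + 1) (S.φ (i + 1 + 1) k) = 0 := by rw [← S.φd, hk, map_zero]
      obtain ⟨y, hy⟩ := h' _ h1
      exact ⟨y, hy⟩
  rw [hk] at e
  exact ⟨e⟩

section Final

variable {K P : Type u} [AddCommGroup K] [Module A K] [AddCommGroup P] [Module A P]

/-- `k ↦ 1 ⊗ k`. -/
theorem mk_one_eq_zero_iff (I : Ideal A) (k : K) :
    ((1 : A ⧸ I) ⊗ₜ[A] k = 0) ↔ k ∈ (I • ⊤ : Submodule A K) := by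
  rw [← Submodule.Quotient.mk_eq_zero, ← TensorProduct.quotTensorEquivQuotSMul_mk_one_tmul,
    LinearEquiv.map_eq_zero_iff]

theorem mk_one_surjective (I : Ideal A) :
    Function.Surjective (TensorProduct.mk A (A ⧸ I) K 1) := by
  intro x
  obtain ⟨k, hk⟩ := Submodule.Quotient.mk_surjective _ (TensorProduct.quotTensorEquivQuotSMul K I x)
  refine ⟨k, ?_⟩
  apply (TensorProduct.quotTensorEquivQuotSMul K I).injective
  rw [← hk]
  exact TensorProduct.quotTensorEquivQuotSMul_mk_one_tmul I k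

/-- Degree zero cohomology of the Koszul complex. -/
theorem H_zero (M : Type u) [AddCommGroup M] [Module A M] (l : List A) (i : ℤ) (hi : i + 1 = 0) :
    Nonempty ((kos (sg A M) l).H i ≃ₗ[A] (A ⧸ Ideal.span {x | x ∈ l}) ⊗[A] M) := by
  have hsub := kos_subsingleton M l (i + 1 + 1) (by omega)
  have hker : ∀ x : (kos (sg A M) l).X (i + 1), (kos (sg A M) l).d (i + 1) x = 0 :=
    fun x => hsub.elim _ _
  let α : ↥(LinearMap.ker ((kos (sg A M) l).d (i + 1))) →ₗ[A] (kos (sg A M) l).H i :=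
    Submodule.mkQ _
  let β : ↥(LinearMap.ker ((kos (sg A M) l).d (i + 1))) →ₗ[A]
      (A ⧸ Ideal.span {x | x ∈ l}) ⊗[A] M :=
    (TensorProduct.mk A (A ⧸ Ideal.span {x | x ∈ l}) M 1) ∘ₗ (aug M l (i + 1) hi) ∘ₗ
      Submodule.subtype _
  refine equiv_of_ker_eq α β (Submodule.mkQ_surjective _) ?_ ?_
  · intro y
    obtain ⟨m, rfl⟩ := mk_one_surjective _ y
    obtain ⟨x, rfl⟩ := (aug_bijective M l (i + 1) hi).2 m
    exact ⟨⟨x, hker x⟩, rfl⟩
  · ext ⟨x, hx⟩
    rw [LinearMap.mem_ker, LinearMap.mem_ker]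
    refine Iff.trans (Submodule.Quotient.mk_eq_zero _) ?_
    refine Iff.trans (mem_range_iff M l i hi x) ?_
    exact (mk_one_eq_zero_iff _ _).symm

theorem H_one (f : K →ₗ[A] P) (l : List A) (i : ℤ) (hi : i + 1 + 1 = 0)
    {M : Type u} [AddCommGroup M] [Module A M] (g : P →ₗ[A] M) (hf : Function.Injective f)
    (h : Function.Exact f g) (hg : Function.Surjective g)
    (hE : ExactAt (kos (sg A P) l) i) :
    Nonempty ((kos (sg A M) l).H i ≃ₗ[A]
      LinearMap.ker (LinearMap.lTensor (A ⧸ Ideal.span {x | x ∈ l}) f)) := by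
  obtain ⟨e⟩ := ((SES.ofModules f g hf h hg).kos l).lemmaA i hE
  set φ := ((SES.ofModules f g hf h hg).kos l).φ with hφ
  let C := (LinearMap.range ((kos (sg A P) l).d (i + 1))).comap (φ (i + 1 + 1))
  have hC : ∀ x : (kos (sg A K) l).X (i + 1 + 1), x ∈ C ↔
      f (aug K l (i + 1 + 1) hi x) ∈ (Ideal.span {x | x ∈ l} • ⊤ : Submodule A P) := by
    intro x
    rw [← aug_φ f g hf h hg l (i + 1 + 1) hi x]
    exact mem_range_iff P l (i + 1) hi _
  let α : C →ₗ[A] (↥C ⧸ (LinearMap.range ((kos (sg A K) l).d (i + 1))).submoduleOf C) :=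
    Submodule.mkQ _
  let β : C →ₗ[A] LinearMap.ker (LinearMap.lTensor (A ⧸ Ideal.span {x | x ∈ l}) f) :=
    ((TensorProduct.mk A (A ⧸ Ideal.span {x | x ∈ l}) K 1) ∘ₗ (aug K l (i + 1 + 1) hi) ∘ₗ
      C.subtype).codRestrict _ (fun x => by
        rw [LinearMap.mem_ker]
        change (1 : A ⧸ Ideal.span {x | x ∈ l}) ⊗ₜ[A] (f (aug K l (i + 1 + 1) hi x)) = 0
        rw [mk_one_eq_zero_iff, ← hC]
        exact x.2)
  have hab : Nonempty ((↥C ⧸ (LinearMap.range ((kos (sg A K) l).d (i + 1))).submoduleOf C) ≃ₗ[A]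
      LinearMap.ker (LinearMap.lTensor (A ⧸ Ideal.span {x | x ∈ l}) f)) := by
    refine equiv_of_ker_eq
      (Q := ↥(LinearMap.ker (LinearMap.lTensor (A ⧸ Ideal.span {x | x ∈ l}) f)))
      α β (Submodule.mkQ_surjective _) ?_ ?_
    · rintro ⟨y, hy⟩
      obtain ⟨k, rfl⟩ := mk_one_surjective _ y
      obtain ⟨x, rfl⟩ := (aug_bijective K l (i + 1 + 1) hi).2 k
      rw [LinearMap.mem_ker] at hy
      change (1 : A ⧸ Ideal.span {x | x ∈ l}) ⊗ₜ[A] (f (aug K l (i + 1 + 1) hi x)) = 0 at hy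
      rw [mk_one_eq_zero_iff, ← hC] at hy
      exact ⟨⟨x, hy⟩, rfl⟩
    · ext ⟨x, hx⟩
      rw [LinearMap.mem_ker, LinearMap.mem_ker]
      refine Iff.trans (Submodule.Quotient.mk_eq_zero _) ?_
      refine Iff.trans (mem_range_iff K l (i + 1) hi x) ?_
      refine Iff.trans (mk_one_eq_zero_iff _ _).symm ?_
      exact ⟨fun h0 => Subtype.ext h0, fun h0 => congrArg Subtype.val h0⟩
  obtain ⟨e'⟩ := hab
  exact ⟨e.trans e'⟩

/-- Koszul homology of a weakly regular sequence (reversed list) with coefficients in `M` is Tor. -/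
theorem koszul_tor (l : List A) (hl : RingTheory.Sequence.IsWeaklyRegular A l) (n : ℕ) :
    ∀ (M : Type u) [AddCommGroup M] [Module A M] (i : ℤ), i + 1 = -(n : ℤ) →
      Nonempty ((kos (sg A M) l.reverse).H i ≃ₗ[A]
        DRing.Tor A n (A ⧸ Ideal.span {x | x ∈ l.reverse}) M) := by
  have hlP : ∀ (P : Type u) [AddCommGroup P] [Module A P] [Module.Free A P],
      RingTheory.Sequence.IsWeaklyRegular P l := by
    intro P _ _ _
    have h1 := hl.isWeaklyRegular_lTensor (M₂ := P)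
    exact ((TensorProduct.rid A P).isWeaklyRegular_congr l).1 h1
  induction n with
  | zero =>
    intro M _ _ i hi
    obtain ⟨e⟩ := H_zero M l.reverse i (by simpa using hi)
    exact ⟨e.trans (TorShift.zeroEquiv A _ M).symm⟩
  | succ n ih =>
    intro M _ _ i hi
    obtain ⟨K, P, _, _, _, _, f, g, _, hf, h, hg⟩ := TorShift.exists_free_cover (A := A) M
    have hE := exactAt_kos P l (hlP P)
    cases n with
    | zero =>
      obtain ⟨e⟩ := H_one f l.reverse i (by push_cast at hi; omega) g hf h hg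
        (hE i (by push_cast at hi; omega))
      obtain ⟨e'⟩ := TorShift.shiftR_one f g hf h hg (A ⧸ Ideal.span {x | x ∈ l.reverse})
      exact ⟨e.trans e'.symm⟩
    | succ n =>
      obtain ⟨e⟩ := ((SES.ofModules f g hf h hg).kos l.reverse).lemmaB i
        (hE i (by push_cast at hi; omega)) (hE (i + 1) (by push_cast at hi; omega))
      obtain ⟨e'⟩ := TorShift.shiftR f g hf h hg n (A ⧸ Ideal.span {x | x ∈ l.reverse})
      obtain ⟨e''⟩ := ih K (i + 1) (by push_cast at hi ⊢; omega)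
      exact ⟨e.trans (e''.trans e'.symm)⟩

end Final

end Groth.Agent.CycA.KoszulTor
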