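import Mathlib.RingTheory.LocalRing.Length
import Mathlib.RingTheory.LocalRing.ResidueField.Fiber
import Mathlib.RingTheory.RingHom.Flat
import Mathlib.RingTheory.Ideal.GoingDown
import Mathlib.RingTheory.Ideal.MinimalPrime.Localization
import Mathlib.RingTheory.LocalProperties.Reduced
import Mathlib.RingTheory.Nilpotent.Lemmas

set_option autoImplicit false

/-!
# Lengths of localizations at minimal primes that are powers of `p`
-/

namespace Groth.Agent.CycA.LenPow

open Module TensorProduct

/-- All localizations at minimal primes have length a power of `p` (over themselves). -/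
def PPL (p : ℕ) (A : Type*) [CommRing A] : Prop :=
  ∀ (q : Ideal A) [q.IsPrime], q ∈ minimalPrimes A →
    ∃ n : ℕ, Module.length (Localization.AtPrime q) (Localization.AtPrime q) = (p ^ n : ℕ)

theorem length_self_of_ringEquiv {A B : Type*} [CommRing A] [CommRing B] (e : A ≃+* B) :
    Module.length A A = Module.length B B := by
  let _ : Algebra A B := e.toRingHom.toAlgebra
  have h1 : Module.length A B = Module.length B B :=
    Module.length_eq_of_surjective (R := B) (S := A) (M := B) e.surjective
  rw [← h1]
  let e' : A ≃ₗ[A] B :=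
    { e.toAddEquiv with
      map_smul' := fun a x => by
        change e (a • x) = algebraMap A B a * e x
        rw [smul_eq_mul, map_mul]; rfl }
  exact e'.length_eq

theorem length_self_eq_one_of_isField {A : Type*} [CommRing A] (h : IsField A) :
    Module.length A A = 1 := by
  let _ := h.toField
  exact Module.length_eq_one A A

theorem PPL.of_ringEquiv {p : ℕ} {A B : Type*} [CommRing A] [CommRing B] (e : A ≃+* B)
    (h : PPL p A) : PPL p B := by
  intro q hq hqm
  have hq' : (q.comap e).IsPrime := inferInstance
  have hmin : q.comap e ∈ minimalPrimes A := by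
    rw [minimalPrimes_eq_minimals] at hqm ⊢
    refine ⟨hq', fun J hJ hle => ?_⟩
    have hJ' : J.IsPrime := hJ
    have h1 : (J.comap e.symm).IsPrime := inferInstance
    have h2 := hqm.2 h1 (by
      intro x hx
      have := hle (show e.symm x ∈ J from hx)
      rw [Ideal.mem_comap] at this
      simpa using this)
    intro x hx
    have h3 := h2 (show e x ∈ q from hx)
    rw [Ideal.mem_comap] at h3
    simpa using h3
  obtain ⟨n, hn⟩ := h (q.comap e) hmin
  refine ⟨n, ?_⟩
  rw [← hn]
  have hmap : Submonoid.map e.toMonoidHom (q.comap e).primeCompl = q.primeCompl := by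
    ext x
    constructor
    · rintro ⟨y, hy, rfl⟩
      exact hy
    · intro hx
      refine ⟨e.symm x, ?_, by simp⟩
      intro hh
      apply hx
      have : e (e.symm x) ∈ q := hh
      simpa using this
  exact (length_self_of_ringEquiv (IsLocalization.ringEquivOfRingEquiv
    (Localization.AtPrime (q.comap e)) (Localization.AtPrime q) e hmap)).symm

theorem PPL.of_isReduced (p : ℕ) (A : Type*) [CommRing A] [IsReduced A] : PPL p A := by
  intro q hq hqm
  refine ⟨0, ?_⟩
  rw [pow_zero, Nat.cast_one]
  apply length_self_eq_one_of_isField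
  rw [IsLocalRing.isField_iff_maximalIdeal_eq]
  have h := IsLocalization.AtPrime.radical_map_of_mem_minimalPrimes
    (A := Localization.AtPrime q) q ⊥ hqm
  rw [IsLocalization.AtPrime.map_eq_maximalIdeal q, Ideal.map_bot] at h
  rw [← h]
  exact nilradical_eq_zero (R := Localization.AtPrime q)

/-- For a flat algebra `B` over `A`, a prime `q` of `A` and a prime `Q` of `B` over `q`
(coming from a prime `r` of the fibre ring), `length B_Q = length A_q * length (fibre)_r`. -/
theorem length_localization_fiber {A B : Type*} [CommRing A] [CommRing B] [Algebra A B]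
    [Module.Flat A B] (q : Ideal A) [q.IsPrime] (r : Ideal (q.Fiber B)) [r.IsPrime] :
    Module.length
      (Localization.AtPrime (r.comap (Algebra.TensorProduct.includeRight : B →ₐ[A] q.Fiber B)))
      (Localization.AtPrime (r.comap (Algebra.TensorProduct.includeRight : B →ₐ[A] q.Fiber B))) =
    Module.length (Localization.AtPrime q) (Localization.AtPrime q) *
      Module.length (Localization.AtPrime r) (Localization.AtPrime r) := by
  let Q := r.comap (Algebra.TensorProduct.includeRight : B →ₐ[A] q.Fiber B)
  let _ := Localization.AtPrime.algebraOfLiesOver q Q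
  let Aq := Localization.AtPrime q
  let S := Localization.AtPrime Q
  have halg : algebraMap Aq S = Localization.localRingHom q Q (algebraMap A B) Ideal.LiesOver.over :=
    Localization.AtPrime.IsLiesOverAlgebra.algebraMap_eq (p := q) (P := Q)
  have hloc : IsLocalHom (algebraMap Aq S) := by
    rw [halg]
    infer_instance
  have hflat : Module.Flat Aq S := by
    have hf : (algebraMap A B).Flat := by rw [RingHom.flat_algebraMap_iff]; infer_instance
    have := hf.localRingHom Q q (hQP := Ideal.LiesOver.over)
    rw [← halg, RingHom.flat_algebraMap_iff] at this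
    exact this
  have h1 := IsLocalRing.length_baseChange Aq S Aq
  rw [(TensorProduct.AlgebraTensorModule.rid Aq S S).length_eq] at h1
  rw [h1]
  congr 1
  have h2 : Ideal.map (algebraMap Aq S) (IsLocalRing.maximalIdeal Aq) = q.map (algebraMap A S) := by
    rw [← Localization.AtPrime.map_eq_maximalIdeal, Ideal.map_map, ← IsScalarTower.algebraMap_eq]
  rw [h2]
  let e := (Ideal.Fiber.localizationAlgEquivQuotient q r).toRingEquiv
  refine (Module.length_eq_of_surjective (S := S) (R := S ⧸ q.map (algebraMap A S))
    Ideal.Quotient.mk_surjective).trans ?_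
  exact (length_self_of_ringEquiv (A := Localization.AtPrime r)
    (B := S ⧸ q.map (algebraMap A S)) e).symm

/-- Minimal primes of a flat algebra contract to minimal primes. -/
theorem under_mem_minimalPrimes_of_flat {A B : Type*} [CommRing A] [CommRing B] [Algebra A B]
    [Module.Flat A B] (Q : Ideal B) [Q.IsPrime] (hQm : Q ∈ minimalPrimes B) :
    Q.under A ∈ minimalPrimes A := by
  rw [minimalPrimes_eq_minimals] at hQm ⊢
  have hq : (Q.under A).IsPrime := inferInstance
  refine ⟨hq, fun J hJ hle => ?_⟩
  have hJ' : J.IsPrime := hJ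
  obtain ⟨P, hPQ, hP, hPJ⟩ := Ideal.exists_ideal_le_liesOver_of_le (p := J) (q := Q.under A) Q hle
  have := hQm.2 hP hPQ
  rw [hPJ.over]
  exact Ideal.comap_mono this

theorem PPL.of_flat {p : ℕ} {A B : Type*} [CommRing A] [CommRing B] [Algebra A B]
    [Module.Flat A B] (hA : PPL p A)
    (hF : ∀ (q : Ideal A) [q.IsPrime], q ∈ minimalPrimes A → PPL p (q.Fiber B)) : PPL p B := by
  intro Q hQ hQm
  let q := Q.under A
  have hq : q.IsPrime := inferInstance
  have hqm : q ∈ minimalPrimes A := under_mem_minimalPrimes_of_flat Q hQm
  let r := PrimeSpectrum.primesOverOrderIsoFiber A B q (Ideal.primesOver.mk q Q)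
  have hr : Q = r.1.comap Algebra.TensorProduct.includeRight := by
    rw [← PrimeSpectrum.coe_primesOverOrderIsoFiber_symm_apply, OrderIso.symm_apply_apply]
  have hrm : r.1 ∈ minimalPrimes (q.Fiber B) := by
    rw [minimalPrimes_eq_minimals] at hQm ⊢
    refine ⟨r.2, fun J hJ hle => ?_⟩
    have hJ' : J.IsPrime := hJ
    let J' : PrimeSpectrum (q.Fiber B) := ⟨J, hJ⟩
    let P := (PrimeSpectrum.primesOverOrderIsoFiber A B q).symm J'
    have hle' : J' ≤ r := hle
    have h1 : P ≤ Ideal.primesOver.mk q Q := by
      have := (PrimeSpectrum.primesOverOrderIsoFiber A B q).symm.monotone hle'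
      rwa [OrderIso.symm_apply_apply] at this
    have h2 : Q ≤ P.1 := hQm.2 (P.2.1) h1
    have h3 : Ideal.primesOver.mk q Q ≤ P := h2
    have h4 := (PrimeSpectrum.primesOverOrderIsoFiber A B q).monotone h3
    rw [OrderIso.apply_symm_apply] at h4
    exact h4
  obtain ⟨n, hn⟩ := hF q hqm r.1 hrm
  obtain ⟨m, hm⟩ := hA q hqm
  refine ⟨m + n, ?_⟩
  have key := length_localization_fiber (B := B) q r.1
  rw [hn, hm, ← Nat.cast_mul, ← pow_add] at key
  have aux : ∀ (Q₁ Q₂ : Ideal B) [Q₁.IsPrime] [Q₂.IsPrime], Q₁ = Q₂ →
      Module.length (Localization.AtPrime Q₁) (Localization.AtPrime Q₁) =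
      Module.length (Localization.AtPrime Q₂) (Localization.AtPrime Q₂) := by
    rintro Q₁ _ _ _ rfl
    rfl
  rw [aux _ _ hr]
  exact key

end Groth.Agent.CycA.LenPow
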