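import Mathlib.RingTheory.Nakayama
import Mathlib.RingTheory.Ideal.GoingUp
import Mathlib.RingTheory.Localization.AtPrime.Basic
import Mathlib.LinearAlgebra.Charpoly.ToMatrix
import Mathlib.LinearAlgebra.Matrix.Charpoly.LinearMap
import Mathlib.RingTheory.Ideal.Over
import Mathlib.RingTheory.Localization.AtPrime.Extension
import Mathlib.RingTheory.Unramified.Field
import Mathlib.RingTheory.Ideal.KrullsHeightTheorem
import Mathlib.Algebra.Algebra.Epi

/-!
# Local algebra for the moving lemma

If `R → S` is finite and `Pe ≤ Pz` are primes of `S` such that `Pz` is the only prime over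
`m = Pz ∩ R` containing `Pe`, with trivial residue field extension and unramified at `Pz`, then
any prime `Px ≤ Pz` with the same contraction as `Pe` is equal to `Pe`.
-/

set_option autoImplicit false

namespace Groth.Agent.CycA.MovAlg

open IsLocalRing

section Core

variable {R B : Type*} [CommRing R] [CommRing B] [IsLocalRing B] [IsNoetherianRing B] [Algebra R B]

/-- If `𝔪_B = m B` and every element of `B` is, modulo `P`, a fraction of elements of `R` with
denominator outside `m`, then `P` is generated by `P ∩ R`. -/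
theorem le_map_comap (m : Ideal R) (hm : m.map (algebraMap R B) = maximalIdeal B)
    (hmc : m = (maximalIdeal B).comap (algebraMap R B))
    (P : Ideal B) (hP : P ≠ ⊤)
    (hs : ∀ b : B, ∃ r r' : R, r' ∉ m ∧ algebraMap R B r' * b - algebraMap R B r ∈ P) :
    P ≤ (P.comap (algebraMap R B)).map (algebraMap R B) := by
  have hmp : m.IsPrime := by rw [hmc]; exact Ideal.comap_isPrime _ _
  have hunit : ∀ r : R, r ∉ m → IsUnit (algebraMap R B r) := by
    intro r hr
    by_contra h
    apply hr
    rw [hmc, Ideal.mem_comap]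
    exact h
  have key : ∀ z ∈ maximalIdeal B, ∃ r' : R, r' ∉ m ∧ ∃ y ∈ m,
      algebraMap R B r' * z - algebraMap R B y ∈ maximalIdeal B * P := by
    intro z hz
    rw [← hm, Ideal.map] at hz
    induction hz using Submodule.span_induction with
    | mem x hx =>
      obtain ⟨c, hc, rfl⟩ := hx
      exact ⟨1, fun h => hmp.ne_top ((Ideal.eq_top_iff_one _).mpr h), c, hc, by simp⟩
    | zero => exact ⟨1, fun h => hmp.ne_top ((Ideal.eq_top_iff_one _).mpr h), 0, m.zero_mem,
        by simp⟩
    | add x y _ _ hx hy =>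
      obtain ⟨r₁, hr₁, y₁, hy₁, h₁⟩ := hx
      obtain ⟨r₂, hr₂, y₂, hy₂, h₂⟩ := hy
      refine ⟨r₁ * r₂, fun h => (hmp.mem_or_mem h).elim hr₁ hr₂, r₂ * y₁ + r₁ * y₂,
        m.add_mem (m.mul_mem_left _ hy₁) (m.mul_mem_left _ hy₂), ?_⟩
      have := (maximalIdeal B * P).add_mem
        (Ideal.mul_mem_left _ (algebraMap R B r₂) h₁) (Ideal.mul_mem_left _ (algebraMap R B r₁) h₂)
      convert! this using 1
      simp only [map_mul, map_add]
      ring
    | smul b x _ hx =>
      obtain ⟨r₁, hr₁, y₁, hy₁, h₁⟩ := hx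
      obtain ⟨r, r₂, hr₂, h₂⟩ := hs b
      refine ⟨r₁ * r₂, fun h => (hmp.mem_or_mem h).elim hr₁ hr₂, y₁ * r,
        m.mul_mem_right _ hy₁, ?_⟩
      have h3 : algebraMap R B y₁ * (algebraMap R B r₂ * b - algebraMap R B r) ∈
          maximalIdeal B * P :=
        Ideal.mul_mem_mul (by rw [← hm]; exact Ideal.mem_map_of_mem _ hy₁) h₂
      have h4 := Ideal.mul_mem_left (maximalIdeal B * P) (algebraMap R B r₂ * b) h₁
      have := (maximalIdeal B * P).add_mem h4 h3
      convert! this using 1
      simp only [map_mul, smul_eq_mul]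
      ring
  have hfg : P.FG := IsNoetherian.noetherian P
  have hjac : maximalIdeal B ≤ Ideal.jacobson (⊥ : Ideal B) :=
    IsLocalRing.maximalIdeal_le_jacobson _
  suffices hle : P ≤ (P.comap (algebraMap R B)).map (algebraMap R B) ⊔ maximalIdeal B • P from
    Submodule.le_of_le_smul_of_le_jacobson_bot hfg hjac hle
  intro z hz
  obtain ⟨r', hr', y, -, hy⟩ := key z (IsLocalRing.le_maximalIdeal hP hz)
  have hyP : algebraMap R B y ∈ P := by
    have h1 : algebraMap R B r' * z - algebraMap R B y ∈ P := Ideal.mul_le_right hy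
    have h2 := P.sub_mem (P.mul_mem_left (algebraMap R B r') hz) h1
    rwa [sub_sub_cancel] at h2
  have h3 : algebraMap R B r' * z ∈
      (P.comap (algebraMap R B)).map (algebraMap R B) ⊔ maximalIdeal B • P := by
    have h4 : algebraMap R B r' * z = algebraMap R B y + (algebraMap R B r' * z - algebraMap R B y) := by
      ring
    rw [h4]
    exact Submodule.add_mem_sup (Ideal.mem_map_of_mem _ hyP) hy
  exact (Ideal.unit_mul_mem_iff_mem _ (hunit r' hr')).mp h3

end Core

section Nak

variable {R : Type*} [CommRing R]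

/-- Localized Nakayama at a prime `m`. -/
theorem exists_smul_eq_zero (m : Ideal R) [m.IsPrime] {M : Type*} [AddCommGroup M] [Module R M]
    [Module.Finite R M] (h : ∀ z : M, ∃ r ∉ m, r • z ∈ m • (⊤ : Submodule R M)) (z : M) :
    ∃ r ∉ m, r • z = 0 := by
  classical
  obtain ⟨s, hs⟩ := (Module.Finite.fg_top : (⊤ : Submodule R M).FG)
  choose ρ hρ hρm using h
  set r' : R := ∏ x ∈ s, ρ x with hr'
  have hr'm : r' ∉ m := by
    rw [hr', Ideal.IsPrime.prod_mem_iff (hp := inferInstance)]
    rintro ⟨x, -, hx⟩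
    exact hρ x hx
  have hrange : LinearMap.range (r' • (LinearMap.id : M →ₗ[R] M)) ≤ m • (⊤ : Submodule R M) := by
    rintro _ ⟨w, rfl⟩
    simp only [LinearMap.smul_apply, LinearMap.id_apply]
    have hw : w ∈ (⊤ : Submodule R M) := trivial
    rw [← hs] at hw
    induction hw using Submodule.span_induction with
    | mem x hx =>
      rw [hr', ← Finset.mul_prod_erase s ρ hx, mul_comm, mul_smul]
      exact Submodule.smul_mem _ _ (hρm x)
    | zero => rw [smul_zero]; exact Submodule.zero_mem _
    | add x y _ _ hx hy => rw [smul_add]; exact Submodule.add_mem _ hx hy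
    | smul a x _ hx => rw [smul_comm]; exact Submodule.smul_mem _ _ hx
  obtain ⟨p, hp, -, hpk, hpe⟩ :=
    LinearMap.exists_monic_and_natDegree_eq_and_coeff_mem_pow_and_aeval_eq_zero R
      (r' • (LinearMap.id : M →ₗ[R] M)) m hrange
  refine ⟨p.eval r', ?_, ?_⟩
  · intro hmem
    rw [hp.as_sum, Polynomial.eval_add, Polynomial.eval_pow, Polynomial.eval_X,
      Polynomial.eval_finsetSum] at hmem
    have h1 : ∑ i ∈ Finset.range p.natDegree,
        Polynomial.eval r' (Polynomial.C (p.coeff i) * Polynomial.X ^ i) ∈ m := by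
      refine Ideal.sum_mem _ fun i hi => ?_
      rw [Polynomial.eval_mul, Polynomial.eval_C]
      have h2 : p.natDegree - i ≠ 0 := by
        have := Finset.mem_range.mp hi
        omega
      exact m.mul_mem_right _ (Ideal.pow_le_self h2 (hpk i))
    have h3 := m.sub_mem hmem h1
    rw [add_sub_cancel_right] at h3
    exact hr'm (Ideal.IsPrime.mem_of_pow_mem inferInstance _ h3)
  · rw [← Module.algebraMap_end_eq_smul_id, Polynomial.aeval_algebraMap_apply_eq_algebraMap_eval]
      at hpe
    have := congrArg (fun f : Module.End R M => f z) hpe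
    simpa using this

end Nak

section Main

variable {R S : Type*} [CommRing R] [CommRing S] [Algebra R S]

/-- If `Pz` is the only prime over `m = Pz ∩ R` containing `Pe`, then any `s ∉ Pz` divides,
modulo `Pe`, an element of `R ∖ m`. -/
theorem exists_mul_sub_mem [Algebra.IsIntegral R S] (Pe Pz : Ideal S) [Pz.IsPrime]
    (h1 : ∀ P : Ideal S, P.IsPrime → P.under R = Pz.under R → Pe ≤ P → P = Pz)
    (s : S) (hs : s ∉ Pz) :
    ∃ s' : S, ∃ r' : R, r' ∉ Pz.under R ∧ s * s' - algebraMap R S r' ∈ Pe := by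
  by_contra hcon
  push Not at hcon
  have hle : (Pe ⊔ Ideal.span {s}).comap (algebraMap R S) ≤ Pz.under R := by
    intro r' hr'
    by_contra hr
    rw [Ideal.mem_comap, Submodule.mem_sup] at hr'
    obtain ⟨y, hy, w, hw, hyw⟩ := hr'
    obtain ⟨s', rfl⟩ := Ideal.mem_span_singleton'.mp hw
    apply hcon s' r' hr
    rw [← hyw]
    have : s * s' - (y + s' * s) = -y := by ring
    rw [this]
    exact neg_mem hy
  obtain ⟨Q, hQ, hQp, hQc⟩ :=
    Ideal.exists_ideal_over_prime_of_isIntegral (Pz.under R) (Pe ⊔ Ideal.span {s}) hle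
  have := h1 Q hQp hQc (le_sup_left.trans hQ)
  apply hs
  rw [← this]
  exact hQ (Ideal.mem_sup_right (Ideal.mem_span_singleton_self s))

variable [Module.Finite R S]

/-- Under the hypotheses of the moving lemma, `R → S/Pe` is surjective at `m`. -/
theorem exists_mul_sub_mem' (Pe Pz : Ideal S) [Pz.IsPrime]
    (h1 : ∀ P : Ideal S, P.IsPrime → P.under R = Pz.under R → Pe ≤ P → P = Pz)
    (h2 : ∀ s : S, ∃ r r' : R, r' ∉ Pz.under R ∧ algebraMap R S r' * s - algebraMap R S r ∈ Pz)
    (h3 : (Pz.under R).map (algebraMap R (Localization.AtPrime Pz)) =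
      maximalIdeal (Localization.AtPrime Pz))
    (z : S) :
    ∃ r r' : R, r' ∉ Pz.under R ∧ algebraMap R S r' * z - algebraMap R S r ∈ Pe := by
  have hmp : (Pz.under R).IsPrime := Ideal.comap_isPrime _ _
  set N : Submodule R S := Pe.restrictScalars R ⊔ LinearMap.range (Algebra.linearMap R S) with hN
  have key : ∀ z : S, ∃ r' ∉ Pz.under R, r' • z ∈ N ⊔ (Pz.under R) • (⊤ : Submodule R S) := by
    intro z
    obtain ⟨r, r₁, hr₁, hz⟩ := h2 z
    have hw : algebraMap S (Localization.AtPrime Pz) (algebraMap R S r₁ * z - algebraMap R S r) ∈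
        maximalIdeal (Localization.AtPrime Pz) := by
      rw [← Localization.AtPrime.map_eq_maximalIdeal]
      exact Ideal.mem_map_of_mem _ hz
    rw [← h3, IsScalarTower.algebraMap_eq R S (Localization.AtPrime Pz), ← Ideal.map_map,
      IsLocalization.algebraMap_mem_map_algebraMap_iff Pz.primeCompl] at hw
    obtain ⟨s, hs, hsw⟩ := hw
    obtain ⟨s', r₂, hr₂, hss⟩ := exists_mul_sub_mem Pe Pz h1 s hs
    refine ⟨r₂ * r₁, fun h => (hmp.mem_or_mem h).elim hr₂ hr₁, ?_⟩
    have e1 : (r₂ * r₁) • z = ((s' * (s * (algebraMap R S r₁ * z - algebraMap R S r)))) +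
        (-(s * s' - algebraMap R S r₂) * (algebraMap R S r₁ * z - algebraMap R S r)
        + algebraMap R S (r₂ * r)) := by
      rw [Algebra.smul_def, map_mul, map_mul]
      ring
    rw [e1]
    refine add_mem (Submodule.mem_sup_right ?_) (Submodule.mem_sup_left ?_)
    · have h4 := Ideal.mul_mem_left _ s' hsw
      rw [Ideal.smul_top_eq_map]
      exact h4
    · rw [hN]
      refine add_mem (Submodule.mem_sup_left ?_) (Submodule.mem_sup_right ⟨r₂ * r, rfl⟩)
      rw [Submodule.restrictScalars_mem]
      exact Ideal.mul_mem_right _ _ (neg_mem hss)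
  obtain ⟨r', hr', hz⟩ := exists_smul_eq_zero (Pz.under R) (M := S ⧸ N) (fun x => by
    obtain ⟨x, rfl⟩ := N.mkQ_surjective x
    obtain ⟨r', hr', hx⟩ := key x
    refine ⟨r', hr', ?_⟩
    rw [← map_smul]
    have h5 := Submodule.mem_map_of_mem (f := N.mkQ) hx
    rw [Submodule.map_sup, Submodule.map_smul'', Submodule.map_top, Submodule.range_mkQ,
      Submodule.mkQ_map_self, bot_sup_eq] at h5
    exact h5) (N.mkQ z)
  rw [← map_smul, Submodule.mkQ_apply, Submodule.Quotient.mk_eq_zero, hN, Submodule.mem_sup] at hz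
  obtain ⟨y, hy, w, ⟨r, rfl⟩, hyw⟩ := hz
  refine ⟨r, r', hr', ?_⟩
  rw [Algebra.smul_def] at hyw
  rw [← hyw, Algebra.linearMap_apply, add_sub_cancel_right]
  exact hy

/-- **Key algebra for the moving lemma.** -/
theorem eq_of_under_eq [IsNoetherianRing S] (Pe Px Pz : Ideal S) [Pe.IsPrime] [Px.IsPrime]
    [Pz.IsPrime] (hez : Pe ≤ Pz) (hxz : Px ≤ Pz) (hex : Px.under R = Pe.under R)
    (h1 : ∀ P : Ideal S, P.IsPrime → P.under R = Pz.under R → Pe ≤ P → P = Pz)
    (h2 : ∀ s : S, ∃ r r' : R, r' ∉ Pz.under R ∧ algebraMap R S r' * s - algebraMap R S r ∈ Pz)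
    (h3 : (Pz.under R).map (algebraMap R (Localization.AtPrime Pz)) =
      maximalIdeal (Localization.AtPrime Pz)) :
    Px = Pe := by
  set B := Localization.AtPrime Pz with hB
  have hmp : (Pz.under R).IsPrime := Ideal.comap_isPrime _ _
  have : IsNoetherianRing B := IsLocalization.isNoetherianRing Pz.primeCompl B inferInstance
  have hmc : Pz.under R = (maximalIdeal B).comap (algebraMap R B) := by
    rw [IsScalarTower.algebraMap_eq R S B, ← Ideal.comap_comap, Ideal.under]
    congr 1
    exact (Localization.AtPrime.under_maximalIdeal (I := Pz)).symm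
  have hdis : ∀ Q : Ideal S, Q ≤ Pz → Disjoint (Pz.primeCompl : Set S) Q := fun Q hQ =>
    Set.disjoint_left.mpr fun x hx hx' => hx (hQ hx')
  have hce : (Pe.map (algebraMap S B)).comap (algebraMap S B) = Pe :=
    IsLocalization.under_map_of_isPrime_disjoint Pz.primeCompl B inferInstance (hdis _ hez)
  have hcx : (Px.map (algebraMap S B)).comap (algebraMap S B) = Px :=
    IsLocalization.under_map_of_isPrime_disjoint Pz.primeCompl B inferInstance (hdis _ hxz)
  have hne : Pe.map (algebraMap S B) ≠ ⊤ := by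
    intro h
    rw [h, Ideal.comap_top] at hce
    exact (inferInstance : Pe.IsPrime).ne_top hce.symm
  have hcore := le_map_comap (R := R) (B := B) (Pz.under R) h3 hmc (Pe.map (algebraMap S B)) hne
    (by
      intro b
      obtain ⟨z, s, rfl⟩ := IsLocalization.exists_mk'_eq Pz.primeCompl b
      obtain ⟨s', r₂, hr₂, hss⟩ := exists_mul_sub_mem Pe Pz h1 (s : S) s.2
      obtain ⟨r, r₁, hr₁, hz⟩ := exists_mul_sub_mem' Pe Pz h1 h2 h3 (s' * z)
      refine ⟨r, r₁ * r₂, fun h => (hmp.mem_or_mem h).elim hr₁ hr₂, ?_⟩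
      set b : B := IsLocalization.mk' B z s with hb
      have hbs : b * algebraMap S B (s : S) = algebraMap S B z := IsLocalization.mk'_spec _ _ _
      have e1 : algebraMap R B (r₁ * r₂) * b - algebraMap R B r =
          algebraMap S B (algebraMap R S r₁ * (s' * z) - algebraMap R S r) +
          (-(algebraMap R B r₁ * b)) * algebraMap S B ((s : S) * s' - algebraMap R S r₂) := by
        rw [IsScalarTower.algebraMap_apply R S B, IsScalarTower.algebraMap_apply R S B,
          IsScalarTower.algebraMap_apply R S B]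
        simp only [map_mul, map_sub]
        rw [← hbs]
        ring
      rw [e1]
      exact add_mem (Ideal.mem_map_of_mem _ hz) (Ideal.mul_mem_left _ _ (Ideal.mem_map_of_mem _ hss)))
  have hle : Pe.map (algebraMap S B) ≤ Px.map (algebraMap S B) := by
    refine hcore.trans ?_
    rw [Ideal.map_le_iff_le_comap]
    intro r hr
    rw [Ideal.mem_comap, IsScalarTower.algebraMap_apply R S B] at hr
    have h4 : algebraMap R S r ∈ Pe := by
      rw [← hce]
      exact hr
    have h5 : r ∈ Px.under R := by rw [hex]; exact h4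
    rw [Ideal.mem_comap, IsScalarTower.algebraMap_apply R S B]
    exact Ideal.mem_map_of_mem _ h5
  have hle' : Pe ≤ Px := by
    rw [← hce, ← hcx]
    exact Ideal.comap_mono hle
  by_contra hne'
  obtain ⟨x, hx, hx'⟩ := SetLike.exists_of_lt (lt_of_le_of_ne hle' (Ne.symm hne'))
  have := Ideal.comap_lt_comap_of_integral_mem_sdiff (R := R) hle' ⟨hx, hx'⟩
    (Algebra.IsIntegral.isIntegral x)
  exact this.ne hex.symm

omit [Module.Finite R S] in
/-- `κ(m) → κ(Pz)` surjective, in elementwise form. -/
theorem exists_of_residueField_surjective (m : Ideal R) [m.IsPrime] (Pz : Ideal S) [Pz.IsPrime]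
    (hm : m = Pz.comap (algebraMap R S))
    (h : Function.Surjective (Ideal.ResidueField.map m Pz (algebraMap R S) hm)) (s : S) :
    ∃ r r' : R, r' ∉ m ∧ algebraMap R S r' * s - algebraMap R S r ∈ Pz := by
  obtain ⟨x, hx⟩ := h (algebraMap S Pz.ResidueField s)
  obtain ⟨a, b, hb, rfl⟩ := IsFractionRing.div_surjective (R ⧸ m) x
  obtain ⟨a, rfl⟩ := Ideal.Quotient.mk_surjective a
  obtain ⟨b, rfl⟩ := Ideal.Quotient.mk_surjective b
  have hb' : b ∉ m := fun hbm => by
    rw [Ideal.Quotient.eq_zero_iff_mem.mpr hbm] at hb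
    exact (nonZeroDivisors.ne_zero hb) rfl
  refine ⟨a, b, hb', ?_⟩
  have e : ∀ c : R, algebraMap (R ⧸ m) m.ResidueField (Ideal.Quotient.mk m c) =
      algebraMap R m.ResidueField c := fun c => rfl
  rw [map_div₀, e, e, Ideal.ResidueField.map_algebraMap, Ideal.ResidueField.map_algebraMap] at hx
  have hbne : algebraMap S Pz.ResidueField (algebraMap R S b) ≠ 0 := by
    rw [Ne, Ideal.algebraMap_residueField_eq_zero]
    intro h'
    apply hb'
    rw [hm]
    exact h'
  rw [div_eq_iff hbne] at hx
  rw [← Ideal.algebraMap_residueField_eq_zero, map_sub, map_mul, hx, mul_comm, sub_self]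

/-- **Key algebra for the moving lemma**, version with residue fields. -/
theorem eq_of_under_eq' [IsNoetherianRing S] (Pe Px Pz : Ideal S) [Pe.IsPrime] [Px.IsPrime]
    [Pz.IsPrime] (m : Ideal R) [m.IsPrime] (hm : m = Pz.comap (algebraMap R S))
    (hez : Pe ≤ Pz) (hxz : Px ≤ Pz)
    (hex : Px.comap (algebraMap R S) = Pe.comap (algebraMap R S))
    (h1 : ∀ P : Ideal S, P.IsPrime → P.comap (algebraMap R S) = m → Pe ≤ P → P = Pz)
    (h2 : Function.Surjective (Ideal.ResidueField.map m Pz (algebraMap R S) hm))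
    (h3 : m.map (algebraMap R (Localization.AtPrime Pz)) =
      maximalIdeal (Localization.AtPrime Pz)) :
    Px = Pe := by
  have h2' := exists_of_residueField_surjective m Pz hm h2
  subst hm
  exact eq_of_under_eq Pe Px Pz hez hxz hex h1 h2' h3

end Main

section Field

variable {k L : Type*} [Field k] [Field L] [Algebra k L]

open TensorProduct in
/-- If `L/k` is finite separable and `L ⊗ L` has only one prime then `L = k`. -/
theorem algebraMap_surjective_of_subsingleton [Algebra.EssFiniteType k L]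
    [Algebra.FormallyUnramified k L]
    (h : Subsingleton (PrimeSpectrum (L ⊗[k] L))) : Function.Surjective (algebraMap k L) := by
  have hred : IsReduced (L ⊗[k] L) := Algebra.FormallyUnramified.isReduced_of_field L (L ⊗[k] L)
  have : Module.Finite k L := Algebra.FormallyUnramified.finite_of_free k L
  refine Algebra.isEpi_iff_surjective_algebraMap_of_finite.mp
    ((Algebra.isEpi_iff_forall_one_tmul_eq k L).mpr fun a => ?_)
  rw [← sub_eq_zero]
  set x : L ⊗[k] L := 1 ⊗ₜ[k] a - a ⊗ₜ[k] 1 with hx
  have hprime : (RingHom.ker (Algebra.TensorProduct.lmul' k (S := L)).toRingHom).IsPrime :=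
    RingHom.ker_isPrime _
  have hmem : x ∈ RingHom.ker (Algebra.TensorProduct.lmul' k (S := L)).toRingHom := by
    rw [RingHom.mem_ker]
    simp [hx]
  have hnil : x ∈ nilradical (L ⊗[k] L) := by
    rw [nilradical_eq_sInf, Ideal.mem_sInf]
    intro J hJ
    have := congrArg PrimeSpectrum.asIdeal (h.elim ⟨J, hJ⟩ ⟨_, hprime⟩)
    simp only at this
    rw [this]
    exact hmem
  rwa [nilradical_eq_zero, Ideal.zero_eq_bot, Ideal.mem_bot] at hnil

end Field

end Groth.Agent.CycA.MovAlg
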