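import Groth.Agent.CycB.GraphFac
import Groth.Agent.PerfB.ProjSpaceCover
import Mathlib.FieldTheory.IsAlgClosed.Basic
import Mathlib.RingTheory.Polynomial.Basic

/-!
# Integral closed subschemes of `P^1_X` either dominate `P^1_K` or have empty fibres over `0`, `∞`
-/

set_option autoImplicit false
universe u
open CategoryTheory CategoryTheory.Limits AlgebraicGeometry

namespace Groth.Agent.CycA.MovDom

open Groth.Agent.CycB.P1Chart Groth.Agent.CycB.GraphFac

variable {X Y : Scheme.{u}}

theorem toP1_toZ (f : X ⟶ Y) : P1.toP1 f ≫ CycB.P1Chart.toZ Y = CycB.P1Chart.toZ X :=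
  (pullback.lift_fst _ _ _).trans (Category.comp_id _)

theorem toP1_toBase (f : X ⟶ Y) : P1.toP1 f ≫ CohB1.ProjSpaceOver.toBase 1 Y =
    CohB1.ProjSpaceOver.toBase 1 X ≫ f :=
  pullback.lift_snd _ _ _

theorem pt_toP1 {B : CommRingCat.{u}} (i : Fin (1 + 1)) (g : Spec B ⟶ X) (b : B) (f : X ⟶ Y) :
    pt i g b ≫ P1.toP1 f = pt i (g ≫ f) b := by
  apply CycB.P1Chart.hom_ext
  · rw [Category.assoc, toP1_toZ, pt_toZ, pt_toZ]
  · rw [Category.assoc, toP1_toBase, pt_toBase, ← Category.assoc, pt_toBase]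

/-- Every point of `P^1_ℤ` lies in one of the charts. -/
theorem mem_chart (p : CohB1.ProjSpace 1 (P1.R0.{u})) :
    ∃ i : Fin (1 + 1), p ∈ Set.range (chartι.{u} i) := by
  obtain ⟨i, hi⟩ := PerfB.ProjSpaceCover.exists_mem_basicOpen_X 1 P1.R0.{u} p
  refine ⟨i, ?_⟩
  have h := Proj.opensRange_awayι P1.grading.{u} (P1.T i) (P1.X_mem i) one_pos
  have h1 : p ∈ (Proj.awayι P1.grading.{u} (P1.T i) (P1.X_mem i) one_pos).opensRange := by
    rw [h]
    exact hi
  exact h1

theorem injective_eval₂_inv {K L : Type*} [Field K] [Field L] (φ : K →+* L) (t : L)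
    (ht : Function.Injective (Polynomial.eval₂RingHom φ t)) :
    t ≠ 0 ∧ Function.Injective (Polynomial.eval₂RingHom φ t⁻¹) := by
  have h0 : t ≠ 0 := by
    rintro rfl
    have : (Polynomial.X : Polynomial K) = 0 := ht (by simp)
    exact Polynomial.X_ne_zero this
  refine ⟨h0, ?_⟩
  rw [RingHom.injective_iff_ker_eq_bot, RingHom.ker_eq_bot_iff_eq_zero] at ht ⊢
  intro p hp
  let _ : Invertible t⁻¹ := invertibleOfNonzero (inv_ne_zero h0)
  have h1 := (Polynomial.eval₂_reverse_eq_zero_iff φ t⁻¹ p).2 hp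
  have h2 : ⅟(t⁻¹) = t := by simp
  rw [h2] at h1
  have h3 := ht _ h1
  rwa [Polynomial.reverse_eq_zero] at h3

/-- The generic point of `P^1_K`, through the chart `i` with coordinate `t` transcendental. -/
theorem pt_mem_of_transcendental (K : Type u) [Field K] (L : Type u) [Field L]
    (φ : K →+* L) (t : L) (ht : Function.Injective (Polynomial.eval₂RingHom φ t)) (i : Fin (1 + 1))
    (U : (CohB1.ProjSpaceOver 1 (Spec (CommRingCat.of K))).Opens)
    (hU : (U : Set ↥(CohB1.ProjSpaceOver 1 (Spec (CommRingCat.of K)))).Nonempty) :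
    (pt (B := CommRingCat.of L) i (Spec.map (CommRingCat.ofHom φ)) t)
      (IsLocalRing.closedPoint L) ∈ U := by
  obtain ⟨p, hp⟩ := hU
  obtain ⟨j, hj⟩ := mem_chart ((CycB.P1Chart.toZ _) p)
  -- the coordinate of `p`
  let P := CohB1.ProjSpaceOver 1 (Spec (CommRingCat.of K))
  have hcl : (P.fromSpecResidueField p) (IsLocalRing.closedPoint (P.residueField p)) = p := by
    exact P.fromSpecResidueField_apply p _
  obtain ⟨b, hb⟩ := exists_pt (B := P.residueField p) j (P.fromSpecResidueField p)
    (by rw [hcl]; exact hj)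
  -- structure map
  let ψ : CommRingCat.of K ⟶ P.residueField p :=
    Spec.preimage (P.fromSpecResidueField p ≫ CohB1.ProjSpaceOver.toBase 1 _)
  have hψ : Spec.map ψ = P.fromSpecResidueField p ≫ CohB1.ProjSpaceOver.toBase 1 _ :=
    Spec.map_preimage _
  rw [← hψ] at hb
  -- the chart map from `Spec K[T]`
  let c : (k : Fin (1 + 1)) → (Spec (CommRingCat.of (Polynomial K)) ⟶ P) := fun k =>
    pt (B := CommRingCat.of (Polynomial K)) k (Spec.map (CommRingCat.ofHom Polynomial.C)) Polynomial.X
  let g0 : ↥(Spec (CommRingCat.of (Polynomial K))) := (⊥ : PrimeSpectrum (Polynomial K))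
  have hc : ∀ (k : Fin (1 + 1)) (B : CommRingCat.{u}) (χ : K →+* B) (b : B),
      pt (B := B) k (Spec.map (CommRingCat.ofHom χ)) b =
        Spec.map (CommRingCat.ofHom (Polynomial.eval₂RingHom χ b)) ≫ c k := by
    intro k B χ b
    rw [map_pt, ← Spec.map_comp, ← CommRingCat.ofHom_comp]
    congr 1
    · congr 2
      ext x
      simp
    · simp
  have hgen : ∀ (k : Fin (1 + 1)) (s : L), Function.Injective (Polynomial.eval₂RingHom φ s) →
      (pt (B := CommRingCat.of L) k (Spec.map (CommRingCat.ofHom φ)) s) (IsLocalRing.closedPoint L)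
        = c k g0 := by
    intro k s hs
    rw [hc k (CommRingCat.of L) φ s]
    change (c k) (Spec.map (CommRingCat.ofHom (Polynomial.eval₂RingHom φ s))
      (IsLocalRing.closedPoint L)) = c k g0
    congr 1
    apply PrimeSpectrum.ext
    change Ideal.comap (Polynomial.eval₂RingHom φ s) (IsLocalRing.maximalIdeal L) = ⊥
    rw [IsLocalRing.maximalIdeal_eq_bot]
    exact (RingHom.injective_iff_ker_eq_bot _).1 hs
  -- the generic point of the chart `j` lies in `U`
  have hmem : c j g0 ∈ U := by
    have h1 : (P.fromSpecResidueField p) (IsLocalRing.closedPoint (P.residueField p)) ∈ U := by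
      rw [hcl]; exact hp
    rw [hb, show ψ = CommRingCat.ofHom ψ.hom from rfl, hc j _ ψ.hom b] at h1
    have h2 : g0 ⤳ (Spec.map (CommRingCat.ofHom
      (Polynomial.eval₂RingHom ψ.hom b))) (IsLocalRing.closedPoint (P.residueField p)) :=
      (PrimeSpectrum.le_iff_specializes _ _).1 bot_le
    exact (h2.map (c j).continuous).mem_open U.2 h1
  by_cases hij : i = j
  · subst hij
    rw [hgen i t ht]
    exact hmem
  · have hij' : j = i + 1 := by
      revert hij
      fin_cases i <;> fin_cases j <;> decide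
    obtain ⟨h0, hinv⟩ := injective_eval₂_inv φ t ht
    rw [pt_inv (B := CommRingCat.of L) i (Spec.map (CommRingCat.ofHom φ)) (b := t) (c := t⁻¹)
      (mul_inv_cancel₀ h0), ← hij', hgen j _ hinv]
    exact hmem

/-- **An integral closed subscheme of `P^1_X` whose generic point is not in the sections over
`0` and `∞` dominates `P^1_K` as soon as it meets one of these sections.** -/
theorem dominates (K : Type u) [Field K] [IsAlgClosed K] (f : X ⟶ Spec (CommRingCat.of K))
    {W : Scheme.{u}} [IsIntegral W] (ιW : W ⟶ CohB1.ProjSpaceOver 1 X) (i : Fin (1 + 1))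
    (hgen : ιW (genericPoint W) ∉ Set.range (P1.sect X i))
    (z : ↥(pullback ιW (P1.sect X i)))
    (U : (CohB1.ProjSpaceOver 1 (Spec (CommRingCat.of K))).Opens)
    (hU : (U : Set ↥(CohB1.ProjSpaceOver 1 (Spec (CommRingCat.of K)))).Nonempty) :
    ∃ w : W, (ιW ≫ P1.toP1 f) w ∈ U := by
  refine ⟨genericPoint W, ?_⟩
  set y : W := pullback.fst ιW (P1.sect X i) z with hy
  set x : X := pullback.snd ιW (P1.sect X i) z with hx
  have hyx : ιW y = P1.sect X i x := by
    rw [hy, hx, ← Scheme.Hom.comp_apply, ← Scheme.Hom.comp_apply, pullback.condition]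
  have hbase : (CohB1.ProjSpaceOver.toBase 1 X) (ιW y) = x := by
    rw [hyx, ← Scheme.Hom.comp_apply, sect_eq, lift_toBase]
    rfl
  have hchart : (CycB.P1Chart.toZ X) (ιW y) ∈ Set.range (chartι.{u} i) := by
    rw [hyx, ← Scheme.Hom.comp_apply, sect_eq, lift_toZ]
    exact ⟨_, rfl⟩
  obtain ⟨ρ, τ, hρ, hτ⟩ := exists_stalk_pt ιW i y x hbase hchart
  -- `τ` is not a unit
  have hτ0 : ¬ IsUnit τ := by
    intro hu
    let P := pullback ιW (P1.sect X i)
    have e1 : P.fromSpecResidueField z ≫ pullback.fst ιW (P1.sect X i) =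
        Spec.map ((pullback.fst ιW (P1.sect X i)).residueFieldMap z) ≫ Spec.map (W.residue y) ≫
          W.fromSpecStalk y := by
      rw [← Scheme.Hom.SpecMap_residueFieldMap_fromSpecResidueField]
      rfl
    have e2 : P.fromSpecResidueField z ≫ pullback.fst ιW (P1.sect X i) ≫ ιW =
        P.fromSpecResidueField z ≫ pullback.snd ιW (P1.sect X i) ≫ P1.sect X i := by
      rw [pullback.condition]
    rw [← Category.assoc, e1, Category.assoc, Category.assoc, hτ, ← Spec.map_comp_assoc, map_pt,
      ← Category.assoc (P.fromSpecResidueField z), ← pt_zero] at e2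
    have e3 := pt_injective e2
    have e4 : IsUnit ((W.residue y ≫ (pullback.fst ιW (P1.sect X i)).residueFieldMap z).hom τ) :=
      hu.map _
    rw [e3] at e4
    exact not_isUnit_zero e4
  -- the generic point
  let L : Type u := W.residueField (genericPoint W)
  let w : Spec (CommRingCat.of L) ⟶ W := W.fromSpecResidueField (genericPoint W)
  have hw : w (IsLocalRing.closedPoint L) = genericPoint W :=
    W.fromSpecResidueField_apply (genericPoint W) _
  obtain ⟨κ, hκ, hκw⟩ := exists_injective_to_field (K := CommRingCat.of L) w hw y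
  -- structure maps over `K`
  let φy : CommRingCat.of K ⟶ W.presheaf.stalk y :=
    Spec.preimage (Spec.map ρ ≫ X.fromSpecStalk x ≫ f)
  have hφy : Spec.map φy = Spec.map ρ ≫ X.fromSpecStalk x ≫ f := Spec.map_preimage _
  have hwι : w ≫ ιW = pt i (Spec.map κ ≫ Spec.map ρ ≫ X.fromSpecStalk x) (κ.hom τ) := by
    rw [hκw, Category.assoc, hτ, map_pt]
  have hinj : Function.Injective (Polynomial.eval₂RingHom (κ.hom.comp φy.hom) (κ.hom τ)) := by
    rw [RingHom.injective_iff_ker_eq_bot, RingHom.ker_eq_bot_iff_eq_zero]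
    intro p hp
    by_contra hp0
    have h1 : κ.hom τ ∈ (κ.hom.comp φy.hom).range := by
      refine (IsAlgClosed.splits (k := K) p).mem_range_of_isRoot (R := K) (S := L) hp0 ?_
      rw [Polynomial.IsRoot, Polynomial.eval_map]
      exact hp
    obtain ⟨a, ha⟩ := h1
    have h2 : φy.hom a = τ := hκ ha
    by_cases ha0 : a = 0
    · apply hgen
      rw [ha0, map_zero] at h2
      rw [← h2, map_zero, pt_zero] at hwι
      refine ⟨(Spec.map κ ≫ Spec.map ρ ≫ X.fromSpecStalk x) (IsLocalRing.closedPoint L), ?_⟩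
      have h3 : (w ≫ ιW) (IsLocalRing.closedPoint L) = ιW (genericPoint W) := by
        change ιW (w (IsLocalRing.closedPoint L)) = _
        rw [hw]
      rw [← h3, hwι]
      rfl
    · apply hτ0
      rw [← h2]
      exact (IsUnit.mk0 a ha0).map φy.hom
  have := pt_mem_of_transcendental K L (κ.hom.comp φy.hom) (κ.hom τ) hinj i U hU
  have e5 : w ≫ ιW ≫ P1.toP1 f =
      pt (B := CommRingCat.of L) i (Spec.map (CommRingCat.ofHom (κ.hom.comp φy.hom))) (κ.hom τ) := by
    rw [← Category.assoc, hwι, pt_toP1]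
    congr 1
    rw [show CommRingCat.ofHom (κ.hom.comp φy.hom) = φy ≫ κ from rfl, Spec.map_comp, hφy,
      Category.assoc, Category.assoc]
  rw [← e5] at this
  change (ιW ≫ P1.toP1 f) (w (IsLocalRing.closedPoint L)) ∈ U at this
  rwa [hw] at this

end Groth.Agent.CycA.MovDom
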