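import Groth.Prelude.Def_IntMult
import Groth.Prelude.Def_Cyc
import Groth.Prelude.Def_CohB1
import Groth.Prelude.Def_P1

/-!
# Interface of the one-step moving lemma (for S1948)
-/

set_option autoImplicit false
universe u
open CategoryTheory CategoryTheory.Limits AlgebraicGeometry

namespace Groth.Agent.CycA.MovLemmaM

/-- The conclusion of the one-step moving lemma for the point `η` of `X` (a variety over `K` with
structure morphism `f`, dimension function `δ`, `n = dim X`, `δP` the dimension function of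
`P^1_X`) with respect to a set `T` of points of `X`: there are finitely many integral closed
`W k ⊆ P^1_X` of dimension `δ η + 1` dominating `P^1_K` and integers `c k` with
`Σ c k [W k]_0 = [η] + b`, where the components of `b` meet those of `T` in smaller dimension than
`η` does (unless in the proper dimension), and the components of `[W k]_∞` meet those of `T`
properly. -/
def Moves {K : Type u} [Field K] {X : Scheme.{u}} (f : X ⟶ Spec (CommRingCat.of K)) (δ : X → ℤ)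
    (n : ℤ) (δP : ↥(CohB1.ProjSpaceOver 1 X) → ℤ) (η : X) (T : Set X) : Prop :=
  ∃ (m : ℕ) (W : Fin m → Scheme.{u}) (ιW : (k : Fin m) → (W k ⟶ CohB1.ProjSpaceOver 1 X))
    (_ : ∀ k, IsIntegral (W k)) (_ : ∀ k, IsClosedImmersion (ιW k)) (c : Fin m → ℤ) (b : X → ℤ),
    (∀ k, δP (ιW k (genericPoint (W k))) = δ η + 1) ∧
    (∀ k, ∀ U : (CohB1.ProjSpaceOver 1 (Spec (CommRingCat.of K))).Opens,
      (U : Set ↥(CohB1.ProjSpaceOver 1 (Spec (CommRingCat.of K)))).Nonempty →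
      ∃ w : W k, (ιW k ≫ P1.toP1 f) w ∈ U) ∧
    (∀ x, ∑ k, c k * Cyc.subschemeFun δ (δ η) (pullback.snd (ιW k) (P1.sect X 0)) x =
      Set.indicator {η} 1 x + b x) ∧
    (∀ k x, Cyc.subschemeFun δ (δ η) (pullback.snd (ιW k) (P1.sect X 0)) x ≠ 0 →
      x = η ∨ b x ≠ 0) ∧
    (∀ x, b x ≠ 0 → δ x = δ η ∧ ∀ τ ∈ T, ∀ ζ, x ⤳ ζ → τ ⤳ ζ →
      δ ζ ≤ δ η + δ τ - n ∨ ∃ ζ', η ⤳ ζ' ∧ τ ⤳ ζ' ∧ δ ζ < δ ζ') ∧
    (∀ k x, Cyc.subschemeFun δ (δ η) (pullback.snd (ιW k) (P1.sect X 1)) x ≠ 0 →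
      ∀ τ ∈ T, ∀ ζ, x ⤳ ζ → τ ⤳ ζ → δ ζ ≤ δ η + δ τ - n) ∧
    (Function.support b).Finite ∧
    (∀ k, (Function.support
      (Cyc.subschemeFun δ (δ η) (pullback.snd (ιW k) (P1.sect X 0)))).Finite) ∧
    (∀ k, (Function.support
      (Cyc.subschemeFun δ (δ η) (pullback.snd (ιW k) (P1.sect X 1)))).Finite)

end Groth.Agent.CycA.MovLemmaM
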