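import Groth.Agent.CycA.MovFin
import Groth.Agent.CycA.MovDom
import Groth.Agent.CycA.MovLemmaM
import Groth.Agent.S1901
import Groth.Agent.S1949
import Groth.Agent.Dix.ProjProper

/-!
# S1948 from the one-step moving lemma

The induction on the excess of dimension of the intersections.
-/

set_option autoImplicit false
universe u
open CategoryTheory CategoryTheory.Limits AlgebraicGeometry TopologicalSpace

namespace Groth.Agent.CycA.MovAssembly

open Groth.Agent.CycA.MovRatZ Groth.Agent.CycA.MovFin Groth.Agent.CycB.DivFun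

/-- `[τ] · [W]_0 - [τ] · [W]_∞` is rationally equivalent to zero. -/
theorem ratZ_fibres {K : Type u} [Field K] [IsAlgClosed K] {X : Scheme.{u}}
    (f : X ⟶ Spec (CommRingCat.of K)) [Smooth f] [IsSeparated f] [QuasiCompact f] [IsIntegral X]
    (δ : X → ℤ) (hX : Cyc.IsSetup X δ) (hδ : Cyc.DeltaCompat f δ (fun _ => 0)) (n : ℤ)
    (hn : δ (genericPoint X) = n) (δP : ↥(CohB1.ProjSpaceOver 1 X) → ℤ)
    (hP : Cyc.DeltaCompat (CohB1.ProjSpaceOver.toBase 1 X) δP δ) (s : ℤ) (W : Scheme.{u})
    [IsIntegral W] (ιW : W ⟶ CohB1.ProjSpaceOver 1 X) [IsClosedImmersion ιW]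
    (hW : δP (ιW (genericPoint W)) = s + 1)
    (hdom : ∀ U : (CohB1.ProjSpaceOver 1 (Spec (CommRingCat.of K))).Opens,
      (U : Set ↥(CohB1.ProjSpaceOver 1 (Spec (CommRingCat.of K)))).Nonempty →
      ∃ w : W, (ιW ≫ P1.toP1 f) w ∈ U) (τ : X)
    (h0 : IntMult.IntersectProperly δ n (Set.indicator {τ} 1)
      (Cyc.subschemeFun δ s (pullback.snd ιW (P1.sect X 0))))
    (h1 : IntMult.IntersectProperly δ n (Set.indicator {τ} 1)
      (Cyc.subschemeFun δ s (pullback.snd ιW (P1.sect X 1)))) :
    IntMult.interProd δ n (Set.indicator {τ} 1)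
      (Cyc.subschemeFun δ s (pullback.snd ιW (P1.sect X 0))) -
    IntMult.interProd δ n (Set.indicator {τ} 1)
      (Cyc.subschemeFun δ s (pullback.snd ιW (P1.sect X 1))) ∈ RatZ δ (δ τ + s - n) := by
  have hN : IsLocallyNoetherian X := hX.1
  have hcpt : CompactSpace X := QuasiCompact.compactSpace_of_compactSpace f
  have hNX : NoetherianSpace X := by
    have : IsNoetherian X := {}
    infer_instance
  obtain ⟨γ₀, hγ₀⟩ := exists_cycle_of_finite_support (finite_support_interProd hX.2.2 n
    (finite_support_indicator τ)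
    (finite_support_subschemeFun δ s (pullback.snd ιW (P1.sect X 0))) h0)
  obtain ⟨γ₁, hγ₁⟩ := exists_cycle_of_finite_support (finite_support_interProd hX.2.2 n
    (finite_support_indicator τ)
    (finite_support_subschemeFun δ s (pullback.snd ιW (P1.sect X 1))) h1)
  have h := S1949.result K X f δ hX hδ n hn δP hP (δ τ) s W ιW hW hdom τ rfl h0 h1 γ₀ γ₁ hγ₀ hγ₁
  have h2 := mem_ratZ_of_ratEquivZero (α := γ₀ - γ₁) h
  rw [← hγ₀, ← hγ₁]
  exact h2

theorem subschemeFun_of_isEmpty {X Z : Scheme.{u}} (δ : X → ℤ) (k : ℤ) (i : Z ⟶ X)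
    (hZ : IsEmpty Z) : Cyc.subschemeFun δ k i = 0 := by
  funext x
  rw [Cyc.subschemeFun]
  split_ifs
  · rw [finsum_of_isEmpty]
    rfl
  · rfl

theorem finite_support_sub {X : Type*} {a b : X → ℤ} (ha : (Function.support a).Finite)
    (hb : (Function.support b).Finite) : (Function.support (a - b)).Finite :=
  (ha.union hb).subset (Function.support_sub _ _)

/-- Points in the support of `[Z]_k` have dimension `k`. -/
theorem eq_of_subschemeFun_ne_zero {X Z : Scheme.{u}} {δ : X → ℤ} {k : ℤ} {i : Z ⟶ X} {x : X}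
    (h : Cyc.subschemeFun δ k i x ≠ 0) : δ x = k := by
  by_contra hcon
  apply h
  rw [Cyc.subschemeFun, if_neg hcon]

/-- **S1948 from the one-step moving lemma.** -/
theorem assembly {K : Type u} [Field K] [IsAlgClosed K] {X : Scheme.{u}}
    (f : X ⟶ Spec (CommRingCat.of K)) [Smooth f] [IsSeparated f] [QuasiCompact f] [IsIntegral X]
    (δ : X → ℤ) (hX : Cyc.IsSetup X δ) (hδ : Cyc.DeltaCompat f δ (fun _ => 0)) (n : ℤ)
    (hn : δ (genericPoint X) = n)
    (hM : ∀ δP : ↥(CohB1.ProjSpaceOver 1 X) → ℤ,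
      Cyc.DeltaCompat (CohB1.ProjSpaceOver.toBase 1 X) δP δ → ∀ η : X, δ η < n →
      ∀ T : Set X, T.Finite → MovLemmaM.Moves f δ n δP η T)
    (r s : ℤ) (α β : AlgebraicCycle X ℤ) (hα : α ∈ Cyc.Zk X δ r) (hβ : β ∈ Cyc.Zk X δ s)
    (hprop : IntMult.IntersectProperly δ n ⇑α ⇑β) (h0 : Cyc.RatEquivZero δ r α)
    (γ : AlgebraicCycle X ℤ) (hγ : ⇑γ = IntMult.interProd δ n ⇑α ⇑β) :
    Cyc.RatEquivZero δ (r + s - n) γ := by
  have hN : IsLocallyNoetherian X := hX.1
  have hcpt : CompactSpace X := QuasiCompact.compactSpace_of_compactSpace f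
  have hNX : NoetherianSpace X := by
    have : IsNoetherian X := {}
    infer_instance
  have hdf : Cyc.IsDimFun X δ := hX.2.2
  apply ratEquivZero_of_mem_ratZ hdf
  rw [hγ]
  have hαf : (Function.support ⇑α).Finite := finite_support α
  have hβf : (Function.support ⇑β).Finite := finite_support β
  -- the dimension function of `P^1_X`
  have hprp : IsProper (CohB1.ProjSpaceOver.toBase 1 X) := Dix.ProjProper.isProper_toBase 1 X
  have hPcpt : CompactSpace ↥(CohB1.ProjSpaceOver 1 X) :=
    QuasiCompact.compactSpace_of_compactSpace (CohB1.ProjSpaceOver.toBase 1 X)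
  obtain ⟨δP, hP⟩ := CycB.SetupLft.exists_deltaCompat (CohB1.ProjSpaceOver.toBase 1 X) δ
  -- the family
  obtain ⟨I, W, ι, hWint, hWcl, hW, hWfin, hsum⟩ := S1901.result X δ hX δP hP r α hα h0
  have hIfin : Finite I := by
    refine finite_of_locallyFinite (X := ↥(CohB1.ProjSpaceOver 1 X))
      (fun i => Set.range ⇑(ι i)) (fun i => ?_) hWfin
    have := hWint i
    exact ⟨_, ⟨genericPoint (W i), rfl⟩⟩
  have hIft := Fintype.ofFinite I
  let F : I → Fin (1 + 1) → X → ℤ := fun i j =>
    Cyc.subschemeFun δ r (pullback.snd (ι i) (P1.sect X j))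
  have hF : ∀ i j, (Function.support (F i j)).Finite := fun i j => by
    have := hWcl i
    exact finite_support_subschemeFun δ r _
  have hFr : ∀ i j x, F i j x ≠ 0 → δ x = r := fun i j x h => eq_of_subschemeFun_ne_zero h
  have hαF : ⇑α = ∑ i, (F i 0 - F i 1) := by
    funext x
    rw [hsum, finsum_eq_sum_of_fintype, Finset.sum_apply]
    rfl
  -- the finite set `T`
  let T : Set X := ⋃ i, ⋃ j, Function.support (F i j)
  have hT : T.Finite := Set.finite_iUnion fun i => Set.finite_iUnion fun j => hF i j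
  have hTr : ∀ τ ∈ T, δ τ = r := by
    intro τ hτ
    obtain ⟨i, hi⟩ := Set.mem_iUnion.1 hτ
    obtain ⟨j, hj⟩ := Set.mem_iUnion.1 hi
    exact hFr i j τ hj
  have hαT : ∀ ξ, α ξ ≠ 0 → ξ ∈ T := by
    intro ξ hξ
    rw [hαF, Finset.sum_apply] at hξ
    obtain ⟨i, -, hi⟩ := Finset.exists_ne_zero_of_sum_ne_zero hξ
    by_contra hcon
    apply hi
    have h1 : ∀ j, F i j ξ = 0 := fun j => by
      by_contra h2
      exact hcon (Set.mem_iUnion.2 ⟨i, Set.mem_iUnion.2 ⟨j, h2⟩⟩)
    rw [Pi.sub_apply, h1, h1, sub_zero]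
  -- base case
  have hbase : ∀ η : X, δ η = s →
      (∀ τ ∈ T, ∀ ζ, τ ⤳ ζ → η ⤳ ζ → δ ζ ≤ r + s - n) →
      IntMult.interProd δ n ⇑α (Set.indicator {η} 1) ∈ RatZ δ (r + s - n) := by
    intro η hη hTη
    rw [hαF, interProd_sum_left δ n _ (fun i => F i 0 - F i 1) (finite_support_indicator η)
      (fun i _ => finite_support_sub (hF i 0) (hF i 1))]
    refine AddSubgroup.sum_mem _ fun i _ => ?_
    rw [interProd_sub_left δ n (hF i 0) (hF i 1) (finite_support_indicator η)]
    have hWi := hWint i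
    have hWi' := hWcl i
    have hpr : ∀ j, IntMult.IntersectProperly δ n (Set.indicator {η} 1) (F i j) := by
      intro j a b ζ ha hb haζ hbζ
      rw [indicator_ne_zero_iff] at ha
      subst ha
      have h1 : b ∈ T := Set.mem_iUnion.2 ⟨i, Set.mem_iUnion.2 ⟨j, hb⟩⟩
      have h2 := hTη b h1 ζ hbζ haζ
      rw [hη, hTr b h1]
      omega
    by_cases hz : ∃ j, Nonempty ↥(pullback (ι i) (P1.sect X j))
    · obtain ⟨j, ⟨z⟩⟩ := hz
      have hgen : ∀ j, ι i (genericPoint (W i)) ∉ Set.range ⇑(P1.sect X j) := by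
        intro j
        fin_cases j
        · exact (hW i).2.1
        · exact (hW i).2.2
      have := ratZ_fibres f δ hX hδ n hn δP hP r (W i) (ι i) (hW i).1
        (MovDom.dominates K f (ι i) j (hgen j) z) η (hpr 0) (hpr 1)
      rw [interProd_comm δ n (F i 0), interProd_comm δ n (F i 1)]
      rw [hη, add_comm s r] at this
      exact this
    · push Not at hz
      have h1 : ∀ j, F i j = 0 := fun j => subschemeFun_of_isEmpty δ r _ (hz j)
      rw [h1, h1, interProd_zero_left, sub_zero]
      exact AddSubgroup.zero_mem _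
  -- induction on the excess
  have hmain : ∀ (e : ℕ) (η : X), δ η = s →
      (∀ ξ, α ξ ≠ 0 → ∀ ζ, ξ ⤳ ζ → η ⤳ ζ → δ ζ ≤ r + s - n) →
      (∀ τ ∈ T, ∀ ζ, τ ⤳ ζ → η ⤳ ζ → δ ζ ≤ r + s - n + e) →
      IntMult.interProd δ n ⇑α (Set.indicator {η} 1) ∈ RatZ δ (r + s - n) := by
    intro e
    induction e with
    | zero =>
      intro η hη _ h2
      exact hbase η hη (by simpa using h2)
    | succ e ih =>
      intro η hη hαη hTη
      by_cases hηn : δ η < n
      swap
      · refine hbase η hη fun τ hτ ζ h1 h2 => ?_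
        have h3 : δ ζ ≤ δ τ := by
          by_cases h : τ = ζ
          · rw [h]
          · exact (hdf τ ζ h1 h).1.le
        rw [hTr τ hτ] at h3
        rw [hη] at hηn
        omega
      obtain ⟨m, V, ιV, hVint, hVcl, c, b, hV1, hVdom, hV2, hV3, hb, hV4, hbf, hV5, hV6⟩ :=
        hM δP hP η hηn T hT
      let G : Fin m → Fin (1 + 1) → X → ℤ := fun k j =>
        Cyc.subschemeFun δ (δ η) (pullback.snd (ιV k) (P1.sect X j))
      have hG : ∀ k j, (Function.support (G k j)).Finite := fun k j => by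
        have := hVcl k
        exact finite_support_subschemeFun δ (δ η) _
      have hGη : ∀ k j x, G k j x ≠ 0 → δ x = s := fun k j x h => by
        rw [← hη]
        exact eq_of_subschemeFun_ne_zero h
      -- the components of `b` meet `α` properly
      have hbα : ∀ x, b x ≠ 0 → ∀ ξ, α ξ ≠ 0 → ∀ ζ, ξ ⤳ ζ → x ⤳ ζ → δ ζ ≤ r + s - n := by
        intro x hx ξ hξ ζ h1 h2
        have h3 := (hb x hx).2 ξ (hαT ξ hξ) ζ h2 h1
        rw [hη, hTr ξ (hαT ξ hξ)] at h3
        rcases h3 with h3 | ⟨ζ', h4, h5, h6⟩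
        · omega
        · have := hαη ξ hξ ζ' h5 h4
          omega
      have h1 : IntMult.interProd δ n ⇑α b ∈ RatZ δ (r + s - n) := by
        refine interProd_mem_of_right δ n hαf hbf _ fun x hx => ?_
        have hxs : δ x = s := (hb x hx).1.trans hη
        refine ih x hxs (hbα x hx) fun τ hτ ζ h1 h2 => ?_
        have h3 := (hb x hx).2 τ hτ ζ h2 h1
        rw [hη, hTr τ hτ] at h3
        rcases h3 with h3 | ⟨ζ', h4, h5, h6⟩
        · omega
        · have := hTη τ hτ ζ' h5 h4
          push_cast at this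
          omega
      have h2 : ∀ k, IntMult.interProd δ n ⇑α (G k 0 - G k 1) ∈ RatZ δ (r + s - n) := by
        intro k
        refine interProd_mem_of_left δ n hαf
          (finite_support_sub (hG k 0) (hG k 1)) _ fun ξ hξ => ?_
        rw [interProd_sub_right δ n (finite_support_indicator ξ) (hG k 0) (hG k 1)]
        have hξr := hTr ξ (hαT ξ hξ)
        have hVk := hVint k
        have hVk' := hVcl k
        have := ratZ_fibres f δ hX hδ n hn δP hP (δ η) (V k) (ιV k) (hV1 k) (hVdom k) ξ ?_ ?_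
        · rw [hξr, hη] at this
          simpa only [G, hη] using this
        · intro a x ζ ha hx haζ hxζ
          rw [indicator_ne_zero_iff] at ha
          subst ha
          rw [hξr, hGη k 0 x hx]
          rcases hV3 k x hx with h3 | h3
          · subst h3
            exact hαη a hξ ζ haζ hxζ
          · exact hbα x h3 a hξ ζ haζ hxζ
        · intro a x ζ ha hx haζ hxζ
          rw [indicator_ne_zero_iff] at ha
          subst ha
          have := hV4 k x hx a (hαT a hξ) ζ hxζ haζ
          rw [hGη k 1 x hx]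
          omega
      have h3 : ∀ k, IntMult.interProd δ n ⇑α (G k 1) ∈ RatZ δ (r + s - n) := by
        intro k
        refine interProd_mem_of_right δ n hαf (hG k 1) _ fun x hx => ?_
        refine hbase x (hGη k 1 x hx) fun τ hτ ζ h1 h2 => ?_
        have := hV4 k x hx τ hτ ζ h2 h1
        rw [hη, hTr τ hτ] at this
        omega
      have h4 : ∀ k, IntMult.interProd δ n ⇑α (G k 0) ∈ RatZ δ (r + s - n) := by
        intro k
        have h5 := AddSubgroup.add_mem _ (h2 k) (h3 k)
        rw [interProd_sub_right δ n hαf (hG k 0) (hG k 1), sub_add_cancel] at h5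
        exact h5
      have h5 : Set.indicator {η} (1 : X → ℤ) = (∑ k, c k • G k 0) - b := by
        funext x
        rw [Pi.sub_apply, Finset.sum_apply]
        have := hV2 x
        simp only [Pi.smul_apply, smul_eq_mul]
        rw [this, add_sub_cancel_right]
      have hcG : ∀ k, (Function.support (c k • G k 0)).Finite := fun k =>
        (hG k 0).subset (Function.support_const_smul_subset _ _)
      rw [h5, interProd_sub_right δ n hαf (finite_support_sum _ _ fun k _ => hcG k) hbf,
        interProd_sum_right δ n _ _ hαf fun k _ => hcG k]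
      refine AddSubgroup.sub_mem _ (AddSubgroup.sum_mem _ fun k _ => ?_) h1
      rw [interProd_zsmul_right]
      exact AddSubgroup.zsmul_mem _ (h4 k) _
  refine interProd_mem_of_right δ n hαf hβf _ fun η hη => ?_
  have hηs : δ η = s := by
    by_contra hcon
    exact hη (hβ η hcon)
  refine hmain (2 * n - r - s).toNat η hηs ?_ ?_
  · intro ξ hξ ζ h1 h2
    have h3 := hprop ξ η ζ hξ hη h1 h2
    rwa [hTr ξ (hαT ξ hξ), hηs] at h3
  · intro τ _ ζ _ _
    have h1 : δ ζ ≤ n := by
      by_cases h : genericPoint X = ζ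
      · rw [← h, hn]
      · have := (hdf (genericPoint X) ζ (genericPoint_specializes ζ) h).1
        omega
    have h2 := Int.self_le_toNat (2 * n - r - s)
    omega

end Groth.Agent.CycA.MovAssembly
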