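import Groth.Agent.CycA.MovForms
import Groth.Agent.VarietyB.ProjGlue

/-!
# Linear forms in homogeneous coordinates on a scheme over a field

For `D : CoordData X I` (ratios of coordinates) on a scheme `p : X ⟶ Spec K` and `v : I → K`:
`form p D a v ∈ Γ(X, D.U a)` is the linear form `Σ v_i s_i / s_a`; for a field valued point
`(x, φ : κ(x) → F)` with `x ∈ D.U a`, `crd` are its coordinates and `val` the value of `v`.
-/

set_option autoImplicit false
universe u
open CategoryTheory AlgebraicGeometry Groth.Agent.CycA.MovForms Groth.Agent.VarietyB.ProjGlue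

namespace Groth.Agent.CycA.MovCoord

variable {K : Type u} [Field K] {X : Scheme.{u}} (p : X ⟶ Spec (CommRingCat.of K)) {I : Type}

/-- The constants on an open subset. -/
noncomputable def cst (U : X.Opens) : K →+* Γ(X, U) :=
  ((Scheme.ΓSpecIso (CommRingCat.of K)).inv ≫ p.appTop ≫ X.presheaf.map (homOfLE le_top).op).hom

theorem map_cst {U V : X.Opens} (h : V ≤ U) (k : K) :
    X.presheaf.map (homOfLE h).op (cst p U k) = cst p V k := by
  change (X.presheaf.map (homOfLE h).op).hom (((Scheme.ΓSpecIso (CommRingCat.of K)).inv ≫
    p.appTop ≫ X.presheaf.map (homOfLE le_top).op).hom k) = _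
  rw [← CommRingCat.comp_apply, Category.assoc, Category.assoc, ← Functor.map_comp]
  rfl

/-- The embedding of the constants given by a field-valued point. -/
noncomputable def kF {x : X} {F : Type u} [Field F] (φ : X.residueField x →+* F) : K →+* F :=
  φ.comp ((X.evaluation ⊤ x trivial).hom.comp (cst p ⊤))

theorem evaluation_map {U V : X.Opens} (hVU : V ≤ U) {x : X} (hx : x ∈ V) (s : Γ(X, U)) :
    X.evaluation V x hx (X.presheaf.map (homOfLE hVU).op s) = X.evaluation U x (hVU hx) s := by
  change (X.evaluation V x hx).hom ((X.presheaf.map (homOfLE hVU).op).hom s) = _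
  rw [← CommRingCat.comp_apply]
  unfold Scheme.evaluation
  rw [TopCat.Presheaf.germ_res_assoc]

theorem kF_apply {x : X} {F : Type u} [Field F] (φ : X.residueField x →+* F) (U : X.Opens)
    (hx : x ∈ U) (k : K) : kF p φ k = φ (X.evaluation U x hx (cst p U k)) := by
  rw [← map_cst p (le_top : U ≤ ⊤), evaluation_map]
  rfl

variable [Fintype I]

/-- The linear form with coefficients `v` in the chart `a`. -/
noncomputable def form (D : CoordData X I) (a : I) (v : I → K) : Γ(X, D.U a) :=
  ∑ i, cst p (D.U a) (v i) * D.f a i

/-- The coordinates of a field-valued point in the chart `a`. -/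
noncomputable def crd (D : CoordData X I) (a : I) {x : X} (hx : x ∈ D.U a) {F : Type u} [Field F]
    (φ : X.residueField x →+* F) (i : I) : F :=
  φ (X.evaluation (D.U a) x hx (D.f a i))

/-- The value of a linear form at a field-valued point in the chart `a`. -/
noncomputable def val (D : CoordData X I) (a : I) {x : X} (hx : x ∈ D.U a) {F : Type u} [Field F]
    (φ : X.residueField x →+* F) (v : I → K) : F :=
  φ (X.evaluation (D.U a) x hx (form p D a v))

theorem form_eq_comb (D : CoordData X I) (a : I) (v : I → K) :
    letI := (cst p (D.U a)).toAlgebra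
    form p D a v = comb (D.f a) v := by
  let := (cst p (D.U a)).toAlgebra
  unfold form comb
  refine Finset.sum_congr rfl fun i _ => ?_
  rw [Algebra.smul_def]
  rfl

theorem val_eq_comb (D : CoordData X I) (a : I) {x : X} (hx : x ∈ D.U a) {F : Type u} [Field F]
    (φ : X.residueField x →+* F) (v : I → K) :
    letI := (kF p φ).toAlgebra
    val p D a hx φ v = comb (crd D a hx φ) v := by
  let := (kF p φ).toAlgebra
  unfold val form comb crd
  rw [map_sum, map_sum]
  refine Finset.sum_congr rfl fun i _ => ?_
  rw [map_mul, map_mul, ← kF_apply, Algebra.smul_def]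
  rfl

omit [Fintype I] in
theorem crd_self (D : CoordData X I) (a : I) {x : X} (hx : x ∈ D.U a) {F : Type u} [Field F]
    (φ : X.residueField x →+* F) : crd D a hx φ a = 1 := by
  unfold crd
  rw [D.f_self, map_one, map_one]

omit [Fintype I] in
/-- Change of chart for the coordinates. -/
theorem crd_change (D : CoordData X I) (a b : I) {x : X} (ha : x ∈ D.U a) (hb : x ∈ D.U b)
    {F : Type u} [Field F] (φ : X.residueField x →+* F) (i : I) :
    crd D a ha φ i = crd D a ha φ b * crd D b hb φ i := by
  have h := D.f_mul a b i
  have hx : x ∈ D.U a ⊓ D.U b := ⟨ha, hb⟩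
  have h' := congrArg (fun s => φ (X.evaluation (D.U a ⊓ D.U b) x hx s)) h
  simp only [map_mul] at h'
  rw [evaluation_map, evaluation_map, evaluation_map] at h'
  exact h'

end Groth.Agent.CycA.MovCoord
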