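import Groth.Agent.CycA.ProdPoint
import Mathlib.AlgebraicGeometry.FunctionField

/-!
# Generic points of products of points over an algebraically closed field
-/

set_option autoImplicit false

universe u

open CategoryTheory Limits AlgebraicGeometry TensorProduct

namespace Groth.Agent.CycA.ProdPoint

open Groth.Agent.CycA.ProdStalk Groth.Agent.CycB.TrdegAlg Groth.Agent.CycB.RelDim
open Groth.Agent.CycB.LocQuot

variable {X Y P Z : Scheme.{u}} {K : Type u} [Field K]
  {f : X ⟶ Spec (CommRingCat.of K)} {g : Y ⟶ Spec (CommRingCat.of K)}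
  {p : P ⟶ X} {q : P ⟶ Y}

theorem SpecMap_kres (f : X ⟶ Spec (CommRingCat.of K)) (x : X) :
    Spec.map (CommRingCat.ofHom (kres f x)) = X.fromSpecResidueField x ≫ f := by
  have : CommRingCat.ofHom (kres f x) = toStalk f x ≫ X.residue x := rfl
  rw [this, Spec.map_comp, SpecMap_toStalk, ← Category.assoc]
  rfl

/-- Any two points `x`, `y` of schemes over an algebraically closed field have a point `ω` of the
product over them which specializes to all other such points. -/
theorem exists_generic_over [IsAlgClosed K] (H : IsPullback p q f g) (x : X) (y : Y) :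
    ∃ ω : P, p ω = x ∧ q ω = y ∧ ∀ z, p z = x → q z = y → ω ⤳ z := by
  let _ : Algebra K (X.residueField x) := (kres f x).toAlgebra
  let _ : Algebra K (Y.residueField y) := (kres g y).toAlgebra
  have hdom : IsDomain ((X.residueField x) ⊗[K] (Y.residueField y)) :=
    Groth.Agent.Fdesc.TensorDomain.isDomain_tensorProduct
  let R : CommRingCat.{u} := CommRingCat.of ((X.residueField x) ⊗[K] (Y.residueField y))
  let iA : X.residueField x ⟶ R := CommRingCat.ofHom (R := X.residueField x)
    (S := (X.residueField x) ⊗[K] (Y.residueField y)) Algebra.TensorProduct.includeLeftRingHom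
  let iB : Y.residueField y ⟶ R := CommRingCat.ofHom (R := Y.residueField y)
    (S := (X.residueField x) ⊗[K] (Y.residueField y)) Algebra.TensorProduct.includeRight.toRingHom
  have hT : IsPushout (CommRingCat.ofHom (kres f x)) (CommRingCat.ofHom (kres g y)) iA iB :=
    CommRingCat.isPushout_tensorProduct K (X.residueField x) (Y.residueField y)
  let ψ : Spec R ⟶ P := H.lift (Spec.map iA ≫ X.fromSpecResidueField x)
    (Spec.map iB ≫ Y.fromSpecResidueField y) (by
      rw [Category.assoc, Category.assoc, ← SpecMap_kres, ← SpecMap_kres, ← Spec.map_comp,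
        ← Spec.map_comp, hT.w])
  have hψ1 : ∀ r : Spec R, p (ψ r) = x := by
    intro r
    have h1 : p (ψ r) = (ψ ≫ p) r := rfl
    rw [h1, H.lift_fst, Scheme.Hom.comp_apply]
    have h2 := Set.mem_range_self (f := X.fromSpecResidueField x) (Spec.map iA r)
    rw [Scheme.range_fromSpecResidueField] at h2
    exact h2
  have hψ2 : ∀ r : Spec R, q (ψ r) = y := by
    intro r
    have h1 : q (ψ r) = (ψ ≫ q) r := rfl
    rw [h1, H.lift_snd, Scheme.Hom.comp_apply]
    have h2 := Set.mem_range_self (f := Y.fromSpecResidueField y) (Spec.map iB r)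
    rw [Scheme.range_fromSpecResidueField] at h2
    exact h2
  let η : PrimeSpectrum R := ⟨⊥, Ideal.isPrime_bot⟩
  have hη : ∀ r : PrimeSpectrum R, η ⤳ r := fun r => by
    rw [← PrimeSpectrum.le_iff_specializes]
    exact (bot_le : (⊥ : Ideal R) ≤ r.asIdeal)
  refine ⟨ψ η, hψ1 _, hψ2 _, ?_⟩
  intro z hx hy
  subst hx hy
  let φ : R ⟶ P.residueField z := hT.desc (p.residueFieldMap z) (q.residueFieldMap z) (by
    have h1 := kres_fst_eq_snd H.w z
    ext k
    exact RingHom.congr_fun h1 k)
  have hfac : Spec.map φ ≫ ψ = P.fromSpecResidueField z := by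
    apply H.hom_ext
    · simp only [ψ, Category.assoc, IsPullback.lift_fst]
      rw [← Category.assoc, ← Spec.map_comp, hT.inl_desc]
      exact Scheme.Hom.SpecMap_residueFieldMap_fromSpecResidueField p z
    · simp only [ψ, Category.assoc, IsPullback.lift_snd]
      rw [← Category.assoc, ← Spec.map_comp, hT.inr_desc]
      exact Scheme.Hom.SpecMap_residueFieldMap_fromSpecResidueField q z
  let c := IsLocalRing.closedPoint (P.residueField z)
  have hz : ψ (Spec.map φ c) = z := by
    have h1 : ψ (Spec.map φ c) = (Spec.map φ ≫ ψ) c := rfl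
    rw [h1, hfac]
    have h2 := Set.mem_range_self (f := P.fromSpecResidueField z) c
    rw [Scheme.range_fromSpecResidueField] at h2
    exact h2
  have h3 := (hη (Spec.map φ c)).map ψ.continuous
  rw [hz] at h3
  exact h3

theorem eq_of_specializes_of_specializes {z z' : P} (h : z ⤳ z') (h' : z' ⤳ z) : z = z' :=
  (h.antisymm h').eq

/-- `p_x O_z ≤ p_{z'}` when `p z' = x`. -/
theorem map_ker_le (p : P ⟶ X) {z z' : P} (h : z' ⤳ z) {x : X} (hx : x ⤳ p z) (e : p z' = x) :
    (RingHom.ker (Cyc.specMap (p z) x hx)).map (p.stalkMap z).hom ≤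
      RingHom.ker (Cyc.specMap z z' h) := by
  subst e
  rw [Ideal.map_le_iff_le_comap, comap_ker_specMap p h hx]

/-- Generic point `ω` of the product of the closures of `x` and `y`. -/
theorem exists_generic_point [IsAlgClosed K] (H : IsPullback p q f g) (x : X) (y : Y) :
    ∃ ω : P, p ω = x ∧ q ω = y ∧ (∀ z, x ⤳ p z → y ⤳ q z → ω ⤳ z) ∧
      rtd (p ≫ f) ω = rtd f x + rtd g y := by
  obtain ⟨ω, hx, hy, hω⟩ := exists_generic_over H x y
  refine ⟨ω, hx, hy, ?_, ?_⟩
  · intro z hxz hyz
    obtain ⟨z', hz', h1, h2, -, -⟩ := exists_prod_point H z hxz hyz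
    exact (hω z' h1 h2).trans hz'
  · obtain ⟨z', hz', h1, h2, -, h4⟩ := exists_prod_point H ω (specializes_of_eq hx.symm)
      (specializes_of_eq hy.symm)
    rw [eq_of_specializes_of_specializes (hω z' h1 h2) hz', h4]

/-- If `ω` specializes to every point over `(x, y)`, its prime in `O_z` is
`p_x O_z + p_y O_z`. -/
theorem ker_specMap_generic [IsAlgClosed K] (H : IsPullback p q f g) {x : X} {y : Y} {ω : P}
    (hω : ∀ z, p z = x → q z = y → ω ⤳ z) (hx : p ω = x) (hy : q ω = y) {z : P} (hz : ω ⤳ z)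
    (hxz : x ⤳ p z) (hyz : y ⤳ q z) :
    RingHom.ker (Cyc.specMap z ω hz) =
      (RingHom.ker (Cyc.specMap (p z) x hxz)).map (p.stalkMap z).hom ⊔
        (RingHom.ker (Cyc.specMap (q z) y hyz)).map (q.stalkMap z).hom := by
  obtain ⟨z', hz', h1, h2, h3, -⟩ := exists_prod_point H z hxz hyz
  apply le_antisymm
  · rw [← h3, ker_le_iff hz hz']
    exact hω z' h1 h2
  · exact sup_le (map_ker_le p hz hxz hx) (map_ker_le q hz hyz hy)

theorem maximalIdeal_eq_generic [IsAlgClosed K] (H : IsPullback p q f g) {z : P}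
    (hω : ∀ z', p z' = p z → q z' = q z → z ⤳ z') :
    IsLocalRing.maximalIdeal (P.presheaf.stalk z) =
      (IsLocalRing.maximalIdeal (X.presheaf.stalk (p z))).map (p.stalkMap z).hom ⊔
        (IsLocalRing.maximalIdeal (Y.presheaf.stalk (q z))).map (q.stalkMap z).hom := by
  have h := ker_specMap_generic H hω rfl rfl (specializes_refl z) (specializes_refl _)
    (specializes_refl _)
  rwa [ker_refl, ker_refl, ker_refl] at h

/-! ### dimension functions -/

section Delta

variable {δX : X → ℤ} {δY : Y → ℤ} {δ : P → ℤ}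

theorem delta_lt [LocallyOfFiniteType f] (hX : Cyc.DeltaCompat f δX (fun _ => 0)) {x x' : X}
    (h : x' ⤳ x) (hne : x' ≠ x) : δX x < δX x' := by
  rw [deltaCompat_iff] at hX
  obtain ⟨n, hn, hn'⟩ := hX x
  obtain ⟨m, hm, hm'⟩ := hX x'
  have h1 := rtd_lt_of_specializes f h hne (Subsingleton.elim _ _)
  rw [hn, hm] at h1
  have h2 : n < m := by exact_mod_cast h1
  rw [hn', hm']
  omega

theorem delta_mono [LocallyOfFiniteType f] (hX : Cyc.DeltaCompat f δX (fun _ => 0)) {x x' : X}
    (h : x' ⤳ x) : δX x ≤ δX x' := by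
  by_cases hne : x' = x
  · rw [hne]
  · exact (delta_lt hX h hne).le

theorem eq_of_delta_eq [LocallyOfFiniteType f] (hX : Cyc.DeltaCompat f δX (fun _ => 0)) {x x' : X}
    (h : x' ⤳ x) (he : δX x' ≤ δX x) : x' = x := by
  by_contra hne
  exact absurd (delta_lt hX h hne) (by omega)

theorem delta_le_add (H : IsPullback p q f g) (hX : Cyc.DeltaCompat f δX (fun _ => 0))
    (hY : Cyc.DeltaCompat g δY (fun _ => 0)) (hP : Cyc.DeltaCompat (p ≫ f) δ (fun _ => 0))
    (z : P) : δ z ≤ δX (p z) + δY (q z) := by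
  rw [deltaCompat_iff] at hX hY hP
  obtain ⟨n, hn, hn'⟩ := hX (p z)
  obtain ⟨m, hm, hm'⟩ := hY (q z)
  obtain ⟨l, hl, hl'⟩ := hP z
  have h1 := rtd_le H z
  rw [hn, hm, hl] at h1
  have h2 : l ≤ n + m := by exact_mod_cast h1
  rw [hn', hm', hl']
  omega

theorem delta_eq_add (hX : Cyc.DeltaCompat f δX (fun _ => 0))
    (hY : Cyc.DeltaCompat g δY (fun _ => 0)) (hP : Cyc.DeltaCompat (p ≫ f) δ (fun _ => 0))
    {x : X} {y : Y} {ω : P} (h : rtd (p ≫ f) ω = rtd f x + rtd g y) : δ ω = δX x + δY y := by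
  rw [deltaCompat_iff] at hX hY hP
  obtain ⟨n, hn, hn'⟩ := hX x
  obtain ⟨m, hm, hm'⟩ := hY y
  obtain ⟨l, hl, hl'⟩ := hP ω
  rw [hn, hm, hl] at h
  have h2 : l = n + m := by exact_mod_cast h
  rw [hn', hm', hl']
  omega

/-- A point of the product with maximal transcendence degree specializes to all the points with
the same projections (hence to every `z'` with `p z ⤳ p z'`, `q z ⤳ q z'`). -/
theorem specializes_of_delta_eq [IsAlgClosed K] [LocallyOfFiniteType (p ≫ f)]
    (H : IsPullback p q f g) (hX : Cyc.DeltaCompat f δX (fun _ => 0))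
    (hY : Cyc.DeltaCompat g δY (fun _ => 0)) (hP : Cyc.DeltaCompat (p ≫ f) δ (fun _ => 0))
    {z : P} (hz : δ z = δX (p z) + δY (q z)) {z' : P} (h1 : p z ⤳ p z') (h2 : q z ⤳ q z') :
    z ⤳ z' := by
  obtain ⟨ω, hx, hy, hω, hr⟩ := exists_generic_point H (p z) (q z)
  have h3 := delta_eq_add hX hY hP hr
  have h4 : ω = z := eq_of_delta_eq hP (hω z (specializes_refl _) (specializes_refl _))
    (by rw [h3, hz])
  rw [← h4]
  exact hω z' h1 h2

theorem eq_of_delta_eq_add [IsAlgClosed K] [LocallyOfFiniteType (p ≫ f)]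
    (H : IsPullback p q f g) (hX : Cyc.DeltaCompat f δX (fun _ => 0))
    (hY : Cyc.DeltaCompat g δY (fun _ => 0)) (hP : Cyc.DeltaCompat (p ≫ f) δ (fun _ => 0))
    {z z' : P} (h1 : p z = p z') (h2 : q z = q z') (hz : δ z = δX (p z) + δY (q z))
    (hz' : δ z' = δX (p z') + δY (q z')) : z = z' :=
  eq_of_specializes_of_specializes
    (specializes_of_delta_eq H hX hY hP hz (specializes_of_eq h1) (specializes_of_eq h2))
    (specializes_of_delta_eq H hX hY hP hz' (specializes_of_eq h1.symm)
      (specializes_of_eq h2.symm))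

end Delta

end Groth.Agent.CycA.ProdPoint
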