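import Groth.Agent.CycA.ChiRec2
import Groth.Agent.CycA.DiagReg
import Groth.Agent.CycA.ProdPoint2
import Groth.Agent.CycA.StalkIdeal
import Groth.Agent.CycA.TorReg
import Groth.Agent.CycA.IntCore
import Groth.Agent.CycB.SetupLft
import Groth.Agent.CycB.RelDim2
import Groth.Agent.CycA.SetupField
import Groth.Agent.CycA.DiagMult

/-!
# Serre's vanishing and positivity theorems on smooth varieties
-/

set_option autoImplicit false

universe u

namespace Groth.Agent.CycA.SerreGeom

open CategoryTheory CategoryTheory.Limits AlgebraicGeometry Groth.Agent.CycB.RelDim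
  Groth.Agent.CycA.ChiRec Groth.Agent.CycA.ChiRec2 RingTheory.Sequence

section RegChain

variable {B : Type u} [CommRing B] [IsLocalRing B]

/-- A weakly regular list in the maximal ideal gives a chain. -/
theorem regChain_of_isWeaklyRegular (rs : List B) (h : IsWeaklyRegular B rs)
    (hm : ∀ r ∈ rs, r ∈ IsLocalRing.maximalIdeal B) :
    RegChain B rs.length (Ideal.ofList rs) := by
  induction rs using List.reverseRecOn with
  | nil =>
    rw [Ideal.ofList_nil]
    exact RegChain.zero
  | append_singleton l x ih =>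
    rw [isWeaklyRegular_append_iff] at h
    have h1 := ih h.1 (fun r hr => hm r (List.mem_append_left _ hr))
    rw [Ideal.ofList_append, Ideal.ofList_singleton, List.length_append]
    refine RegChain.succ h1 (hm x (by simp)) ?_
    intro y hy
    have h2 := h.2
    rw [isWeaklyRegular_singleton_iff] at h2
    have h3 : (Ideal.ofList l • (⊤ : Submodule B B)) = Ideal.ofList l := by
      rw [smul_eq_mul, Ideal.mul_top]
    have h4 : x • (Submodule.Quotient.mk y : B ⧸ (Ideal.ofList l • (⊤ : Submodule B B))) =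
        x • 0 := by
      rw [smul_zero, ← Submodule.Quotient.mk_smul, Submodule.Quotient.mk_eq_zero, h3]
      exact hy
    have h5 := h2 h4
    rw [Submodule.Quotient.mk_eq_zero, h3] at h5
    exact h5

end RegChain

section Geom

variable {K : Type u} [Field K] {X : Scheme.{u}}

theorem exists_deltaCompat {P : Scheme.{u}} (g : P ⟶ Spec (CommRingCat.of K))
    [LocallyOfFiniteType g] : ∃ δP : P → ℤ, Cyc.DeltaCompat g δP (fun _ => 0) := by
  choose n hn using fun x => Cardinal.lt_aleph0.1 (rtd_lt_aleph0 g x)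
  refine ⟨fun x => n x, ?_⟩
  rw [deltaCompat_iff]
  exact fun x => ⟨n x, hn x, (zero_add _).symm⟩

theorem isRegularLocalRing_stalk (f : X ⟶ Spec (CommRingCat.of K)) [Smooth f] (x : X) :
    IsRegularLocalRing (X.presheaf.stalk x) :=
  VarietyA.RegSmoothSch.isRegularLocalRing_stalk_of_mem_smoothLocus f x
    (by rw [f.smoothLocus_eq_top]; trivial)

/-- `δ(Δ(x)) = δ(x)`. -/
theorem delta_diagonal (f : X ⟶ Spec (CommRingCat.of K)) {δ : X → ℤ}
    (hδ : Cyc.DeltaCompat f δ (fun _ => 0)) {δP : ↥(pullback f f) → ℤ}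
    (hP : Cyc.DeltaCompat (pullback.fst f f ≫ f) δP (fun _ => 0)) (x : X) :
    δP (pullback.diagonal f x) = δ x := by
  obtain ⟨a, ha, ha'⟩ := (deltaCompat_iff.1 hδ) x
  obtain ⟨b, hb, hb'⟩ := (deltaCompat_iff.1 hP) (pullback.diagonal f x)
  have h1 := rtd_comp (pullback.diagonal f) (pullback.fst f f ≫ f) x
  rw [rtd_eq_zero_of_isPreimmersion (pullback.diagonal f), add_zero, hb] at h1
  have h2 : rtd (pullback.diagonal f ≫ pullback.fst f f ≫ f) x = rtd f x := by
    congr 1
    simp
  rw [h2, ha] at h1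
  have h3 : a = b := by exact_mod_cast h1
  rw [ha', hb', h3]

/-- The dimension of `O_{X,x}` for `O_{X,x}` a domain. -/
theorem ringKrullDim_stalk [hdom : ∀ x : X, IsDomain (X.presheaf.stalk x)] {δ : X → ℤ}
    (hδ : Cyc.IsDimFun X δ) (x : X) :
    ∃ (η : X) (h : η ⤳ x), RingHom.ker (Cyc.specMap x η h) = ⊥ ∧
      ringKrullDim (X.presheaf.stalk x) = ((δ η - δ x).toNat : ℕ) ∧ 0 ≤ δ η - δ x := by
  obtain ⟨η, h, e⟩ := CycB.LocQuot.exists_eq_ker (⊥ : Ideal (X.presheaf.stalk x))
  refine ⟨η, h, e.symm, ?_, ?_⟩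
  · rw [← CycB.LocQuot.ringKrullDim_locQuot hδ h]
    exact (ringKrullDim_eq_of_ringEquiv ((Ideal.quotEquivOfEq e.symm).trans
      (RingEquiv.quotientBot _))).symm
  · have := CycB.LocQuot.le_of_specializes hδ h
    omega

variable [IsAlgClosed K]

/-- Dimension of the product of two closures. -/
theorem ringKrullDim_prod (f : X ⟶ Spec (CommRingCat.of K)) [LocallyOfFiniteType f] {δ : X → ℤ}
    (hδ : Cyc.DeltaCompat f δ (fun _ => 0)) {δP : ↥(pullback f f) → ℤ}
    (hP : Cyc.DeltaCompat (pullback.fst f f ≫ f) δP (fun _ => 0)) (z : ↥(pullback f f))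
    {x' y' : X} (hx : x' ⤳ pullback.fst f f z) (hy : y' ⤳ pullback.snd f f z) :
    ringKrullDim ((pullback f f).presheaf.stalk z ⧸
      ((RingHom.ker (Cyc.specMap _ x' hx)).map ((pullback.fst f f).stalkMap z).hom ⊔
        (RingHom.ker (Cyc.specMap _ y' hy)).map ((pullback.snd f f).stalkMap z).hom)) =
      ((δ x' + δ y' - δP z).toNat : ℕ) ∧ 0 ≤ δ x' + δ y' - δP z := by
  obtain ⟨z', hz', h1, h2, h3, h4⟩ := ProdPoint.exists_prod_point
    (IsPullback.of_hasPullback f f) z hx hy
  have h5 := ProdPoint.delta_eq_add hδ hδ hP h4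
  have hset := SetupField.isSetup_of_field _ hP
  rw [← h3, ← h5]
  refine ⟨CycB.LocQuot.ringKrullDim_locQuot hset.2.2 hz', ?_⟩
  have := CycB.LocQuot.le_of_specializes hset.2.2 hz'
  omega

omit [IsAlgClosed K] in
theorem delta_nonneg {f : X ⟶ Spec (CommRingCat.of K)} {δ : X → ℤ}
    (hδ : Cyc.DeltaCompat f δ (fun _ => 0)) (x : X) : 0 ≤ δ x := by
  obtain ⟨a, ha, ha'⟩ := (deltaCompat_iff.1 hδ) x
  omega

/-- The diagonal of a smooth scheme is cut out at `Δ(x)` by a chain of length
`dim O_x + δ(x)`. -/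
theorem regChain_diagonal (f : X ⟶ Spec (CommRingCat.of K)) [Smooth f] [IsSeparated f]
    {δ : X → ℤ} (hδ : Cyc.DeltaCompat f δ (fun _ => 0)) {δP : ↥(pullback f f) → ℤ}
    (hP : Cyc.DeltaCompat (pullback.fst f f ≫ f) δP (fun _ => 0)) (x : X) (d : ℕ)
    (hd : ringKrullDim (X.presheaf.stalk x) = d) :
    ∃ n : ℕ, (n : ℤ) = d + δ x ∧ RegChain ((pullback f f).presheaf.stalk (pullback.diagonal f x)) n
      (IntMult.stalkIdeal (pullback.diagonal f).ker (pullback.diagonal f x)) := by
  have hreg : ∀ y : X, IsRegularLocalRing (X.presheaf.stalk y) := isRegularLocalRing_stalk f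
  have hdom : ∀ y : X, IsDomain (X.presheaf.stalk y) := fun y =>
    CalgA.RegBasic.isDomain (X.presheaf.stalk y)
  have hset := SetupField.isSetup_of_field _ hδ
  have e1 : pullback.fst f f (pullback.diagonal f x) = x := by
    rw [← Scheme.Hom.comp_apply, pullback.diagonal_fst]; rfl
  have e2 : pullback.snd f f (pullback.diagonal f x) = x := by
    rw [← Scheme.Hom.comp_apply, pullback.diagonal_snd]; rfl
  obtain ⟨η₁, h₁, hk₁, hd₁, hn₁⟩ := ringKrullDim_stalk hset.2.2
    (pullback.fst f f (pullback.diagonal f x))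
  obtain ⟨η₂, h₂, hk₂, hd₂, hn₂⟩ := ringKrullDim_stalk hset.2.2
    (pullback.snd f f (pullback.diagonal f x))
  obtain ⟨hdim, hnn⟩ := ringKrullDim_prod f hδ hP (pullback.diagonal f x) h₁ h₂
  rw [hk₁, hk₂, Ideal.map_bot, Ideal.map_bot, sup_bot_eq,
    ringKrullDim_eq_of_ringEquiv (RingEquiv.quotientBot _)] at hdim
  rw [delta_diagonal f hδ hP] at hdim hnn
  rw [e1] at hd₁ hn₁
  rw [e2] at hd₂ hn₂
  rw [hd] at hd₁ hd₂
  have hd₁' : d = (δ η₁ - δ x).toNat := by exact_mod_cast hd₁
  have hd₂' : d = (δ η₂ - δ x).toNat := by exact_mod_cast hd₂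
  obtain ⟨c, g, hg1, hg2, hg3⟩ := DiagReg.exists_regular_generators_diagonal K f x
  rw [hd, hdim] at hg3
  have hc : d + c = (δ η₁ + δ η₂ - δ x).toNat := by exact_mod_cast hg3
  have hlen : (List.ofFn g).length = c := List.length_ofFn
  have hlist : Ideal.ofList (List.ofFn g) = Ideal.span (Set.range g) := by
    rw [Ideal.ofList]
    congr 1
    ext a
    simp [List.mem_ofFn]
  refine ⟨c, by omega, ?_⟩
  rw [hg1, ← hlist]
  have hne : Ideal.ofList (List.ofFn g) ≠ ⊤ := by
    intro h
    have := hg2.top_ne_smul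
    rw [h] at this
    simp at this
  have h3 := regChain_of_isWeaklyRegular (List.ofFn g) hg2.toIsWeaklyRegular (fun r hr =>
    IsLocalRing.le_maximalIdeal hne (Ideal.subset_span hr))
  rwa [hlen] at h3

/-- Serre's vanishing and positivity on `X × X`. -/
theorem main_diagonal (f : X ⟶ Spec (CommRingCat.of K)) [Smooth f] [IsSeparated f]
    {δ : X → ℤ} (hδ : Cyc.DeltaCompat f δ (fun _ => 0)) (x : X) (d : ℕ)
    (hd : ringKrullDim (X.presheaf.stalk x) = d)
    {x' y' : X} (hx : x' ⤳ pullback.fst f f (pullback.diagonal f x))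
    (hy : y' ⤳ pullback.snd f f (pullback.diagonal f x))
    (hm : Meets ((pullback f f).presheaf.stalk (pullback.diagonal f x))
      ((pullback f f).presheaf.stalk (pullback.diagonal f x) ⧸
        IntMult.stalkIdeal (pullback.diagonal f).ker (pullback.diagonal f x))
      ((pullback f f).presheaf.stalk (pullback.diagonal f x) ⧸
      ((RingHom.ker (Cyc.specMap _ x' hx)).map
          ((pullback.fst f f).stalkMap (pullback.diagonal f x)).hom ⊔
        (RingHom.ker (Cyc.specMap _ y' hy)).map
          ((pullback.snd f f).stalkMap (pullback.diagonal f x)).hom))) :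
    δ x' + δ y' ≤ d + 2 * δ x ∧
    0 ≤ IntMult.chi ((pullback f f).presheaf.stalk (pullback.diagonal f x))
      ((pullback f f).presheaf.stalk (pullback.diagonal f x) ⧸
        IntMult.stalkIdeal (pullback.diagonal f).ker (pullback.diagonal f x))
      ((pullback f f).presheaf.stalk (pullback.diagonal f x) ⧸
      ((RingHom.ker (Cyc.specMap _ x' hx)).map
          ((pullback.fst f f).stalkMap (pullback.diagonal f x)).hom ⊔
        (RingHom.ker (Cyc.specMap _ y' hy)).map
          ((pullback.snd f f).stalkMap (pullback.diagonal f x)).hom)) ∧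
    (δ x' + δ y' < d + 2 * δ x →
      IntMult.chi ((pullback f f).presheaf.stalk (pullback.diagonal f x))
      ((pullback f f).presheaf.stalk (pullback.diagonal f x) ⧸
        IntMult.stalkIdeal (pullback.diagonal f).ker (pullback.diagonal f x))
      ((pullback f f).presheaf.stalk (pullback.diagonal f x) ⧸
      ((RingHom.ker (Cyc.specMap _ x' hx)).map
          ((pullback.fst f f).stalkMap (pullback.diagonal f x)).hom ⊔
        (RingHom.ker (Cyc.specMap _ y' hy)).map
          ((pullback.snd f f).stalkMap (pullback.diagonal f x)).hom)) = 0) ∧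
    (δ x' + δ y' = d + 2 * δ x →
      0 < IntMult.chi ((pullback f f).presheaf.stalk (pullback.diagonal f x))
      ((pullback f f).presheaf.stalk (pullback.diagonal f x) ⧸
        IntMult.stalkIdeal (pullback.diagonal f).ker (pullback.diagonal f x))
      ((pullback f f).presheaf.stalk (pullback.diagonal f x) ⧸
      ((RingHom.ker (Cyc.specMap _ x' hx)).map
          ((pullback.fst f f).stalkMap (pullback.diagonal f x)).hom ⊔
        (RingHom.ker (Cyc.specMap _ y' hy)).map
          ((pullback.snd f f).stalkMap (pullback.diagonal f x)).hom))) := by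
  obtain ⟨δP, hP⟩ := exists_deltaCompat (pullback.fst f f ≫ f)
  obtain ⟨n, hn, hreg⟩ := regChain_diagonal f hδ hP x d hd
  obtain ⟨hdim, hnn⟩ := ringKrullDim_prod f hδ hP (pullback.diagonal f x) hx hy
  rw [delta_diagonal f hδ hP] at hdim hnn
  have hloc : IsLocallyNoetherian (pullback f f) :=
    (SetupField.isSetup_of_field _ hP).1
  have h1 := ChiRec2.main hreg _ hm
  rw [Module.supportDim_quotient_eq_ringKrullDim, hdim] at h1
  obtain ⟨h1, h2, h3, h4⟩ := h1
  have h1' : (δ x' + δ y' - δ x).toNat ≤ n := by exact_mod_cast h1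
  refine ⟨by omega, h2, fun h => h3 ?_, fun h => h4 ?_⟩
  · have : (δ x' + δ y' - δ x).toNat < n := by omega
    exact_mod_cast this
  · have : (δ x' + δ y' - δ x).toNat = n := by omega
    exact_mod_cast this

/-- **Serre's vanishing and positivity theorems** on a smooth variety: the closures of `x'` and `y'`
meet near `x` only at `x`. -/
theorem mult_main [IsIntegral X] (f : X ⟶ Spec (CommRingCat.of K)) [Smooth f] [IsSeparated f]
    {δ : X → ℤ} (hδ : Cyc.DeltaCompat f δ (fun _ => 0)) {x x' y' : X} (hx : x' ⤳ x) (hy : y' ⤳ x)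
    (hm : ∀ z, x' ⤳ z → y' ⤳ z → z ⤳ x → z = x) :
    δ x' + δ y' ≤ δ (genericPoint X) + δ x ∧
    0 ≤ IntMult.mult (IntMult.ptIdeal x') (IntMult.ptIdeal y') x ∧
    (δ x' + δ y' < δ (genericPoint X) + δ x →
      IntMult.mult (IntMult.ptIdeal x') (IntMult.ptIdeal y') x = 0) ∧
    (δ x' + δ y' = δ (genericPoint X) + δ x →
      0 < IntMult.mult (IntMult.ptIdeal x') (IntMult.ptIdeal y') x) := by
  have H : IsPullback (pullback.fst f f) (pullback.snd f f) f f := IsPullback.of_hasPullback f f
  have hset := SetupField.isSetup_of_field _ hδ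
  have hp : pullback.diagonal f ≫ pullback.fst f f = 𝟙 X := pullback.diagonal_fst f
  have hq : pullback.diagonal f ≫ pullback.snd f f = 𝟙 X := pullback.diagonal_snd f
  have hpt : ∀ y, pullback.fst f f (pullback.diagonal f y) = y := fun y => by
    rw [← Scheme.Hom.comp_apply, hp]; rfl
  have hqt : ∀ y, pullback.snd f f (pullback.diagonal f y) = y := fun y => by
    rw [← Scheme.Hom.comp_apply, hq]; rfl
  have hx1 : x' ⤳ pullback.fst f f (pullback.diagonal f x) := by rw [hpt]; exact hx
  have hy1 : y' ⤳ pullback.snd f f (pullback.diagonal f x) := by rw [hqt]; exact hy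
  obtain ⟨ω, h1, h2, hω, -⟩ := ProdPoint.exists_generic_point H x' y'
  have hωx : ω ⤳ pullback.diagonal f x := hω _ hx1 hy1
  have hgen : pullback.diagonal f (genericPoint X) ⤳ pullback.diagonal f x :=
    (genericPoint_specializes x).map (pullback.diagonal f).continuous
  have hω' : ∀ z, pullback.fst f f z = x' → pullback.snd f f z = y' → ω ⤳ z := fun z e1 e2 =>
    hω z (specializes_of_eq e1.symm) (specializes_of_eq e2.symm)
  have key := DiagMult.mult_diagonal f x hx hy h1 h2 hω' hωx
  have hker := ProdPoint.ker_specMap_generic H hω' h1 h2 hωx hx1 hy1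
  have hΔ : RingHom.ker (Cyc.specMap _ _ hgen) =
      IntMult.stalkIdeal (pullback.diagonal f).ker (pullback.diagonal f x) := by
    rw [DiagMult.ker_diagonal, StalkIdeal.stalkIdeal_ker]
  have hdim : ∃ d : ℕ, ringKrullDim (X.presheaf.stalk x) = d ∧
      (d : ℤ) + δ x = δ (genericPoint X) := by
    have h3 := CycB.LocQuot.ringKrullDim_locQuot hset.2.2 (genericPoint_specializes x)
    have h4 : RingHom.ker (Cyc.specMap x _ (genericPoint_specializes x)) = ⊥ :=
      ProdPoint.ker_genericPoint x _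
    refine ⟨_, (ringKrullDim_eq_of_ringEquiv ((Ideal.quotEquivOfEq h4).trans
      (RingEquiv.quotientBot _))).symm.trans h3, ?_⟩
    have := CycB.LocQuot.le_of_specializes hset.2.2 (genericPoint_specializes x)
    omega
  obtain ⟨d, hd, hdn⟩ := hdim
  have hmeets : Meets ((pullback f f).presheaf.stalk (pullback.diagonal f x))
      ((pullback f f).presheaf.stalk (pullback.diagonal f x) ⧸
        IntMult.stalkIdeal (pullback.diagonal f).ker (pullback.diagonal f x))
      ((pullback f f).presheaf.stalk (pullback.diagonal f x) ⧸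
      ((RingHom.ker (Cyc.specMap _ x' hx1)).map
          ((pullback.fst f f).stalkMap (pullback.diagonal f x)).hom ⊔
        (RingHom.ker (Cyc.specMap _ y' hy1)).map
          ((pullback.snd f f).stalkMap (pullback.diagonal f x)).hom)) := by
    rw [← hker, ← hΔ]
    intro q hq1 hq2
    rw [Module.support_eq_zeroLocus, Ideal.annihilator_quotient, CycB.LocQuot.mem_zeroLocus_iff]
      at hq1 hq2
    obtain ⟨w, hw, e⟩ := CycB.LocQuot.exists_eq_ker q.asIdeal
    have hqe : q = CycB.LocQuot.primeOf hw := PrimeSpectrum.ext (by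
      rw [CycB.LocQuot.primeOf_asIdeal]; exact e)
    rw [hqe, CycB.LocQuot.primeOf_le_iff] at hq1 hq2
    obtain ⟨w₀, rfl⟩ : w ∈ Set.range (pullback.diagonal f) :=
      hq1.mem_closed (pullback.diagonal f).isClosedEmbedding.isClosed_range ⟨_, rfl⟩
    have hw0 : w₀ ⤳ x :=
      ((pullback.diagonal f).isClosedEmbedding.isInducing.specializes_iff).1 hw
    have hxw : x' ⤳ w₀ := by
      have := hq2.map (pullback.fst f f).continuous
      rwa [h1, hpt] at this
    have hyw : y' ⤳ w₀ := by
      have := hq2.map (pullback.snd f f).continuous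
      rwa [h2, hqt] at this
    have hwx := hm w₀ hxw hyw hw0
    subst hwx
    rw [e, CycB.LocQuot.ker_refl]
    exact IsLocalRing.maximalIdeal.isMaximal _
  have hmain := main_diagonal f hδ x d hd hx1 hy1 hmeets
  have hchi : IntMult.mult (IntMult.ptIdeal x') (IntMult.ptIdeal y') x =
      IntMult.chi ((pullback f f).presheaf.stalk (pullback.diagonal f x))
      ((pullback f f).presheaf.stalk (pullback.diagonal f x) ⧸
        IntMult.stalkIdeal (pullback.diagonal f).ker (pullback.diagonal f x))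
      ((pullback f f).presheaf.stalk (pullback.diagonal f x) ⧸
      ((RingHom.ker (Cyc.specMap _ x' hx1)).map
          ((pullback.fst f f).stalkMap (pullback.diagonal f x)).hom ⊔
        (RingHom.ker (Cyc.specMap _ y' hy1)).map
          ((pullback.snd f f).stalkMap (pullback.diagonal f x)).hom)) := by
    rw [← key, ← hker, ← hΔ, IntMult.mult, StalkIdeal.stalkIdeal_ptIdeal hgen,
      StalkIdeal.stalkIdeal_ptIdeal hωx]
    exact ChiRec.chi_symm _ _
  rw [← hchi] at hmain
  have e : δ (genericPoint X) + δ x = d + 2 * δ x := by omega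
  rw [e]
  exact hmain

/-- The same in terms of the primes of the local ring. -/
theorem chi_main [IsIntegral X] (f : X ⟶ Spec (CommRingCat.of K)) [Smooth f] [IsSeparated f]
    {δ : X → ℤ} (hδ : Cyc.DeltaCompat f δ (fun _ => 0)) {x x' y' : X} (hx : x' ⤳ x) (hy : y' ⤳ x)
    (hm : ∀ z, x' ⤳ z → y' ⤳ z → z ⤳ x → z = x) :
    δ x' + δ y' ≤ δ (genericPoint X) + δ x ∧
    0 ≤ IntMult.chi (X.presheaf.stalk x) (X.presheaf.stalk x ⧸ RingHom.ker (Cyc.specMap x x' hx))
      (X.presheaf.stalk x ⧸ RingHom.ker (Cyc.specMap x y' hy)) ∧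
    (δ x' + δ y' < δ (genericPoint X) + δ x →
      IntMult.chi (X.presheaf.stalk x) (X.presheaf.stalk x ⧸ RingHom.ker (Cyc.specMap x x' hx))
      (X.presheaf.stalk x ⧸ RingHom.ker (Cyc.specMap x y' hy)) = 0) ∧
    (δ x' + δ y' = δ (genericPoint X) + δ x →
      0 < IntMult.chi (X.presheaf.stalk x)
        (X.presheaf.stalk x ⧸ RingHom.ker (Cyc.specMap x x' hx))
        (X.presheaf.stalk x ⧸ RingHom.ker (Cyc.specMap x y' hy))) := by
  have h := mult_main f hδ hy hx (fun z h1 h2 h3 => hm z h2 h1 h3)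
  rw [IntMult.mult, StalkIdeal.stalkIdeal_ptIdeal hx, StalkIdeal.stalkIdeal_ptIdeal hy,
    add_comm (δ y')] at h
  exact h

end Geom

end Groth.Agent.CycA.SerreGeom
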