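import Groth.Agent.CycA.MovLen
import Groth.Agent.CycA.MovDom
import Groth.Agent.CycA.MovFin
import Groth.Agent.CycA.MovFib
import Groth.Agent.CycA.P1Sect
import Groth.Agent.CycA.SetupField
import Groth.Agent.CycA.SerreGeom
import Groth.Agent.CycB.RelDim4
import Groth.Agent.CycB.PtClosure
import Groth.Agent.CohqA.ProjDim
import Groth.Agent.CohqB.ProjBC
import Groth.Agent.Sga5.ProjSmooth

/-!
# Dimension facts on `P^1_X` for the moving lemma
-/

set_option autoImplicit false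
universe u
open CategoryTheory CategoryTheory.Limits AlgebraicGeometry TopologicalSpace

namespace Groth.Agent.CycA.MovGeo

open Groth.Agent.CycB.RelDim Groth.Agent.CycB.LocQuot

section ProjLine

theorem topologicalKrullDim_projSpace_one (k : Type u) [Field k] :
    topologicalKrullDim (CohB1.ProjSpace 1 k) = 1 := by
  refine le_antisymm (CohqA.ProjDim.topologicalKrullDim_le k 1) ?_
  have h1 := (Sga5.ProjSmooth.chart 1 k 0).isOpenEmbedding.isInducing.topologicalKrullDim_le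
  refine le_trans ?_ h1
  have h2 : topologicalKrullDim (Spec (CommRingCat.of (MvPolynomial (Fin 1) k))) =
      ringKrullDim (MvPolynomial (Fin 1) k) :=
    PrimeSpectrum.topologicalKrullDim_eq_ringKrullDim _
  rw [h2, MvPolynomial.ringKrullDim_of_isNoetherianRing, ringKrullDim_eq_zero_of_field]
  simp

theorem nonempty_fiber_iso (X : Scheme.{u}) (y : X) :
    Nonempty ((CohB1.ProjSpaceOver.toBase 1 X).fiber y ≅ CohB1.ProjSpace 1 (X.residueField y)) :=
  ⟨(IsPullback.of_hasPullback (CohB1.ProjSpaceOver.toBase 1 X)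
    (X.fromSpecResidueField y)).isoIsPullback _ _
      (CohqB.ProjBC.isPullback_overMap 1 (X.fromSpecResidueField y)).flip.flip ≪≫
    CohqB.ProjBC.projSpaceOverIso 1 (X.residueField y)⟩

/-- `P^1_X → X` has relative dimension one. -/
theorem hasRelDim_toBase (X : Scheme.{u}) :
    Cyc.HasRelDim (CohB1.ProjSpaceOver.toBase 1 X) 1 := by
  intro y T hT
  obtain ⟨e⟩ := nonempty_fiber_iso X y
  let eh : (CohB1.ProjSpaceOver.toBase 1 X).fiber y ≃ₜ CohB1.ProjSpace 1 (X.residueField y) :=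
    Scheme.homeoOfIso e
  have : IrreducibleSpace ((CohB1.ProjSpaceOver.toBase 1 X).fiber y) := by
    rw [irreducibleSpace_def]
    have h1 := ((irreducibleSpace_def (CohB1.ProjSpace 1 (X.residueField y))).1
      inferInstance).image eh.symm eh.symm.continuous.continuousOn
    rwa [Set.top_eq_univ, Set.image_univ, eh.symm.surjective.range_eq] at h1
  rw [irreducibleComponents_eq_singleton, Set.mem_singleton_iff] at hT
  subst hT
  rw [IsHomeomorph.topologicalKrullDim_eq _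
    (Homeomorph.Set.univ ((CohB1.ProjSpaceOver.toBase 1 X).fiber y)).isHomeomorph,
    IsHomeomorph.topologicalKrullDim_eq _ eh.isHomeomorph, topologicalKrullDim_projSpace_one]
  rfl

end ProjLine

section Dim

instance smoothOfRelativeDimension_toBase (X : Scheme.{u}) :
    SmoothOfRelativeDimension 1 (CohB1.ProjSpaceOver.toBase 1 X) := by
  have h : MorphismProperty.IsStableUnderBaseChange
      (@SmoothOfRelativeDimension 1 : MorphismProperty Scheme.{u}) :=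
    smoothOfRelativeDimension_isStableUnderBaseChange 1
  exact MorphismProperty.of_isPullback (P := @SmoothOfRelativeDimension 1)
    (IsPullback.of_hasPullback (CohB1.ProjSpace.toSpec 1 (ULift.{u} ℤ))
      (specULiftZIsTerminal.from X)) (Sga5.ProjSmooth.smooth_toSpec 1 _)

instance smooth_toBase (X : Scheme.{u}) : Smooth (CohB1.ProjSpaceOver.toBase 1 X) :=
  SmoothOfRelativeDimension.smooth 1 _

instance flat_toBase (X : Scheme.{u}) : Flat (CohB1.ProjSpaceOver.toBase 1 X) := by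
  infer_instance

instance lft_toBase (X : Scheme.{u}) :
    LocallyOfFiniteType (CohB1.ProjSpaceOver.toBase 1 X) := by
  infer_instance

variable {K : Type u} [Field K] {X : Scheme.{u}} {δ : X → ℤ} {n : ℤ}
  {δP : ↥(CohB1.ProjSpaceOver 1 X) → ℤ}

theorem isSetup_P (p : X ⟶ Spec (CommRingCat.of K)) [LocallyOfFiniteType p]
    (hδ : Cyc.DeltaCompat p δ (fun _ => 0))
    (hP : Cyc.DeltaCompat (CohB1.ProjSpaceOver.toBase 1 X) δP δ) :
    Cyc.IsSetup (CohB1.ProjSpaceOver 1 X) δP :=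
  SetupField.isSetup_of_field (CohB1.ProjSpaceOver.toBase 1 X ≫ p) (deltaCompat_comp hP hδ)

theorem isRegularLocalRing_P (p : X ⟶ Spec (CommRingCat.of K)) [Smooth p]
    (w : CohB1.ProjSpaceOver 1 X) :
    IsRegularLocalRing ((CohB1.ProjSpaceOver 1 X).presheaf.stalk w) :=
  SerreGeom.isRegularLocalRing_stalk (CohB1.ProjSpaceOver.toBase 1 X ≫ p) w

/-- If `O_{W,w}` is a domain there is a unique generization of `w` which is maximal. -/
theorem exists_max {W : Scheme.{u}} (w : W) [IsDomain (W.presheaf.stalk w)] :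
    ∃ (η : W) (_ : η ⤳ w), ∀ η' : W, η' ⤳ w → η ⤳ η' := by
  obtain ⟨η, h, e⟩ := CycB.LocQuot.exists_eq_ker (⊥ : Ideal (W.presheaf.stalk w))
  refine ⟨η, h, fun η' h' => ?_⟩
  rw [← CycB.LocQuot.ker_le_iff h h', ← e]
  exact bot_le

/-- The dimension of `O_{W,w}`, a domain, in terms of the maximal generization of `w`. -/
theorem ringKrullDim_stalk_of_max {W : Scheme.{u}} {δW : W → ℤ} (hδ : Cyc.IsDimFun W δW) (w : W)
    [IsDomain (W.presheaf.stalk w)] {η : W} (h : η ⤳ w) (hη : ∀ η' : W, η' ⤳ w → η ⤳ η') :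
    ringKrullDim (W.presheaf.stalk w) = ((δW η - δW w).toNat : ℕ) ∧ δW w ≤ δW η := by
  refine ⟨?_, CycB.LocQuot.le_of_specializes hδ h⟩
  obtain ⟨η', h', e⟩ := CycB.LocQuot.exists_eq_ker (⊥ : Ideal (W.presheaf.stalk w))
  have h1 : RingHom.ker (Cyc.specMap w η h) = ⊥ := by
    rw [eq_bot_iff, e, CycB.LocQuot.ker_le_iff]
    exact hη _ h'
  rw [← CycB.LocQuot.ringKrullDim_locQuot hδ h]
  exact (ringKrullDim_eq_of_ringEquiv ((Ideal.quotEquivOfEq h1).trans
    (RingEquiv.quotientBot _))).symm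

theorem ringKrullDim_stalk [IsIntegral X] (hδ : Cyc.IsDimFun X δ) (hn : δ (genericPoint X) = n)
    (x : X) : ringKrullDim (X.presheaf.stalk x) = ((n - δ x).toNat : ℕ) ∧ δ x ≤ n := by
  rw [← hn]
  exact ringKrullDim_stalk_of_max hδ x (genericPoint_specializes x)
    (fun η' _ => genericPoint_specializes η')

/-- `dim O_{P,w} = n + 1 - δ w` on `P = P^1_X`. -/
theorem ringKrullDim_stalk_P [IsIntegral X] (hP : Cyc.DeltaCompat (CohB1.ProjSpaceOver.toBase 1 X) δP δ)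
    (hδP : Cyc.IsDimFun (CohB1.ProjSpaceOver 1 X) δP) (hn : δ (genericPoint X) = n)
    (w : CohB1.ProjSpaceOver 1 X) [IsDomain ((CohB1.ProjSpaceOver 1 X).presheaf.stalk w)] :
    ringKrullDim ((CohB1.ProjSpaceOver 1 X).presheaf.stalk w) = ((n + 1 - δP w).toNat : ℕ) ∧
      δP w ≤ n + 1 := by
  obtain ⟨η, h, hmax⟩ := exists_max w
  have h1 : ∀ η' : CohB1.ProjSpaceOver 1 X, η' ⤳ η → η' = η := fun η' h' =>
    ((hmax η' (h'.trans h)).antisymm h').eq.symm
  obtain ⟨η', h2, h3⟩ := exists_specializes_of_flat (CohB1.ProjSpaceOver.toBase 1 X)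
    (genericPoint_specializes (CohB1.ProjSpaceOver.toBase 1 X η))
  have h4 := h1 η' h2
  subst h4
  have h5 : FibGeneric (CohB1.ProjSpaceOver.toBase 1 X) η' := fun η'' _ h' => h1 η'' h'
  have h6 := (fibGeneric_iff_delta (hasRelDim_toBase X) hP η').1 h5
  rw [h3, hn] at h6
  have h7 := ringKrullDim_stalk_of_max hδP w h hmax
  rw [h6] at h7
  exact_mod_cast h7

/-- `δP (sect_i x) = δ x`. -/
theorem delta_sect (hP : Cyc.DeltaCompat (CohB1.ProjSpaceOver.toBase 1 X) δP δ)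
    (i : Fin (1 + 1)) (x : X) : δP (P1.sect X i x) = δ x := by
  obtain ⟨m, hm, hm'⟩ := (deltaCompat_iff.1 hP) (P1.sect X i x)
  have h1 := rtd_comp (P1.sect X i) (CohB1.ProjSpaceOver.toBase 1 X) x
  have h2 : rtd (P1.sect X i ≫ CohB1.ProjSpaceOver.toBase 1 X) x = 0 := by
    have : IsPreimmersion (P1.sect X i ≫ CohB1.ProjSpaceOver.toBase 1 X) := by
      rw [P1Sect.sect_toBase]
      infer_instance
    exact rtd_eq_zero_of_isPreimmersion _ _
  have h3 : rtd (P1.sect X i) x = 0 := by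
    have := P1Sect.isClosedImmersion_sect X i
    exact rtd_eq_zero_of_isPreimmersion _ _
  rw [h2, h3, add_zero, hm] at h1
  have h4 : m = 0 := by exact_mod_cast h1.symm
  rw [hm', h4, P1Sect.toBase_sect]
  simp

end Dim

section Dict

variable {W Z : Scheme.{u}} (h : W ⟶ Z) {δW : W → ℤ}

/-- The ideal `m_{h w} O_{W,w}`. -/
noncomputable abbrev fibIdeal (w : W) : Ideal (W.presheaf.stalk w) :=
  (IsLocalRing.maximalIdeal (Z.presheaf.stalk (h w))).map (h.stalkMap w).hom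

theorem specMap_stalkMap_primeOf {w ω : W} (hω : ω ⤳ w) :
    Spec.map (h.stalkMap w) (primeOf hω) = primeOf (hω.map h.continuous) := by
  have h0 : (Spec.map (h.stalkMap w) ≫ Z.fromSpecStalk (h w)) (primeOf hω) =
      (W.fromSpecStalk w ≫ h) (primeOf hω) := by
    rw [Scheme.SpecMap_stalkMap_fromSpecStalk]
  apply fromSpecStalk_injective
  rw [fromSpecStalk_primeOf]
  refine h0.trans ?_
  change h (W.fromSpecStalk w (primeOf hω)) = _
  rw [fromSpecStalk_primeOf]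

/-- The prime of `h ω` is the inverse image of the prime of `ω`. -/
theorem comap_ker {w ω : W} (hω : ω ⤳ w) :
    (RingHom.ker (Cyc.specMap w ω hω)).comap (h.stalkMap w).hom =
      RingHom.ker (Cyc.specMap (h w) (h ω) (hω.map h.continuous)) := by
  rw [← primeOf_asIdeal, ← primeOf_asIdeal, ← specMap_stalkMap_primeOf]
  rfl

/-- For an isomorphism on stalks the prime of `ω` is generated by that of `h ω`. -/
theorem map_ker {w ω : W} (hω : ω ⤳ w) [IsIso (h.stalkMap w)] :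
    (RingHom.ker (Cyc.specMap (h w) (h ω) (hω.map h.continuous))).map (h.stalkMap w).hom =
      RingHom.ker (Cyc.specMap w ω hω) := by
  rw [← comap_ker]
  exact Ideal.map_comap_of_surjective _
    (ConcreteCategory.bijective_of_isIso (h.stalkMap w)).2 _

theorem map_maximalIdeal_of_eq {z z' : Z} (hz : z ⤳ z') (e : z = z') :
    (IsLocalRing.maximalIdeal (Z.presheaf.stalk z')).map (Z.presheaf.stalkSpecializes hz).hom =
      IsLocalRing.maximalIdeal (Z.presheaf.stalk z) := by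
  subst e
  rw [TopCat.Presheaf.stalkSpecializes_refl]
  exact Ideal.map_id _

/-- `m_{h w} O_{W,ω} = m_{h ω} O_{W,ω}` if `h ω = h w`. -/
theorem fibIdeal_map {w ω : W} (hω : ω ⤳ w) (e : h ω = h w) :
    (fibIdeal h w).map (W.presheaf.stalkSpecializes hω).hom = fibIdeal h ω := by
  have h1 : Z.presheaf.stalkSpecializes (hω.map h.continuous) ≫ h.stalkMap ω =
      h.stalkMap w ≫ W.presheaf.stalkSpecializes hω := Scheme.Hom.stalkSpecializes_stalkMap h ω w hω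
  rw [fibIdeal, fibIdeal, Ideal.map_map, ← CommRingCat.hom_comp, ← h1, CommRingCat.hom_comp,
    ← Ideal.map_map, map_maximalIdeal_of_eq _ e]

/-- The local length at a generization. -/
theorem length_localization {w ω : W} (hω : ω ⤳ w) (e : h ω = h w)
    (q : Ideal (W.presheaf.stalk w)) [q.IsPrime] (hq : RingHom.ker (Cyc.specMap w ω hω) = q) :
    Module.length (Localization.AtPrime q)
      (Localization.AtPrime q ⧸ (fibIdeal h w).map (algebraMap _ (Localization.AtPrime q))) =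
    Module.length (W.presheaf.stalk ω) (W.presheaf.stalk ω ⧸ fibIdeal h ω) := by
  let : Algebra (W.presheaf.stalk w) (W.presheaf.stalk ω) :=
    (W.presheaf.stalkSpecializes hω).hom.toAlgebra
  have h1 : IsLocalization.AtPrime (W.presheaf.stalk ω) q := by
    subst hq
    exact isLocalization_stalkSpecializes hω
  rw [← MovLen.length_loc_quotient q (Localization.AtPrime q) (fibIdeal h w),
    MovLen.length_loc_quotient q (W.presheaf.stalk ω) (fibIdeal h w), ← fibIdeal_map h hω e]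
  rfl

/-- `m_{h w} O_{W,w} ≤ p_ω` iff `h ω = h w`. -/
theorem fibIdeal_le_iff {w ω : W} (hω : ω ⤳ w) :
    fibIdeal h w ≤ RingHom.ker (Cyc.specMap w ω hω) ↔ h ω = h w := by
  have h1 := specMap_stalkMap_primeOf h hω
  rw [← primeOf_inj (hω.map h.continuous) (specializes_refl (h w)), ← h1, primeOf_refl,
    Ideal.map_le_iff_le_comap, ← primeOf_asIdeal]
  constructor
  · intro h2
    apply PrimeSpectrum.ext
    exact ((IsLocalRing.maximalIdeal.isMaximal _).eq_of_le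
      (Ideal.IsPrime.ne_top (Spec.map (h.stalkMap w) (primeOf hω)).2) h2).symm
  · intro h2
    have h3 := congrArg PrimeSpectrum.asIdeal h2
    exact h3.symm.le

/-- (D3) If all minimal primes of `m_{h w} O_{W,w}` have quotients of dimension one, they
correspond to the generizations `ω` of `w` with `h ω = h w` and `δ ω = δ w + 1`. -/
theorem ker_mem_minimalPrimes_iff (hW : Cyc.IsDimFun W δW) (w : W)
    (H : ∀ q ∈ (fibIdeal h w).minimalPrimes, ringKrullDim (W.presheaf.stalk w ⧸ q) = 1)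
    {ω : W} (hω : ω ⤳ w) :
    RingHom.ker (Cyc.specMap w ω hω) ∈ (fibIdeal h w).minimalPrimes ↔
      h ω = h w ∧ δW ω = δW w + 1 := by
  have key : ∀ {ω : W} (hω : ω ⤳ w), RingHom.ker (Cyc.specMap w ω hω) ∈
      (fibIdeal h w).minimalPrimes → h ω = h w ∧ δW ω = δW w + 1 := by
    intro ω hω hmin
    refine ⟨(fibIdeal_le_iff h hω).1 hmin.1.2, ?_⟩
    have h1 := H _ hmin
    have h2 := CycB.LocQuot.ringKrullDim_locQuot hW hω
    change ringKrullDim (W.presheaf.stalk w ⧸ RingHom.ker (Cyc.specMap w ω hω)) = _ at h2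
    rw [h1] at h2
    have h3 := le_of_specializes hW hω
    have h4 : (1 : ℕ) = (δW ω - δW w).toNat := by exact_mod_cast h2
    omega
  refine ⟨key hω, ?_⟩
  rintro ⟨h1, h2⟩
  obtain ⟨q, hq, hle⟩ := Ideal.exists_minimalPrimes_le ((fibIdeal_le_iff h hω).2 h1)
  have hqp : q.IsPrime := hq.1.1
  obtain ⟨ω', hω', e⟩ := exists_eq_ker q
  rw [e] at hq hle
  have h3 := key hω' hq
  rw [ker_le_iff] at hle
  have h4 : ω' = ω := eq_of_specializes_of_eq hW hle (by rw [h2, h3.2])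
  subst h4
  exact hq

/-- The set of the generizations of (D3) is finite. -/
theorem finite_generizations (hW : Cyc.IsDimFun W δW) (w : W)
    (H : ∀ q ∈ (fibIdeal h w).minimalPrimes, ringKrullDim (W.presheaf.stalk w ⧸ q) = 1)
    (hf : (fibIdeal h w).minimalPrimes.Finite) :
    {ω : W | ω ⤳ w ∧ h ω = h w ∧ δW ω = δW w + 1}.Finite := by
  classical
  let g : W → Ideal (W.presheaf.stalk w) := fun ω =>
    if hω : ω ⤳ w then RingHom.ker (Cyc.specMap w ω hω) else ⊤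
  refine Set.Finite.of_finite_image (f := g) (hf.subset ?_) ?_
  · rintro _ ⟨ω, ⟨h1, h2⟩, rfl⟩
    simp only [g, dif_pos h1]
    exact (ker_mem_minimalPrimes_iff h hW w H h1).2 h2
  · rintro ω ⟨h1, -⟩ ω' ⟨h1', -⟩ e
    simp only [g, dif_pos h1, dif_pos h1'] at e
    exact (ker_inj h1 h1').1 e

end Dict

section Moving

variable {K : Type u} [Field K] {X : Scheme.{u}} {δ : X → ℤ} {n : ℤ}
  {δP : ↥(CohB1.ProjSpaceOver 1 X) → ℤ} {Z : Scheme.{u}} {δZ : Z → ℤ}
  {Ω : (CohB1.ProjSpaceOver 1 X).Opens} {h : (Ω : Scheme.{u}) ⟶ Z} {s₀ : X ⟶ (Ω : Scheme.{u})}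

/-- (c3) -/
theorem apply_eq_of_specializes (hZ : Cyc.IsDimFun Z δZ)
    (hfδ : ∀ x, δZ ((s₀ ≫ h) x) = δ x) {y : Z} {ω : (Ω : Scheme.{u})} (hω : h ω = y) {x : X}
    (hx : ω ⤳ s₀ x) (hs : δ x = δZ y) : (s₀ ≫ h) x = y := by
  have h1 : h ω ⤳ h (s₀ x) := hx.map h.continuous
  rw [hω] at h1
  have h2 := hfδ x
  rw [Scheme.Hom.comp_apply] at h2 ⊢
  exact (eq_of_specializes_of_eq hZ h1 (by rw [h2, hs])).symm

/-- (c4a) -/
theorem notMem_range_sect (hs₀ : s₀ ≫ Ω.ι = P1.sect X 0)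
    (hP : Cyc.DeltaCompat (CohB1.ProjSpaceOver.toBase 1 X) δP δ)
    (hfδ : ∀ x, δZ ((s₀ ≫ h) x) = δ x) {ω : (Ω : Scheme.{u})}
    (hω : δP (Ω.ι ω) = δZ (h ω) + 1) : Ω.ι ω ∉ Set.range (P1.sect X 0) := by
  rintro ⟨x, hx⟩
  have h1 : P1.sect X 0 x = Ω.ι (s₀ x) := by rw [← hs₀, Scheme.Hom.comp_apply]
  rw [h1] at hx
  have h2 : s₀ x = ω := Ω.ι.isOpenEmbedding.injective hx
  have h3 := hfδ x
  rw [Scheme.Hom.comp_apply, h2] at h3
  rw [← h2, ← h1, delta_sect hP, h2, h3] at hω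
  omega

/-- (c4b) -/
theorem dominates [IsAlgClosed K] (p : X ⟶ Spec (CommRingCat.of K))
    (hs₀ : s₀ ≫ Ω.ι = P1.sect X 0)
    (hP : Cyc.DeltaCompat (CohB1.ProjSpaceOver.toBase 1 X) δP δ)
    (hfδ : ∀ x, δZ ((s₀ ≫ h) x) = δ x) {ω : (Ω : Scheme.{u})}
    (hω : δP (Ω.ι ω) = δZ (h ω) + 1) {x : X} (hx : ω ⤳ s₀ x)
    (U : (CohB1.ProjSpaceOver 1 (Spec (CommRingCat.of K))).Opens)
    (hU : (U : Set ↥(CohB1.ProjSpaceOver 1 (Spec (CommRingCat.of K)))).Nonempty) :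
    ∃ w : CycB.PtClosure.ptCl (Ω.ι ω), (CycB.PtClosure.ptClι (Ω.ι ω) ≫ P1.toP1 p) w ∈ U := by
  have h1 : Ω.ι ω ⤳ P1.sect X 0 x := by
    have := hx.map Ω.ι.continuous
    rwa [← Scheme.Hom.comp_apply, hs₀] at this
  obtain ⟨z, hz⟩ := CycB.PtClosure.exists_ptClι_eq_iff.2 h1
  obtain ⟨t, -, -⟩ := Scheme.Pullback.exists_preimage_pullback
    (f := CycB.PtClosure.ptClι (Ω.ι ω)) (g := P1.sect X 0) z x hz
  refine MovDom.dominates K p (CycB.PtClosure.ptClι (Ω.ι ω)) 0 ?_ t U hU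
  rw [CycB.PtClosure.ptClι_genericPoint]
  exact notMem_range_sect hs₀ hP hfδ hω

/-- The fibres of `f = s₀ ≫ h` are discrete, i.e. `O_{X,x}/m_{f x} O_{X,x}` has finite length. -/
theorem length_ne_top (hX : Cyc.IsSetup X δ) (hfδ : ∀ x, δZ ((s₀ ≫ h) x) = δ x) (x : X) :
    Module.length (X.presheaf.stalk x) (X.presheaf.stalk x ⧸ fibIdeal (s₀ ≫ h) x) ≠ ⊤ := by
  have := hX.1
  refine ChiRec.length_ne_top_of_support fun q hq => ?_
  have hle : fibIdeal (s₀ ≫ h) x ≤ q.asIdeal := by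
    rw [Module.mem_support_iff_of_finite, Ideal.annihilator_quotient] at hq
    exact hq
  obtain ⟨x', hx', e⟩ := exists_eq_ker q.asIdeal
  rw [e, fibIdeal_le_iff] at hle
  have h1 : x' = x := eq_of_specializes_of_eq hX.2.2 hx' (by rw [← hfδ, ← hfδ, hle])
  subst h1
  rw [e, ker_refl]
  infer_instance

/-- The dimension equality needed for `MovLen.regular` at `s₀ x`. -/
theorem ringKrullDim_eq [IsIntegral X] (p : X ⟶ Spec (CommRingCat.of K)) [Smooth p]
    (hδ : Cyc.DeltaCompat p δ (fun _ => 0)) (hn : δ (genericPoint X) = n)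
    (hP : Cyc.DeltaCompat (CohB1.ProjSpaceOver.toBase 1 X) δP δ)
    [IsIntegral Z] (hZ : Cyc.IsDimFun Z δZ) (hZn : δZ (genericPoint Z) = n)
    (hs₀ : s₀ ≫ Ω.ι = P1.sect X 0)
    (hfδ : ∀ x, δZ ((s₀ ≫ h) x) = δ x) (x : X) :
    ringKrullDim ((Ω : Scheme.{u}).presheaf.stalk (s₀ x)) =
      ringKrullDim (Z.presheaf.stalk (h (s₀ x))) + 1 := by
  have e1 : Ω.ι (s₀ x) = P1.sect X 0 x := by rw [← hs₀, Scheme.Hom.comp_apply]
  rw [← ringKrullDim_eq_of_ringEquiv (asIso (Ω.ι.stalkMap (s₀ x))).commRingCatIsoToRingEquiv]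
  have := isRegularLocalRing_P p (Ω.ι (s₀ x))
  have := CalgA.RegBasic.isDomain ((CohB1.ProjSpaceOver 1 X).presheaf.stalk (Ω.ι (s₀ x)))
  have h1 := ringKrullDim_stalk_P hP (isSetup_P p hδ hP).2.2 hn (Ω.ι (s₀ x))
  have h2 := ringKrullDim_stalk hZ hZn (h (s₀ x))
  have h3 := hfδ x
  rw [Scheme.Hom.comp_apply] at h3
  rw [h1.1, h2.1, e1, delta_sect hP, h3]
  rw [h3] at h2
  have h4 : (n + 1 - δ x).toNat = (n - δ x).toNat + 1 := by omega
  rw [h4]
  rfl

omit [Field K] in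
/-- The kernel of the stalk map of `s₀` is principal, generated by an element of `m`. -/
theorem exists_ker_eq (hs₀ : s₀ ≫ Ω.ι = P1.sect X 0) (x : X) :
    Function.Surjective (s₀.stalkMap x).hom ∧
    ∃ t : (Ω : Scheme.{u}).presheaf.stalk (s₀ x), t ∈ IsLocalRing.maximalIdeal _ ∧
      RingHom.ker (s₀.stalkMap x).hom = Ideal.span {t} := by
  have key : ∀ g : X ⟶ CohB1.ProjSpaceOver 1 X, g = P1.sect X 0 →
      Function.Surjective (g.stalkMap x).hom ∧ ∃ t, t ∈ IsLocalRing.maximalIdeal _ ∧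
        RingHom.ker (g.stalkMap x).hom = Ideal.span {t} := by
    rintro _ rfl
    obtain ⟨b⟩ := P1Sect.nonempty_coord (X := X) (i := 0) x
    have := P1Sect.isClosedImmersion_sect X 0
    exact ⟨(P1.sect X 0).stalkMap_surjective x, b.t, b.t_mem, b.ker_eq⟩
  obtain ⟨hsurj, t, ht, hker⟩ := key _ hs₀
  rw [Scheme.Hom.stalkMap_comp] at hsurj hker
  let φ : (CohB1.ProjSpaceOver 1 X).presheaf.stalk (Ω.ι (s₀ x)) →+*
    (Ω : Scheme.{u}).presheaf.stalk (s₀ x) := (Ω.ι.stalkMap (s₀ x)).hom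
  let t' : (CohB1.ProjSpaceOver 1 X).presheaf.stalk (Ω.ι (s₀ x)) := t
  have ht' : t' ∈ IsLocalRing.maximalIdeal
    ((CohB1.ProjSpaceOver 1 X).presheaf.stalk (Ω.ι (s₀ x))) := ht
  have hker' : RingHom.ker ((s₀.stalkMap x).hom.comp φ) = Ideal.span {t'} := hker
  have hloc : IsLocalHom φ := inferInstanceAs (IsLocalHom (Ω.ι.stalkMap (s₀ x)).hom)
  have hbij : Function.Bijective φ :=
    ConcreteCategory.bijective_of_isIso (Ω.ι.stalkMap (s₀ x))
  refine ⟨fun a => ?_, φ t', ?_, ?_⟩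
  · obtain ⟨b, hb⟩ := hsurj a
    exact ⟨_, hb⟩
  · rw [IsLocalRing.mem_maximalIdeal, mem_nonunits_iff] at ht' ⊢
    exact fun hu => ht' (isUnit_of_map_unit φ t' hu)
  · ext a
    obtain ⟨b, rfl⟩ := hbij.2 a
    have h1 : b ∈ RingHom.ker ((s₀.stalkMap x).hom.comp φ) ↔ b ∈ Ideal.span {t'} := by
      rw [hker']
    rw [RingHom.mem_ker, RingHom.comp_apply] at h1
    rw [RingHom.mem_ker, h1, Ideal.mem_span_singleton, Ideal.mem_span_singleton]
    constructor
    · exact fun h => map_dvd _ h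
    · rintro ⟨c, hc⟩
      obtain ⟨c, rfl⟩ := hbij.2 c
      rw [← map_mul] at hc
      exact ⟨c, hbij.1 hc⟩

omit [Field K] in
theorem fibIdeal_comp {W X Z : Scheme.{u}} (s : X ⟶ W) (h : W ⟶ Z) (x : X) :
    fibIdeal (s ≫ h) x = (fibIdeal h (s x)).map (s.stalkMap x).hom := by
  have h1 : (s ≫ h).stalkMap x = h.stalkMap (s x) ≫ s.stalkMap x := Scheme.Hom.stalkMap_comp _ _ _
  have h2 : ((s ≫ h).stalkMap x).hom = (s.stalkMap x).hom.comp (h.stalkMap (s x)).hom :=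
    congrArg CommRingCat.Hom.hom h1
  rw [fibIdeal, fibIdeal, Ideal.map_map]
  exact congrArg (fun φ => Ideal.map φ (IsLocalRing.maximalIdeal (Z.presheaf.stalk (h (s x))))) h2

/-- The conclusions of `MovLen.regular` at `s₀ x` (Q = O_{Ω,s₀ x}, A = O_{Z,f x}). -/
theorem minimalPrimes_facts [IsIntegral X] (p : X ⟶ Spec (CommRingCat.of K)) [Smooth p]
    (hδ : Cyc.DeltaCompat p δ (fun _ => 0)) (hn : δ (genericPoint X) = n)
    (hP : Cyc.DeltaCompat (CohB1.ProjSpaceOver.toBase 1 X) δP δ)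
    (pZ : Z ⟶ Spec (CommRingCat.of K)) [Smooth pZ] [IsIntegral Z]
    (hZ : Cyc.DeltaCompat pZ δZ (fun _ => 0)) (hZn : δZ (genericPoint Z) = n)
    (hs₀ : s₀ ≫ Ω.ι = P1.sect X 0) (hfδ : ∀ x, δZ ((s₀ ≫ h) x) = δ x) (x : X) :
    (fibIdeal h (s₀ x)).minimalPrimes.Finite ∧
    (∀ q ∈ (fibIdeal h (s₀ x)).minimalPrimes,
      ringKrullDim ((Ω : Scheme.{u}).presheaf.stalk (s₀ x) ⧸ q) = 1) ∧
    (Module.length (X.presheaf.stalk x) (X.presheaf.stalk x ⧸ fibIdeal (s₀ ≫ h) x)).toNat =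
      ∑ᶠ (q : PrimeSpectrum ((Ω : Scheme.{u}).presheaf.stalk (s₀ x)))
        (_ : q.asIdeal ∈ (fibIdeal h (s₀ x)).minimalPrimes),
        (Module.length (Localization.AtPrime q.asIdeal)
          (Localization.AtPrime q.asIdeal ⧸ (fibIdeal h (s₀ x)).map
            (algebraMap _ (Localization.AtPrime q.asIdeal)))).toNat *
        (Module.length (X.presheaf.stalk x) (X.presheaf.stalk x ⧸
          q.asIdeal.map (s₀.stalkMap x).hom)).toNat := by
  have hset : Cyc.IsSetup X δ := SetupField.isSetup_of_field p hδ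
  have hsetZ : Cyc.IsSetup Z δZ := SetupField.isSetup_of_field pZ hZ
  let : Algebra (Z.presheaf.stalk (h (s₀ x))) ((Ω : Scheme.{u}).presheaf.stalk (s₀ x)) :=
    (h.stalkMap (s₀ x)).hom.toAlgebra
  have hloc : IsLocalHom (algebraMap (Z.presheaf.stalk (h (s₀ x)))
      ((Ω : Scheme.{u}).presheaf.stalk (s₀ x))) :=
    inferInstanceAs (IsLocalHom (h.stalkMap (s₀ x)).hom)
  have hregA : IsRegularLocalRing (Z.presheaf.stalk (h (s₀ x))) :=
    SerreGeom.isRegularLocalRing_stalk pZ _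
  have hregQ : IsRegularLocalRing ((Ω : Scheme.{u}).presheaf.stalk (s₀ x)) :=
    SerreGeom.isRegularLocalRing_stalk (Ω.ι ≫ CohB1.ProjSpaceOver.toBase 1 X ≫ p) _
  obtain ⟨hsurj, t, ht, hker⟩ := exists_ker_eq hs₀ x
  have hI : fibIdeal (s₀ ≫ h) x = (fibIdeal h (s₀ x)).map (s₀.stalkMap x).hom := by
    exact fibIdeal_comp s₀ h x
  have hlen : ∀ I : Ideal ((Ω : Scheme.{u}).presheaf.stalk (s₀ x)),
      Module.length (X.presheaf.stalk x) (X.presheaf.stalk x ⧸ I.map (s₀.stalkMap x).hom) =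
        Module.length ((Ω : Scheme.{u}).presheaf.stalk (s₀ x))
          ((Ω : Scheme.{u}).presheaf.stalk (s₀ x) ⧸ (I ⊔ Ideal.span {t})) := by
    intro I
    rw [MovFib.length_map_eq _ hsurj, hker]
  have hfin := length_ne_top (h := h) (s₀ := s₀) hset hfδ x
  rw [hI, hlen] at hfin
  have hdim := ringKrullDim_eq p hδ hn hP hsetZ.2.2 hZn hs₀ hfδ x
  have h1 := MovLen.regular hdim t ht (fibIdeal h (s₀ x)) rfl hfin
  have h2 := MovLen.regular_toNat hdim t ht (fibIdeal h (s₀ x)) rfl hfin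
  refine ⟨h1.1, h1.2.2.1, ?_⟩
  rw [hI, hlen, h2]
  simp_rw [hlen]

omit [Field K] in
/-- The ideal of the closure of `ω` at `sect_0 x`, pulled back to `O_{X,x}`. -/
theorem map_stalkIdeal_eq (hs₀ : s₀ ≫ Ω.ι = P1.sect X 0) {ω : (Ω : Scheme.{u})} {x : X}
    (hω : ω ⤳ s₀ x) :
    (IntMult.stalkIdeal (IntMult.ptIdeal (Ω.ι ω)) (P1.sect X 0 x)).map
        ((P1.sect X 0).stalkMap x).hom =
      (RingHom.ker (Cyc.specMap (s₀ x) ω hω)).map (s₀.stalkMap x).hom := by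
  have key : ∀ g : X ⟶ CohB1.ProjSpaceOver 1 X, s₀ ≫ Ω.ι = g →
      (IntMult.stalkIdeal (IntMult.ptIdeal (Ω.ι ω)) (g x)).map (g.stalkMap x).hom =
      (RingHom.ker (Cyc.specMap (s₀ x) ω hω)).map (s₀.stalkMap x).hom := by
    rintro _ rfl
    have h1 : IntMult.stalkIdeal (IntMult.ptIdeal (Ω.ι ω)) ((s₀ ≫ Ω.ι) x) =
        RingHom.ker (Cyc.specMap (Ω.ι (s₀ x)) (Ω.ι ω) (hω.map Ω.ι.continuous)) :=
      StalkIdeal.stalkIdeal_ptIdeal (hω.map Ω.ι.continuous)
    have h2 : (s₀ ≫ Ω.ι).stalkMap x = Ω.ι.stalkMap (s₀ x) ≫ s₀.stalkMap x :=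
      Scheme.Hom.stalkMap_comp _ _ _
    rw [h1, ← map_ker Ω.ι hω, Ideal.map_map, ← CommRingCat.hom_comp, ← h2]
    rfl
  exact key _ hs₀

/-- (c2) **The local length formula.** -/
theorem length_formula [IsIntegral X] (p : X ⟶ Spec (CommRingCat.of K)) [Smooth p]
    (hδ : Cyc.DeltaCompat p δ (fun _ => 0)) (hn : δ (genericPoint X) = n)
    (hP : Cyc.DeltaCompat (CohB1.ProjSpaceOver.toBase 1 X) δP δ)
    (pZ : Z ⟶ Spec (CommRingCat.of K)) [Smooth pZ] [IsIntegral Z]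
    (hZ : Cyc.DeltaCompat pZ δZ (fun _ => 0)) (hZn : δZ (genericPoint Z) = n)
    (hs₀ : s₀ ≫ Ω.ι = P1.sect X 0) (hfδ : ∀ x, δZ ((s₀ ≫ h) x) = δ x) (x : X) :
    {ω : (Ω : Scheme.{u}) | ω ⤳ s₀ x ∧ h ω = h (s₀ x) ∧ δP (Ω.ι ω) = δ x + 1}.Finite ∧
    (Module.length (X.presheaf.stalk x) (X.presheaf.stalk x ⧸ fibIdeal (s₀ ≫ h) x)).toNat =
      ∑ᶠ ω ∈ {ω : (Ω : Scheme.{u}) | ω ⤳ s₀ x ∧ h ω = h (s₀ x) ∧ δP (Ω.ι ω) = δ x + 1},
        (Module.length ((Ω : Scheme.{u}).presheaf.stalk ω)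
          ((Ω : Scheme.{u}).presheaf.stalk ω ⧸ fibIdeal h ω)).toNat *
        (Module.length (X.presheaf.stalk x) (X.presheaf.stalk x ⧸
          (IntMult.stalkIdeal (IntMult.ptIdeal (Ω.ι ω)) (P1.sect X 0 x)).map
            ((P1.sect X 0).stalkMap x).hom)).toNat := by
  obtain ⟨hfin, hdim, hsum⟩ := minimalPrimes_facts p hδ hn hP pZ hZ hZn hs₀ hfδ x
  have hsetP := isSetup_P p hδ hP
  have hcΩ : Cyc.DeltaCompat Ω.ι (fun ω => δP (Ω.ι ω)) δP := by
    rw [deltaCompat_iff]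
    intro ω
    refine ⟨0, ?_, by simp⟩
    rw [rtd_eq_zero_of_isPreimmersion]
    simp
  have hsetΩ : Cyc.IsSetup (Ω : Scheme.{u}) (fun ω => δP (Ω.ι ω)) :=
    CycB.SetupLft.isSetup_of_deltaCompat Ω.ι hsetP hcΩ
  have hδx : δP (Ω.ι (s₀ x)) = δ x := by
    rw [← Scheme.Hom.comp_apply, hs₀, delta_sect hP]
  have hS : {ω : (Ω : Scheme.{u}) | ω ⤳ s₀ x ∧ h ω = h (s₀ x) ∧ δP (Ω.ι ω) = δ x + 1} =
      {ω : (Ω : Scheme.{u}) | ω ⤳ s₀ x ∧ h ω = h (s₀ x) ∧
        δP (Ω.ι ω) = δP (Ω.ι (s₀ x)) + 1} := by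
    rw [hδx]
  refine ⟨?_, ?_⟩
  · rw [hS]
    exact finite_generizations h hsetΩ.2.2 (s₀ x) hdim hfin
  rw [hsum, hS]
  refine finsum_mem_eq_of_bijOn
    (s := {q : PrimeSpectrum ((Ω : Scheme.{u}).presheaf.stalk (s₀ x)) |
      q.asIdeal ∈ (fibIdeal h (s₀ x)).minimalPrimes}) ptOf ⟨?_, ?_, ?_⟩ ?_
  · intro q hq
    have e : RingHom.ker (Cyc.specMap (s₀ x) (ptOf q) (ptOf_specializes q)) = q.asIdeal := by
      rw [← primeOf_asIdeal, primeOf_ptOf]
    refine ⟨ptOf_specializes q, (ker_mem_minimalPrimes_iff h hsetΩ.2.2 (s₀ x) hdim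
      (ptOf_specializes q)).1 ?_⟩
    rw [e]
    exact hq
  · exact (ptOf_injective (s₀ x)).injOn
  · rintro ω ⟨h1, h2⟩
    refine ⟨primeOf h1, ?_, ptOf_primeOf h1⟩
    change (primeOf h1).asIdeal ∈ (fibIdeal h (s₀ x)).minimalPrimes
    rw [primeOf_asIdeal]
    exact (ker_mem_minimalPrimes_iff h hsetΩ.2.2 (s₀ x) hdim h1).2 h2
  · intro q hq
    have e : RingHom.ker (Cyc.specMap (s₀ x) (ptOf q) (ptOf_specializes q)) = q.asIdeal := by
      rw [← primeOf_asIdeal, primeOf_ptOf]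
    have h2 := (ker_mem_minimalPrimes_iff h hsetΩ.2.2 (s₀ x) hdim
      (ptOf_specializes q)).1 (by rw [e]; exact hq)
    rw [length_localization h (ptOf_specializes q) h2.1 q.asIdeal e,
      map_stalkIdeal_eq hs₀ (ptOf_specializes q), e]

/-- (c5) The index set is finite. -/
theorem finite_index [IsIntegral X] (p : X ⟶ Spec (CommRingCat.of K)) [Smooth p]
    (hδ : Cyc.DeltaCompat p δ (fun _ => 0)) (hn : δ (genericPoint X) = n)
    (hP : Cyc.DeltaCompat (CohB1.ProjSpaceOver.toBase 1 X) δP δ)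
    (pZ : Z ⟶ Spec (CommRingCat.of K)) [Smooth pZ] [IsIntegral Z]
    (hZ : Cyc.DeltaCompat pZ δZ (fun _ => 0)) (hZn : δZ (genericPoint Z) = n)
    (hs₀ : s₀ ≫ Ω.ι = P1.sect X 0) (hfδ : ∀ x, δZ ((s₀ ≫ h) x) = δ x)
    (y : Z) (hfin : ((s₀ ≫ h) ⁻¹' {y}).Finite) :
    {ω : (Ω : Scheme.{u}) | h ω = y ∧ δP (Ω.ι ω) = δZ y + 1 ∧
      ∃ x : X, (s₀ ≫ h) x = y ∧ ω ⤳ s₀ x}.Finite := by
  refine (hfin.biUnion fun x _ =>
    (length_formula p hδ hn hP pZ hZ hZn hs₀ hfδ x).1).subset ?_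
  rintro ω ⟨h1, h2, x, h3, h4⟩
  refine Set.mem_biUnion (x := x) h3 ⟨h4, ?_, ?_⟩
  · rw [h1, ← h3, Scheme.Hom.comp_apply]
  · rw [h2, ← hfδ, h3]

end Moving

end Groth.Agent.CycA.MovGeo
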