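import Groth.Agent.CycA.MovCycCore
import Groth.Agent.CycA.MovGeo

/-!
# The moving lemma from a morphism: `moves_of_hom`
-/

set_option autoImplicit false
universe u

open AlgebraicGeometry CategoryTheory CategoryTheory.Limits TopologicalSpace IsLocalRing
open Groth.Agent.CycB.LocQuot Groth.Agent.CycB.PtClosure

namespace Groth.Agent.CycA.MovCyc

open MovCycLoc MovCycCore

theorem ker_of_comp {A B C : Type*} [CommRing A] [CommRing B] [CommRing C] (α : A →+* B)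
    (β : B →+* C) (hα : Function.Surjective α) (t : A)
    (h : RingHom.ker (β.comp α) = Ideal.span {t}) : RingHom.ker β = Ideal.span {α t} := by
  rw [← Set.image_singleton, ← Ideal.map_span, ← h, ← RingHom.comap_ker,
    Ideal.map_comap_of_surjective _ hα]

theorem exists_ker_stalkMap {X P : Scheme.{u}} {Ω : P.Opens} (σ : X ⟶ (Ω : Scheme.{u}))
    (g : X ⟶ P) (hg : σ ≫ Ω.ι = g) (x : X)
    (h : ∃ t, RingHom.ker (g.stalkMap x).hom = Ideal.span {t}) :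
    ∃ t, RingHom.ker (σ.stalkMap x).hom = Ideal.span {t} := by
  subst hg
  obtain ⟨t, ht⟩ := h
  rw [Scheme.Hom.stalkMap_comp] at ht
  exact ⟨_, ker_of_comp (Ω.ι.stalkMap (σ x)).hom (σ.stalkMap x).hom
    (ConcreteCategory.bijective_of_isIso (Ω.ι.stalkMap (σ x))).2 t ht⟩

theorem moves_of_hom {K : Type u} [Field K] [IsAlgClosed K] {X : Scheme.{u}}
    (p : X ⟶ Spec (CommRingCat.of K)) [Smooth p] [IsSeparated p] [QuasiCompact p] [IsIntegral X]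
    (δ : X → ℤ) (hX : Cyc.IsSetup X δ) (hδ : Cyc.DeltaCompat p δ (fun _ => 0)) (n : ℤ)
    (hn : δ (genericPoint X) = n) (δP : ↥(CohB1.ProjSpaceOver 1 X) → ℤ)
    (hP : Cyc.DeltaCompat (CohB1.ProjSpaceOver.toBase 1 X) δP δ) {Z : Scheme.{u}}
    (pZ : Z ⟶ Spec (CommRingCat.of K)) [Smooth pZ] [IsIntegral Z] (δZ : Z → ℤ)
    (hZ : Cyc.DeltaCompat pZ δZ (fun _ => 0)) (hZn : δZ (genericPoint Z) = n)
    (Ω : (CohB1.ProjSpaceOver 1 X).Opens) (h : (Ω : Scheme.{u}) ⟶ Z)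
    (hh : h ≫ pZ = Ω.ι ≫ CohB1.ProjSpaceOver.toBase 1 X ≫ p)
    (s₀ s₁ : X ⟶ (Ω : Scheme.{u})) (hs₀ : s₀ ≫ Ω.ι = P1.sect X 0) (hs₁ : s₁ ≫ Ω.ι = P1.sect X 1)
    (hfδ : ∀ x, δZ ((s₀ ≫ h) x) = δ x) (hfin : ∀ z, ((s₀ ≫ h) ⁻¹' {z}).Finite)
    (η : X) (hη : δ η < n)
    (hunr : (IsLocalRing.maximalIdeal (Z.presheaf.stalk ((s₀ ≫ h) η))).map
      ((s₀ ≫ h).stalkMap η).hom = IsLocalRing.maximalIdeal (X.presheaf.stalk η)) (T : Set X)
    (hb : ∀ x, (s₀ ≫ h) x = (s₀ ≫ h) η → x ≠ η → ∀ τ ∈ T, ∀ ζ, x ⤳ ζ → τ ⤳ ζ →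
      δ ζ ≤ δ η + δ τ - n ∨ ∃ ζ', η ⤳ ζ' ∧ τ ⤳ ζ' ∧ δ ζ < δ ζ')
    (hinf : ∀ x, (s₀ ≫ h) η ⤳ (s₁ ≫ h) x → ∀ τ ∈ T, ∀ ζ, x ⤳ ζ → τ ⤳ ζ →
      δ ζ ≤ δ η + δ τ - n) : MovLemmaM.Moves p δ n δP η T := by
  have hXN : IsLocallyNoetherian X := hX.1
  have hqc : CompactSpace X := QuasiCompact.compactSpace_of_compactSpace p
  have : IsNoetherian X := {}
  have : NoetherianSpace X := inferInstance
  have hsetZ : Cyc.IsSetup Z δZ := SetupField.isSetup_of_field pZ hZ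
  have hsetP := CycB.SetupLft.isSetup_of_deltaCompat (CohB1.ProjSpaceOver.toBase 1 X) hX hP
  have hΩc : Cyc.DeltaCompat Ω.ι (fun w => δP (Ω.ι w)) δP := by
    rw [CycB.RelDim.deltaCompat_iff]
    exact fun w => ⟨0, by rw [CycB.RelDim.rtd_eq_zero_of_isPreimmersion]; rfl, by simp⟩
  have hsetΩ := CycB.SetupLft.isSetup_of_deltaCompat Ω.ι hsetP hΩc
  have hsect : ∀ (i : Fin (1 + 1)) (x : X), δP (P1.sect X i x) = δ x := fun i x =>
    MovGeo.delta_sect hP i x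
  have hregZ : ∀ z : Z, IsRegularLocalRing (Z.presheaf.stalk z) :=
    SerreGeom.isRegularLocalRing_stalk pZ
  have hregΩ : ∀ w : (Ω : Scheme.{u}), IsRegularLocalRing ((Ω : Scheme.{u}).presheaf.stalk w) :=
    SerreGeom.isRegularLocalRing_stalk (Ω.ι ≫ CohB1.ProjSpaceOver.toBase 1 X ≫ p)
  have hcf : ∀ x, cf (s₀ ≫ h) x ≠ ⊤ := fun x => MovGeo.length_ne_top hX hfδ x
  refine MovCycCore.moves_core p hsetZ.2.2 hsect hs₀ hs₁ hfδ (fun x => ?_) hcf η (hfin _) hunr T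
    hb hinf
  have hcl : IsClosedImmersion s₀ := by
    have : IsClosedImmersion (s₀ ≫ Ω.ι) := by
      rw [hs₀]; infer_instance
    exact IsClosedImmersion.of_comp s₀ Ω.ι
  have hsurj : Function.Surjective (s₀.stalkMap x).hom := s₀.stalkMap_surjective x
  obtain ⟨t, ht⟩ : ∃ t, RingHom.ker (s₀.stalkMap x).hom = Ideal.span {t} := by
    obtain ⟨t, -, ht⟩ := P1Sect.exists_ker_stalkMap_sect (X := X) 0 x
    exact exists_ker_stalkMap s₀ _ hs₀ x ⟨t, ht⟩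
  exact local_formula s₀ h hsetΩ.2.2 x
    (MovGeo.ringKrullDim_eq p hδ hn hP hsetZ.2.2 hZn hs₀ hfδ x) hsurj t ht (hcf x)

end Groth.Agent.CycA.MovCyc
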