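import Groth.Agent.CycA.MovLen
import Groth.Agent.CycA.MovFib
import Groth.Agent.CycA.StalkIdeal
import Groth.Agent.CycB.StalkLen

/-!
# The local length formula for the moving lemma, in terms of points
-/

set_option autoImplicit false
universe u

open AlgebraicGeometry CategoryTheory TopologicalSpace IsLocalRing
open Groth.Agent.CycB.LocQuot

namespace Groth.Agent.CycA.MovCycLoc

section General

variable {X Y : Scheme.{u}} (f : X ⟶ Y)

/-- Preimage of the prime of a generization. -/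
theorem comap_ker_specMap {x ξ : X} (hx : ξ ⤳ x) :
    (RingHom.ker (Cyc.specMap x ξ hx)).comap (f.stalkMap x).hom =
      RingHom.ker (Cyc.specMap (f x) (f ξ) (hx.map f.continuous)) := by
  ext a
  rw [Ideal.mem_comap, mem_ker_specMap_iff, mem_ker_specMap_iff]
  have h1 := congrArg (fun φ => φ.hom a) (f.stalkSpecializes_stalkMap ξ x hx)
  simp only [CommRingCat.hom_comp, RingHom.comp_apply] at h1
  rw [← h1]
  exact not_congr (isUnit_map_iff (f.stalkMap ξ).hom _)

/-- `m_{f x} O_{X,x} ⊆ 𝔭_ξ` iff `f ξ = f x`. -/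
theorem map_maximalIdeal_le_iff {x ξ : X} (hx : ξ ⤳ x) :
    (maximalIdeal (Y.presheaf.stalk (f x))).map (f.stalkMap x).hom ≤
      RingHom.ker (Cyc.specMap x ξ hx) ↔ f ξ = f x := by
  rw [Ideal.map_le_iff_le_comap, comap_ker_specMap, ← CycB.LocQuot.ker_refl,
    CycB.LocQuot.ker_le_iff]
  constructor
  · intro h
    exact ((hx.map f.continuous).antisymm h).eq
  · intro h
    rw [h]

theorem map_stalkSpecializes_maximalIdeal {y y' : Y} (h : y' ⤳ y) (e : y' = y) :
    (maximalIdeal (Y.presheaf.stalk y)).map (Y.presheaf.stalkSpecializes h).hom =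
      maximalIdeal (Y.presheaf.stalk y') := by
  subst e
  rw [TopCat.Presheaf.stalkSpecializes_refl]
  exact Ideal.map_id _

/-- The ideal `m_{f x} O_{X,x}` localizes to `m_{f ξ} O_{X,ξ}` if `f ξ = f x`. -/
theorem map_map_stalkSpecializes {x ξ : X} (hx : ξ ⤳ x) (e : f ξ = f x) :
    ((maximalIdeal (Y.presheaf.stalk (f x))).map (f.stalkMap x).hom).map
      (X.presheaf.stalkSpecializes hx).hom =
      (maximalIdeal (Y.presheaf.stalk (f ξ))).map (f.stalkMap ξ).hom := by
  rw [Ideal.map_map, ← CommRingCat.hom_comp, ← f.stalkSpecializes_stalkMap ξ x hx,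
    CommRingCat.hom_comp, ← Ideal.map_map,
    map_stalkSpecializes_maximalIdeal (f.base.hom.map_specializes hx) e]

/-- The multiplicity at `ω` of the fibre of `f` through `ω`. -/
noncomputable def cf (ω : X) : ℕ∞ :=
  Module.length (X.presheaf.stalk ω) (X.presheaf.stalk ω ⧸
    (maximalIdeal (Y.presheaf.stalk (f ω))).map (f.stalkMap ω).hom)

theorem length_loc {x ξ : X} (hx : ξ ⤳ x) (e : f ξ = f x) :
    Module.length (Localization.AtPrime (primeOf hx).asIdeal)
      (Localization.AtPrime (primeOf hx).asIdeal ⧸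
        ((maximalIdeal (Y.presheaf.stalk (f x))).map (f.stalkMap x).hom).map
          (algebraMap _ (Localization.AtPrime (primeOf hx).asIdeal))) = cf f ξ := by
  let := CycB.StalkLoc.specAlg hx
  have := CycB.StalkLen.isLocalization_primeOf hx
  rw [← MovLen.length_loc_quotient (primeOf hx).asIdeal
    (Localization.AtPrime (primeOf hx).asIdeal),
    MovLen.length_loc_quotient (primeOf hx).asIdeal (X.presheaf.stalk ξ), cf]
  change Module.length (X.presheaf.stalk ξ) (X.presheaf.stalk ξ ⧸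
    ((maximalIdeal (Y.presheaf.stalk (f x))).map (f.stalkMap x).hom).map
      (X.presheaf.stalkSpecializes hx).hom) = _
  rw [map_map_stalkSpecializes f hx e]

variable {δ : X → ℤ}

theorem mem_minimalPrimes_iff (hδ : Cyc.IsDimFun X δ) {x : X}
    (hmin : ∀ q ∈ ((maximalIdeal (Y.presheaf.stalk (f x))).map (f.stalkMap x).hom).minimalPrimes,
      ringKrullDim (X.presheaf.stalk x ⧸ q) = 1) {ξ : X} (hx : ξ ⤳ x) :
    (primeOf hx).asIdeal ∈
      ((maximalIdeal (Y.presheaf.stalk (f x))).map (f.stalkMap x).hom).minimalPrimes ↔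
      f ξ = f x ∧ δ ξ = δ x + 1 := by
  have key : ∀ (ζ : X) (hz : ζ ⤳ x), (primeOf hz).asIdeal ∈
      ((maximalIdeal (Y.presheaf.stalk (f x))).map (f.stalkMap x).hom).minimalPrimes →
      f ζ = f x ∧ δ ζ = δ x + 1 := by
    intro ζ hz h
    have h1 := h.1.2
    rw [primeOf_asIdeal, map_maximalIdeal_le_iff] at h1
    refine ⟨h1, ?_⟩
    have h2 := hmin _ h
    rw [primeOf_asIdeal] at h2
    have h3 := ringKrullDim_locQuot hδ hz
    rw [h2] at h3
    have h4 : (δ ζ - δ x).toNat = 1 := by exact_mod_cast h3.symm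
    omega
  refine ⟨key ξ hx, fun ⟨h1, h2⟩ => ?_⟩
  have hle := (map_maximalIdeal_le_iff f hx).2 h1
  rw [← primeOf_asIdeal] at hle
  obtain ⟨q, hq, hqle⟩ := Ideal.exists_minimalPrimes_le hle
  have : q.IsPrime := hq.1.1
  obtain ⟨ζ, hz, e⟩ := exists_eq_ker q
  rw [← primeOf_asIdeal] at e
  subst e
  have h3 := key ζ hz hq
  have h4 : ζ ⤳ ξ := by
    rw [← primeOf_le_iff hz hx]
    exact hqle
  have h5 : ξ = ζ := (eq_of_specializes_of_eq hδ h4 (by omega)).symm
  subst h5
  exact hq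

end General

section Local

variable {X Ω Z : Scheme.{u}} (σ : X ⟶ Ω) (f : Ω ⟶ Z)

/-- The multiplicity at `x` of the pullback to `X` of the closure of `ω`. -/
noncomputable def mf (x : X) (ω : Ω) : ℕ∞ :=
  Module.length (X.presheaf.stalk x) (X.presheaf.stalk x ⧸
    (IntMult.stalkIdeal (IntMult.ptIdeal ω) (σ x)).map (σ.stalkMap x).hom)

/-- **Local formula**: the multiplicity of the fibre of `σ ≫ f` at `x` is the sum of the
multiplicities of the fibre of `f` along the generizations `ω` of `σ x`, times the multiplicities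
of the pullbacks of the closures of the points `ω`. -/
theorem local_formula {δ : Ω → ℤ} (hδ : Cyc.IsDimFun Ω δ) (x : X)
    [IsRegularLocalRing (Ω.presheaf.stalk (σ x))] [IsRegularLocalRing (Z.presheaf.stalk (f (σ x)))]
    (hdim : ringKrullDim (Ω.presheaf.stalk (σ x)) =
      ringKrullDim (Z.presheaf.stalk (f (σ x))) + 1)
    (hsurj : Function.Surjective (σ.stalkMap x).hom) (t : Ω.presheaf.stalk (σ x))
    (ht : RingHom.ker (σ.stalkMap x).hom = Ideal.span {t})
    (hfin : cf (σ ≫ f) x ≠ ⊤) :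
    {ω : Ω | ω ⤳ σ x ∧ f ω = f (σ x) ∧ δ ω = δ (σ x) + 1}.Finite ∧
    (cf (σ ≫ f) x).toNat =
      ∑ᶠ ω ∈ {ω : Ω | ω ⤳ σ x ∧ f ω = f (σ x) ∧ δ ω = δ (σ x) + 1},
        (cf f ω).toNat * (mf σ x ω).toNat := by
  let : Algebra (Z.presheaf.stalk (f (σ x))) (Ω.presheaf.stalk (σ x)) :=
    (f.stalkMap (σ x)).hom.toAlgebra
  have : IsLocalHom (algebraMap (Z.presheaf.stalk (f (σ x))) (Ω.presheaf.stalk (σ x))) :=
    inferInstanceAs (IsLocalHom (f.stalkMap (σ x)).hom)
  have htm : t ∈ maximalIdeal (Ω.presheaf.stalk (σ x)) := by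
    rw [IsLocalRing.mem_maximalIdeal, mem_nonunits_iff]
    intro h
    have h1 := h.map (σ.stalkMap x).hom
    have h2 : (σ.stalkMap x).hom t = 0 := by
      rw [← RingHom.mem_ker, ht]
      exact Ideal.mem_span_singleton_self t
    rw [h2] at h1
    exact not_isUnit_zero h1
  let I := (maximalIdeal (Z.presheaf.stalk (f (σ x)))).map (f.stalkMap (σ x)).hom
  have hcf : cf (σ ≫ f) x = Module.length (Ω.presheaf.stalk (σ x))
      (Ω.presheaf.stalk (σ x) ⧸ (I ⊔ Ideal.span {t})) := by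
    rw [← ht, ← MovFib.length_map_eq _ hsurj I, cf]
    have h1 : (maximalIdeal (Z.presheaf.stalk ((σ ≫ f) x))).map ((σ ≫ f).stalkMap x).hom =
        I.map (σ.stalkMap x).hom := by
      rw [Scheme.Hom.stalkMap_comp]
      exact (Ideal.map_map (f.stalkMap (σ x)).hom (σ.stalkMap x).hom).symm
    rw [h1]
  rw [hcf] at hfin ⊢
  obtain ⟨hIfin, -, hd1, -, -⟩ := MovLen.regular hdim t htm I rfl hfin
  have hformula := MovLen.regular_toNat hdim t htm I rfl hfin
  have hmem : ∀ (ω : Ω) (h : ω ⤳ σ x), (primeOf h).asIdeal ∈ I.minimalPrimes ↔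
      f ω = f (σ x) ∧ δ ω = δ (σ x) + 1 := fun ω h => mem_minimalPrimes_iff f hδ hd1 h
  have hbij : Set.BijOn (ptOf : PrimeSpectrum (Ω.presheaf.stalk (σ x)) → Ω)
      {p | p.asIdeal ∈ I.minimalPrimes}
      {ω : Ω | ω ⤳ σ x ∧ f ω = f (σ x) ∧ δ ω = δ (σ x) + 1} := by
    refine ⟨fun p hp => ?_, (ptOf_injective _).injOn, fun ω hω => ?_⟩
    · refine ⟨ptOf_specializes p, (hmem _ (ptOf_specializes p)).1 ?_⟩
      rw [primeOf_ptOf]
      exact hp
    · exact ⟨primeOf hω.1, (hmem ω hω.1).2 hω.2, ptOf_primeOf hω.1⟩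
  have hsfin : {p : PrimeSpectrum (Ω.presheaf.stalk (σ x)) |
      p.asIdeal ∈ I.minimalPrimes}.Finite :=
    Set.Finite.of_finite_image (f := PrimeSpectrum.asIdeal)
      (hIfin.subset (by rintro _ ⟨p, hp, rfl⟩; exact hp))
      (fun p _ q _ h => PrimeSpectrum.ext h)
  refine ⟨hbij.finite_iff_finite.1 hsfin, ?_⟩
  rw [hformula]
  refine finsum_mem_eq_of_bijOn _ hbij ?_
  intro p hp
  obtain ⟨ω, hω, rfl⟩ : ∃ (ω : Ω) (hω : ω ⤳ σ x), p = primeOf hω :=
    ⟨ptOf p, ptOf_specializes p, (primeOf_ptOf p).symm⟩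
  have h1 := (hmem ω hω).1 hp
  have h2 := length_loc f hω h1.1
  rw [ptOf_primeOf]
  congr 1
  · rw [← h2]
  · rw [mf, MovFib.length_map_eq _ hsurj, ht, StalkIdeal.stalkIdeal_ptIdeal hω, primeOf_asIdeal]

end Local

end Groth.Agent.CycA.MovCycLoc
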