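import Groth.Agent.CycA.MovLemmaM
import Groth.Agent.CycA.MovCycLoc
import Groth.Agent.CycA.MovDom
import Groth.Agent.CycA.MovFin
import Groth.Agent.CycA.SerreGeom
import Groth.Agent.CycA.P1Sect
import Groth.Agent.CycB.PtClosure

/-!
# The cycle construction of the moving lemma
-/

set_option autoImplicit false
universe u

open AlgebraicGeometry CategoryTheory CategoryTheory.Limits TopologicalSpace IsLocalRing
open Groth.Agent.CycB.LocQuot Groth.Agent.CycB.PtClosure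

namespace Groth.Agent.CycA.MovCycCore

open MovCycLoc

section Transfer

variable {X P : Scheme.{u}} {Ω : P.Opens} (σ : X ⟶ (Ω : Scheme.{u}))

theorem map_stalkIdeal_comp_ι (x : X) (ω : (Ω : Scheme.{u})) :
    (IntMult.stalkIdeal (IntMult.ptIdeal (Ω.ι ω)) ((σ ≫ Ω.ι) x)).map
      ((σ ≫ Ω.ι).stalkMap x).hom =
    (IntMult.stalkIdeal (IntMult.ptIdeal ω) (σ x)).map (σ.stalkMap x).hom := by
  have e1 : (IntMult.stalkIdeal (IntMult.ptIdeal (Ω.ι ω)) ((σ ≫ Ω.ι) x)).map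
      ((σ ≫ Ω.ι).stalkMap x).hom =
      ((IntMult.stalkIdeal (IntMult.ptIdeal (Ω.ι ω)) (Ω.ι (σ x))).map
        (Ω.ι.stalkMap (σ x)).hom).map (σ.stalkMap x).hom := by
    rw [Scheme.Hom.stalkMap_comp]
    exact (Ideal.map_map (Ω.ι.stalkMap (σ x)).hom (σ.stalkMap x).hom).symm
  rw [e1]
  by_cases h : ω ⤳ σ x
  · have h' : Ω.ι ω ⤳ Ω.ι (σ x) := h.map Ω.ι.continuous
    rw [StalkIdeal.stalkIdeal_ptIdeal h', StalkIdeal.stalkIdeal_ptIdeal h,
      ← comap_ker_specMap Ω.ι h, Ideal.map_comap_of_surjective]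
    exact (ConcreteCategory.bijective_of_isIso (Ω.ι.stalkMap (σ x))).2
  · have h' : ¬ Ω.ι ω ⤳ Ω.ι (σ x) := fun h' =>
      h (Ω.ι.isOpenEmbedding.isInducing.specializes_iff.1 h')
    rw [StalkIdeal.stalkIdeal_ptIdeal_eq_top h', StalkIdeal.stalkIdeal_ptIdeal_eq_top h,
      Ideal.map_top]

theorem subschemeFun_eq_mf (g : X ⟶ P) (hg : σ ≫ Ω.ι = g) (δ : X → ℤ) (s : ℤ) (x : X)
    (hx : δ x = s) (ω : (Ω : Scheme.{u})) :
    Cyc.subschemeFun δ s (pullback.snd (ptClι (Ω.ι ω)) g) x = ((mf σ x ω).toNat : ℤ) := by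
  subst hg
  rw [MovFib.subschemeFun_ptClι _ _ _ _ _ hx, mf, map_stalkIdeal_comp_ι]

theorem mf_eq_zero {x : X} {ω : (Ω : Scheme.{u})} (h : ¬ ω ⤳ σ x) : mf σ x ω = 0 := by
  rw [mf, StalkIdeal.stalkIdeal_ptIdeal_eq_top h, Ideal.map_top, Module.length_eq_zero_iff]
  exact Submodule.Quotient.subsingleton_iff.2 rfl

end Transfer

section Main

variable {K : Type u} [Field K] [IsAlgClosed K] {X : Scheme.{u}}
  (p : X ⟶ Spec (CommRingCat.of K)) {δ : X → ℤ} {n : ℤ}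
  {δP : ↥(CohB1.ProjSpaceOver 1 X) → ℤ} {Z : Scheme.{u}} {δZ : Z → ℤ}
  {Ω : (CohB1.ProjSpaceOver 1 X).Opens} {h : (Ω : Scheme.{u}) ⟶ Z} {s₀ s₁ : X ⟶ (Ω : Scheme.{u})}

theorem cf_ne_zero {X Y : Scheme.{u}} (f : X ⟶ Y) (x : X) : cf f x ≠ 0 := by
  intro h0
  rw [cf, Module.length_eq_zero_iff, Submodule.Quotient.subsingleton_iff] at h0
  have h1 : (maximalIdeal (Y.presheaf.stalk (f x))).map (f.stalkMap x).hom ≤
      maximalIdeal (X.presheaf.stalk x) := by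
    rw [Ideal.map_le_iff_le_comap, IsLocalRing.maximalIdeal_comap (f.stalkMap x).hom]
  exact (Ideal.IsPrime.ne_top' (I := maximalIdeal (X.presheaf.stalk x)))
    (top_le_iff.1 (h0 ▸ h1))

theorem cf_eq_one {X Y : Scheme.{u}} (f : X ⟶ Y) (x : X)
    (h : (maximalIdeal (Y.presheaf.stalk (f x))).map (f.stalkMap x).hom =
      maximalIdeal (X.presheaf.stalk x)) : cf f x = 1 := by
  rw [cf, h, Module.length_eq_one_iff, isSimpleModule_iff_isCoatom]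
  exact Ideal.isMaximal_def.1 (IsLocalRing.maximalIdeal.isMaximal _)

/-- The core of the construction, from the local formula. -/
theorem moves_core [NoetherianSpace X]
    (hZd : Cyc.IsDimFun Z δZ)
    (hsect : ∀ (i : Fin (1 + 1)) (x : X), δP (P1.sect X i x) = δ x)
    (hs₀ : s₀ ≫ Ω.ι = P1.sect X 0) (hs₁ : s₁ ≫ Ω.ι = P1.sect X 1)
    (hfδ : ∀ x, δZ ((s₀ ≫ h) x) = δ x)
    (hloc : ∀ x, {ω : (Ω : Scheme.{u}) | ω ⤳ s₀ x ∧ h ω = h (s₀ x) ∧
        δP (Ω.ι ω) = δP (Ω.ι (s₀ x)) + 1}.Finite ∧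
      (cf (s₀ ≫ h) x).toNat = ∑ᶠ ω ∈ {ω : (Ω : Scheme.{u}) | ω ⤳ s₀ x ∧ h ω = h (s₀ x) ∧
        δP (Ω.ι ω) = δP (Ω.ι (s₀ x)) + 1}, (cf h ω).toNat * (mf s₀ x ω).toNat)
    (hcf : ∀ x, cf (s₀ ≫ h) x ≠ ⊤) (η : X) (hfin : ((s₀ ≫ h) ⁻¹' {(s₀ ≫ h) η}).Finite)
    (hunr : (IsLocalRing.maximalIdeal (Z.presheaf.stalk ((s₀ ≫ h) η))).map
      ((s₀ ≫ h).stalkMap η).hom = IsLocalRing.maximalIdeal (X.presheaf.stalk η)) (T : Set X)
    (hb : ∀ x, (s₀ ≫ h) x = (s₀ ≫ h) η → x ≠ η → ∀ τ ∈ T, ∀ ζ, x ⤳ ζ → τ ⤳ ζ →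
      δ ζ ≤ δ η + δ τ - n ∨ ∃ ζ', η ⤳ ζ' ∧ τ ⤳ ζ' ∧ δ ζ < δ ζ')
    (hinf : ∀ x, (s₀ ≫ h) η ⤳ (s₁ ≫ h) x → ∀ τ ∈ T, ∀ ζ, x ⤳ ζ → τ ⤳ ζ →
      δ ζ ≤ δ η + δ τ - n) : MovLemmaM.Moves p δ n δP η T := by
  classical
  -- basic dimension facts
  have hδ₀ : ∀ x, δP (Ω.ι (s₀ x)) = δ x := by
    intro x
    rw [← Scheme.Hom.comp_apply, hs₀, hsect]
  set S : Set (Ω : Scheme.{u}) := {ω | h ω = (s₀ ≫ h) η ∧ δP (Ω.ι ω) = δ η + 1 ∧
    ∃ x, (s₀ ≫ h) x = (s₀ ≫ h) η ∧ ω ⤳ s₀ x} with hSdef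
  have hδη : ∀ x, (s₀ ≫ h) x = (s₀ ≫ h) η → δ x = δ η := by
    intro x hx
    rw [← hfδ x, hx, hfδ]
  have hSfin : S.Finite := by
    refine (hfin.biUnion fun x _ => (hloc x).1).subset ?_
    rintro ω ⟨h1, h2, x, h3, h4⟩
    refine Set.mem_biUnion (x := x) h3 ⟨h4, ?_, ?_⟩
    · rw [h1, ← h3]; rfl
    · rw [hδ₀, hδη x h3, h2]
  -- c3
  have hc3 : ∀ ω ∈ S, ∀ x, δ x = δ η → ω ⤳ s₀ x → (s₀ ≫ h) x = (s₀ ≫ h) η := by
    intro ω hω x hx hωx
    have h1 : (s₀ ≫ h) η ⤳ (s₀ ≫ h) x := by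
      rw [← hω.1]
      exact hωx.map h.continuous
    exact (eq_of_specializes_of_eq hZd h1 (by rw [hfδ, hfδ, hx])).symm
  -- c4
  have hc4 : ∀ ω ∈ S, Ω.ι ω ∉ Set.range (P1.sect X 0) := by
    rintro ω hω ⟨x', hx'⟩
    have h1 : ω = s₀ x' := by
      apply Ω.ι.isOpenEmbedding.injective
      rw [← hx', ← hs₀]; rfl
    have h2 := hω.1
    have h3 := hω.2.1
    rw [h1] at h2 h3
    rw [hδ₀] at h3
    have h4 := hδη x' h2
    omega
  obtain ⟨N, ⟨e⟩⟩ : ∃ N : ℕ, Nonempty (S ≃ Fin N) := by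
    have := hSfin.fintype
    exact ⟨_, ⟨Fintype.equivFin S⟩⟩
  let wt : Fin N → (Ω : Scheme.{u}) := fun k => (e.symm k).1
  have hwt : ∀ k, wt k ∈ S := fun k => (e.symm k).2
  let b : X → ℤ := fun x =>
    if (s₀ ≫ h) x = (s₀ ≫ h) η ∧ x ≠ η then ((cf (s₀ ≫ h) x).toNat : ℤ) else 0
  have hbne : ∀ x, b x ≠ 0 → (s₀ ≫ h) x = (s₀ ≫ h) η ∧ x ≠ η := by
    intro x hx
    by_contra hcon
    exact hx (if_neg hcon)
  have hbne' : ∀ x, (s₀ ≫ h) x = (s₀ ≫ h) η → x ≠ η → b x ≠ 0 := by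
    intro x h1 h2
    have : b x = ((cf (s₀ ≫ h) x).toNat : ℤ) := if_pos ⟨h1, h2⟩
    rw [this]
    have h3 : (cf (s₀ ≫ h) x).toNat ≠ 0 := by
      rw [Ne, ENat.toNat_eq_zero]
      rintro (h | h)
      · exact cf_ne_zero _ _ h
      · exact hcf x h
    exact_mod_cast h3
  have hsupp0 : ∀ ω ∈ S, ∀ x, Cyc.subschemeFun δ (δ η)
      (pullback.snd (ptClι (Ω.ι ω)) (P1.sect X 0)) x ≠ 0 →
      δ x = δ η ∧ (s₀ ≫ h) x = (s₀ ≫ h) η := by
    intro ω hω x hx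
    have h1 : δ x = δ η := by
      by_contra hcon
      exact hx (MovFib.subschemeFun_ptClι_of_ne _ _ _ _ _ hcon)
    refine ⟨h1, hc3 ω hω x h1 ?_⟩
    by_contra hcon
    apply hx
    rw [subschemeFun_eq_mf s₀ _ hs₀ _ _ _ h1, mf_eq_zero s₀ hcon]
    rfl
  refine ⟨N, fun k => ptCl (Ω.ι (wt k)), fun k => ptClι (Ω.ι (wt k)), fun k => inferInstance,
    fun k => inferInstance, fun k => ((cf h (wt k)).toNat : ℤ), b, ?_, ?_, ?_, ?_, ?_, ?_, ?_, ?_, ?_⟩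
  · intro k
    rw [ptClι_genericPoint]
    exact (hwt k).2.1
  · intro k U hU
    obtain ⟨x, hx1, hx2⟩ := (hwt k).2.2
    obtain ⟨z, hz⟩ : ∃ z : ptCl (Ω.ι (wt k)), ptClι (Ω.ι (wt k)) z = P1.sect X 0 x := by
      rw [exists_ptClι_eq_iff, ← hs₀]
      exact hx2.map Ω.ι.continuous
    obtain ⟨t, ht1, ht2⟩ := Scheme.Pullback.exists_preimage_pullback z x hz
    exact MovDom.dominates K p (ptClι (Ω.ι (wt k))) 0
      (by rw [ptClι_genericPoint]; exact hc4 _ (hwt k)) t U hU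
  · intro x
    by_cases hx : δ x = δ η
    · have e1 : ∑ k, ((cf h (wt k)).toNat : ℤ) * Cyc.subschemeFun δ (δ η)
          (pullback.snd (ptClι (Ω.ι (wt k))) (P1.sect X 0)) x =
          ((∑ k, (cf h (wt k)).toNat * (mf s₀ x (wt k)).toNat : ℕ) : ℤ) := by
        rw [Nat.cast_sum]
        refine Finset.sum_congr rfl fun k _ => ?_
        rw [subschemeFun_eq_mf s₀ _ hs₀ _ _ _ hx, Nat.cast_mul]
      have e2 : ∑ k, (cf h (wt k)).toNat * (mf s₀ x (wt k)).toNat =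
          ∑ᶠ ω ∈ S, (cf h ω).toNat * (mf s₀ x ω).toNat := by
        rw [finsum_mem_eq_finite_toFinset_sum _ hSfin]
        refine Finset.sum_bij (fun k _ => wt k) (fun k _ => ?_) (fun k _ l _ hkl => ?_)
          (fun ω hω => ?_) (fun k _ => rfl)
        · rw [Set.Finite.mem_toFinset]
          exact hwt k
        · exact e.symm.injective (Subtype.ext hkl)
        · rw [Set.Finite.mem_toFinset] at hω
          exact ⟨e ⟨ω, hω⟩, Finset.mem_univ _, by simp [wt]⟩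
      rw [e1, e2]
      by_cases hxy : (s₀ ≫ h) x = (s₀ ≫ h) η
      · have e3 : ∑ᶠ ω ∈ S, (cf h ω).toNat * (mf s₀ x ω).toNat = (cf (s₀ ≫ h) x).toNat := by
          rw [(hloc x).2]
          refine finsum_mem_inter_support_eq' _ _ _ fun ω hω => ?_
          have h1 : ω ⤳ s₀ x := by
            by_contra hcon
            rw [Function.mem_support, mf_eq_zero s₀ hcon] at hω
            exact hω (by simp)
          constructor
          · rintro ⟨h2, h3, -⟩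
            exact ⟨h1, h2.trans hxy.symm, by rw [hδ₀, hx, h3]⟩
          · rintro ⟨-, h2, h3⟩
            exact ⟨h2.trans hxy, by rw [h3, hδ₀, hx], x, hxy, h1⟩
        rw [e3]
        by_cases hxη : x = η
        · subst hxη
          rw [cf_eq_one _ _ hunr, Set.indicator_of_mem (Set.mem_singleton x)]
          have : b x = 0 := if_neg (fun h => h.2 rfl)
          rw [this]
          rfl
        · have h1 : b x = ((cf (s₀ ≫ h) x).toNat : ℤ) := if_pos ⟨hxy, hxη⟩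
          rw [h1, Set.indicator_of_notMem (by simpa using hxη), zero_add]
      · have h1 : b x = 0 := if_neg (fun h => hxy h.1)
        have h2 : x ≠ η := fun h => hxy (by rw [h])
        rw [h1, Set.indicator_of_notMem (by simpa using h2), add_zero, Nat.cast_eq_zero]
        refine finsum_mem_eq_zero_of_forall_eq_zero fun ω hω => ?_
        rw [mf_eq_zero s₀ (fun hcon => hxy (hc3 ω hω x hx hcon))]
        simp
    · have h1 : b x = 0 := if_neg (fun h => hx (hδη x h.1))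
      have h2 : x ≠ η := fun h => hx (by rw [h])
      rw [h1, Set.indicator_of_notMem (by simpa using h2), add_zero]
      refine Finset.sum_eq_zero fun k _ => ?_
      rw [MovFib.subschemeFun_ptClι_of_ne _ _ _ _ _ hx, mul_zero]
  · intro k x hx
    obtain ⟨h1, h2⟩ := hsupp0 _ (hwt k) x hx
    by_cases hxη : x = η
    · exact Or.inl hxη
    · exact Or.inr (hbne' x h2 hxη)
  · intro x hx
    obtain ⟨h1, h2⟩ := hbne x hx
    exact ⟨hδη x h1, hb x h1 h2⟩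
  · intro k x hx
    have h1 : Ω.ι (wt k) ⤳ P1.sect X 1 x := by
      by_contra hcon
      exact hx (MovFib.subschemeFun_ptClι_eq_zero _ _ _ _ _ hcon)
    have h2 : wt k ⤳ s₁ x := by
      rw [← hs₁] at h1
      exact Ω.ι.isOpenEmbedding.isInducing.specializes_iff.1 h1
    refine hinf x ?_
    rw [← (hwt k).1]
    exact h2.map h.continuous
  · refine hfin.subset ?_
    intro x hx
    exact (hbne x hx).1
  · intro k
    exact MovFin.finite_support_subschemeFun _ _ _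
  · intro k
    exact MovFin.finite_support_subschemeFun _ _ _

end Main

end Groth.Agent.CycA.MovCycCore
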