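import Groth.Agent.CycA.MovForms
import Groth.Agent.CycA.ProdDim
import Groth.Agent.CycB.TrdegAlg
import Groth.Agent.Ega4B.DimFT2
import Groth.Agent.VarietyB.AlgClosedTensor
import Mathlib.RingTheory.AlgebraicIndependent.TranscendenceBasis
import Mathlib.RingTheory.Localization.Away.Basic

/-!
# Dimension of the incidence locus of generic projections (ring form)

`eventually_double`: for finite type domains `R`, `S` over an algebraically closed field `K`, of transcendence
degrees `r`, `s`, and vectors `x : I → R`, `y : I → S`: for a generic `m`-tuple `ℓ` of linear forms, for all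
`K`-homomorphisms `φ : R → F`, `ψ : S → F` to a field and all `c ≠ 0` in `F` with `φ (ℓ j (x)) = c ψ (ℓ j (y))`
for all `j` but `φ x ≠ c ψ y`: `trdeg K[φ R, ψ S] + m ≤ r + s + 1`.
`eventually_pair`: the same for a given `m`-tuple `a : Fin m → R` and generic `ℓ` with
`φ (a j) = c ψ (ℓ j (y))`, `y` unimodular.
-/

set_option autoImplicit false
universe u
open Filter TensorProduct Groth.Agent.CycA.MovForms

namespace Groth.Agent.CycA.MovDouble

open Algebra Groth.Agent.CycB.TrdegAlg

section

variable {K : Type u} [Field K]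

/-- The transcendence degree of the image of a homomorphism to a field whose kernel has height `≥ m`. -/
theorem trdeg_range_add_le {C F : Type u} [CommRing C] [IsDomain C] [Algebra K C]
    [Algebra.FiniteType K C] [Field F] [Algebra K F] (D : ℕ) (hD : Algebra.trdeg K C ≤ D)
    (ρ : C →ₐ[K] F) (m : ℕ) (h : (m : ℕ∞) ≤ (RingHom.ker ρ).height) :
    ∃ t : ℕ, Algebra.trdeg K ρ.range = t ∧ t + m ≤ D := by
  have hp : (RingHom.ker ρ).IsPrime := RingHom.ker_isPrime ρ
  obtain ⟨a, n, ha, hn, han⟩ := Groth.Agent.Ega4B.DimFT2.exists_height_add_trdeg K C (RingHom.ker ρ)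
  have hnD : n ≤ D := by rw [hn] at hD; exact_mod_cast hD
  refine ⟨a, ?_, ?_⟩
  · rw [← ha]
    exact (Ideal.quotientKerEquivRange ρ).trdeg_eq.symm
  · have h1 : (m : ℕ∞) + a ≤ n := by rw [← han]; gcongr
    have h2 : m + a ≤ n := by exact_mod_cast h1
    omega

/-- A field generated by `ev` whose image under `χ` lies in `T` has transcendence degree at most that of `T`. -/
theorem trdeg_le_of_fracGen {A L F : Type u} [CommRing A] [Algebra K A] [Field L] [Algebra K L]
    [Field F] [Algebra K F] (ev : A →ₐ[K] L) (hev : FracGen (ev : A →+* L)) (χ : L →ₐ[K] F)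
    (T : Subalgebra K F) (hT : ∀ a, χ (ev a) ∈ T) : Algebra.trdeg K L ≤ Algebra.trdeg K T := by
  have h0 : Algebra.IsAlgebraic ev.range L := ⟨fun z => by
    obtain ⟨a, b, hb, hab⟩ := hev z
    let a' : ev.range := ⟨ev a, ⟨a, rfl⟩⟩
    let b' : ev.range := ⟨ev b, ⟨b, rfl⟩⟩
    refine ⟨Polynomial.C b' * Polynomial.X - Polynomial.C a', ?_, ?_⟩
    · intro h0
      have := congrArg (fun P => Polynomial.coeff P 1) h0
      simp only [Polynomial.coeff_sub, Polynomial.coeff_C_mul, Polynomial.coeff_X_one, mul_one,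
        Polynomial.coeff_C_succ, sub_zero, Polynomial.coeff_zero] at this
      apply hb
      exact congrArg (Subtype.val) this
    · rw [map_sub, map_mul, Polynomial.aeval_X, Polynomial.aeval_C, Polynomial.aeval_C]
      have h1 : algebraMap ev.range L b' = ev b := rfl
      have h2 : algebraMap ev.range L a' = ev a := rfl
      have h3 : z * ev b = ev a := hab
      rw [h1, h2, ← h3, mul_comm, sub_self]⟩
  have h1 := trdeg_add_eq K ev.range (A := L)
  rw [trdeg_eq_zero (R := ev.range) (A := L), add_zero] at h1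
  rw [← h1]
  let g : ev.range →ₐ[K] T :=
    AlgHom.codRestrict (χ.comp ev.range.val) T (by
      rintro ⟨_, ⟨a, rfl⟩⟩
      exact hT a)
  refine trdeg_le_of_injective g ?_
  intro a b hab
  have : χ a.1 = χ b.1 := congrArg Subtype.val hab
  exact Subtype.ext (χ.injective this)

theorem trdeg_localization_le {A B : Type u} [CommRing A] [IsDomain A] [Algebra K A] [CommRing B]
    [IsDomain B] [Algebra K B] [Algebra A B] [IsScalarTower K A B] (M : Submonoid A)
    (hM : M ≤ nonZeroDivisors A) [IsLocalization M B] :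
    Algebra.trdeg K B ≤ Algebra.trdeg K A := by
  have h0 : Algebra.IsAlgebraic A B := IsLocalization.isAlgebraic B M
  have : FaithfulSMul A B := (faithfulSMul_iff_algebraMap_injective _ _).mpr (IsLocalization.injective B hM)
  have : FaithfulSMul K A := (faithfulSMul_iff_algebraMap_injective _ _).mpr (algebraMap K A).injective
  have h1 := trdeg_add_eq K A (A := B)
  rw [trdeg_eq_zero (R := A) (A := B), add_zero] at h1
  rw [h1]

theorem trdeg_polynomial (A : Type u) [CommRing A] [IsDomain A] [Algebra K A] :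
    Algebra.trdeg K (Polynomial A) = Algebra.trdeg K A + 1 := by
  have : FaithfulSMul K A := (faithfulSMul_iff_algebraMap_injective _ _).mpr (algebraMap K A).injective
  have : FaithfulSMul A (Polynomial A) :=
    (faithfulSMul_iff_algebraMap_injective _ _).mpr (Polynomial.C_injective)
  have h1 := trdeg_add_eq K A (A := Polynomial A)
  rw [Polynomial.trdeg_of_isDomain] at h1
  exact h1.symm

theorem trdeg_tensorProduct [IsAlgClosed K] (R S : Type u) [CommRing R] [IsDomain R] [Algebra K R]
    [Algebra.FiniteType K R] [CommRing S] [IsDomain S] [Algebra K S] [Algebra.FiniteType K S]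
    (r s : ℕ) (hr : Algebra.trdeg K R = r) (hs : Algebra.trdeg K S = s) :
    Algebra.trdeg K (R ⊗[K] S) = (r + s : ℕ) := by
  have hdom : IsDomain (R ⊗[K] S) := VarietyB.AlgClosedTensor.isDomain_tensorProduct K R S
  have hft : Algebra.FiniteType K (R ⊗[K] S) := Algebra.FiniteType.trans (S := R) inferInstance inferInstance
  obtain ⟨n, m, h1, h2, h3⟩ := Groth.Agent.CycA.ProdDim.exists_ringKrullDim_tensorProduct K R S
  obtain ⟨r', hr', hr2⟩ := Groth.Agent.Ega4B.DimFT.exists_dim K R
  obtain ⟨s', hs', hs2⟩ := Groth.Agent.Ega4B.DimFT.exists_dim K S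
  obtain ⟨t', ht', ht2⟩ := Groth.Agent.Ega4B.DimFT.exists_dim K (R ⊗[K] S)
  rw [hr] at hr'
  rw [hs] at hs'
  have e1 : r = r' := by exact_mod_cast hr'
  have e2 : s = s' := by exact_mod_cast hs'
  subst e1 e2
  rw [hr2] at h1
  rw [hs2] at h2
  have e3 : r = n := by exact_mod_cast h1
  have e4 : s = m := by exact_mod_cast h2
  subst e3 e4
  rw [ht2] at h3
  have e5 : t' = r + s := by exact_mod_cast h3
  rw [ht', e5]

theorem comb_map {A B : Type u} [CommRing A] [Algebra K A] [CommRing B] [Algebra K B] {I : Type*}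
    [Fintype I] (φ : A →ₐ[K] B) (w : I → A) (v : I → K) :
    φ (comb w v) = comb (fun i => φ (w i)) v := by
  simp [comb, map_sum, map_smul]

theorem comb_sub_mul {B : Type u} [CommRing B] [Algebra K B] {I : Type*}
    [Fintype I] (w w' : I → B) (c : B) (v : I → K) :
    comb (fun i => w i - c * w' i) v = comb w v - c * comb w' v := by
  simp only [comb, smul_sub, Finset.sum_sub_distrib, Finset.mul_sum, mul_smul_comm]

variable [IsAlgClosed K] {R S : Type u} [CommRing R] [IsDomain R] [Algebra K R]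
    [Algebra.FiniteType K R] [CommRing S] [IsDomain S] [Algebra K S] [Algebra.FiniteType K S]
    (r s : ℕ) (hr : Algebra.trdeg K R = r) (hs : Algebra.trdeg K S = s)

include hr hs

theorem exists_trdeg_le_of_height (g : Polynomial (R ⊗[K] S)) (hg : g ≠ 0)
    (B : Type u) [CommRing B] [Algebra K B] [Algebra (Polynomial (R ⊗[K] S)) B]
    [IsScalarTower K (Polynomial (R ⊗[K] S)) B] [IsLocalization.Away g B]
    (F : Type u) [Field F] [Algebra K F]
    (ρ : B →ₐ[K] F) (m : ℕ) (h : (m : ℕ∞) ≤ (RingHom.ker ρ).height)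
    (φ : R →ₐ[K] F) (hφ : ∀ a, φ a = ρ (algebraMap _ B (Polynomial.C (a ⊗ₜ[K] (1 : S)))))
    (ψ : S →ₐ[K] F) (hψ : ∀ b, ψ b = ρ (algebraMap _ B (Polynomial.C ((1 : R) ⊗ₜ[K] b)))) :
    ∃ t : ℕ, Algebra.trdeg K ↥(φ.range ⊔ ψ.range) = t ∧ t + m ≤ r + s + 1 := by
  have hdom : IsDomain (R ⊗[K] S) := VarietyB.AlgClosedTensor.isDomain_tensorProduct K R S
  have hft : Algebra.FiniteType K (R ⊗[K] S) :=
    Algebra.FiniteType.trans (S := R) inferInstance inferInstance
  have hpow : Submonoid.powers g ≤ nonZeroDivisors (Polynomial (R ⊗[K] S)) :=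
    powers_le_nonZeroDivisors_of_noZeroDivisors hg
  have hB : IsDomain B := IsLocalization.isDomain_of_le_nonZeroDivisors B hpow
  have hft2 : Algebra.FiniteType K (Polynomial (R ⊗[K] S)) :=
    Algebra.FiniteType.trans (S := R ⊗[K] S) inferInstance inferInstance
  have hft3 : Algebra.FiniteType (Polynomial (R ⊗[K] S)) B := IsLocalization.finiteType_of_monoid_fg (Submonoid.powers g) B
  have hft4 : Algebra.FiniteType K B := Algebra.FiniteType.trans (S := Polynomial (R ⊗[K] S)) inferInstance inferInstance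
  have hD : Algebra.trdeg K B ≤ (r + s + 1 : ℕ) := by
    refine (trdeg_localization_le (K := K) (Submonoid.powers g) hpow).trans ?_
    rw [trdeg_polynomial, trdeg_tensorProduct R S r s hr hs]
    push_cast
    exact le_rfl
  obtain ⟨t, ht, htm⟩ := trdeg_range_add_le (r + s + 1) hD ρ m h
  have hle : φ.range ⊔ ψ.range ≤ ρ.range := by
    refine sup_le ?_ ?_
    · rintro _ ⟨a, rfl⟩
      exact ⟨_, (hφ a).symm⟩
    · rintro _ ⟨b, rfl⟩
      exact ⟨_, (hψ b).symm⟩
  have h1 : Algebra.trdeg K ↥(φ.range ⊔ ψ.range) ≤ t := by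
    rw [← ht]
    exact trdeg_le_of_injective (Subalgebra.inclusion hle) (Subalgebra.inclusion_injective hle)
  obtain ⟨t', htt', ht'⟩ := Cardinal.exists_nat_eq_of_le_nat h1
  exact ⟨t', ht', by omega⟩

omit [IsAlgClosed K] [IsDomain R] [Algebra.FiniteType K R] [IsDomain S] [Algebra.FiniteType K S] hr hs in
variable (R S) in
/-- The polynomial homomorphism `R ⊗ S [X] → F`. -/
noncomputable def evalHom {F : Type u} [Field F] [Algebra K F] (φ : R →ₐ[K] F) (ψ : S →ₐ[K] F) (μ : F) :
    Polynomial (R ⊗[K] S) →ₐ[K] F :=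
  Polynomial.aevalTower (Algebra.TensorProduct.lift φ ψ fun _ _ => Commute.all _ _) μ

omit [IsAlgClosed K] [IsDomain R] [Algebra.FiniteType K R] [IsDomain S] [Algebra.FiniteType K S] hr hs in
theorem evalHom_left {F : Type u} [Field F] [Algebra K F] (φ : R →ₐ[K] F) (ψ : S →ₐ[K] F) (μ : F) (a : R) :
    evalHom R S φ ψ μ (Polynomial.C (a ⊗ₜ[K] (1 : S))) = φ a := by
  rw [evalHom, Polynomial.aevalTower_C, Algebra.TensorProduct.lift_tmul, map_one, mul_one]

omit [IsAlgClosed K] [IsDomain R] [Algebra.FiniteType K R] [IsDomain S] [Algebra.FiniteType K S] hr hs in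
theorem evalHom_right {F : Type u} [Field F] [Algebra K F] (φ : R →ₐ[K] F) (ψ : S →ₐ[K] F) (μ : F) (b : S) :
    evalHom R S φ ψ μ (Polynomial.C ((1 : R) ⊗ₜ[K] b)) = ψ b := by
  rw [evalHom, Polynomial.aevalTower_C, Algebra.TensorProduct.lift_tmul, map_one, one_mul]

omit [IsAlgClosed K] [IsDomain R] [Algebra.FiniteType K R] [IsDomain S] [Algebra.FiniteType K S] hr hs in
theorem evalHom_X {F : Type u} [Field F] [Algebra K F] (φ : R →ₐ[K] F) (ψ : S →ₐ[K] F) (μ : F) :
    evalHom R S φ ψ μ Polynomial.X = μ := by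
  rw [evalHom, Polynomial.aevalTower_X]

/-- Generic linear forms: incidence of `x` and `y` off the diagonal, one chart. -/
theorem eventually_double_aux {I : Type*} [Fintype I] (x : I → R) (y : I → S) (m : ℕ) (c : I) :
    ∀ᶠ ℓ in genTuple K (I → K) m, ∀ (F : Type u) [Field F] [Algebra K F] (φ : R →ₐ[K] F)
      (ψ : S →ₐ[K] F) (μ : F), (∀ j, φ (comb x (ℓ j)) = μ * ψ (comb y (ℓ j))) →
      φ (x c) ≠ μ * ψ (y c) →
      ∃ t : ℕ, Algebra.trdeg K ↥(φ.range ⊔ ψ.range) = t ∧ t + m ≤ r + s + 1 := by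
  have hdom : IsDomain (R ⊗[K] S) := VarietyB.AlgClosedTensor.isDomain_tensorProduct K R S
  have hft : Algebra.FiniteType K (R ⊗[K] S) :=
    Algebra.FiniteType.trans (S := R) inferInstance inferInstance
  have hnoeth : IsNoetherianRing (R ⊗[K] S) := Algebra.FiniteType.isNoetherianRing K _
  let P := Polynomial (R ⊗[K] S)
  let w : I → P := fun i => Polynomial.C (x i ⊗ₜ[K] (1 : S)) - Polynomial.X * Polynomial.C ((1 : R) ⊗ₜ[K] y i)
  have hw : ∀ {F : Type u} [Field F] [Algebra K F] (φ : R →ₐ[K] F)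
      (ψ : S →ₐ[K] F) (μ : F) (i : I), evalHom R S φ ψ μ (w i) = φ (x i) - μ * ψ (y i) := by
    intro F _ _ φ ψ μ i
    simp only [w, map_sub, map_mul, evalHom_left, evalHom_right, evalHom_X]
  by_cases hc : w c = 0
  · refine Filter.Eventually.of_forall fun ℓ F _ _ φ ψ μ _ hne => ?_
    exfalso
    apply hne
    have := hw φ ψ μ c
    rw [hc, map_zero] at this
    exact (sub_eq_zero.mp this.symm)
  · let B := Localization.Away (w c)
    have hnB : IsNoetherianRing B := IsLocalization.isNoetherianRing (Submonoid.powers (w c)) _ inferInstance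
    let w' : I → B := fun i => algebraMap P B (w i)
    have hw' : Ideal.span (Set.range w') = ⊤ := by
      rw [Ideal.eq_top_iff_one]
      have h1 : IsUnit (w' c) := IsLocalization.Away.algebraMap_isUnit (w c)
      rw [← Ideal.eq_top_iff_one]
      exact Ideal.eq_top_of_isUnit_mem _ (Ideal.subset_span ⟨c, rfl⟩) h1
    filter_upwards [eventually_height w' hw' m (fun _ => 0)] with ℓ hℓ
    intro F _ _ φ ψ μ hcomb hne
    have hu : ∀ z : Submonoid.powers (w c), IsUnit (evalHom R S φ ψ μ (z : P)) := by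
      rintro ⟨_, k, rfl⟩
      rw [map_pow]
      apply IsUnit.pow
      rw [hw]
      exact (sub_ne_zero.mpr hne).isUnit
    let ρ : B →ₐ[K] F := IsLocalization.liftAlgHom (M := Submonoid.powers (w c)) (f := evalHom R S φ ψ μ) hu
    have hρ : ∀ z : P, ρ (algebraMap P B z) = evalHom R S φ ψ μ z := fun z => by
      simp only [ρ, IsLocalization.liftAlgHom_apply, IsLocalization.lift_eq]
      rfl
    refine exists_trdeg_le_of_height r s hr hs (w c) hc B F ρ m ?_ φ ?_ ψ ?_
    · refine hℓ _ (RingHom.ker_isPrime ρ) fun j => ?_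
      rw [add_zero]
      change ρ (comb w' (ℓ j)) = 0
      rw [comb_map]
      have : (fun i => ρ (w' i)) = fun i => φ (x i) - μ * ψ (y i) := by
        funext i
        rw [hρ, hw]
      rw [this, comb_sub_mul, ← comb_map, ← comb_map, hcomb j, sub_self]
    · intro a
      rw [hρ, evalHom_left]
    · intro b
      rw [hρ, evalHom_right]

/-- Generic linear forms: incidence of `x` and `y` off the diagonal. -/
theorem eventually_double {I : Type*} [Fintype I] (x : I → R) (y : I → S) (m : ℕ) :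
    ∀ᶠ ℓ in genTuple K (I → K) m, ∀ (F : Type u) [Field F] [Algebra K F] (φ : R →ₐ[K] F)
      (ψ : S →ₐ[K] F) (μ : F), (∀ j, φ (comb x (ℓ j)) = μ * ψ (comb y (ℓ j))) →
      (∃ c, φ (x c) ≠ μ * ψ (y c)) →
      ∃ t : ℕ, Algebra.trdeg K ↥(φ.range ⊔ ψ.range) = t ∧ t + m ≤ r + s + 1 := by
  have h := Filter.eventually_all.2 fun c : I => eventually_double_aux r s hr hs x y m c
  filter_upwards [h] with ℓ hℓ
  rintro F _ _ φ ψ μ hcomb ⟨c, hc⟩
  exact hℓ c F φ ψ μ hcomb hc

/-- Generic linear forms `ℓ`: incidence of a given tuple `a` with `ℓ(y)`. -/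
theorem eventually_pair {I : Type*} [Fintype I] (y : I → S) (hy : Ideal.span (Set.range y) = ⊤) (m : ℕ)
    (a : Fin m → R) :
    ∀ᶠ ℓ in genTuple K (I → K) m, ∀ (F : Type u) [Field F] [Algebra K F] (φ : R →ₐ[K] F)
      (ψ : S →ₐ[K] F) (μ : F), (∀ j, ψ (comb y (ℓ j)) = μ * φ (a j)) →
      ∃ t : ℕ, Algebra.trdeg K ↥(φ.range ⊔ ψ.range) = t ∧ t + m ≤ r + s + 1 := by
  have hdom : IsDomain (R ⊗[K] S) := VarietyB.AlgClosedTensor.isDomain_tensorProduct K R S
  have hft : Algebra.FiniteType K (R ⊗[K] S) :=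
    Algebra.FiniteType.trans (S := R) inferInstance inferInstance
  have hnoeth : IsNoetherianRing (R ⊗[K] S) := Algebra.FiniteType.isNoetherianRing K _
  let P := Polynomial (R ⊗[K] S)
  let w : I → P := fun i => Polynomial.C ((1 : R) ⊗ₜ[K] y i)
  let σ : S →+* P := Polynomial.C.comp (Algebra.TensorProduct.includeRight : S →ₐ[K] R ⊗[K] S).toRingHom
  have hw : Ideal.span (Set.range w) = ⊤ := by
    have h1 : Ideal.map σ (Ideal.span (Set.range y)) = ⊤ := by rw [hy, Ideal.map_top]
    rw [Ideal.map_span, ← Set.range_comp] at h1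
    exact h1
  let c : ℕ → P := fun j => if h : j < m then - (Polynomial.X * Polynomial.C (a ⟨j, h⟩ ⊗ₜ[K] (1 : S))) else 0
  filter_upwards [eventually_height w hw m c] with ℓ hℓ
  intro F _ _ φ ψ μ hcomb
  have hone : IsLocalization.Away (1 : P) P := IsLocalization.away_of_isUnit_of_bijective P isUnit_one
    Function.bijective_id
  refine exists_trdeg_le_of_height r s hr hs (1 : P) one_ne_zero P F (evalHom R S φ ψ μ) m ?_ φ ?_ ψ ?_
  · refine hℓ _ (RingHom.ker_isPrime _) fun j => ?_
    change evalHom R S φ ψ μ (comb w (ℓ j) + c j) = 0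
    have hcj : c j = - (Polynomial.X * Polynomial.C (a j ⊗ₜ[K] (1 : S))) := by
      simp only [c, Fin.is_lt, dite_true, Fin.eta]
    have : (fun i => evalHom R S φ ψ μ (w i)) = fun i => ψ (y i) := by
      funext i
      rw [evalHom_right]
    rw [map_add, comb_map, this, ← comb_map, hcomb j, hcj, map_neg, map_mul, evalHom_X, evalHom_left,
      add_neg_cancel]
  · intro b
    exact (evalHom_left φ ψ μ b).symm
  · intro b
    exact (evalHom_right φ ψ μ b).symm

end

end Groth.Agent.CycA.MovDouble
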