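import Groth.Agent.CycA.MovDouble
import Groth.Agent.CycA.MovCoord
import Groth.Agent.CycB.RelDim
import Groth.Agent.VarietyB.DimRing

/-!
# Dimension of the incidence locus of generic projections (scheme form)

`E1`, `E2`, `E3`: see the statements.
-/

set_option autoImplicit false
universe u
open Filter TensorProduct Groth.Agent.CycA.MovForms Groth.Agent.CycA.MovCoord
open CategoryTheory AlgebraicGeometry Groth.Agent.VarietyB.ProjGlue

namespace Groth.Agent.CycA.MovDouble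

open Algebra Groth.Agent.CycB.TrdegAlg Groth.Agent.CycB.RelDim

section alg

variable {K : Type u} [Field K] [IsAlgClosed K] {A B : Type u} [CommRing A] [Algebra K A]
  [Algebra.FiniteType K A] [CommRing B] [Algebra K B] [Algebra.FiniteType K B]
  (P : Ideal A) [P.IsPrime] (Q : Ideal B) [Q.IsPrime] (r s : ℕ)
  (hr : Algebra.trdeg K (A ⧸ P) = r) (hs : Algebra.trdeg K (B ⧸ Q) = s)
  {I : Type*} [Fintype I]

omit [IsAlgClosed K] [Algebra.FiniteType K A] [P.IsPrime] in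
theorem range_liftₐ {F : Type u} [Field F] [Algebra K F] (φ : A →ₐ[K] F) (h : ∀ a ∈ P, φ a = 0) :
    (Ideal.Quotient.liftₐ P φ h).range = φ.range := by
  ext z
  constructor
  · rintro ⟨a, rfl⟩
    obtain ⟨a, rfl⟩ := Ideal.Quotient.mk_surjective a
    exact ⟨a, rfl⟩
  · rintro ⟨a, rfl⟩
    exact ⟨Ideal.Quotient.mk P a, rfl⟩

include hr hs

theorem eventually_double' (x : I → A) (y : I → B) (m : ℕ) :
    ∀ᶠ ℓ in genTuple K (I → K) m, ∀ (F : Type u) [Field F] [Algebra K F] (φ : A →ₐ[K] F)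
      (ψ : B →ₐ[K] F) (_ : ∀ a ∈ P, φ a = 0) (_ : ∀ b ∈ Q, ψ b = 0) (μ : F),
      (∀ j, φ (comb x (ℓ j)) = μ * ψ (comb y (ℓ j))) →
      (∃ c, φ (x c) ≠ μ * ψ (y c)) →
      ∃ t : ℕ, Algebra.trdeg K ↥(φ.range ⊔ ψ.range) = t ∧ t + m ≤ r + s + 1 := by
  filter_upwards [eventually_double r s hr hs (fun i => Ideal.Quotient.mkₐ K P (x i))
    (fun i => Ideal.Quotient.mkₐ K Q (y i)) m] with ℓ hℓ
  intro F _ _ φ ψ hφ hψ μ h1 h2
  have h3 := hℓ F (Ideal.Quotient.liftₐ P φ hφ) (Ideal.Quotient.liftₐ Q ψ hψ) μ (fun j => by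
    rw [← comb_map, ← comb_map]
    exact h1 j) h2
  rwa [range_liftₐ, range_liftₐ] at h3

theorem eventually_pair' (y : I → B) (hy : Ideal.span (Set.range y) = ⊤) (m : ℕ)
    (a : Fin m → A) :
    ∀ᶠ ℓ in genTuple K (I → K) m, ∀ (F : Type u) [Field F] [Algebra K F] (φ : A →ₐ[K] F)
      (ψ : B →ₐ[K] F) (_ : ∀ a ∈ P, φ a = 0) (_ : ∀ b ∈ Q, ψ b = 0) (μ : F),
      (∀ j, ψ (comb y (ℓ j)) = μ * φ (a j)) →
      ∃ t : ℕ, Algebra.trdeg K ↥(φ.range ⊔ ψ.range) = t ∧ t + m ≤ r + s + 1 := by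
  have hy' : Ideal.span (Set.range (fun i => Ideal.Quotient.mkₐ K Q (y i))) = ⊤ := by
    have h1 : Ideal.map (Ideal.Quotient.mk Q) (Ideal.span (Set.range y)) = ⊤ := by rw [hy, Ideal.map_top]
    rw [Ideal.map_span, ← Set.range_comp] at h1
    exact h1
  filter_upwards [eventually_pair r s hr hs (fun i => Ideal.Quotient.mkₐ K Q (y i)) hy' m
    (fun j => Ideal.Quotient.mk P (a j))] with ℓ hℓ
  intro F _ _ φ ψ hφ hψ μ h1
  have h3 := hℓ F (Ideal.Quotient.liftₐ P φ hφ) (Ideal.Quotient.liftₐ Q ψ hψ) μ (fun j => by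
    rw [← comb_map]
    exact h1 j)
  rwa [range_liftₐ, range_liftₐ] at h3

end alg

section scheme

variable {K : Type u} [Field K] {X : Scheme.{u}} (p : X ⟶ Spec (CommRingCat.of K))

theorem cst_finiteType [LocallyOfFiniteType p] {U : X.Opens} (hU : IsAffineOpen U) :
    (cst p U).FiniteType := by
  have h1 := p.finiteType_appLE (isAffineOpen_top _) hU (by simp)
  have h2 : ((Scheme.ΓSpecIso (CommRingCat.of K)).inv.hom).FiniteType :=
    RingHom.FiniteType.of_surjective _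
      (ConcreteCategory.bijective_of_isIso (Scheme.ΓSpecIso (CommRingCat.of K)).inv).2
  exact h1.comp h2

theorem surjective_of_fracGen_field {B L : Type u} [Field B] [Field L] {ψ : B →+* L}
    (h : FracGen ψ) : Function.Surjective ψ := by
  intro z
  obtain ⟨a, b, hb, hab⟩ := h z
  refine ⟨a / b, ?_⟩
  rw [map_div₀, ← hab, mul_div_assoc, div_self hb, mul_one]

theorem fracGen_precomp' {B B' L : Type u} [CommRing B] [CommRing B'] [Field L] {ψ : B →+* L}
    (σ : B' →+* B) (hσ : Function.Surjective σ) (h : FracGen ψ) : FracGen (ψ.comp σ) := by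
  intro z
  obtain ⟨a, b, hb, hab⟩ := h z
  obtain ⟨a', rfl⟩ := hσ a
  obtain ⟨b', rfl⟩ := hσ b
  exact ⟨a', b', hb, hab⟩

theorem trd_kF (x : X) : trd (kF p (RingHom.id (X.residueField x))) = rtd p x := by
  let c : K →+* (Spec (CommRingCat.of K)).residueField (p x) :=
    ((Spec (CommRingCat.of K)).evaluation ⊤ (p x) trivial).hom.comp
      (Scheme.ΓSpecIso (CommRingCat.of K)).inv.hom
  have hc : FracGen c := by
    have h1 := fracGen_evaluation (isAffineOpen_top (Spec (CommRingCat.of K))) (p x) trivial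
    exact fracGen_precomp' (Scheme.ΓSpecIso (CommRingCat.of K)).inv.hom
      (ConcreteCategory.bijective_of_isIso (Scheme.ΓSpecIso (CommRingCat.of K)).inv).2 h1
  have h2 : kF p (RingHom.id (X.residueField x)) = (p.residueFieldMap x).hom.comp c := by
    have h3 := evaluation_comp_residueFieldMap p ⊤ ⊤ le_top x trivial trivial
    have h4 := congrArg (fun g => (g.hom).comp (Scheme.ΓSpecIso (CommRingCat.of K)).inv.hom) h3
    simp only [CommRingCat.hom_comp, RingHom.comp_assoc] at h4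
    rw [h4]
    rfl
  rw [h2, trd_comp_surjective' _ _ (surjective_of_fracGen_field hc)]
  rfl

theorem trdeg_quotient {U : X.Opens} (hU : IsAffineOpen U) (η : X) (hη : η ∈ U) :
    letI := (cst p U).toAlgebra
    Algebra.trdeg K (Γ(X, U) ⧸ RingHom.ker (X.evaluation U η hη).hom) = rtd p η := by
  let _ := (cst p U).toAlgebra
  let _ : Algebra K (X.residueField η) := (kF p (RingHom.id (X.residueField η))).toAlgebra
  let _ : Algebra (Γ(X, U) ⧸ RingHom.ker (X.evaluation U η hη).hom) (X.residueField η) :=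
    (RingHom.kerLift (X.evaluation U η hη).hom).toAlgebra
  have : IsScalarTower K (Γ(X, U) ⧸ RingHom.ker (X.evaluation U η hη).hom) (X.residueField η) :=
    .of_algebraMap_eq fun k => kF_apply p _ U hη k
  have : (RingHom.ker (X.evaluation U η hη).hom).IsPrime := RingHom.ker_isPrime _
  rw [← trd_kF]
  refine (VarietyB.DimRing.trdeg_eq_of_fraction K
    (D := Γ(X, U) ⧸ RingHom.ker (X.evaluation U η hη).hom) (K := X.residueField η)
    (RingHom.kerLift_injective _) ?_).symm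
  intro z
  obtain ⟨a, b, hb, hab⟩ := fracGen_evaluation hU η hη z
  refine ⟨Ideal.Quotient.mk _ a, Ideal.Quotient.mk _ b, ?_, hab⟩
  intro h0
  exact hb (Ideal.Quotient.eq_zero_iff_mem.mp h0)

theorem ker_evaluation_le {U : X.Opens} (hU : IsAffineOpen U) {η x : X} (h : η ⤳ x) (hη : η ∈ U)
    (hx : x ∈ U) : RingHom.ker (X.evaluation U η hη).hom ≤ RingHom.ker (X.evaluation U x hx).hom := by
  rw [ker_evaluation hU, ker_evaluation hU]
  exact primeIdealOf_le_of_specializes hU h hx hη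

variable {I : Type} [Fintype I] [LocallyOfFiniteType p] (δ : X → ℤ)
  (hδ : Cyc.DeltaCompat p δ (fun _ => 0)) (D : CoordData X I) (hD : ∀ a, IsAffineOpen (D.U a)) (m : ℕ)

include hδ hD

theorem E1 [IsAlgClosed K] (η τ : X) : ∀ᶠ ℓ in genTuple K (I → K) m, ∀ (F : Type u) [Field F] (x₁ x₂ : X)
    (φ₁ : X.residueField x₁ →+* F) (φ₂ : X.residueField x₂ →+* F), kF p φ₁ = kF p φ₂ →
    η ⤳ x₁ → τ ⤳ x₂ → ∀ (a b : I) (h₁ : x₁ ∈ D.U a) (h₂ : x₂ ∈ D.U b) (μ : F),
    (∃ i, crd D a h₁ φ₁ i ≠ μ * crd D b h₂ φ₂ i) →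
    (∀ j, val p D a h₁ φ₁ (ℓ j) = μ * val p D b h₂ φ₂ (ℓ j)) → δ x₂ + m ≤ δ η + δ τ + 1 := by
  have hall : ∀ a b : I, ∀ᶠ ℓ in genTuple K (I → K) m, ∀ (F : Type u) [Field F] (x₁ x₂ : X)
      (φ₁ : X.residueField x₁ →+* F) (φ₂ : X.residueField x₂ →+* F), kF p φ₁ = kF p φ₂ →
      η ⤳ x₁ → τ ⤳ x₂ → ∀ (h₁ : x₁ ∈ D.U a) (h₂ : x₂ ∈ D.U b) (μ : F),
      (∃ i, crd D a h₁ φ₁ i ≠ μ * crd D b h₂ φ₂ i) →
      (∀ j, val p D a h₁ φ₁ (ℓ j) = μ * val p D b h₂ φ₂ (ℓ j)) → δ x₂ + m ≤ δ η + δ τ + 1 := by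
    intro a b
    by_cases ha : η ∈ D.U a
    swap
    · refine Filter.Eventually.of_forall fun ℓ F _ x₁ x₂ φ₁ φ₂ _ h1 _ h₁ => ?_
      exact absurd (h1.mem_open (D.U a).isOpen h₁) ha
    by_cases hb : τ ∈ D.U b
    swap
    · refine Filter.Eventually.of_forall fun ℓ F _ x₁ x₂ φ₁ φ₂ _ _ h2 _ h₂ => ?_
      exact absurd (h2.mem_open (D.U b).isOpen h₂) hb
    let _ := (cst p (D.U a)).toAlgebra
    let _ := (cst p (D.U b)).toAlgebra
    have hfa : Algebra.FiniteType K Γ(X, D.U a) := cst_finiteType p (hD a)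
    have hfb : Algebra.FiniteType K Γ(X, D.U b) := cst_finiteType p (hD b)
    obtain ⟨nη, hη1, hη2⟩ := hδ η
    obtain ⟨nτ, hτ1, hτ2⟩ := hδ τ
    have hPa : (RingHom.ker (X.evaluation (D.U a) η ha).hom).IsPrime := RingHom.ker_isPrime _
    have hPb : (RingHom.ker (X.evaluation (D.U b) τ hb).hom).IsPrime := RingHom.ker_isPrime _
    filter_upwards [eventually_double' _ _ nη nτ ((trdeg_quotient p (hD a) η ha).trans hη1)
      ((trdeg_quotient p (hD b) τ hb).trans hτ1) (D.f a) (D.f b) m] with ℓ hℓ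
    intro F _ x₁ x₂ φ₁ φ₂ hK h1 h2 h₁ h₂ μ hne hval
    let _ : Algebra K F := (kF p φ₁).toAlgebra
    let φ : Γ(X, D.U a) →ₐ[K] F :=
      { φ₁.comp (X.evaluation (D.U a) x₁ h₁).hom with
        commutes' := fun k => (kF_apply p φ₁ (D.U a) h₁ k).symm }
    let ψ : Γ(X, D.U b) →ₐ[K] F :=
      { φ₂.comp (X.evaluation (D.U b) x₂ h₂).hom with
        commutes' := fun k => (kF_apply p φ₂ (D.U b) h₂ k).symm.trans (RingHom.congr_fun hK k).symm }
    obtain ⟨t, ht, htm⟩ := hℓ F φ ψ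
      (fun z hz => by
        have hz' := RingHom.mem_ker.mp (ker_evaluation_le (hD a) h1 ha h₁ hz)
        change φ₁ ((X.evaluation (D.U a) x₁ h₁).hom z) = 0
        rw [hz', map_zero])
      (fun z hz => by
        have hz' := RingHom.mem_ker.mp (ker_evaluation_le (hD b) h2 hb h₂ hz)
        change φ₂ ((X.evaluation (D.U b) x₂ h₂).hom z) = 0
        rw [hz', map_zero]) μ
      (fun j => by
        have := hval j
        unfold val at this
        rw [form_eq_comb, form_eq_comb] at this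
        exact this)
      hne
    let _ : Algebra K (X.residueField x₂) := (kF p (RingHom.id (X.residueField x₂))).toAlgebra
    let ev : Γ(X, D.U b) →ₐ[K] X.residueField x₂ :=
      { (X.evaluation (D.U b) x₂ h₂).hom with
        commutes' := fun k => (kF_apply p (RingHom.id (X.residueField x₂)) (D.U b) h₂ k).symm }
    let χ : X.residueField x₂ →ₐ[K] F :=
      { φ₂ with commutes' := fun k => (RingHom.congr_fun hK k).symm }
    have h3 := trdeg_le_of_fracGen ev (fracGen_evaluation (hD b) x₂ h₂) χ (φ.range ⊔ ψ.range)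
      (fun z => (le_sup_right : ψ.range ≤ φ.range ⊔ ψ.range) ⟨z, rfl⟩)
    rw [ht] at h3
    obtain ⟨n₂, hn1, hn2⟩ := hδ x₂
    have h4 : Algebra.trdeg K (X.residueField x₂) = n₂ := (trd_kF p x₂).trans hn1
    rw [h4] at h3
    have h5 : n₂ ≤ t := by exact_mod_cast h3
    rw [hn2, hη2, hτ2]
    dsimp only
    omega
  have h := Filter.eventually_all.2 fun a : I => Filter.eventually_all.2 fun b : I => hall a b
  filter_upwards [h] with ℓ hℓ
  intro F _ x₁ x₂ φ₁ φ₂ hK h1 h2 a b h₁ h₂ μ hne hval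
  exact hℓ a b F x₁ x₂ φ₁ φ₂ hK h1 h2 h₁ h₂ μ hne hval

theorem E2 [IsAlgClosed K] (η τ : X) (ℓ₀ : Fin m → I → K) : ∀ᶠ ℓ in genTuple K (I → K) m,
    ∀ (F : Type u) [Field F] (x₁ x₂ : X)
    (φ₁ : X.residueField x₁ →+* F) (φ₂ : X.residueField x₂ →+* F), kF p φ₁ = kF p φ₂ →
    η ⤳ x₁ → τ ⤳ x₂ → ∀ (a b : I) (h₁ : x₁ ∈ D.U a) (h₂ : x₂ ∈ D.U b) (μ : F),
    (∀ j, val p D b h₂ φ₂ (ℓ j) = μ * val p D a h₁ φ₁ (ℓ₀ j)) → δ x₂ + m ≤ δ η + δ τ + 1 := by
  have hall : ∀ a b : I, ∀ᶠ ℓ in genTuple K (I → K) m, ∀ (F : Type u) [Field F] (x₁ x₂ : X)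
      (φ₁ : X.residueField x₁ →+* F) (φ₂ : X.residueField x₂ →+* F), kF p φ₁ = kF p φ₂ →
      η ⤳ x₁ → τ ⤳ x₂ → ∀ (h₁ : x₁ ∈ D.U a) (h₂ : x₂ ∈ D.U b) (μ : F),
      (∀ j, val p D b h₂ φ₂ (ℓ j) = μ * val p D a h₁ φ₁ (ℓ₀ j)) → δ x₂ + m ≤ δ η + δ τ + 1 := by
    intro a b
    by_cases ha : η ∈ D.U a
    swap
    · refine Filter.Eventually.of_forall fun ℓ F _ x₁ x₂ φ₁ φ₂ _ h1 _ h₁ => ?_
      exact absurd (h1.mem_open (D.U a).isOpen h₁) ha
    by_cases hb : τ ∈ D.U b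
    swap
    · refine Filter.Eventually.of_forall fun ℓ F _ x₁ x₂ φ₁ φ₂ _ _ h2 _ h₂ => ?_
      exact absurd (h2.mem_open (D.U b).isOpen h₂) hb
    let _ := (cst p (D.U a)).toAlgebra
    let _ := (cst p (D.U b)).toAlgebra
    have hfa : Algebra.FiniteType K Γ(X, D.U a) := cst_finiteType p (hD a)
    have hfb : Algebra.FiniteType K Γ(X, D.U b) := cst_finiteType p (hD b)
    obtain ⟨nη, hη1, hη2⟩ := hδ η
    obtain ⟨nτ, hτ1, hτ2⟩ := hδ τ
    have hPa : (RingHom.ker (X.evaluation (D.U a) η ha).hom).IsPrime := RingHom.ker_isPrime _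
    have hPb : (RingHom.ker (X.evaluation (D.U b) τ hb).hom).IsPrime := RingHom.ker_isPrime _
    have hy : Ideal.span (Set.range (D.f b)) = ⊤ := by
      rw [Ideal.eq_top_iff_one]
      exact Ideal.subset_span ⟨b, D.f_self b⟩
    filter_upwards [eventually_pair' _ _ nη nτ ((trdeg_quotient p (hD a) η ha).trans hη1)
      ((trdeg_quotient p (hD b) τ hb).trans hτ1) (D.f b) hy m (fun j => form p D a (ℓ₀ j))] with ℓ hℓ
    intro F _ x₁ x₂ φ₁ φ₂ hK h1 h2 h₁ h₂ μ hval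
    let _ : Algebra K F := (kF p φ₁).toAlgebra
    let φ : Γ(X, D.U a) →ₐ[K] F :=
      { φ₁.comp (X.evaluation (D.U a) x₁ h₁).hom with
        commutes' := fun k => (kF_apply p φ₁ (D.U a) h₁ k).symm }
    let ψ : Γ(X, D.U b) →ₐ[K] F :=
      { φ₂.comp (X.evaluation (D.U b) x₂ h₂).hom with
        commutes' := fun k => (kF_apply p φ₂ (D.U b) h₂ k).symm.trans (RingHom.congr_fun hK k).symm }
    obtain ⟨t, ht, htm⟩ := hℓ F φ ψ
      (fun z hz => by
        have hz' := RingHom.mem_ker.mp (ker_evaluation_le (hD a) h1 ha h₁ hz)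
        change φ₁ ((X.evaluation (D.U a) x₁ h₁).hom z) = 0
        rw [hz', map_zero])
      (fun z hz => by
        have hz' := RingHom.mem_ker.mp (ker_evaluation_le (hD b) h2 hb h₂ hz)
        change φ₂ ((X.evaluation (D.U b) x₂ h₂).hom z) = 0
        rw [hz', map_zero]) μ
      (fun j => by
        have := hval j
        unfold val at this
        rw [form_eq_comb p D b] at this
        exact this)
    let _ : Algebra K (X.residueField x₂) := (kF p (RingHom.id (X.residueField x₂))).toAlgebra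
    let ev : Γ(X, D.U b) →ₐ[K] X.residueField x₂ :=
      { (X.evaluation (D.U b) x₂ h₂).hom with
        commutes' := fun k => (kF_apply p (RingHom.id (X.residueField x₂)) (D.U b) h₂ k).symm }
    let χ : X.residueField x₂ →ₐ[K] F :=
      { φ₂ with commutes' := fun k => (RingHom.congr_fun hK k).symm }
    have h3 := trdeg_le_of_fracGen ev (fracGen_evaluation (hD b) x₂ h₂) χ (φ.range ⊔ ψ.range)
      (fun z => (le_sup_right : ψ.range ≤ φ.range ⊔ ψ.range) ⟨z, rfl⟩)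
    rw [ht] at h3
    obtain ⟨n₂, hn1, hn2⟩ := hδ x₂
    have h4 : Algebra.trdeg K (X.residueField x₂) = n₂ := (trd_kF p x₂).trans hn1
    rw [h4] at h3
    have h5 : n₂ ≤ t := by exact_mod_cast h3
    rw [hn2, hη2, hτ2]
    dsimp only
    omega
  have h := Filter.eventually_all.2 fun a : I => Filter.eventually_all.2 fun b : I => hall a b
  filter_upwards [h] with ℓ hℓ
  intro F _ x₁ x₂ φ₁ φ₂ hK h1 h2 a b h₁ h₂ μ hval
  exact hℓ a b F x₁ x₂ φ₁ φ₂ hK h1 h2 h₁ h₂ μ hval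

theorem E3 (h : ∀ x, δ x < m) : ∀ᶠ ℓ in genTuple K (I → K) m, ∀ (a : I) (x : X), x ∈ D.U a →
    ∃ j, x ∈ X.basicOpen (form p D a (ℓ j)) := by
  rw [Filter.eventually_all]
  intro a
  let _ := (cst p (D.U a)).toAlgebra
  have hfa : Algebra.FiniteType K Γ(X, D.U a) := cst_finiteType p (hD a)
  have hnoeth : IsNoetherianRing Γ(X, D.U a) := Algebra.FiniteType.isNoetherianRing K _
  have hy : Ideal.span (Set.range (D.f a)) = ⊤ := by
    rw [Ideal.eq_top_iff_one]
    exact Ideal.subset_span ⟨a, D.f_self a⟩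
  filter_upwards [eventually_height (D.f a) hy m (fun _ => 0)] with ℓ hℓ
  intro x hx
  by_contra hc
  push Not at hc
  set P := RingHom.ker (X.evaluation (D.U a) x hx).hom with hP
  have hPp : P.IsPrime := RingHom.ker_isPrime _
  have h1 : (m : ℕ∞) ≤ P.height := by
    refine hℓ P hPp fun j => ?_
    rw [add_zero, ← form_eq_comb]
    rw [hP, RingHom.mem_ker]
    by_contra h0
    exact hc j ((Scheme.evaluation_ne_zero_iff_mem_basicOpen _ _ _ _).mp h0)
  obtain ⟨q, hq, hqP, hqh⟩ := VarietyB.DimRing.exists_minimalPrimes_height_eq P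
  have hqp : q.IsPrime := hq.1.1
  -- the point of `q`
  let ξ : X := (hD a).fromSpec (⟨q, hqp⟩ : PrimeSpectrum Γ(X, D.U a))
  have hξ : ξ ∈ D.U a := by
    rw [← SetLike.mem_coe, ← (hD a).range_fromSpec]
    exact ⟨_, rfl⟩
  have hkerξ : RingHom.ker (X.evaluation (D.U a) ξ hξ).hom = q := by
    rw [ker_evaluation (hD a)]
    have h5 : (hD a).primeIdealOf ⟨ξ, hξ⟩ = ⟨q, hqp⟩ :=
      (hD a).fromSpec.isOpenEmbedding.injective ((hD a).fromSpec_primeIdealOf ⟨ξ, hξ⟩)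
    rw [h5]
  obtain ⟨nξ, hξ1, hξ2⟩ := hδ ξ
  have h2 := (trdeg_quotient p (hD a) ξ hξ).trans hξ1
  rw [hkerξ] at h2
  have hPq : (P.map (Ideal.Quotient.mk q)).IsPrime := VarietyB.DimRing.isPrime_map_quotient hqP
  obtain ⟨c, n, hc1, hc2, hc3⟩ := Groth.Agent.Ega4B.DimFT2.exists_height_add_trdeg K (Γ(X, D.U a) ⧸ q)
    (P.map (Ideal.Quotient.mk q))
  rw [h2] at hc2
  have hn : nξ = n := by exact_mod_cast hc2
  rw [hqh] at hc3
  have h6 : (m : ℕ∞) ≤ n := by
    rw [← hc3]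
    exact h1.trans le_self_add
  have h7 : m ≤ n := by exact_mod_cast h6
  have h8 := h ξ
  rw [hξ2] at h8
  dsimp only at h8
  omega

end scheme

end Groth.Agent.CycA.MovDouble
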