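import Groth.Agent.CycA.MovVec
import Groth.Agent.CycA.MovCoord

/-!
# Linear projections

For coordinate data `D` on `Y` over `K` and linear forms `L j` without common zero on `Y`: the
morphism `linMap p D L h : Y ⟶ P^J_K` with homogeneous coordinates `L j`.
-/

set_option autoImplicit false
universe u
open AlgebraicGeometry CategoryTheory HomogeneousLocalization

namespace Groth.Agent.CycA.MovProj

open Groth.Agent.VarietyB.ProjHom Groth.Agent.VarietyB.ProjGlue Groth.Agent.VarietyB.ProjStd
open Groth.Agent.CycA.MovVec Groth.Agent.CycA.MovCoord Groth.Agent.CycA.MovForms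

attribute [local instance] MvPolynomial.gradedAlgebra

variable {K : Type u} [Field K] {Y : Scheme.{u}} (p : Y ⟶ Spec (CommRingCat.of K)) {I J : Type}
  [Fintype I] (D : CoordData Y I)

theorem map_form {a b : I} (v : I → K) (W : Y.Opens) (ha : W ≤ D.U a) (hb : W ≤ D.U b) :
    Y.presheaf.map (homOfLE ha).op (form p D a v) =
      Y.presheaf.map (homOfLE ha).op (D.f a b) *
        Y.presheaf.map (homOfLE hb).op (form p D b v) := by
  unfold form
  rw [map_sum, map_sum, Finset.mul_sum]
  refine Finset.sum_congr rfl fun i _ => ?_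
  have h := congrArg (Y.presheaf.map (homOfLE (le_inf ha hb)).op) (D.f_mul a b i)
  rw [map_mul, map_map_apply, map_map_apply, map_map_apply] at h
  rw [map_mul, map_mul, map_cst, map_cst, h]
  ring

omit [Fintype I] in
theorem isUnit_map_f (a b : I) (W : Y.Opens) (ha : W ≤ D.U a) (hb : W ≤ D.U b) :
    IsUnit (Y.presheaf.map (homOfLE ha).op (D.f a b)) := by
  have h := (D.f_isUnit a b).map (Y.presheaf.map (homOfLE (le_inf ha hb)).op).hom
  convert h using 1
  exact (map_map_apply _ _ _).symm

variable (L : J → I → K)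

/-- The local coordinate vectors given by linear forms. -/
noncomputable def linData
    (h : ⨆ α : J × I, Y.basicOpen (form p D α.2 (L α.1)) = ⊤) : VecData Y J (J × I) where
  V α := Y.basicOpen (form p D α.2 (L α.1))
  iSup_V := h
  g α k := Y.presheaf.map (homOfLE (Y.basicOpen_le _)).op (form p D α.2 (L k))
  t α := α.1
  isUnit α := RingedSpace.isUnit_res_basicOpen _ (form p D α.2 (L α.1))
  compat α β := by
    have ha : Y.basicOpen (form p D α.2 (L α.1)) ⊓ Y.basicOpen (form p D β.2 (L β.1)) ≤
      D.U α.2 := inf_le_left.trans (Y.basicOpen_le _)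
    have hb : Y.basicOpen (form p D α.2 (L α.1)) ⊓ Y.basicOpen (form p D β.2 (L β.1)) ≤
      D.U β.2 := inf_le_right.trans (Y.basicOpen_le _)
    refine ⟨(isUnit_map_f D α.2 β.2 _ ha hb).unit, fun k => ?_⟩
    rw [map_map_apply, map_map_apply, IsUnit.unit_spec]
    exact map_form p D (L k) _ ha hb

variable (h : ⨆ α : J × I, Y.basicOpen (form p D α.2 (L α.1)) = ⊤)

/-- The morphism to projective space given by linear forms without common zeros. -/
noncomputable def linMap : Y ⟶ Proj (MvPolynomial.homogeneousSubmodule J K) :=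
  (linData p D L h).toProjSpace p

theorem linMap_toSpec : linMap p D L h ≫ Groth.Agent.VarietyB.ProjStd.toSpec J K = p :=
  VecData.toProjSpace_toSpec _ _

theorem mem_basicOpen_form_iff {a b : I} (v : I → K) {y : Y} (ha : y ∈ D.U a) (hb : y ∈ D.U b) :
    y ∈ Y.basicOpen (form p D a v) ↔ y ∈ Y.basicOpen (form p D b v) := by
  have key : ∀ a b : I, y ∈ D.U a → y ∈ D.U b → y ∈ Y.basicOpen (form p D a v) →
      y ∈ Y.basicOpen (form p D b v) := by
    intro a b ha hb hy
    have h1 : y ∈ Y.basicOpen (Y.presheaf.map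
        (homOfLE (inf_le_left : D.U a ⊓ D.U b ≤ D.U a)).op (form p D a v)) := by
      rw [Scheme.basicOpen_res]
      exact ⟨⟨ha, hb⟩, hy⟩
    rw [map_form p D v _ inf_le_left inf_le_right, Scheme.basicOpen_mul] at h1
    have h2 := h1.2
    rw [Scheme.basicOpen_res] at h2
    exact h2.2
  exact ⟨key a b ha hb, key b a hb ha⟩

theorem preimage_inf (a : I) (k : J) :
    D.U a ⊓ linMap p D L h ⁻¹ᵁ
      Proj.basicOpen (MvPolynomial.homogeneousSubmodule J K) (MvPolynomial.X k) =
      Y.basicOpen (form p D a (L k)) := by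
  have key : ∀ (y : Y) (b : I), y ∈ D.U b → (y ∈ linMap p D L h ⁻¹ᵁ
      Proj.basicOpen (MvPolynomial.homogeneousSubmodule J K) (MvPolynomial.X k) ↔
      y ∈ Y.basicOpen (form p D b (L k))) := by
    intro y b hb
    have hy : y ∈ ⨆ α : J × I, Y.basicOpen (form p D α.2 (L α.1)) := by rw [h]; trivial
    rw [TopologicalSpace.Opens.mem_iSup] at hy
    obtain ⟨α, hα⟩ := hy
    have h1 := (linData p D L h).preimage_inf p α k
    have h2 : y ∈ linMap p D L h ⁻¹ᵁ
        Proj.basicOpen (MvPolynomial.homogeneousSubmodule J K) (MvPolynomial.X k) ↔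
        y ∈ Y.basicOpen ((linData p D L h).g α k) := by
      rw [← h1]
      exact ⟨fun hy => ⟨hα, hy⟩, fun hy => hy.2⟩
    rw [h2]
    change y ∈ Y.basicOpen (Y.presheaf.map (homOfLE (Y.basicOpen_le _)).op (form p D α.2 (L k))) ↔ _
    rw [Scheme.basicOpen_res, mem_basicOpen_form_iff p D (L k) hb (Y.basicOpen_le _ hα)]
    exact ⟨fun hy => hy.2, fun hy => ⟨hα, hy⟩⟩
  ext y
  constructor
  · rintro ⟨h1, h2⟩
    exact (key y a h1).1 h2
  · intro hy
    exact ⟨Y.basicOpen_le _ hy, (key y a (Y.basicOpen_le _ hy)).2 hy⟩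

/-- The ratios of coordinates pull back to the ratios of the linear forms. -/
theorem stalkMap_ratio {a : I} {y : Y} (ha : y ∈ D.U a) (i k : J)
    (hi : linMap p D L h y ∈
      Proj.basicOpen (MvPolynomial.homogeneousSubmodule J K) (MvPolynomial.X i)) :
    (linMap p D L h).stalkMap y ((Proj (MvPolynomial.homogeneousSubmodule J K)).presheaf.germ _ _ hi
      (ratio J K i k)) * Y.presheaf.germ (D.U a) y ha (form p D a (L i)) =
      Y.presheaf.germ (D.U a) y ha (form p D a (L k)) := by
  have hW2 : Y.basicOpen (form p D a (L i)) ≤ linMap p D L h ⁻¹ᵁ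
      Proj.basicOpen (MvPolynomial.homogeneousSubmodule J K) (MvPolynomial.X i) := by
    rw [← preimage_inf p D L h a i]
    exact inf_le_right
  have hy : y ∈ Y.basicOpen (form p D a (L i)) := by
    rw [← preimage_inf p D L h a i]
    exact ⟨ha, hi⟩
  have h1 := (linData p D L h).map_ratio_mul p (i, a) i k (Y.basicOpen (form p D a (L i)))
    le_rfl hW2
  have h2 := congrArg (Y.presheaf.germ _ y hy) h1
  rw [map_mul, TopCat.Presheaf.germ_res_apply, TopCat.Presheaf.germ_res_apply,
    TopCat.Presheaf.germ_res_apply] at h2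
  change _ * Y.presheaf.germ _ y hy (Y.presheaf.map (homOfLE (Y.basicOpen_le _)).op
    (form p D a (L i))) = Y.presheaf.germ _ y hy (Y.presheaf.map
      (homOfLE (Y.basicOpen_le _)).op (form p D a (L k))) at h2
  rw [TopCat.Presheaf.germ_res_apply, TopCat.Presheaf.germ_res_apply] at h2
  rw [← h2]
  congr 1
  exact Scheme.Hom.germ_stalkMap_apply _ _ _ _ _

end Groth.Agent.CycA.MovProj
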