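import Groth.Agent.CycA.MovJetSch
import Groth.Agent.CycA.MovProj

/-!
# Generic linear projections of a smooth projective variety are unramified at given points
-/

set_option autoImplicit false
universe u
open AlgebraicGeometry CategoryTheory Filter IsLocalRing

namespace Groth.Agent.CycA.MovE4

open Groth.Agent.VarietyB.ProjHom Groth.Agent.VarietyB.ProjGlue Groth.Agent.VarietyB.ProjStd
open Groth.Agent.CycA.MovVec Groth.Agent.CycA.MovCoord Groth.Agent.CycA.MovForms
open Groth.Agent.CycA.MovProj Groth.Agent.CycA.MovJet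

attribute [local instance] MvPolynomial.gradedAlgebra

section surj

theorem hom_pullbackData {R : Type u} [CommRing R] {X Y : Scheme.{u}} {I : Type} (g : Y ⟶ X)
    (D : CoordData X I) (p : X ⟶ Spec (CommRingCat.of R)) (i : I) :
    (pullbackData g D).hom (g ≫ p) i = (g.app (D.U i)).hom.comp (D.hom p i) := by
  change MvPolynomial.eval₂Hom (CoordData.baseHom (g ≫ p) (g ⁻¹ᵁ D.U i))
    (fun k => g.app (D.U i) (D.f i k)) = _
  apply MvPolynomial.ringHom_ext
  · intro r
    have h1 : D.hom p i (MvPolynomial.C r) = CoordData.baseHom p (D.U i) r := by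
      simp only [CoordData.hom, MvPolynomial.eval₂Hom_C]
    rw [MvPolynomial.eval₂Hom_C, RingHom.comp_apply, h1]
    simp only [CoordData.baseHom, RingHom.comp_apply]
    have h3 := g.naturality (homOfLE (le_top : D.U i ≤ ⊤)).op
    have h4 := congr(($h3).hom (p.appTop.hom ((Scheme.ΓSpecIso (CommRingCat.of R)).inv.hom r)))
    refine Eq.trans ?_ h4.symm
    rw [Scheme.Hom.comp_appTop]
    rfl
  · intro k
    rw [MvPolynomial.eval₂Hom_X', RingHom.comp_apply, CoordData.hom_X]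

variable {K : Type u} [Field K] {X : Scheme.{u}} {I : Type}

theorem isAffineOpen_U_pullback (ι : X ⟶ Proj (MvPolynomial.homogeneousSubmodule I K))
    [IsAffineHom ι] (a : I) : IsAffineOpen ((pullbackData ι (stdData I K)).U a) :=
  (isAffineOpen_U I K a).preimage ι

theorem hom_surjective (ι : X ⟶ Proj (MvPolynomial.homogeneousSubmodule I K)) [IsClosedImmersion ι]
    (a : I) : Function.Surjective ((pullbackData ι (stdData I K)).hom (ι ≫ toSpec I K) a) := by
  rw [hom_pullbackData]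
  have h1 := ι.app_surjective ((stdData I K).U a) (isAffineOpen_U I K a)
  intro z
  obtain ⟨y, rfl⟩ := h1 z
  obtain ⟨P, rfl⟩ := hom_std_surjective I K a y
  exact ⟨P, rfl⟩

end surj

/-- `f` is unramified at `ζ`. -/
def UnramAt {X Z : Scheme.{u}} (f : X ⟶ Z) (ζ : X) : Prop :=
  (maximalIdeal (Z.presheaf.stalk (f ζ))).map (f.stalkMap ζ).hom =
    maximalIdeal (X.presheaf.stalk ζ) ∧
  (letI := (f.residueFieldMap ζ).hom.toAlgebra;
    Algebra.FormallyUnramified (Z.residueField (f ζ)) (X.residueField ζ))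

section

variable {K : Type u} [Field K] {X : Scheme.{u}} (p : X ⟶ Spec (CommRingCat.of K))
  {I : Type} [Fintype I] [IsIntegral X] [Smooth p] (δ : X → ℤ)
  (hδ : Cyc.DeltaCompat p δ (fun _ => 0)) (n : ℕ) (hn : δ (genericPoint X) = n) (D : CoordData X I)

include hδ hn

theorem unramAt_of_jet (ζ : X) (a : I) (hζ : ζ ∈ D.U a) (ℓ : Fin (n + 1) → (I → K))
    (hl : letI := (cstStalk p ζ).toAlgebra
      LinearIndependent (ResidueField (X.presheaf.stalk ζ))
        (fun j => jetMap K (X.presheaf.stalk ζ) (crdGerm D a hζ) (ℓ j)))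
    {Z : Scheme.{u}} (f : X ⟶ Z) (pZ : Z ⟶ Spec (CommRingCat.of K)) (hf : f ≫ pZ = p)
    (j0 : Fin (n + 1)) (hj0 : ζ ∈ X.basicOpen (form p D a (ℓ j0)))
    (t : Fin (n + 1) → Z.presheaf.stalk (f ζ))
    (ht : ∀ j, (X.presheaf.germ (D.U a) ζ hζ).hom (form p D a (ℓ j)) =
      (f.stalkMap ζ).hom (t j) * (X.presheaf.germ (D.U a) ζ hζ).hom (form p D a (ℓ j0))) :
    UnramAt f ζ := by
  have key := unramified_of_jet p δ hδ n hn D ζ a hζ ℓ hl f pZ hf j0 hj0 t ht
  refine ⟨key.1, ?_⟩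
  let _ := (f.residueFieldMap ζ).hom.toAlgebra
  have hsep := key.2.2.2
  exact Algebra.FormallyUnramified.of_isSeparable _ _

variable [Infinite K] (hD : ∀ a, IsAffineOpen (D.U a)) (hsurj : ∀ a, Function.Surjective (D.hom p a))

include hD hsurj

theorem E4 (ζ : X) : ∀ᶠ ℓ : Fin (n + 1) → I → K in genTuple K (I → K) (n + 1),
    ∀ (h : ⨆ α : Fin (n + 1) × I, X.basicOpen (form p D α.2 (ℓ α.1)) = ⊤),
      UnramAt (linMap p D ℓ h) ζ := by
  have hζ : ζ ∈ ⨆ a, D.U a := by rw [D.iSup_U]; trivial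
  rw [TopologicalSpace.Opens.mem_iSup] at hζ
  obtain ⟨a, ha⟩ := hζ
  filter_upwards [eventually_jet p δ hδ n hn D hD hsurj ζ a ha] with ℓ hℓ
  intro h
  have hj : linMap p D ℓ h ζ ∈ ⨆ k : Fin (n + 1), Proj.basicOpen
      (MvPolynomial.homogeneousSubmodule (Fin (n + 1)) K) (MvPolynomial.X k) := by
    rw [CoordData.iSup_basicOpen_X]; trivial
  rw [TopologicalSpace.Opens.mem_iSup] at hj
  obtain ⟨j0, hj0⟩ := hj
  have hζ0 : ζ ∈ X.basicOpen (form p D a (ℓ j0)) := by
    rw [← preimage_inf p D ℓ h a j0]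
    exact ⟨ha, hj0⟩
  exact unramAt_of_jet p δ hδ n hn D ζ a ha ℓ hℓ (linMap p D ℓ h)
    (toSpec (Fin (n + 1)) K) (linMap_toSpec p D ℓ h) j0 hζ0
    (fun j => (Proj (MvPolynomial.homogeneousSubmodule (Fin (n + 1)) K)).presheaf.germ _ _ hj0
      (ratio (Fin (n + 1)) K j0 j)) (fun j => (stalkMap_ratio p D ℓ h ha j0 j hj0).symm)

end

end Groth.Agent.CycA.MovE4
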