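import Groth.Agent.CycA.MovAlg
import Groth.Agent.CycB.DivFun
import Mathlib.AlgebraicGeometry.Morphisms.Finite
import Mathlib.AlgebraicGeometry.ResidueField
import Mathlib.AlgebraicGeometry.Noetherian
import Mathlib.RingTheory.Unramified.Field

/-!
# Scheme-theoretic forms of the algebra of the moving lemma
-/

set_option autoImplicit false
universe u

open AlgebraicGeometry CategoryTheory CategoryTheory.Limits TopologicalSpace

namespace Groth.Agent.CycA.MovGlob

open Groth.Agent.CycB.DivFun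

section Model

/-- The unramifiedness condition for an arbitrary model of the localization. -/
theorem map_eq_of_model {R S : Type*} [CommRing R] [CommRing S] [Algebra R S] (m : Ideal R)
    (Pz : Ideal S) [Pz.IsPrime] (B : Type*) [CommRing B] [IsLocalRing B] [Algebra S B]
    [IsLocalization.AtPrime B Pz]
    (h : (m.map (algebraMap R S)).map (algebraMap S B) = IsLocalRing.maximalIdeal B) :
    m.map (algebraMap R (Localization.AtPrime Pz)) =
      IsLocalRing.maximalIdeal (Localization.AtPrime Pz) := by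
  have e : B ≃ₐ[S] Localization.AtPrime Pz := IsLocalization.algEquiv Pz.primeCompl _ _
  have h1 : (IsLocalRing.maximalIdeal B) = Pz.map (algebraMap S B) :=
    (IsLocalization.AtPrime.map_eq_maximalIdeal Pz B).symm
  have h2 : (algebraMap S (Localization.AtPrime Pz)) = (e : B →+* _).comp (algebraMap S B) := by
    ext x
    exact (e.commutes x).symm
  rw [IsScalarTower.algebraMap_eq R S (Localization.AtPrime Pz), ← Ideal.map_map, h2,
    ← Ideal.map_map, h, h1, Ideal.map_map, ← h2]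
  exact Localization.AtPrime.map_eq_maximalIdeal

end Model

variable {X Z : Scheme.{u}}

/-- **(B1)** -/
theorem eq_of_apply_eq [IsLocallyNoetherian X] (f : X ⟶ Z) [IsFinite f] (ζ x η : X)
    (h1 : ∀ v, η ⤳ v → f v = f ζ → v = ζ) (h2 : Function.Surjective (f.residueFieldMap ζ))
    (h3 : (IsLocalRing.maximalIdeal (Z.presheaf.stalk (f ζ))).map (f.stalkMap ζ).hom =
      IsLocalRing.maximalIdeal (X.presheaf.stalk ζ)) (hx : x ⤳ ζ) (hη : f x = f η) : x = η := by
  -- `η ⤳ ζ`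
  have hηζ : η ⤳ ζ := by
    have hcl : IsClosed (f '' closure {η}) := f.isClosedMap _ isClosed_closure
    have h4 : f η ⤳ f ζ := hη ▸ hx.map f.continuous
    obtain ⟨v, hv, hv'⟩ := h4.mem_closed hcl ⟨η, subset_closure rfl, rfl⟩
    have h5 := specializes_iff_mem_closure.2 hv
    have h6 := h1 v h5 hv'
    rwa [h6] at h5
  obtain ⟨V, hV, hζV, -⟩ := exists_isAffineOpen_mem_and_subset (X := Z) (x := f ζ) (U := ⊤) trivial
  have hU : IsAffineOpen (f ⁻¹ᵁ V) := hV.preimage f
  have hζU : ζ ∈ f ⁻¹ᵁ V := hζV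
  have hxU : x ∈ f ⁻¹ᵁ V := hx.mem_open (f ⁻¹ᵁ V).2 hζU
  have hηU : η ∈ f ⁻¹ᵁ V := hηζ.mem_open (f ⁻¹ᵁ V).2 hζU
  let _ : Algebra Γ(Z, V) Γ(X, f ⁻¹ᵁ V) := (f.app V).hom.toAlgebra
  have hfin : Module.Finite Γ(Z, V) Γ(X, f ⁻¹ᵁ V) := IsFinite.finite_app f V hV
  have hN : IsNoetherianRing Γ(X, f ⁻¹ᵁ V) :=
    IsLocallyNoetherian.component_noetherian ⟨f ⁻¹ᵁ V, hU⟩
  have hcomap : ∀ (y : X) (hy : y ∈ f ⁻¹ᵁ V),
      ((hU.primeIdealOf ⟨y, hy⟩).asIdeal).comap (algebraMap Γ(Z, V) Γ(X, f ⁻¹ᵁ V)) =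
        (hV.primeIdealOf ⟨f y, hy⟩).asIdeal := by
    intro y hy
    have := IsAffineOpen.comap_primeIdealOf_appLE V hV (f ⁻¹ᵁ V) hU le_rfl (f := f) (x := y) hy
    rw [← this]
    change _ = ((hU.primeIdealOf ⟨y, hy⟩).asIdeal).comap (f.appLE V (f ⁻¹ᵁ V) le_rfl).hom
    rw [Scheme.Hom.appLE_eq_app]
    rfl
  have hmap : ∀ a : Γ(Z, V), X.evaluation (f ⁻¹ᵁ V) ζ hζU (algebraMap Γ(Z, V) Γ(X, f ⁻¹ᵁ V) a) =
      f.residueFieldMap ζ (Z.evaluation V (f ζ) hζV a) := by
    intro a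
    have := Scheme.evaluation_naturality f (V := V) ζ hζV
    have h5 := congrArg (fun φ => φ.hom a) this
    exact h5.symm
  have hmem : ∀ (a : Γ(X, f ⁻¹ᵁ V)), a ∈ (hU.primeIdealOf ⟨ζ, hζU⟩).asIdeal ↔
      X.evaluation (f ⁻¹ᵁ V) ζ hζU a = 0 := by
    intro a
    rw [mem_primeIdealOf_iff, Scheme.evaluation_eq_zero_iff_notMem_basicOpen,
      Scheme.mem_basicOpen _ _ _ hζU]
  have hmemV : ∀ (a : Γ(Z, V)), a ∈ (hV.primeIdealOf ⟨f ζ, hζV⟩).asIdeal ↔
      Z.evaluation V (f ζ) hζV a = 0 := by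
    intro a
    rw [mem_primeIdealOf_iff, Scheme.evaluation_eq_zero_iff_notMem_basicOpen,
      Scheme.mem_basicOpen _ _ _ hζV]
  have key := MovAlg.eq_of_under_eq (R := Γ(Z, V)) (S := Γ(X, f ⁻¹ᵁ V))
    (hU.primeIdealOf ⟨η, hηU⟩).asIdeal (hU.primeIdealOf ⟨x, hxU⟩).asIdeal
    (hU.primeIdealOf ⟨ζ, hζU⟩).asIdeal
    ((primeIdealOf_le_iff hU ⟨η, hηU⟩ ⟨ζ, hζU⟩).2 hηζ)
    ((primeIdealOf_le_iff hU ⟨x, hxU⟩ ⟨ζ, hζU⟩).2 hx) ?_ ?_ ?_ ?_
  · have := primeIdealOf_injective hU (PrimeSpectrum.ext key)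
    exact congrArg Subtype.val this
  · change ((hU.primeIdealOf ⟨x, hxU⟩).asIdeal).comap (algebraMap Γ(Z, V) Γ(X, f ⁻¹ᵁ V)) =
      ((hU.primeIdealOf ⟨η, hηU⟩).asIdeal).comap (algebraMap Γ(Z, V) Γ(X, f ⁻¹ᵁ V))
    rw [hcomap x hxU, hcomap η hηU]
    congr 2
    exact Subtype.ext hη
  · intro P hP hPm hPe
    let p : Spec Γ(X, f ⁻¹ᵁ V) := ⟨P, hP⟩
    have hvU : hU.fromSpec p ∈ f ⁻¹ᵁ V := by
      rw [← SetLike.mem_coe, ← hU.range_fromSpec]
      exact ⟨p, rfl⟩
    have hp : hU.primeIdealOf ⟨hU.fromSpec p, hvU⟩ = p := by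
      apply hU.fromSpec.isOpenEmbedding.injective
      rw [hU.fromSpec_primeIdealOf]
    have h6 : η ⤳ hU.fromSpec p := by
      rw [← primeIdealOf_le_iff hU ⟨η, hηU⟩ ⟨hU.fromSpec p, hvU⟩, hp]
      exact hPe
    have h7 : f (hU.fromSpec p) = f ζ := by
      have h8 : hV.primeIdealOf ⟨f (hU.fromSpec p), hvU⟩ = hV.primeIdealOf ⟨f ζ, hζV⟩ := by
        apply PrimeSpectrum.ext
        rw [← hcomap (hU.fromSpec p) hvU, ← hcomap ζ hζU, hp]
        exact hPm
      exact congrArg Subtype.val (primeIdealOf_injective hV h8)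
    have h8 := h1 _ h6 h7
    have h9 : p = hU.primeIdealOf ⟨ζ, hζU⟩ := by
      rw [← hp]
      congr 1
      exact Subtype.ext h8
    exact congrArg PrimeSpectrum.asIdeal h9
  · intro s
    obtain ⟨y, hy⟩ := h2 (X.evaluation (f ⁻¹ᵁ V) ζ hζU s)
    obtain ⟨r, r', hr', hyr⟩ := exists_evaluation_div hV hζV y
    refine ⟨r, r', ?_, ?_⟩
    · intro hcon
      apply hr'
      rw [← hmemV, ← hcomap ζ hζU]
      exact hcon
    · rw [hmem, map_sub, map_mul, hmap, hmap, ← hy, hyr, ← map_mul, ← map_sub,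
        mul_div_cancel₀ _ hr', sub_self, map_zero]
  · have hloc := hU.isLocalization_stalk ⟨ζ, hζU⟩
    let : Algebra Γ(X, f ⁻¹ᵁ V) (X.presheaf.stalk ζ) :=
      (X.presheaf.germ (f ⁻¹ᵁ V) ζ hζU).hom.toAlgebra
    refine map_eq_of_model _ _ (X.presheaf.stalk ζ) ?_
    have hlocV := hV.isLocalization_stalk ⟨f ζ, hζV⟩
    let : Algebra Γ(Z, V) (Z.presheaf.stalk (f ζ)) := (Z.presheaf.germ V (f ζ) hζV).hom.toAlgebra
    have h5 : ((hV.primeIdealOf ⟨f ζ, hζV⟩).asIdeal).map (algebraMap Γ(Z, V)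
        (Z.presheaf.stalk (f ζ))) = IsLocalRing.maximalIdeal _ :=
      IsLocalization.AtPrime.map_eq_maximalIdeal _ _
    have h6 : (hU.primeIdealOf ⟨ζ, hζU⟩).asIdeal.under Γ(Z, V) =
        (hV.primeIdealOf ⟨f ζ, hζV⟩).asIdeal := hcomap ζ hζU
    rw [h6, ← h3, ← h5, Ideal.map_map, Ideal.map_map]
    congr 1
    change ((X.presheaf.germ (f ⁻¹ᵁ V) ζ hζU).hom).comp (f.app V).hom =
      (f.stalkMap ζ).hom.comp (Z.presheaf.germ V (f ζ) hζV).hom
    rw [← CommRingCat.hom_comp, ← CommRingCat.hom_comp, Scheme.Hom.germ_stalkMap]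

section Field

variable {k L : Type u} [Field k] [Field L] [Algebra k L]

open TensorProduct in
/-- If `L/k` is finite separable and any two `k`-embeddings of `L` in a field agree then `L = k`. -/
theorem algebraMap_surjective_of_forall [Algebra.EssFiniteType k L]
    [Algebra.FormallyUnramified k L]
    (h : ∀ (F : Type u) [Field F] (φ₁ φ₂ : L →+* F),
      φ₁.comp (algebraMap k L) = φ₂.comp (algebraMap k L) → φ₁ = φ₂) :
    Function.Surjective (algebraMap k L) := by
  have hred : IsReduced (L ⊗[k] L) := Algebra.FormallyUnramified.isReduced_of_field L (L ⊗[k] L)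
  have : Module.Finite k L := Algebra.FormallyUnramified.finite_of_free k L
  refine Algebra.isEpi_iff_surjective_algebraMap_of_finite.mp
    ((Algebra.isEpi_iff_forall_one_tmul_eq k L).mpr fun a => ?_)
  rw [← sub_eq_zero]
  set x : L ⊗[k] L := 1 ⊗ₜ[k] a - a ⊗ₜ[k] 1 with hx
  have hnil : x ∈ nilradical (L ⊗[k] L) := by
    rw [nilradical_eq_sInf, Ideal.mem_sInf]
    intro J hJ
    have hJ' : J.IsPrime := hJ
    have h1 := h J.ResidueField
      ((algebraMap (L ⊗[k] L) J.ResidueField).comp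
        (Algebra.TensorProduct.includeLeft (R := k) (S := k) (A := L) (B := L)).toRingHom)
      ((algebraMap (L ⊗[k] L) J.ResidueField).comp
        (Algebra.TensorProduct.includeRight (R := k) (A := L) (B := L)).toRingHom) (by
        rw [RingHom.comp_assoc, RingHom.comp_assoc]
        congr 1
        ext c
        change algebraMap k L c ⊗ₜ[k] (1 : L) = (1 : L) ⊗ₜ[k] algebraMap k L c
        exact Algebra.TensorProduct.tmul_one_eq_one_tmul c)
    have h2 := congrArg (fun φ => φ a) h1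
    have h3 : algebraMap (L ⊗[k] L) J.ResidueField (a ⊗ₜ[k] 1) =
        algebraMap (L ⊗[k] L) J.ResidueField (1 ⊗ₜ[k] a) := h2
    rw [← Ideal.algebraMap_residueField_eq_zero, hx, map_sub, h3, sub_self]
  rwa [nilradical_eq_zero, Ideal.zero_eq_bot, Ideal.mem_bot] at hnil

end Field

/-- Residue field extensions of morphisms locally of finite type are essentially of finite type. -/
theorem essFiniteType_residueFieldMap (f : X ⟶ Z) [LocallyOfFiniteType f] (ζ : X) :
    letI := (f.residueFieldMap ζ).hom.toAlgebra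
    Algebra.EssFiniteType (Z.residueField (f ζ)) (X.residueField ζ) := by
  let _ : Algebra (Z.residueField (f ζ)) (X.residueField ζ) := (f.residueFieldMap ζ).hom.toAlgebra
  let _ : Algebra (Z.presheaf.stalk (f ζ)) (X.presheaf.stalk ζ) := (f.stalkMap ζ).hom.toAlgebra
  let _ : Algebra (Z.presheaf.stalk (f ζ)) (Z.residueField (f ζ)) :=
    (Z.residue (f ζ)).hom.toAlgebra
  let _ : Algebra (X.presheaf.stalk ζ) (X.residueField ζ) := (X.residue ζ).hom.toAlgebra
  let _ : Algebra (Z.presheaf.stalk (f ζ)) (X.residueField ζ) :=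
    ((X.residue ζ).hom.comp (f.stalkMap ζ).hom).toAlgebra
  have t1 : IsScalarTower (Z.presheaf.stalk (f ζ)) (X.presheaf.stalk ζ) (X.residueField ζ) :=
    IsScalarTower.of_algebraMap_eq' rfl
  have t2 : IsScalarTower (Z.presheaf.stalk (f ζ)) (Z.residueField (f ζ)) (X.residueField ζ) := by
    refine IsScalarTower.of_algebraMap_eq' ?_
    change (X.residue ζ).hom.comp (f.stalkMap ζ).hom =
      (f.residueFieldMap ζ).hom.comp (Z.residue (f ζ)).hom
    rw [← CommRingCat.hom_comp, ← CommRingCat.hom_comp, Scheme.residue_residueFieldMap]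
  have e1 : Algebra.EssFiniteType (Z.presheaf.stalk (f ζ)) (X.presheaf.stalk ζ) :=
    LocallyOfFiniteType.stalkMap f ζ
  have e2 : Algebra.FiniteType (X.presheaf.stalk ζ) (X.residueField ζ) :=
    Algebra.FiniteType.of_surjective (Algebra.ofId _ _) (X.residue_surjective ζ)
  have e3 : Algebra.EssFiniteType (Z.presheaf.stalk (f ζ)) (X.residueField ζ) :=
    Algebra.EssFiniteType.comp _ (X.presheaf.stalk ζ) _
  exact Algebra.EssFiniteType.of_comp (Z.presheaf.stalk (f ζ)) _ _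

/-- **(B2)** -/
theorem residueFieldMap_surjective (f : X ⟶ Z) [LocallyOfFiniteType f] (ζ : X)
    (hsep : letI := (f.residueFieldMap ζ).hom.toAlgebra
      Algebra.FormallyUnramified (Z.residueField (f ζ)) (X.residueField ζ))
    (h : ∀ (F : Type u) [Field F] (φ₁ φ₂ : X.residueField ζ →+* F),
      φ₁.comp (f.residueFieldMap ζ).hom = φ₂.comp (f.residueFieldMap ζ).hom → φ₁ = φ₂) :
    Function.Surjective (f.residueFieldMap ζ) := by
  let _ : Algebra (Z.residueField (f ζ)) (X.residueField ζ) := (f.residueFieldMap ζ).hom.toAlgebra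
  have := essFiniteType_residueFieldMap f ζ
  exact algebraMap_surjective_of_forall h

open TensorProduct in
/-- **(B3)** -/
theorem exists_common_point (f : X ⟶ Z) {v ζ : X} (h : f v = f ζ) :
    ∃ (F : Type u) (_ : Field F) (φ₁ : X.residueField v →+* F) (φ₂ : X.residueField ζ →+* F),
      Spec.map (CommRingCat.ofHom φ₁) ≫ X.fromSpecResidueField v ≫ f =
        Spec.map (CommRingCat.ofHom φ₂) ≫ X.fromSpecResidueField ζ ≫ f := by
  let a₁ : Z.residueField (f ζ) →+* X.residueField v :=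
    ((Z.residueFieldCongr h.symm).hom ≫ f.residueFieldMap v).hom
  let a₂ : Z.residueField (f ζ) →+* X.residueField ζ := (f.residueFieldMap ζ).hom
  let _ : Algebra (Z.residueField (f ζ)) (X.residueField v) := a₁.toAlgebra
  let _ : Algebra (Z.residueField (f ζ)) (X.residueField ζ) := a₂.toAlgebra
  let T := X.residueField v ⊗[Z.residueField (f ζ)] X.residueField ζ
  obtain ⟨M, hM⟩ := Ideal.exists_maximal T
  let φ₁ : X.residueField v →+* T ⧸ M := (Ideal.Quotient.mk M).comp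
    (Algebra.TensorProduct.includeLeft (R := Z.residueField (f ζ)) (S := Z.residueField (f ζ))
      (A := X.residueField v) (B := X.residueField ζ)).toRingHom
  let φ₂ : X.residueField ζ →+* T ⧸ M := (Ideal.Quotient.mk M).comp
    (Algebra.TensorProduct.includeRight (R := Z.residueField (f ζ))
      (A := X.residueField v) (B := X.residueField ζ)).toRingHom
  have hφ : φ₁.comp a₁ = φ₂.comp a₂ := by
    ext c
    change Ideal.Quotient.mk M (algebraMap _ (X.residueField v) c ⊗ₜ 1) =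
      Ideal.Quotient.mk M (1 ⊗ₜ algebraMap _ (X.residueField ζ) c)
    rw [Algebra.TensorProduct.tmul_one_eq_one_tmul]
  refine ⟨T ⧸ M, Ideal.Quotient.field M, φ₁, φ₂, ?_⟩
  rw [← Scheme.Hom.SpecMap_residueFieldMap_fromSpecResidueField,
    ← Scheme.Hom.SpecMap_residueFieldMap_fromSpecResidueField,
    ← Scheme.residueFieldCongr_fromSpecResidueField h.symm, ← Category.assoc, ← Category.assoc,
    ← Category.assoc, ← Spec.map_comp, ← Spec.map_comp, ← Spec.map_comp]
  congr 2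
  ext1
  exact hφ

end Groth.Agent.CycA.MovGlob
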