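import Groth.Agent.CycA.MovProj
import Mathlib.AlgebraicGeometry.ResidueField

/-!
# Field-valued points and linear projections
-/

set_option autoImplicit false
universe u
open AlgebraicGeometry CategoryTheory HomogeneousLocalization

namespace Groth.Agent.CycA.MovT4

open Groth.Agent.VarietyB.ProjHom Groth.Agent.VarietyB.ProjGlue Groth.Agent.VarietyB.ProjStd
open Groth.Agent.CycA.MovVec Groth.Agent.CycA.MovCoord Groth.Agent.CycA.MovForms
open Groth.Agent.CycA.MovProj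

attribute [local instance] MvPolynomial.gradedAlgebra

theorem cst_comp_top {K : Type u} [Field K] {Y Z : Scheme.{u}} (f : Y ⟶ Z)
    (q : Z ⟶ Spec (CommRingCat.of K)) (k : K) : f.appTop (cst q ⊤ k) = cst (f ≫ q) ⊤ k := by
  have h1 : ∀ {Y : Scheme.{u}}, Y.presheaf.map (homOfLE (le_top : (⊤ : Y.Opens) ≤ ⊤)).op = 𝟙 _ :=
    fun {Y} => Y.presheaf.map_id _
  unfold cst
  rw [h1, h1, Scheme.Hom.comp_appTop, Category.comp_id, Category.comp_id]
  rfl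

theorem kF_comp {K : Type u} [Field K] {Y Z : Scheme.{u}} (f : Y ⟶ Z)
    (q : Z ⟶ Spec (CommRingCat.of K)) {y : Y} {F : Type u} [Field F]
    (φ : Y.residueField y →+* F) :
    kF (f ≫ q) φ = kF q (φ.comp (f.residueFieldMap y).hom) := by
  ext k
  change φ ((Y.evaluation ⊤ y trivial).hom (cst (f ≫ q) ⊤ k)) =
    φ ((f.residueFieldMap y).hom ((Z.evaluation ⊤ (f y) trivial).hom (cst q ⊤ k)))
  rw [← cst_comp_top]
  congr 1
  have h1 := Scheme.evaluation_naturality_apply f (V := ⊤) y trivial (cst q ⊤ k)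
  exact h1.symm

theorem kF_congr {K : Type u} [Field K] {Z : Scheme.{u}} (q : Z ⟶ Spec (CommRingCat.of K))
    {F : Type u} [Field F] {z z' : Z} {ψ : Z.residueField z ⟶ CommRingCat.of F}
    {ψ' : Z.residueField z' ⟶ CommRingCat.of F}
    (h : (⟨z, ψ⟩ : Σ z : Z, Z.residueField z ⟶ CommRingCat.of F) = ⟨z', ψ'⟩) :
    kF q ψ.hom = kF q ψ'.hom := by
  cases h; rfl

theorem crd_congr {Z : Scheme.{u}} {J : Type} (D : CoordData Z J)
    {F : Type u} [Field F] {z z' : Z} {ψ : Z.residueField z ⟶ CommRingCat.of F}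
    {ψ' : Z.residueField z' ⟶ CommRingCat.of F}
    (h : (⟨z, ψ⟩ : Σ z : Z, Z.residueField z ⟶ CommRingCat.of F) = ⟨z', ψ'⟩) (i k : J)
    (hz : z ∈ D.U i) (hz' : z' ∈ D.U i) : crd D i hz ψ.hom k = crd D i hz' ψ'.hom k := by
  cases h; rfl

theorem specMap_comp_residueFieldMap {Y Z : Scheme.{u}} (f : Y ⟶ Z) {R : CommRingCat.{u}} {y : Y}
    (ψ : Y.residueField y ⟶ R) :
    Spec.map (f.residueFieldMap y ≫ ψ) ≫ Z.fromSpecResidueField (f y) =
      Spec.map ψ ≫ Y.fromSpecResidueField y ≫ f := by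
  rw [Spec.map_comp, Category.assoc, Scheme.Hom.SpecMap_residueFieldMap_fromSpecResidueField]

/-- Equality of field-valued points in terms of residue fields. -/
theorem sigma_eq {Y₁ Y₂ Z : Scheme.{u}} {f₁ : Y₁ ⟶ Z} {f₂ : Y₂ ⟶ Z} {F : Type u} [Field F]
    {y₁ : Y₁} {y₂ : Y₂} (φ₁ : Y₁.residueField y₁ →+* F) (φ₂ : Y₂.residueField y₂ →+* F)
    (heq : Spec.map (CommRingCat.ofHom φ₁) ≫ Y₁.fromSpecResidueField y₁ ≫ f₁ =
      Spec.map (CommRingCat.ofHom φ₂) ≫ Y₂.fromSpecResidueField y₂ ≫ f₂) :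
    (⟨f₁ y₁, f₁.residueFieldMap y₁ ≫ CommRingCat.ofHom φ₁⟩ :
      Σ z : Z, Z.residueField z ⟶ CommRingCat.of F) =
      ⟨f₂ y₂, f₂.residueFieldMap y₂ ≫ CommRingCat.ofHom φ₂⟩ := by
  apply (Scheme.SpecToEquivOfField F Z).symm.injective
  exact (specMap_comp_residueFieldMap f₁ (CommRingCat.ofHom φ₁)).trans
    (heq.trans (specMap_comp_residueFieldMap f₂ (CommRingCat.ofHom φ₂)).symm)

/-- The coordinates of the image point. -/
theorem crd_linMap_mul {K : Type u} [Field K] {Y : Scheme.{u}} (p : Y ⟶ Spec (CommRingCat.of K))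
    {I J : Type} [Fintype I] (D : CoordData Y I) (L : J → I → K)
    (h : ⨆ α : J × I, Y.basicOpen (form p D α.2 (L α.1)) = ⊤) {F : Type u} [Field F] {y : Y}
    (φ : Y.residueField y →+* F) {a : I} (ha : y ∈ D.U a) (i k : J)
    (hi : linMap p D L h y ∈ (stdData J K).U i) :
    crd (stdData J K) i hi ((linMap p D L h).residueFieldMap y ≫ CommRingCat.ofHom φ).hom k *
      val p D a ha φ (L i) = val p D a ha φ (L k) := by
  have h1 := congrArg (fun z => φ (Y.residue y z)) (stalkMap_ratio p D L h ha i k hi)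
  simp only [map_mul] at h1
  have h2 : crd (stdData J K) i hi
      ((linMap p D L h).residueFieldMap y ≫ CommRingCat.ofHom φ).hom k =
      φ (Y.residue y ((linMap p D L h).stalkMap y
        ((Proj (MvPolynomial.homogeneousSubmodule J K)).presheaf.germ _ _ hi (ratio J K i k)))) := by
    unfold crd
    change φ (((Proj (MvPolynomial.homogeneousSubmodule J K)).residue _ ≫
      (linMap p D L h).residueFieldMap y).hom _) = φ (((linMap p D L h).stalkMap y ≫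
        Y.residue y).hom _)
    rw [Scheme.residue_residueFieldMap]
    rfl
  rw [h2]
  exact h1

theorem val_ne_zero {K : Type u} [Field K] {Y : Scheme.{u}} (p : Y ⟶ Spec (CommRingCat.of K))
    {I J : Type} [Fintype I] (D : CoordData Y I) (L : J → I → K)
    (h : ⨆ α : J × I, Y.basicOpen (form p D α.2 (L α.1)) = ⊤) {F : Type u} [Field F] {y : Y}
    (φ : Y.residueField y →+* F) {a : I} (ha : y ∈ D.U a) (i : J)
    (hi : linMap p D L h y ∈ (stdData J K).U i) : val p D a ha φ (L i) ≠ 0 := by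
  have h1 : y ∈ Y.basicOpen (form p D a (L i)) := by
    rw [← preimage_inf p D L h a i]
    exact ⟨ha, hi⟩
  rw [Scheme.mem_basicOpen _ _ _ ha] at h1
  unfold MovCoord.val
  rw [map_ne_zero]
  exact (h1.map (Y.residue y).hom).ne_zero

theorem T4 {K : Type u} [Field K] {Y₁ Y₂ : Scheme.{u}} (p₁ : Y₁ ⟶ Spec (CommRingCat.of K))
    (p₂ : Y₂ ⟶ Spec (CommRingCat.of K)) {I₁ I₂ J : Type} [Fintype I₁] [Fintype I₂]
    (D₁ : CoordData Y₁ I₁) (D₂ : CoordData Y₂ I₂) (L₁ : J → I₁ → K) (L₂ : J → I₂ → K)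
    (h₁ : ⨆ α : J × I₁, Y₁.basicOpen (form p₁ D₁ α.2 (L₁ α.1)) = ⊤)
    (h₂ : ⨆ α : J × I₂, Y₂.basicOpen (form p₂ D₂ α.2 (L₂ α.1)) = ⊤)
    {F : Type u} [Field F] {y₁ : Y₁} {y₂ : Y₂} (φ₁ : Y₁.residueField y₁ →+* F)
    (φ₂ : Y₂.residueField y₂ →+* F)
    (heq : Spec.map (CommRingCat.ofHom φ₁) ≫ Y₁.fromSpecResidueField y₁ ≫ linMap p₁ D₁ L₁ h₁ =
      Spec.map (CommRingCat.ofHom φ₂) ≫ Y₂.fromSpecResidueField y₂ ≫ linMap p₂ D₂ L₂ h₂) :
    kF p₁ φ₁ = kF p₂ φ₂ ∧ ∀ (a : I₁) (b : I₂) (ha : y₁ ∈ D₁.U a) (hb : y₂ ∈ D₂.U b),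
      ∃ μ : F, μ ≠ 0 ∧ ∀ k, val p₁ D₁ a ha φ₁ (L₁ k) = μ * val p₂ D₂ b hb φ₂ (L₂ k) := by
  have hs := sigma_eq φ₁ φ₂ heq
  constructor
  · have e1 := linMap_toSpec p₁ D₁ L₁ h₁
    have e2 := linMap_toSpec p₂ D₂ L₂ h₂
    have k1 := kF_comp (linMap p₁ D₁ L₁ h₁) (Groth.Agent.VarietyB.ProjStd.toSpec J K) φ₁
    have k2 := kF_comp (linMap p₂ D₂ L₂ h₂) (Groth.Agent.VarietyB.ProjStd.toSpec J K) φ₂
    rw [e1] at k1
    rw [e2] at k2
    rw [k1, k2]
    exact kF_congr (Groth.Agent.VarietyB.ProjStd.toSpec J K) hs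
  · intro a b ha hb
    have hz : linMap p₁ D₁ L₁ h₁ y₁ ∈ ⨆ i, (stdData J K).U i := by
      rw [(stdData J K).iSup_U]; trivial
    obtain ⟨i, hi⟩ := TopologicalSpace.Opens.mem_iSup.1 hz
    have hz2 : linMap p₁ D₁ L₁ h₁ y₁ = linMap p₂ D₂ L₂ h₂ y₂ := congrArg Sigma.fst hs
    have hi2 : linMap p₂ D₂ L₂ h₂ y₂ ∈ (stdData J K).U i := hz2 ▸ hi
    have n1 := val_ne_zero p₁ D₁ L₁ h₁ φ₁ ha i hi
    have n2 := val_ne_zero p₂ D₂ L₂ h₂ φ₂ hb i hi2
    refine ⟨val p₁ D₁ a ha φ₁ (L₁ i) / val p₂ D₂ b hb φ₂ (L₂ i), div_ne_zero n1 n2, fun k => ?_⟩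
    rw [← crd_linMap_mul p₁ D₁ L₁ h₁ φ₁ ha i k hi, ← crd_linMap_mul p₂ D₂ L₂ h₂ φ₂ hb i k hi2,
      crd_congr (stdData J K) hs i k hi hi2]
    field_simp

end Groth.Agent.CycA.MovT4
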