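import Groth.Agent.CycA.MovFinite

/-!
# Field-valued points of a subscheme of projective space with proportional coordinates are equal

`T6`: statement used in the proof of the moving lemma.
-/

set_option autoImplicit false
universe u
open AlgebraicGeometry CategoryTheory

namespace Groth.Agent.CycA.MovT6

open Groth.Agent.VarietyB.ProjStd Groth.Agent.VarietyB.ProjGlue Groth.Agent.CycA.MovCoord
  Groth.Agent.CycA.MovProj Groth.Agent.CycA.MovForms

attribute [local instance] MvPolynomial.gradedAlgebra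

/-- A field-valued point in an affine open is given by the evaluation. -/
theorem map_fromSpecResidueField {Z : Scheme.{u}} {V : Z.Opens} (hV : IsAffineOpen V) {z : Z}
    (hz : z ∈ V) {F : CommRingCat.{u}} (ψ : Z.residueField z ⟶ F) :
    Spec.map ψ ≫ Z.fromSpecResidueField z =
      Spec.map (Z.evaluation V z hz ≫ ψ) ≫ hV.fromSpec := by
  rw [Scheme.evaluation, Scheme.fromSpecResidueField, ← hV.fromSpecStalk_eq_fromSpecStalk hz,
    IsAffineOpen.fromSpecStalk]
  simp only [Spec.map_comp, Category.assoc]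

variable {K : Type u} [Field K]

theorem point_eq {Z : Scheme.{u}} {V : Z.Opens} (hV : IsAffineOpen V) {F : CommRingCat.{u}}
    {X : Scheme.{u}} (ι : X ⟶ Z) {x : X} (hx : ι x ∈ V) (φ : X.residueField x ⟶ F) :
    Spec.map φ ≫ X.fromSpecResidueField x ≫ ι =
      Spec.map (ι.app V ≫ X.evaluation (ι ⁻¹ᵁ V) x hx ≫ φ) ≫ hV.fromSpec := by
  rw [← Scheme.Hom.SpecMap_residueFieldMap_fromSpecResidueField, ← Category.assoc,
    ← Spec.map_comp, map_fromSpecResidueField hV hx, Scheme.evaluation_naturality_assoc]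

theorem T6 {X : Scheme.{u}} {I : Type} [Fintype I]
    (ι : X ⟶ Proj (MvPolynomial.homogeneousSubmodule I K)) [Mono ι] {F : Type u} [Field F]
    {x₁ x₂ : X} (φ₁ : X.residueField x₁ →+* F) (φ₂ : X.residueField x₂ →+* F)
    (hK : kF (ι ≫ toSpec I K) φ₁ = kF (ι ≫ toSpec I K) φ₂) (a b : I)
    (h₁ : x₁ ∈ (pullbackData ι (stdData I K)).U a) (h₂ : x₂ ∈ (pullbackData ι (stdData I K)).U b)
    (μ : F) (h : ∀ i, crd (pullbackData ι (stdData I K)) a h₁ φ₁ i =
      μ * crd (pullbackData ι (stdData I K)) b h₂ φ₂ i) :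
    Spec.map (CommRingCat.ofHom φ₁) ≫ X.fromSpecResidueField x₁ =
      Spec.map (CommRingCat.ofHom φ₂) ≫ X.fromSpecResidueField x₂ := by
  -- `x₂` lies in the chart `a`
  have ha := h a
  rw [crd_self] at ha
  have hne : crd (pullbackData ι (stdData I K)) b h₂ φ₂ a ≠ 0 := by
    intro h0
    rw [h0, mul_zero] at ha
    exact one_ne_zero ha
  have h₂' : x₂ ∈ (pullbackData ι (stdData I K)).U a := by
    have h3 : x₂ ∈ X.basicOpen ((pullbackData ι (stdData I K)).f b a) := by
      rw [← Scheme.evaluation_ne_zero_iff_mem_basicOpen X x₂ h₂]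
      intro h0
      exact hne (by unfold crd; rw [h0, map_zero])
    rw [pullbackData_basicOpen ι (stdData I K) (stdData_basicOpen I K)] at h3
    exact h3.2
  have hc : ∀ i, crd (pullbackData ι (stdData I K)) a h₁ φ₁ i =
      crd (pullbackData ι (stdData I K)) a h₂' φ₂ i := by
    intro i
    rw [h i, crd_change _ b a h₂ h₂' φ₂ i, ← mul_assoc, ← ha, one_mul]
  rw [← cancel_mono ι, Category.assoc, Category.assoc]
  refine (point_eq (isAffineOpen_U I K a) ι h₁ (F := CommRingCat.of F)
    (CommRingCat.ofHom φ₁)).trans (Eq.trans ?_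
    (point_eq (isAffineOpen_U I K a) ι h₂' (F := CommRingCat.of F) (CommRingCat.ofHom φ₂)).symm)
  congr 2
  have hs := hom_std_surjective I K a
  have key : (φ₁.comp ((X.evaluation (ι ⁻¹ᵁ (stdData I K).U a) x₁ h₁).hom.comp
      (ι.app ((stdData I K).U a)).hom)).comp ((stdData I K).hom (toSpec I K) a) =
      (φ₂.comp ((X.evaluation (ι ⁻¹ᵁ (stdData I K).U a) x₂ h₂').hom.comp
      (ι.app ((stdData I K).U a)).hom)).comp ((stdData I K).hom (toSpec I K) a) := by
    apply MvPolynomial.ringHom_ext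
    · intro k
      have h4 : (stdData I K).hom (toSpec I K) a (MvPolynomial.C k) =
          cst (toSpec I K) ((stdData I K).U a) k := by
        simp only [CoordData.hom, MvPolynomial.eval₂Hom_C]
        rfl
      have h5 := RingHom.congr_fun hK k
      rw [kF_apply _ φ₁ (ι ⁻¹ᵁ (stdData I K).U a) h₁, kF_apply _ φ₂ (ι ⁻¹ᵁ (stdData I K).U a) h₂',
        MovFinite.app_cst] at h5
      change φ₁ (X.evaluation (ι ⁻¹ᵁ (stdData I K).U a) x₁ h₁ (ι.app ((stdData I K).U a)
        ((stdData I K).hom (toSpec I K) a (MvPolynomial.C k)))) =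
        φ₂ (X.evaluation (ι ⁻¹ᵁ (stdData I K).U a) x₂ h₂' (ι.app ((stdData I K).U a)
        ((stdData I K).hom (toSpec I K) a (MvPolynomial.C k))))
      rw [h4]
      exact h5
    · intro i
      change φ₁ (X.evaluation (ι ⁻¹ᵁ (stdData I K).U a) x₁ h₁ (ι.app ((stdData I K).U a)
        ((stdData I K).hom (toSpec I K) a (MvPolynomial.X i)))) =
        φ₂ (X.evaluation (ι ⁻¹ᵁ (stdData I K).U a) x₂ h₂' (ι.app ((stdData I K).U a)
        ((stdData I K).hom (toSpec I K) a (MvPolynomial.X i))))
      rw [CoordData.hom_X]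
      exact hc i
  ext s
  obtain ⟨t, rfl⟩ := hs s
  exact congrArg (fun f => f t) key

end Groth.Agent.CycA.MovT6
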