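import Groth.Agent.Sga5.ProjSmooth
import Groth.Agent.CohqA.ProjDim
import Groth.Agent.Dix.ProjProper
import Groth.Agent.VarietyB.ProjStd
import Groth.Agent.CycA.ProdDim
import Groth.Agent.CycA.SetupField
import Groth.Agent.CycA.SerreGeom
import Groth.Agent.CycB.FiniteFlat
import Groth.Agent.FlatA.DimFin

/-!
# Projective space as the target of the linear projections (for S1948)

`P^n_K` is smooth, proper and integral of dimension `n`; a quasi-finite `K`-morphism preserves the
dimension of points.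
-/

set_option autoImplicit false
universe u
open CategoryTheory CategoryTheory.Limits AlgebraicGeometry TopologicalSpace

namespace Groth.Agent.CycA.MovZ

attribute [local instance] MvPolynomial.gradedAlgebra

open Groth.Agent.CycB.RelDim

section Z

variable (K : Type u) [Field K] (n : ℕ)

theorem smooth_toSpec : Smooth (VarietyB.ProjStd.toSpec (Fin (n + 1)) K) := by
  have : SmoothOfRelativeDimension n (CohB1.ProjSpace.toSpec n K) :=
    Sga5.ProjSmooth.smooth_toSpec n K
  exact SmoothOfRelativeDimension.smooth n (CohB1.ProjSpace.toSpec n K)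

theorem isProper_toSpec : IsProper (VarietyB.ProjStd.toSpec (Fin (n + 1)) K) :=
  Dix.ProjProper.isProper_toSpec n K

theorem isIntegral_proj : IsIntegral (Proj (MvPolynomial.homogeneousSubmodule (Fin (n + 1)) K)) :=
  (inferInstance : IsIntegral (CohB1.ProjSpace n K))

/-- `dim P^n_K = n`. -/
theorem topologicalKrullDim_proj :
    topologicalKrullDim (Proj (MvPolynomial.homogeneousSubmodule (Fin (n + 1)) K)) = n := by
  have : IsIntegral (CohB1.ProjSpace n K) := inferInstance
  have h1 : LocallyOfFiniteType (CohB1.ProjSpace.toSpec n K) :=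
    (Dix.ProjProper.isProper_toSpec n K).toLocallyOfFiniteType
  have h2 := ProdDim.dim_of_isOpenImmersion (CohB1.ProjSpace.toSpec n K)
    (Sga5.ProjSmooth.chart n K 0)
  refine h2.symm.trans ?_
  rw [← FlatA.DimFin.ringKrullDim_mvPolynomial_fin K n]
  exact PrimeSpectrum.topologicalKrullDim_eq_ringKrullDim _

theorem exists_delta : ∃ δZ : ↥(Proj (MvPolynomial.homogeneousSubmodule (Fin (n + 1)) K)) → ℤ,
    Cyc.DeltaCompat (VarietyB.ProjStd.toSpec (Fin (n + 1)) K) δZ (fun _ => 0) := by
  have := smooth_toSpec K n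
  exact SerreGeom.exists_deltaCompat _

variable {K n}

theorem isSetup {δZ : ↥(Proj (MvPolynomial.homogeneousSubmodule (Fin (n + 1)) K)) → ℤ}
    (hZ : Cyc.DeltaCompat (VarietyB.ProjStd.toSpec (Fin (n + 1)) K) δZ (fun _ => 0)) :
    Cyc.IsSetup (Proj (MvPolynomial.homogeneousSubmodule (Fin (n + 1)) K)) δZ := by
  have := smooth_toSpec K n
  exact SetupField.isSetup_of_field _ hZ

/-- The dimension of the generic point of an integral `K`-scheme. -/
theorem topologicalKrullDim_eq {X : Scheme.{u}} (f : X ⟶ Spec (CommRingCat.of K))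
    [LocallyOfFiniteType f] [IsIntegral X] {δ : X → ℤ}
    (hδ : Cyc.DeltaCompat f δ (fun _ => 0)) :
    ∃ d : ℕ, topologicalKrullDim X = d ∧ δ (genericPoint X) = d := by
  obtain ⟨d, h1, h2⟩ := ProdDim.exists_dim f
  obtain ⟨a, ha, ha'⟩ := (deltaCompat_iff.1 hδ) (genericPoint X)
  refine ⟨d, h2, ?_⟩
  rw [ha'] 
  have h3 : a = d := by exact_mod_cast ha.symm.trans h1
  rw [h3, zero_add]

theorem delta_genericPoint {δZ : ↥(Proj (MvPolynomial.homogeneousSubmodule (Fin (n + 1)) K)) → ℤ}
    (hZ : Cyc.DeltaCompat (VarietyB.ProjStd.toSpec (Fin (n + 1)) K) δZ (fun _ => 0))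
    [IrreducibleSpace ↥(Proj (MvPolynomial.homogeneousSubmodule (Fin (n + 1)) K))] :
    δZ (genericPoint ↥(Proj (MvPolynomial.homogeneousSubmodule (Fin (n + 1)) K))) = n := by
  have := smooth_toSpec K n
  have := isIntegral_proj K n
  obtain ⟨d, h1, h2⟩ := topologicalKrullDim_eq (VarietyB.ProjStd.toSpec (Fin (n + 1)) K) hZ
  rw [topologicalKrullDim_proj] at h1
  have h3 : n = d := by exact_mod_cast h1
  rw [h2, h3]

end Z

section Delta

variable {K : Type u} [Field K] {X Z : Scheme.{u}}

/-- A quasi-finite `K`-morphism preserves the dimension of points. -/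
theorem delta_eq (f : X ⟶ Z) [LocallyQuasiFinite f] (g : Z ⟶ Spec (CommRingCat.of K))
    (p : X ⟶ Spec (CommRingCat.of K)) (h : f ≫ g = p) {δ : X → ℤ} {δZ : Z → ℤ}
    (hδ : Cyc.DeltaCompat p δ (fun _ => 0)) (hZ : Cyc.DeltaCompat g δZ (fun _ => 0)) (x : X) :
    δZ (f x) = δ x := by
  subst h
  obtain ⟨a, ha, ha'⟩ := (deltaCompat_iff.1 hδ) x
  obtain ⟨b, hb, hb'⟩ := (deltaCompat_iff.1 hZ) (f x)
  have h0 : rtd f x = 0 := by
    let i : Algebra (Z.residueField (f x)) (X.residueField x) := (f.residueFieldMap x).hom.toAlgebra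
    have hfin : Module.Finite (Z.residueField (f x)) (X.residueField x) :=
      CycB.FiniteFlat.residueFieldMap_finite f x
    exact trdeg_eq_zero_iff.mpr inferInstance
  have h1 := rtd_comp f g x
  rw [h0, add_zero, ha, hb] at h1
  have h3 : a = b := by exact_mod_cast h1
  rw [ha', hb', h3]

/-- A quasi-finite `K`-morphism of `K`-schemes is compatible with the dimension functions. -/
theorem deltaCompat (f : X ⟶ Z) [LocallyQuasiFinite f] (g : Z ⟶ Spec (CommRingCat.of K))
    (p : X ⟶ Spec (CommRingCat.of K)) (h : f ≫ g = p) {δ : X → ℤ} {δZ : Z → ℤ}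
    (hδ : Cyc.DeltaCompat p δ (fun _ => 0)) (hZ : Cyc.DeltaCompat g δZ (fun _ => 0)) :
    Cyc.DeltaCompat f δ δZ := by
  rw [deltaCompat_iff]
  intro x
  refine ⟨0, ?_, ?_⟩
  · let i : Algebra (Z.residueField (f x)) (X.residueField x) := (f.residueFieldMap x).hom.toAlgebra
    have hfin : Module.Finite (Z.residueField (f x)) (X.residueField x) :=
      CycB.FiniteFlat.residueFieldMap_finite f x
    exact (trdeg_eq_zero_iff.mpr inferInstance).trans (by simp)
  · rw [delta_eq f g p h hδ hZ x]
    simp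

/-- `0 ≤ δ x`. -/
theorem delta_nonneg {p : X ⟶ Spec (CommRingCat.of K)} {δ : X → ℤ}
    (hδ : Cyc.DeltaCompat p δ (fun _ => 0)) (x : X) : 0 ≤ δ x :=
  SerreGeom.delta_nonneg hδ x

/-- `δ x ≤ δ (generic point)`. -/
theorem delta_le [IrreducibleSpace X] {δ : X → ℤ} (hδ : Cyc.IsDimFun X δ) (x : X) :
    δ x ≤ δ (genericPoint X) := by
  by_cases h : genericPoint X = x
  · rw [h]
  · exact (hδ _ _ (genericPoint_specializes x) h).1.le

/-- A point of maximal dimension is the generic point. -/
theorem eq_genericPoint_of_le [IrreducibleSpace X] {δ : X → ℤ} (hδ : Cyc.IsDimFun X δ) (x : X)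
    (hx : δ (genericPoint X) ≤ δ x) : x = genericPoint X := by
  by_contra h
  exact absurd (hδ _ _ (genericPoint_specializes x) (Ne.symm h)).1 (not_lt.2 hx)

end Delta

end Groth.Agent.CycA.MovZ
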