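import Groth.Agent.CycA.MovP1
import Groth.Agent.CycA.MovGlob
import Groth.Agent.CycA.MovT4
import Groth.Agent.CycA.MovT6
import Groth.Agent.CycA.MovDouble2
import Groth.Agent.CycA.MovZ
import Groth.Agent.CycA.MovFin
import Groth.Agent.CycA.MovLemmaM

/-!
# Excess of dimension for generic linear projections
-/

set_option autoImplicit false
universe u
open AlgebraicGeometry CategoryTheory HomogeneousLocalization

namespace Groth.Agent.CycA.MovExc

open Groth.Agent.VarietyB.ProjHom Groth.Agent.VarietyB.ProjGlue Groth.Agent.VarietyB.ProjStd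
open Groth.Agent.CycA.MovVec Groth.Agent.CycA.MovCoord Groth.Agent.CycA.MovForms
open Groth.Agent.CycA.MovProj Groth.Agent.CycA.MovGlob Groth.Agent.CycA.MovT4
  Groth.Agent.CycA.MovT6

attribute [local instance] MvPolynomial.gradedAlgebra

open TensorProduct in
/-- Common points of two morphisms. -/
theorem exists_common_point₂ {X X' Z : Scheme.{u}} (f : X ⟶ Z) (f' : X' ⟶ Z) {v : X} {ζ : X'}
    (h : f v = f' ζ) :
    ∃ (F : Type u) (_ : Field F) (φ₁ : X.residueField v →+* F) (φ₂ : X'.residueField ζ →+* F),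
      Spec.map (CommRingCat.ofHom φ₁) ≫ X.fromSpecResidueField v ≫ f =
        Spec.map (CommRingCat.ofHom φ₂) ≫ X'.fromSpecResidueField ζ ≫ f' := by
  let a₁ : Z.residueField (f' ζ) →+* X.residueField v :=
    ((Z.residueFieldCongr h.symm).hom ≫ f.residueFieldMap v).hom
  let a₂ : Z.residueField (f' ζ) →+* X'.residueField ζ := (f'.residueFieldMap ζ).hom
  let _ : Algebra (Z.residueField (f' ζ)) (X.residueField v) := a₁.toAlgebra
  let _ : Algebra (Z.residueField (f' ζ)) (X'.residueField ζ) := a₂.toAlgebra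
  let T := X.residueField v ⊗[Z.residueField (f' ζ)] X'.residueField ζ
  obtain ⟨M, hM⟩ := Ideal.exists_maximal T
  let φ₁ : X.residueField v →+* T ⧸ M := (Ideal.Quotient.mk M).comp
    (Algebra.TensorProduct.includeLeft (R := Z.residueField (f' ζ)) (S := Z.residueField (f' ζ))
      (A := X.residueField v) (B := X'.residueField ζ)).toRingHom
  let φ₂ : X'.residueField ζ →+* T ⧸ M := (Ideal.Quotient.mk M).comp
    (Algebra.TensorProduct.includeRight (R := Z.residueField (f' ζ))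
      (A := X.residueField v) (B := X'.residueField ζ)).toRingHom
  have hφ : φ₁.comp a₁ = φ₂.comp a₂ := by
    ext c
    change Ideal.Quotient.mk M (algebraMap _ (X.residueField v) c ⊗ₜ 1) =
      Ideal.Quotient.mk M (1 ⊗ₜ algebraMap _ (X'.residueField ζ) c)
    rw [Algebra.TensorProduct.tmul_one_eq_one_tmul]
  refine ⟨T ⧸ M, Ideal.Quotient.field M, φ₁, φ₂, ?_⟩
  rw [← Scheme.Hom.SpecMap_residueFieldMap_fromSpecResidueField,
    ← Scheme.Hom.SpecMap_residueFieldMap_fromSpecResidueField,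
    ← Scheme.residueFieldCongr_fromSpecResidueField h.symm, ← Category.assoc, ← Category.assoc,
    ← Category.assoc, ← Spec.map_comp, ← Spec.map_comp, ← Spec.map_comp]
  congr 2
  ext1
  exact hφ

section

variable {K : Type u} [Field K] {I : Type} [Fintype I] {X : Scheme.{u}}
  (ι : X ⟶ Proj (MvPolynomial.homogeneousSubmodule I K)) (δ : X → ℤ) (m : ℕ)

local notation "pp" => (ι ≫ Groth.Agent.VarietyB.ProjStd.toSpec I K)
local notation "DD" => (pullbackData ι (stdData I K))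

/-- The conclusion of `E1` for `ℓ`. -/
def Good1 (η τ : X) (ℓ : Fin m → I → K) : Prop :=
  ∀ (F : Type u) [Field F] (x₁ x₂ : X)
    (φ₁ : X.residueField x₁ →+* F) (φ₂ : X.residueField x₂ →+* F), kF pp φ₁ = kF pp φ₂ →
    η ⤳ x₁ → τ ⤳ x₂ → ∀ (a b : I) (h₁ : x₁ ∈ (DD).U a) (h₂ : x₂ ∈ (DD).U b) (μ : F),
    (∃ i, crd DD a h₁ φ₁ i ≠ μ * crd DD b h₂ φ₂ i) →
    (∀ j, val pp DD a h₁ φ₁ (ℓ j) = μ * val pp DD b h₂ φ₂ (ℓ j)) → δ x₂ + m ≤ δ η + δ τ + 1

/-- The conclusion of `E2` for `ℓ'`. -/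
def Good2 (η τ : X) (ℓ ℓ' : Fin m → I → K) : Prop :=
  ∀ (F : Type u) [Field F] (x₁ x₂ : X)
    (φ₁ : X.residueField x₁ →+* F) (φ₂ : X.residueField x₂ →+* F), kF pp φ₁ = kF pp φ₂ →
    η ⤳ x₁ → τ ⤳ x₂ → ∀ (a b : I) (h₁ : x₁ ∈ (DD).U a) (h₂ : x₂ ∈ (DD).U b) (μ : F),
    (∀ j, val pp DD b h₂ φ₂ (ℓ' j) = μ * val pp DD a h₁ φ₁ (ℓ j)) → δ x₂ + m ≤ δ η + δ τ + 1

theorem exists_chart {Y : Scheme.{u}} {I : Type} (D : CoordData Y I) (x : Y) : ∃ a, x ∈ D.U a := by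
  have : x ∈ ⨆ a, D.U a := by rw [D.iSup_U]; trivial
  exact TopologicalSpace.Opens.mem_iSup.1 this

variable {ι δ m}

/-- Points with the same image coincide unless the dimension is small. -/
theorem eq_of_good1 [Mono ι] {η τ : X} {ℓ : Fin m → I → K} (hg : Good1 ι δ m η τ ℓ)
    (h₀ : ⨆ α : Fin m × I, X.basicOpen (form pp DD α.2 (ℓ α.1)) = ⊤) {F : Type u} [Field F]
    {v ζ : X} (φ₁ : X.residueField v →+* F) (φ₂ : X.residueField ζ →+* F) (hη : η ⤳ v)
    (hτ : τ ⤳ ζ) (hlt : δ η + δ τ + 1 < δ ζ + m)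
    (heq : Spec.map (CommRingCat.ofHom φ₁) ≫ X.fromSpecResidueField v ≫ linMap pp DD ℓ h₀ =
      Spec.map (CommRingCat.ofHom φ₂) ≫ X.fromSpecResidueField ζ ≫ linMap pp DD ℓ h₀) :
    Spec.map (CommRingCat.ofHom φ₁) ≫ X.fromSpecResidueField v =
      Spec.map (CommRingCat.ofHom φ₂) ≫ X.fromSpecResidueField ζ := by
  obtain ⟨hK, h⟩ := T4 pp pp DD DD ℓ ℓ h₀ h₀ φ₁ φ₂ heq
  obtain ⟨a, ha⟩ := exists_chart DD v
  obtain ⟨b, hb⟩ := exists_chart DD ζ
  obtain ⟨μ, hμ, hval⟩ := h a b ha hb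
  by_contra hne
  have h1 := hg F v ζ φ₁ φ₂ hK hη hτ a b ha hb μ (by
    by_contra hcon
    push Not at hcon
    exact hne (T6 ι φ₁ φ₂ hK a b ha hb μ hcon)) hval
  omega

theorem specMap_fromSpecResidueField_apply {F : Type u} [Field F] {v : X}
    (φ : X.residueField v →+* F) (t : Spec (CommRingCat.of F)) :
    (Spec.map (CommRingCat.ofHom φ) ≫ X.fromSpecResidueField v) t = v := by
  rw [Scheme.Hom.comp_apply]
  exact X.fromSpecResidueField_apply v _

theorem eq_point {F : Type u} [Field F] {v ζ : X} {φ₁ : X.residueField v →+* F}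
    {φ₂ : X.residueField ζ →+* F}
    (h : Spec.map (CommRingCat.ofHom φ₁) ≫ X.fromSpecResidueField v =
      Spec.map (CommRingCat.ofHom φ₂) ≫ X.fromSpecResidueField ζ) : v = ζ := by
  let t : Spec (CommRingCat.of F) := (⊥ : PrimeSpectrum F)
  rw [← specMap_fromSpecResidueField_apply φ₁ t, h, specMap_fromSpecResidueField_apply]

theorem excess_zero [Mono ι] [IsLocallyNoetherian X] {η τ : X} {ℓ : Fin m → I → K}
    (hg : Good1 ι δ m η τ ℓ)
    (h₀ : ⨆ α : Fin m × I, X.basicOpen (form pp DD α.2 (ℓ α.1)) = ⊤)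
    [IsFinite (linMap pp DD ℓ h₀)] {x ζ : X}
    (hx : linMap pp DD ℓ h₀ x = linMap pp DD ℓ h₀ η) (hxη : x ≠ η) (hxζ : x ⤳ ζ) (hτζ : τ ⤳ ζ)
    (hunr : η ⤳ ζ → (IsLocalRing.maximalIdeal ((Proj (MvPolynomial.homogeneousSubmodule (Fin m) K)).presheaf.stalk
      (linMap pp DD ℓ h₀ ζ))).map
      ((linMap pp DD ℓ h₀).stalkMap ζ).hom = IsLocalRing.maximalIdeal (X.presheaf.stalk ζ))
    (hsep : η ⤳ ζ → letI := ((linMap pp DD ℓ h₀).residueFieldMap ζ).hom.toAlgebra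
      Algebra.FormallyUnramified ((Proj (MvPolynomial.homogeneousSubmodule (Fin m) K)).residueField
        (linMap pp DD ℓ h₀ ζ)) (X.residueField ζ)) :
    δ ζ + m ≤ δ η + δ τ + 1 := by
  by_contra hlt
  push Not at hlt
  set f := linMap pp DD ℓ h₀ with hf
  have h1 : ∀ v, η ⤳ v → f v = f ζ → v = ζ := by
    intro v hv hvζ
    obtain ⟨F, _, φ₁, φ₂, heq⟩ := exists_common_point f hvζ
    exact eq_point (eq_of_good1 hg h₀ φ₁ φ₂ hv hτζ hlt heq)
  have hηζ : η ⤳ ζ := by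
    have hcl : IsClosed (f '' closure {η}) := f.isClosedMap _ isClosed_closure
    have h4 : f η ⤳ f ζ := hx ▸ hxζ.map f.continuous
    obtain ⟨v, hv, hv'⟩ := h4.mem_closed hcl ⟨η, subset_closure rfl, rfl⟩
    have h5 := specializes_iff_mem_closure.2 hv
    have h6 := h1 v h5 hv'
    rwa [h6] at h5
  have h2 : Function.Surjective (f.residueFieldMap ζ) := by
    apply residueFieldMap_surjective f ζ (hsep hηζ)
    intro F _ φ₁ φ₂ h
    have h3 : Spec.map (CommRingCat.ofHom φ₁) ≫ X.fromSpecResidueField ζ ≫ f =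
        Spec.map (CommRingCat.ofHom φ₂) ≫ X.fromSpecResidueField ζ ≫ f := by
      rw [← Scheme.Hom.SpecMap_residueFieldMap_fromSpecResidueField, ← Category.assoc,
        ← Category.assoc, ← Spec.map_comp, ← Spec.map_comp]
      congr 2
      ext1
      exact h
    have h4 := eq_of_good1 hg h₀ φ₁ φ₂ hηζ hτζ hlt h3
    rw [cancel_mono] at h4
    exact congrArg CommRingCat.Hom.hom (Spec.map_injective h4)
  exact hxη (eq_of_apply_eq f ζ x η h1 h2 (hunr hηζ) hxζ hx)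

theorem excess_infty {η τ : X} {ℓ ℓ' : Fin m → I → K} (hg : Good2 ι δ m η τ ℓ ℓ')
    (h₀ : ⨆ α : Fin m × I, X.basicOpen (form pp DD α.2 (ℓ α.1)) = ⊤)
    (h₁ : ⨆ α : Fin m × I, X.basicOpen (form pp DD α.2 (ℓ' α.1)) = ⊤)
    [IsFinite (linMap pp DD ℓ h₀)] {x ζ : X}
    (hx : linMap pp DD ℓ h₀ η ⤳ linMap pp DD ℓ' h₁ x) (hxζ : x ⤳ ζ) (hτζ : τ ⤳ ζ) :
    δ ζ + m ≤ δ η + δ τ + 1 := by
  set f := linMap pp DD ℓ h₀ with hf
  set f' := linMap pp DD ℓ' h₁ with hf'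
  have hcl : IsClosed (f '' closure {η}) := f.isClosedMap _ isClosed_closure
  have h4 : f η ⤳ f' ζ := hx.trans (hxζ.map f'.continuous)
  obtain ⟨v, hv, hv'⟩ := h4.mem_closed hcl ⟨η, subset_closure rfl, rfl⟩
  have h5 := specializes_iff_mem_closure.2 hv
  obtain ⟨F, _, φ₁, φ₂, heq⟩ := exists_common_point₂ f f' hv'
  obtain ⟨hK, h⟩ := T4 pp pp DD DD ℓ ℓ' h₀ h₁ φ₁ φ₂ heq
  obtain ⟨a, ha⟩ := exists_chart DD v
  obtain ⟨b, hb⟩ := exists_chart DD ζ
  obtain ⟨μ, hμ, hval⟩ := h a b ha hb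
  refine hg F v ζ φ₁ φ₂ hK h5 hτζ a b ha hb μ⁻¹ fun j => ?_
  rw [hval j, ← mul_assoc, inv_mul_cancel₀ hμ, one_mul]

end

end Groth.Agent.CycA.MovExc
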