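import Groth.Agent.CycA.MovProj
import Groth.Agent.PerfB.SecProj
import Groth.Agent.VarietyB.ProjSpaceProper
import Mathlib.AlgebraicGeometry.Morphisms.Finite

/-!
# Linear projections are finite

For a closed subscheme `ι : X ⟶ P^I_K` and linear forms `L j` without common zero on `X`, the
projection `X ⟶ P^J_K` with homogeneous coordinates `L j` is finite.
-/

set_option autoImplicit false
universe u
open AlgebraicGeometry CategoryTheory HomogeneousLocalization

namespace Groth.Agent.CycA.MovFinite

open Groth.Agent.VarietyB.ProjHom Groth.Agent.VarietyB.ProjGlue Groth.Agent.VarietyB.ProjStd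
open Groth.Agent.CycA.MovVec Groth.Agent.CycA.MovCoord Groth.Agent.CycA.MovForms
open Groth.Agent.CycA.MovProj

attribute [local instance] MvPolynomial.gradedAlgebra

section proper

variable (I : Type) (R : Type u) [CommRing R]

/-- `R → R[T_i]_0` is bijective. -/
theorem algebraMap_bijective :
    Function.Bijective (algebraMap R (MvPolynomial.homogeneousSubmodule I R 0)) := by
  constructor
  · intro a b hab
    have h1 : (algebraMap R (MvPolynomial.homogeneousSubmodule I R 0) a : MvPolynomial I R) =
        (algebraMap R (MvPolynomial.homogeneousSubmodule I R 0) b : MvPolynomial I R) := by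
      rw [hab]
    exact MvPolynomial.C_injective _ _ h1
  · rintro ⟨p, hp⟩
    have hp' : p.totalDegree = 0 := by
      rw [MvPolynomial.mem_homogeneousSubmodule] at hp
      exact Nat.le_zero.mp hp.totalDegree_le
    rw [MvPolynomial.totalDegree_eq_zero_iff_eq_C] at hp'
    exact ⟨_, Subtype.ext hp'.symm⟩

instance finiteType [Finite I] :
    Algebra.FiniteType (MvPolynomial.homogeneousSubmodule I R 0) (MvPolynomial I R) := by
  have : IsScalarTower R (MvPolynomial.homogeneousSubmodule I R 0) (MvPolynomial I R) :=
    ⟨fun r a x => by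
      change (r • (a : MvPolynomial I R)) * x = r • ((a : MvPolynomial I R) * x)
      rw [smul_mul_assoc]⟩
  exact Algebra.FiniteType.of_restrictScalars_finiteType R _ _

instance isIso_specMap :
    IsIso (Spec.map (CommRingCat.ofHom
      (algebraMap R (MvPolynomial.homogeneousSubmodule I R 0)))) := by
  have : IsIso (CommRingCat.ofHom (algebraMap R (MvPolynomial.homogeneousSubmodule I R 0))) :=
    (ConcreteCategory.isIso_iff_bijective _).mpr (algebraMap_bijective I R)
  infer_instance

instance isProper_toSpec [Finite I] : IsProper (toSpec I R) := by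
  have h1 : IsProper (Proj.toSpecZero (MvPolynomial.homogeneousSubmodule I R)) := inferInstance
  have h2 := isIso_specMap I R
  have h3 : IsProper (Proj.toSpecZero (MvPolynomial.homogeneousSubmodule I R) ≫
    Spec.map (CommRingCat.ofHom (algebraMap R (MvPolynomial.homogeneousSubmodule I R 0)))) :=
      inferInstance
  exact h3

end proper

section form

variable {K : Type u} [Field K] {I : Type} [Fintype I]

/-- The linear form with coefficients `v`. -/
noncomputable def lin (v : I → K) : MvPolynomial I K := ∑ i, MvPolynomial.C (v i) * MvPolynomial.X i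

theorem lin_mem (v : I → K) : lin v ∈ MvPolynomial.homogeneousSubmodule I K 1 := by
  unfold lin
  refine Submodule.sum_mem _ fun i _ => ?_
  have h := (MvPolynomial.isHomogeneous_C I (v i)).mul (MvPolynomial.isHomogeneous_X K i)
  rw [zero_add] at h
  exact h

theorem hom_lin {X : Scheme.{u}} (p : X ⟶ Spec (CommRingCat.of K)) (D : CoordData X I) (a : I)
    (v : I → K) : D.hom p a (lin v) = form p D a v := by
  unfold lin form
  rw [map_sum]
  refine Finset.sum_congr rfl fun i _ => ?_
  rw [map_mul, CoordData.hom_X]
  congr 1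
  simp only [CoordData.hom, MvPolynomial.eval₂Hom_C]
  rfl

theorem form_std_val (a : I) (v : I → K)
    (x : Proj.basicOpen (MvPolynomial.homogeneousSubmodule I K) (MvPolynomial.X a)) :
    (((form (toSpec I K) (stdData I K) a v)).val x).val =
      Localization.mk (lin v) ⟨MvPolynomial.X a, x.2⟩ := by
  have h0 : lin v ∈ MvPolynomial.homogeneousSubmodule I K (1 • 1) := by
    simpa using lin_mem v
  have h1 : deh I K a (lin v) = Away.mk _ (MvPolynomial.isHomogeneous_X K a :
      MvPolynomial.X a ∈ MvPolynomial.homogeneousSubmodule I K 1) 1 (lin v) h0 :=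
    deh_of_isHomogeneous I K a _ _
  have h2 : form (toSpec I K) (stdData I K) a v =
      Proj.awayToSection (MvPolynomial.homogeneousSubmodule I K) (MvPolynomial.X a)
        (deh I K a (lin v)) := by
    rw [← hom_lin, hom_std]
    rfl
  rw [h2, h1]
  change Localization.mk _ _ = _
  congr 1
  ext
  simp

theorem basicOpen_form_std (a : I) (v : I → K) :
    (Proj (MvPolynomial.homogeneousSubmodule I K)).basicOpen
        (form (toSpec I K) (stdData I K) a v) =
      Proj.basicOpen (MvPolynomial.homogeneousSubmodule I K) (MvPolynomial.X a) ⊓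
        Proj.basicOpen (MvPolynomial.homogeneousSubmodule I K) (lin v) := by
  symm
  refine Groth.Agent.PerfB.SecProj.basicOpen_ratio
    (⟨lin v, lin_mem v⟩ : MvPolynomial.homogeneousSubmodule I K 1)
    (⟨MvPolynomial.X a, MvPolynomial.isHomogeneous_X K a⟩ :
      MvPolynomial.homogeneousSubmodule I K 1) (fun x hx => hx) _ (fun x => ?_)
  have h := form_std_val a v x
  refine Eq.trans ?_ (congrArg (· * _) h).symm
  simp only [Localization.mk_mul]
  rw [Localization.mk_eq_mk_iff, Localization.r_iff_exists]
  exact ⟨1, by simp [Groth.Agent.PerfB.TwistMul.oneC]; ring⟩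

theorem app_cst {X Y : Scheme.{u}} (g : Y ⟶ X) (p : X ⟶ Spec (CommRingCat.of K)) (U : X.Opens)
    (k : K) : cst (g ≫ p) (g ⁻¹ᵁ U) k = g.app U (cst p U k) := by
  unfold cst
  rw [Scheme.Hom.comp_appTop]
  have h := g.naturality (homOfLE (le_top : U ≤ ⊤)).op
  have h2 := congr(($h).hom (((Scheme.ΓSpecIso (CommRingCat.of K)).inv ≫ p.appTop).hom k))
  exact h2.symm

theorem form_pullback {X Y : Scheme.{u}} (g : Y ⟶ X) (p : X ⟶ Spec (CommRingCat.of K))
    (D : CoordData X I) (a : I) (v : I → K) :
    form (g ≫ p) (pullbackData g D) a v = g.app (D.U a) (form p D a v) := by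
  unfold form
  rw [map_sum]
  refine Finset.sum_congr rfl fun i _ => ?_
  rw [map_mul, ← app_cst]
  rfl

end form

variable {K : Type u} [Field K] {I J : Type} [Fintype I]

theorem basicOpen_form {X : Scheme.{u}} (ι : X ⟶ Proj (MvPolynomial.homogeneousSubmodule I K))
    (a : I) (v : I → K) :
    X.basicOpen (form (ι ≫ toSpec I K) (pullbackData ι (stdData I K)) a v) =
      (pullbackData ι (stdData I K)).U a ⊓
        ι ⁻¹ᵁ Proj.basicOpen (MvPolynomial.homogeneousSubmodule I K) (lin v) := by
  rw [form_pullback]
  refine (Scheme.preimage_basicOpen ι _).symm.trans ?_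
  exact congrArg (fun U => ι ⁻¹ᵁ U) (basicOpen_form_std a v)

theorem preimage_basicOpen_X {X : Scheme.{u}}
    (ι : X ⟶ Proj (MvPolynomial.homogeneousSubmodule I K)) (L : J → I → K)
    (h : ⨆ α : J × I, X.basicOpen
      (form (ι ≫ toSpec I K) (pullbackData ι (stdData I K)) α.2 (L α.1)) = ⊤) (j : J) :
    linMap (ι ≫ toSpec I K) (pullbackData ι (stdData I K)) L h ⁻¹ᵁ
        Proj.basicOpen (MvPolynomial.homogeneousSubmodule J K) (MvPolynomial.X j) =
      ι ⁻¹ᵁ Proj.basicOpen (MvPolynomial.homogeneousSubmodule I K) (lin (L j)) := by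
  have key := fun a => (preimage_inf (ι ≫ toSpec I K) (pullbackData ι (stdData I K)) L h a j).trans
    (basicOpen_form ι a (L j))
  have hcov := (pullbackData ι (stdData I K)).iSup_U
  rw [← top_inf_eq (linMap _ _ L h ⁻¹ᵁ _), ← top_inf_eq (ι ⁻¹ᵁ _), ← hcov, iSup_inf_eq,
    iSup_inf_eq]
  exact iSup_congr key

/-- Linear projections are finite. -/
theorem isFinite_linMap [Finite J] {X : Scheme.{u}}
    (ι : X ⟶ Proj (MvPolynomial.homogeneousSubmodule I K)) [IsClosedImmersion ι]
    (L : J → I → K) (h : ⨆ α : J × I, X.basicOpen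
      (form (ι ≫ toSpec I K) (pullbackData ι (stdData I K)) α.2 (L α.1)) = ⊤) :
    IsFinite (linMap (ι ≫ toSpec I K) (pullbackData ι (stdData I K)) L h) := by
  rw [IsFinite.iff_isProper_and_isAffineHom]
  constructor
  · have h1 := linMap_toSpec (ι ≫ toSpec I K) (pullbackData ι (stdData I K)) L h
    have h2 : IsProper (linMap (ι ≫ toSpec I K) (pullbackData ι (stdData I K)) L h ≫
        toSpec J K) := by
      rw [h1]
      infer_instance
    exact IsProper.of_comp _ (toSpec J K)
  · apply isAffineHom_of_forall_exists_isAffineOpen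
    intro x
    have hx : x ∈ ⨆ j, (stdData J K).U j := by
      rw [(stdData J K).iSup_U]; trivial
    rw [TopologicalSpace.Opens.mem_iSup] at hx
    obtain ⟨j, hj⟩ := hx
    refine ⟨(stdData J K).U j, hj, isAffineOpen_U J K j, ?_⟩
    change IsAffineOpen (_ ⁻¹ᵁ Proj.basicOpen (MvPolynomial.homogeneousSubmodule J K)
      (MvPolynomial.X j))
    rw [preimage_basicOpen_X ι L h j]
    exact (Proj.isAffineOpen_basicOpen _ _ (lin_mem (L j)) Nat.one_pos).preimage ι

end Groth.Agent.CycA.MovFinite
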