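import Mathlib.GroupTheory.CosetCover
import Mathlib.Algebra.Group.Pointwise.Set.Scalar
import Mathlib.Order.Filter.Map
import Mathlib.RingTheory.Ideal.Height
import Mathlib.RingTheory.Ideal.MinimalPrime.Noetherian
import Mathlib.LinearAlgebra.FiniteDimensional.Basic
import Mathlib.LinearAlgebra.LinearIndependent.Lemmas

/-!
# Generic tuples of linear forms

`gen K V` is the filter of complements of thin sets (finite unions of cosets of proper subspaces) of
a vector space `V` over `K`; `genTuple K V m` is its iterated version on `m`-tuples. For `K`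
infinite these filters are proper. Generic linear combinations raise heights and are linearly
independent at finitely many places.
-/

set_option autoImplicit false

open Filter Pointwise

namespace Groth.Agent.CycA.MovForms

universe u v w

section Filter

variable (K : Type u) (V : Type v) [Field K] [AddCommGroup V] [Module K V]

/-- Contained in a finite union of cosets of proper subspaces. -/
def Thin (s : Set V) : Prop :=
  ∃ t : Finset (V × Submodule K V), (∀ p ∈ t, p.2 ≠ ⊤) ∧ ∀ v ∈ s, ∃ p ∈ t, v - p.1 ∈ p.2

/-- The filter of complements of thin sets. -/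
def gen : Filter V :=
  Filter.comk (Thin K V) ⟨∅, by simp, by simp⟩
    (fun _ ⟨t, h1, h2⟩ _ hs => ⟨t, h1, fun v hv => h2 v (hs hv)⟩)
    (fun _ ⟨t, h1, h2⟩ _ ⟨t', h1', h2'⟩ => by
      classical
      refine ⟨t ∪ t', ?_, ?_⟩
      · intro p hp
        rcases Finset.mem_union.1 hp with hp | hp
        · exact h1 p hp
        · exact h1' p hp
      · rintro v (hv | hv)
        · obtain ⟨p, hp, h⟩ := h2 v hv
          exact ⟨p, Finset.mem_union_left _ hp, h⟩
        · obtain ⟨p, hp, h⟩ := h2' v hv
          exact ⟨p, Finset.mem_union_right _ hp, h⟩)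

variable {K V}

theorem mem_gen {s : Set V} : s ∈ gen K V ↔ Thin K V sᶜ := Iff.rfl

theorem not_thin_univ [Infinite K] : ¬ Thin K V Set.univ := by
  rintro ⟨t, h1, h2⟩
  have hcov : ⋃ p ∈ t, (p.1 +ᵥ (p.2.toAddSubgroup : Set V)) = Set.univ := by
    rw [Set.eq_univ_iff_forall]
    intro v
    obtain ⟨p, hp, h⟩ := h2 v trivial
    simp only [Set.mem_iUnion]
    refine ⟨p, hp, ?_⟩
    rw [Set.mem_vadd_set_iff_neg_vadd_mem, vadd_eq_add, neg_add_eq_sub]
    exact h
  obtain ⟨p, hp, hfi⟩ := AddSubgroup.exists_finiteIndex_of_leftCoset_cover hcov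
  have : Finite (V ⧸ p.2) := AddSubgroup.finite_quotient_of_finiteIndex
  have : Nontrivial (V ⧸ p.2) := Submodule.Quotient.nontrivial_iff.mpr (h1 p hp)
  have : Infinite (V ⧸ p.2) := Module.Free.infinite K (V ⧸ p.2)
  exact not_finite (V ⧸ p.2)

instance [Infinite K] : (gen K V).NeBot := by
  refine ⟨fun h => ?_⟩
  have : (∅ : Set V) ∈ gen K V := by rw [h]; exact Filter.mem_bot
  rw [mem_gen, Set.compl_empty] at this
  exact not_thin_univ this

/-- A generic vector avoids any subset of a coset of a proper subspace. -/
theorem eventually_notMem (W : Set V) (U : Submodule K V) (hU : U ≠ ⊤)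
    (h : ∀ v ∈ W, ∀ v' ∈ W, v - v' ∈ U) : ∀ᶠ v in gen K V, v ∉ W := by
  change {v | v ∉ W} ∈ gen K V
  rw [mem_gen]
  rcases W.eq_empty_or_nonempty with rfl | ⟨a, ha⟩
  · exact ⟨∅, by simp, by simp⟩
  · refine ⟨{(a, U)}, by simpa using hU, ?_⟩
    intro v hv
    refine ⟨(a, U), by simp, ?_⟩
    have hv' : v ∈ W := by
      by_contra hc
      exact hv hc
    exact h v hv' a ha

variable (K V) in
/-- Generic tuples: the entries are chosen one after the other, each generic given the previous
ones. -/
def genTuple : (m : ℕ) → Filter (Fin m → V)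
  | 0 => pure Fin.elim0
  | (m + 1) => (genTuple m).bind
      (fun ℓ => (gen K V).map (fun v => (Fin.snoc (α := fun _ => V) ℓ v : Fin (m + 1) → V)))

instance genTuple_neBot [Infinite K] : ∀ m, (genTuple K V m).NeBot
  | 0 => by rw [genTuple]; infer_instance
  | (m + 1) => by
    have := genTuple_neBot m
    refine ⟨fun h => ?_⟩
    have h0 : ∀ᶠ _ in genTuple K V (m + 1), False := by rw [h]; exact Filter.eventually_bot
    rw [genTuple, Filter.eventually_bind] at h0
    obtain ⟨ℓ, hℓ⟩ := h0.exists
    rw [Filter.eventually_map] at hℓ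
    obtain ⟨v, hv⟩ := hℓ.exists
    exact hv

theorem eventually_genTuple_zero {P : (Fin 0 → V) → Prop} :
    (∀ᶠ ℓ in genTuple K V 0, P ℓ) ↔ P Fin.elim0 := by
  rw [genTuple, Filter.eventually_pure]

theorem eventually_genTuple_succ {m : ℕ} {P : (Fin (m + 1) → V) → Prop} :
    (∀ᶠ ℓ in genTuple K V (m + 1), P ℓ) ↔
      ∀ᶠ ℓ in genTuple K V m, ∀ᶠ v in gen K V, P (Fin.snoc (α := fun _ => V) ℓ v) := by
  rw [genTuple, Filter.eventually_bind]
  exact Iff.rfl

/-- Generic linear independence. -/
theorem eventually_linearIndependent {κ : Type*} [Field κ] [Algebra K κ] {E : Type*}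
    [AddCommGroup E] [Module κ E] [Module K E] [IsScalarTower K κ E] [FiniteDimensional κ E]
    (J : V →ₗ[K] E) (hJ : Submodule.span κ (Set.range J) = ⊤) (m : ℕ)
    (hm : m ≤ Module.finrank κ E) :
    ∀ᶠ ℓ in genTuple K V m, LinearIndependent κ (fun j => J (ℓ j)) := by
  induction m with
  | zero =>
    rw [eventually_genTuple_zero]
    exact linearIndependent_empty_type
  | succ m ih =>
    rw [eventually_genTuple_succ]
    filter_upwards [ih (by omega)] with ℓ hℓ
    have hne : ((Submodule.span κ (Set.range (fun j => J (ℓ j)))).restrictScalars K).comap J ≠ ⊤ := by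
      intro htop
      have h1 : Submodule.span κ (Set.range J) ≤ Submodule.span κ (Set.range (fun j => J (ℓ j))) := by
        rw [Submodule.span_le]
        rintro _ ⟨v, rfl⟩
        have : v ∈ ((Submodule.span κ (Set.range (fun j => J (ℓ j)))).restrictScalars K).comap J := by
          rw [htop]; exact Submodule.mem_top
        exact this
      rw [hJ, top_le_iff] at h1
      have h2 := finrank_range_le_card (R := κ) (fun j => J (ℓ j))
      rw [Set.finrank, h1, finrank_top, Fintype.card_fin] at h2
      omega
    filter_upwards [eventually_notMem _ _ hne (fun v hv v' hv' => Submodule.sub_mem _ hv hv')]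
      with v hv
    have h3 : (fun j => J ((Fin.snoc (α := fun _ => V) ℓ v : Fin (m + 1) → V) j)) =
        Fin.snoc (α := fun _ => E) (fun j => J (ℓ j)) (J v) := by
      funext j
      refine Fin.lastCases ?_ (fun j => ?_) j
      · simp
      · simp
    rw [h3, linearIndependent_finSnoc]
    exact ⟨hℓ, hv⟩

end Filter

section Height

variable {K : Type u} [Field K] {I : Type w} [Fintype I]

/-- The linear combination with coefficients `v`. -/
def comb {B : Type v} [CommRing B] [Algebra K B] (w : I → B) (v : I → K) : B := ∑ i, v i • w i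

theorem comb_sub {B : Type v} [CommRing B] [Algebra K B] (w : I → B) (v v' : I → K) :
    comb w (v - v') = comb w v - comb w v' := by
  simp [comb, sub_smul]

/-- Generic linear combinations (plus constants) of a unimodular vector raise heights. -/
theorem eventually_height {B : Type v} [CommRing B] [Algebra K B] [IsNoetherianRing B]
    (w : I → B) (hw : Ideal.span (Set.range w) = ⊤) (m : ℕ) (c : ℕ → B) :
    ∀ᶠ ℓ in genTuple K (I → K) m, ∀ q : Ideal B, q.IsPrime →
      (∀ j : Fin m, comb w (ℓ j) + c j ∈ q) → (m : ℕ∞) ≤ q.height := by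
  induction m with
  | zero =>
    rw [eventually_genTuple_zero]
    intro q _ _
    exact zero_le
  | succ m ih =>
    rw [eventually_genTuple_succ]
    filter_upwards [ih] with ℓ hℓ
    let J : Ideal B := Ideal.span (Set.range (fun j : Fin m => comb w (ℓ j) + c j))
    have hfin : J.minimalPrimes.Finite := Ideal.finite_minimalPrimes_of_isNoetherianRing B J
    have hav : ∀ p ∈ J.minimalPrimes, ∀ᶠ v in gen K (I → K), v ∉ {v | comb w v + c m ∈ p} := by
      intro p hp
      have hpp : p.IsPrime := hp.1.1
      let L : (I → K) →ₗ[K] B := Fintype.linearCombination K w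
      have hL : ∀ v, L v = comb w v := fun v => by
        simp only [L, comb, Fintype.linearCombination_apply]
      refine eventually_notMem _ ((p.restrictScalars K).comap L) ?_ ?_
      · intro htop
        apply hpp.ne_top
        rw [← top_le_iff, ← hw, Ideal.span_le]
        rintro _ ⟨i, rfl⟩
        classical
        have h1 : (Pi.single i 1 : I → K) ∈ (p.restrictScalars K).comap L := by
          rw [htop]; exact Submodule.mem_top
        rw [Submodule.mem_comap, hL, comb] at h1
        have h2 : ∑ j, (Pi.single i 1 : I → K) j • w j = w i := by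
          rw [Finset.sum_eq_single i]
          · simp
          · intro j _ hj
            rw [Pi.single_eq_of_ne hj, zero_smul]
          · simp
        rw [h2] at h1
        exact h1
      · intro v hv v' hv'
        rw [Submodule.mem_comap, hL, comb_sub]
        have := p.sub_mem hv hv'
        simpa using this
    have hav' := (Filter.eventually_all_finite hfin).2 hav
    filter_upwards [hav'] with v hv
    intro q hq hmem
    have hJq : J ≤ q := by
      rw [Ideal.span_le]
      rintro _ ⟨j, rfl⟩
      have := hmem (Fin.castSucc j)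
      simpa using this
    obtain ⟨p, hp, hpq⟩ := Ideal.exists_minimalPrimes_le hJq
    have hpp : p.IsPrime := hp.1.1
    have hlast := hmem (Fin.last m)
    simp only [Fin.snoc_last, Fin.val_last] at hlast
    have hlt : p < q := by
      refine lt_of_le_of_ne hpq ?_
      rintro rfl
      exact hv p hp hlast
    have h1 : (m : ℕ∞) ≤ p.height := by
      refine hℓ p hpp (fun j => ?_)
      exact hp.1.2 (Ideal.subset_span ⟨j, rfl⟩)
    have h2 : p.height + 1 ≤ q.height := Ideal.height_add_one_le_of_lt_of_isPrime hlt
    push_cast
    exact le_trans (add_le_add_left h1 1) h2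

end Height

end Groth.Agent.CycA.MovForms
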