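import Mathlib.RingTheory.Unramified.LocalRing
import Mathlib.RingTheory.Kaehler.Basic

/-!
# One-jets and unramified projections

For a local `K`-algebra `S` we write `Jet K S = κ × (κ ⊗ Ω[S⁄K])` for the space of 1-jets at the closed point
and `jet K S : S →ₗ[K] Jet K S`, `a ↦ (a mod 𝔪, 1 ⊗ da)`.

* `formallyUnramified_of_span`: if `S' → S` is a homomorphism of `K`-algebras, `a i` a unit of `S`, all
  ratios `a j / a i` come from `S'`, and the 1-jets of the `a j` span `Jet K S` over `κ`, then `S` is
  formally unramified over `S'`.
* `span_jet_eq_top`: if `Ω[S⁄K]` is spanned by the `D (x j)` and one of the `x j` is `1`, then the jets of the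
  `x j` span `Jet K S`.
* `span_D_eq_top_of_adjoin`: `Ω[S⁄K]` is spanned by the `D (x j)` if `S` is a localization of an algebra
  generated by the `x j`.
-/

set_option autoImplicit false
universe u
open IsLocalRing TensorProduct

namespace Groth.Agent.CycA.MovJet

section

variable (K : Type u) [Field K] (S : Type u) [CommRing S] [IsLocalRing S] [Algebra K S]

/-- The space of 1-jets at the closed point of a local `K`-algebra. -/
abbrev Jet : Type u := ResidueField S × (ResidueField S ⊗[S] Ω[S⁄K])

/-- The 1-jet of a function. -/
noncomputable def jet : S →ₗ[K] Jet K S :=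
  LinearMap.prod (Algebra.linearMap S (ResidueField S) |>.restrictScalars K)
    (((TensorProduct.mk S (ResidueField S) Ω[S⁄K] 1).restrictScalars K).comp
      (KaehlerDifferential.D K S).toLinearMap)

lemma jet_apply (a : S) : jet K S a =
    (residue S a, (1 : ResidueField S) ⊗ₜ[S] KaehlerDifferential.D K S a) := rfl

variable {K S}

theorem formallyUnramified_of_span {S' : Type u} [CommRing S'] [Algebra K S'] [Algebra S' S]
    [IsScalarTower K S' S] [Module.Finite S Ω[S⁄K]] {ι : Type*} (a : ι → S) (i : ι)
    (ha : IsUnit (a i)) (t : ι → S') (ht : ∀ j, a j = algebraMap S' S (t j) * a i)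
    (hJ : Submodule.span (ResidueField S) (Set.range fun j => jet K S (a j)) = ⊤) :
    Algebra.FormallyUnramified S' S := by
  constructor
  let g : Ω[S⁄K] →ₗ[S] Ω[S⁄S'] := KaehlerDifferential.map K S' S S
  have hg : Function.Surjective g := KaehlerDifferential.map_surjective K S' S
  have hfin : Module.Finite S Ω[S⁄S'] := Module.Finite.of_surjective g hg
  rw [← IsLocalRing.subsingleton_tensorProduct (R := S)]
  let gg : (ResidueField S ⊗[S] Ω[S⁄K]) →ₗ[ResidueField S] (ResidueField S ⊗[S] Ω[S⁄S']) :=
    g.baseChange (ResidueField S)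
  have hgg : Function.Surjective gg := by
    have := LinearMap.lTensor_surjective (ResidueField S) hg
    exact this
  -- the functional c ↦ gg ω - (c / a_i) gg (1 ⊗ d a_i)
  have hai : residue S (a i) ≠ 0 := by
    rwa [Ne, residue_eq_zero_iff, mem_maximalIdeal, mem_nonunits_iff, not_not]
  let L : Jet K S →ₗ[ResidueField S] (ResidueField S ⊗[S] Ω[S⁄S']) :=
    gg.comp (LinearMap.snd _ _ _) -
      (LinearMap.toSpanSingleton (ResidueField S) _
        ((residue S (a i))⁻¹ • gg (1 ⊗ₜ[S] KaehlerDifferential.D K S (a i)))).comp (LinearMap.fst _ _ _)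
  have hL : ∀ j, L (jet K S (a j)) = 0 := by
    intro j
    have h1 : (1 : ResidueField S) ⊗ₜ[S] g (KaehlerDifferential.D K S (a j)) =
        residue S (algebraMap S' S (t j)) • ((1 : ResidueField S) ⊗ₜ[S] g (KaehlerDifferential.D K S (a i))) := by
      have h2 : g (KaehlerDifferential.D K S (a j)) =
          algebraMap S' S (t j) • g (KaehlerDifferential.D K S (a i)) := by
        rw [ht j, Derivation.leibniz, map_add, map_smul, map_smul]
        have h3 : g (KaehlerDifferential.D K S (algebraMap S' S (t j))) = 0 := by
          change KaehlerDifferential.map K S' S S (KaehlerDifferential.D K S (algebraMap S' S (t j))) = 0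
          rw [KaehlerDifferential.map_D]
          exact (KaehlerDifferential.D S' S).map_algebraMap _
        rw [h3, smul_zero, add_zero]
      rw [h2, TensorProduct.tmul_smul]
      rw [show (algebraMap S' S (t j)) • ((1 : ResidueField S) ⊗ₜ[S] g (KaehlerDifferential.D K S (a i))) =
        (algebraMap S (ResidueField S) (algebraMap S' S (t j))) •
          ((1 : ResidueField S) ⊗ₜ[S] g (KaehlerDifferential.D K S (a i))) from
            (algebraMap_smul (ResidueField S) _ _).symm]
      rfl
    have h4 : residue S (a j) = residue S (algebraMap S' S (t j)) * residue S (a i) := by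
      rw [← map_mul, ← ht j]
    change (1 : ResidueField S) ⊗ₜ[S] g (KaehlerDifferential.D K S (a j)) -
      residue S (a j) • ((residue S (a i))⁻¹ •
        ((1 : ResidueField S) ⊗ₜ[S] g (KaehlerDifferential.D K S (a i)))) = 0
    rw [h1, h4, smul_smul, mul_assoc, mul_inv_cancel₀ hai, mul_one, sub_self]
  have hL0 : L = 0 := by
    apply LinearMap.ext_on_range hJ
    intro j
    simpa using hL j
  refine subsingleton_of_forall_eq 0 fun y => ?_
  obtain ⟨ω, rfl⟩ := hgg y
  have := LinearMap.congr_fun hL0 ((0 : ResidueField S), ω)
  simpa [L] using this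

theorem span_jet_eq_top {ι : Type*} (x : ι → S) (i : ι) (hi : x i = 1)
    (h : Submodule.span S (Set.range fun j => KaehlerDifferential.D K S (x j)) = ⊤) :
    Submodule.span (ResidueField S) (Set.range fun j => jet K S (x j)) = ⊤ := by
  set V := Submodule.span (ResidueField S) (Set.range fun j => jet K S (x j)) with hV
  have h1 : ((1 : ResidueField S), (0 : ResidueField S ⊗[S] Ω[S⁄K])) ∈ V := by
    have : jet K S (x i) = (1, 0) := by
      rw [jet_apply, hi, map_one, Derivation.map_one_eq_zero, TensorProduct.tmul_zero]
    rw [← this]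
    exact Submodule.subset_span ⟨i, rfl⟩
  have h1' : ∀ c : ResidueField S, (c, (0 : ResidueField S ⊗[S] Ω[S⁄K])) ∈ V := by
    intro c
    have := V.smul_mem c h1
    rwa [Prod.smul_mk, smul_zero, smul_eq_mul, mul_one] at this
  have h2 : ∀ j, ((0 : ResidueField S), (1 : ResidueField S) ⊗ₜ[S] KaehlerDifferential.D K S (x j)) ∈ V := by
    intro j
    have h3 : jet K S (x j) ∈ V := Submodule.subset_span ⟨j, rfl⟩
    have := V.sub_mem h3 (h1' (residue S (x j)))
    rwa [jet_apply, Prod.mk_sub_mk, sub_self, sub_zero] at this
  have h4 : ∀ ω : Ω[S⁄K], ((0 : ResidueField S), (1 : ResidueField S) ⊗ₜ[S] ω) ∈ V := by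
    intro ω
    have hω : ω ∈ Submodule.span S (Set.range fun j => KaehlerDifferential.D K S (x j)) := by
      rw [h]; trivial
    induction hω using Submodule.span_induction with
    | mem y hy => obtain ⟨j, rfl⟩ := hy; exact h2 j
    | zero => rw [TensorProduct.tmul_zero]; exact V.zero_mem
    | add y z _ _ hy hz =>
      have := V.add_mem hy hz
      rwa [Prod.mk_add_mk, add_zero, ← TensorProduct.tmul_add] at this
    | smul c y _ hy =>
      have := V.smul_mem (residue S c) hy
      rw [Prod.smul_mk, smul_zero] at this
      rw [TensorProduct.tmul_smul]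
      rw [← algebraMap_smul (ResidueField S) c ((1 : ResidueField S) ⊗ₜ[S] y)]
      exact this
  rw [eq_top_iff]
  rintro ⟨c, ω⟩ -
  have h5 : ((0 : ResidueField S), ω) ∈ V := by
    induction ω using TensorProduct.induction_on with
    | zero => exact V.zero_mem
    | tmul b ω =>
      have := V.smul_mem b (h4 ω)
      rwa [Prod.smul_mk, smul_zero, TensorProduct.smul_tmul', smul_eq_mul, mul_one] at this
    | add y z hy hz =>
      have := V.add_mem hy hz
      rwa [Prod.mk_add_mk, add_zero] at this
  have := V.add_mem (h1' c) h5
  rwa [Prod.mk_add_mk, add_zero, zero_add] at this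

end

section

variable {K : Type u} [CommRing K] {R : Type u} [CommRing R] [Algebra K R]

theorem span_D_eq_top {ι : Type*} (x : ι → R) (hx : Algebra.adjoin K (Set.range x) = ⊤) :
    Submodule.span R (Set.range fun j => KaehlerDifferential.D K R (x j)) = ⊤ := by
  rw [eq_top_iff, ← KaehlerDifferential.span_range_derivation, Submodule.span_le]
  rintro _ ⟨y, rfl⟩
  have hy : y ∈ Algebra.adjoin K (Set.range x) := by rw [hx]; trivial
  induction hy using Algebra.adjoin_induction with
  | mem y hy => obtain ⟨j, rfl⟩ := hy; exact Submodule.subset_span ⟨j, rfl⟩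
  | algebraMap r => rw [Derivation.map_algebraMap]; exact Submodule.zero_mem _
  | add y z _ _ hy hz => rw [map_add]; exact Submodule.add_mem _ hy hz
  | mul y z _ _ hy hz =>
    rw [Derivation.leibniz]
    exact Submodule.add_mem _ (Submodule.smul_mem _ _ hz) (Submodule.smul_mem _ _ hy)

theorem span_D_eq_top_of_isLocalization {S : Type u} [CommRing S] [Algebra K S] [Algebra R S]
    [IsScalarTower K R S] (M : Submonoid R) [IsLocalization M S] {ι : Type*} (x : ι → R)
    (hx : Algebra.adjoin K (Set.range x) = ⊤) :
    Submodule.span S (Set.range fun j => KaehlerDifferential.D K S (algebraMap R S (x j))) = ⊤ := by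
  have hsurj : Function.Surjective (KaehlerDifferential.mapBaseChange K R S) := by
    have : Algebra.FormallyUnramified R S := Algebra.FormallyUnramified.of_isLocalization M
    have h : Subsingleton Ω[S⁄R] := inferInstance
    rw [← LinearMap.range_eq_top, KaehlerDifferential.range_mapBaseChange]
    rw [LinearMap.ker_eq_top]
    ext
    exact Subsingleton.elim _ _
  rw [eq_top_iff]
  rintro ω -
  obtain ⟨y, rfl⟩ := hsurj ω
  induction y using TensorProduct.induction_on with
  | zero => rw [map_zero]; exact Submodule.zero_mem _
  | add y z hy hz => rw [map_add]; exact Submodule.add_mem _ hy hz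
  | tmul b ω =>
    rw [KaehlerDifferential.mapBaseChange_tmul]
    refine Submodule.smul_mem _ _ ?_
    have hω : ω ∈ Submodule.span R (Set.range fun j => KaehlerDifferential.D K R (x j)) := by
      rw [span_D_eq_top x hx]; trivial
    induction hω using Submodule.span_induction with
    | mem y hy =>
      obtain ⟨j, rfl⟩ := hy
      dsimp only
      rw [KaehlerDifferential.map_D]
      exact Submodule.subset_span ⟨j, rfl⟩
    | zero => rw [map_zero]; exact Submodule.zero_mem _
    | add y z _ _ hy hz => rw [map_add]; exact Submodule.add_mem _ hy hz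
    | smul c y _ hy =>
      rw [map_smul, ← algebraMap_smul S c (KaehlerDifferential.map K K R S y)]
      exact Submodule.smul_mem _ _ hy

end

end Groth.Agent.CycA.MovJet
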