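import Groth.Agent.CycA.MovJet
import Groth.Agent.S2063
import Groth.Agent.VarietyB.DimSch
import Mathlib.RingTheory.Unramified.Field
import Mathlib.RingTheory.AlgebraicIndependent.TranscendenceBasis
import Mathlib.FieldTheory.IntermediateField.Adjoin.Algebra

/-!
# The dimension of the jet space of a smooth variety

* `trdeg_le_of_span_D`: `trdeg K L ≤ #s` if `Ω[L⁄K]` is spanned by `D '' s` (`L/K` finitely generated).
* `trdeg_le_finrank`: `B` a local domain essentially of finite type over a field `K`:
  `trdeg K (Frac B) ≤ dim κ ⊗ Ω[B⁄K]`.
* `finrank_le_of_smooth`: `R` a finite type `K`-algebra smooth at `q`: `dim κ ⊗ Ω[R_q⁄K] ≤ localDim (Spec R) q`.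
* `finrank_jet`: `R` a domain, smooth over `K` at the prime `q`, of dimension `n`: `dim (Jet K R_q) = n + 1`.
-/

set_option autoImplicit false
universe u
open IsLocalRing TensorProduct

namespace Groth.Agent.CycA.MovJet

/-- A finite module over a local ring is generated by `dim κ ⊗ M` elements of a given generating family. -/
theorem exists_fin_span {R M : Type*} [CommRing R] [IsLocalRing R] [AddCommGroup M] [Module R M]
    [Module.Finite R M] {ι : Type*} (f : ι → M) (hf : Submodule.span R (Set.range f) = ⊤) :
    ∃ b : Fin (Module.finrank (ResidueField R) (ResidueField R ⊗[R] M)) → ι,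
      Submodule.span R (Set.range fun i => f (b i)) = ⊤ := by
  let κ := ResidueField R
  let t : Set (κ ⊗[R] M) := Set.range fun b : ι ↦ (1 : κ) ⊗ₜ[R] (f b)
  have ht : Submodule.span κ t = ⊤ := by
    have h2 : Submodule.baseChange κ (Submodule.span R (Set.range f)) = ⊤ := by
      rw [hf, Submodule.baseChange_top]
    rw [Submodule.baseChange_span] at h2
    rw [← h2, ← Set.range_comp]
    rfl
  obtain ⟨s, hst, hspan, hlin⟩ := exists_linearIndependent κ t
  rw [ht] at hspan
  let bs := Module.Basis.mk hlin (by rw [Subtype.range_coe, hspan])
  have : Finite s := Module.Finite.finite_basis bs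
  have := Fintype.ofFinite s
  have hcard : Fintype.card s = Module.finrank κ (κ ⊗[R] M) :=
    (Module.finrank_eq_card_basis bs).symm
  let e : Fin (Module.finrank κ (κ ⊗[R] M)) ≃ s := (Fintype.equivFinOfCardEq hcard).symm
  choose b hb using fun i ↦ hst (e i).2
  refine ⟨b, ?_⟩
  refine span_eq_top_of_tmul_eq_basis _ (bs.reindex e.symm) fun i => ?_
  simp only [Module.Basis.coe_reindex, Equiv.symm_symm, Function.comp_apply, bs, Module.Basis.mk_apply]
  exact hb i

open scoped IntermediateField.algebraAdjoinAdjoin in
/-- `trdeg K L ≤ #s` if the differentials of the elements of `s` span `Ω[L⁄K]`. -/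
theorem trdeg_le_of_span_D {K L : Type u} [Field K] [Field L] [Algebra K L] [Algebra.EssFiniteType K L]
    (s : Set L) (hs : Submodule.span L (KaehlerDifferential.D K L '' s) = ⊤) :
    Algebra.trdeg K L ≤ Cardinal.mk s := by
  let E := IntermediateField.adjoin K s
  have h1 : Algebra.FormallyUnramified E L := by
    constructor
    have hsurj := KaehlerDifferential.map_surjective K E L
    have h0 : KaehlerDifferential.map K E L L = 0 := by
      apply LinearMap.ext_on hs
      rintro _ ⟨x, hx, rfl⟩
      rw [KaehlerDifferential.map_D, LinearMap.zero_apply]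
      exact (KaehlerDifferential.D E L).map_algebraMap
        (⟨x, IntermediateField.subset_adjoin K s hx⟩ : E)
    refine subsingleton_of_forall_eq 0 fun y => ?_
    obtain ⟨ω, rfl⟩ := hsurj y
    rw [h0, LinearMap.zero_apply]
  have h2 : Algebra.EssFiniteType E L := Algebra.EssFiniteType.of_comp K E L
  have h3 : Algebra.IsSeparable E L := Algebra.FormallyUnramified.isSeparable E L
  have h4 : Algebra.IsAlgebraic E L := inferInstance
  have h5 : Algebra.IsAlgebraic (Algebra.adjoin K s) E := inferInstance
  have h6 : Algebra.IsAlgebraic (Algebra.adjoin K s) L := Algebra.IsAlgebraic.trans _ E _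
  exact Algebra.IsAlgebraic.trdeg_le_cardinalMk K s

/-- The transcendence degree of the fraction field of a local domain `B` essentially of finite type over `K` is
at most `dim κ ⊗ Ω[B⁄K]`. -/
theorem trdeg_le_finrank {K B L : Type u} [Field K] [CommRing B] [IsLocalRing B]
    [Algebra K B] [Algebra.EssFiniteType K B] [Field L] [Algebra K L] [Algebra B L] [IsScalarTower K B L]
    (M : Submonoid B) [IsLocalization M L] :
    Algebra.trdeg K L ≤ Module.finrank (ResidueField B) (ResidueField B ⊗[B] Ω[B⁄K]) := by
  obtain ⟨b, hb⟩ := exists_fin_span (R := B) (M := Ω[B⁄K]) (fun x : B => KaehlerDifferential.D K B x)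
    (KaehlerDifferential.span_range_derivation K B)
  have hfe : Algebra.FormallyUnramified B L := Algebra.FormallyUnramified.of_isLocalization M
  have hes : Algebra.EssFiniteType B L := Algebra.EssFiniteType.of_isLocalization L M
  have : Algebra.EssFiniteType K L := Algebra.EssFiniteType.comp K B L
  have hsurj : Function.Surjective (KaehlerDifferential.mapBaseChange K B L) := by
    have h : Subsingleton Ω[L⁄B] := inferInstance
    rw [← LinearMap.range_eq_top, KaehlerDifferential.range_mapBaseChange]
    rw [LinearMap.ker_eq_top]
    ext
    exact Subsingleton.elim _ _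
  have hspan : Submodule.span L (KaehlerDifferential.D K L '' (Set.range fun i => algebraMap B L (b i))) = ⊤ := by
    rw [eq_top_iff]
    rintro ω -
    obtain ⟨y, rfl⟩ := hsurj ω
    induction y using TensorProduct.induction_on with
    | zero => rw [map_zero]; exact Submodule.zero_mem _
    | add y z hy hz => rw [map_add]; exact Submodule.add_mem _ hy hz
    | tmul c ω =>
      rw [KaehlerDifferential.mapBaseChange_tmul]
      refine Submodule.smul_mem _ _ ?_
      have hω : ω ∈ Submodule.span B (Set.range fun j => KaehlerDifferential.D K B (b j)) := by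
        rw [hb]; trivial
      induction hω using Submodule.span_induction with
      | mem y hy =>
        obtain ⟨j, rfl⟩ := hy
        rw [KaehlerDifferential.map_D]
        exact Submodule.subset_span ⟨_, ⟨j, rfl⟩, rfl⟩
      | zero => rw [map_zero]; exact Submodule.zero_mem _
      | add y z _ _ hy hz => rw [map_add]; exact Submodule.add_mem _ hy hz
      | smul c y _ hy =>
        rw [map_smul, ← algebraMap_smul L c (KaehlerDifferential.map K K B L y)]
        exact Submodule.smul_mem _ _ hy
  refine (trdeg_le_of_span_D _ hspan).trans ?_
  have h := Cardinal.mk_range_le_lift (f := fun i => algebraMap B L (b i))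
  simpa using h

/-- Base change of the fibre of differentials to a local ring which is a localization of `R` at `q`. -/
theorem finrank_localization {K R B : Type u} [Field K] [CommRing R] [Algebra K R] (q : Ideal R) [q.IsPrime]
    [CommRing B] [IsLocalRing B] [Algebra K B] [Algebra R B] [IsScalarTower K R B] [IsLocalization.AtPrime B q] :
    Module.finrank (ResidueField B) (ResidueField B ⊗[B] Ω[B⁄K]) =
      Module.finrank q.ResidueField (q.ResidueField ⊗[R] Ω[R⁄K]) := by
  have : Algebra.FormallyEtale R B := .of_isLocalization q.primeCompl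
  let eA := KaehlerDifferential.tensorKaehlerEquivOfFormallyEtale K R B
  let e1 : ResidueField B ⊗[B] (B ⊗[R] Ω[R⁄K]) ≃ₗ[ResidueField B] ResidueField B ⊗[R] Ω[R⁄K] :=
    TensorProduct.AlgebraTensorModule.cancelBaseChange R B _ _ _
  let e2 : ResidueField B ⊗[B] (B ⊗[R] Ω[R⁄K]) ≃ₗ[ResidueField B] ResidueField B ⊗[B] Ω[B⁄K] :=
    eA.baseChange B (ResidueField B) _ _
  rw [← (e1.symm.trans e2).finrank_eq]
  -- the ring homomorphism `κ(q) → κ(B)`
  let A := Localization.AtPrime q
  let e : A ≃ₐ[R] B := IsLocalization.algEquiv q.primeCompl A B
  let φ : q.ResidueField →+* ResidueField B := ResidueField.map (e : A →+* B)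
  let _ : Algebra q.ResidueField (ResidueField B) := φ.toAlgebra
  have : IsScalarTower R q.ResidueField (ResidueField B) := by
    apply IsScalarTower.of_algebraMap_eq
    intro r
    change residue B (algebraMap R B r) = residue B (e (algebraMap R A r))
    rw [e.commutes]
  let e3 : ResidueField B ⊗[q.ResidueField] (q.ResidueField ⊗[R] Ω[R⁄K]) ≃ₗ[ResidueField B]
      ResidueField B ⊗[R] Ω[R⁄K] :=
    TensorProduct.AlgebraTensorModule.cancelBaseChange R q.ResidueField _ _ _
  rw [← e3.finrank_eq, Module.finrank_baseChange]

open Algebra in
/-- `dim κ(q) ⊗ Ω[R⁄K] = n` at every prime `q` at which the `n`-dimensional finite type domain `R` is smooth. -/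
theorem finrank_residueField {K R : Type u} [Field K] [CommRing R] [IsDomain R] [Algebra K R]
    [Algebra.FiniteType K R] (n : ℕ) (hn : Algebra.trdeg K R = n) (q : Ideal R) [q.IsPrime]
    (hq : Algebra.IsSmoothAt K q) :
    Module.finrank q.ResidueField (q.ResidueField ⊗[R] Ω[R⁄K]) = n := by
  apply le_antisymm
  · have h1 := (Groth.Agent.S2063.result (k := K) (S := R) q).mp hq
    have h2 : FlatMor.localDim (PrimeSpectrum R) ⟨q, inferInstance⟩ ≤ n := by
      refine (VarietyB.DimTop.localDim_le_dim _).trans ?_
      rw [PrimeSpectrum.topologicalKrullDim_eq_ringKrullDim]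
      obtain ⟨m, hm, hm'⟩ := Groth.Agent.Ega4B.DimFT.exists_dim K R
      rw [hn] at hm
      have : n = m := by exact_mod_cast hm
      rw [hm', this]
    have h3 := h1.trans h2
    exact_mod_cast h3
  · let B := Localization.AtPrime q
    let L := FractionRing R
    have hqm : q.primeCompl ≤ nonZeroDivisors R := q.primeCompl_le_nonZeroDivisors
    let _ : Algebra B L := (IsLocalization.lift (M := q.primeCompl) (S := B) (g := algebraMap R L)
      fun y => IsLocalization.map_units L ⟨y.1, hqm y.2⟩).toAlgebra
    have : IsScalarTower R B L := .of_algebraMap_eq fun x => (IsLocalization.lift_eq _ x).symm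
    have : IsScalarTower K B L := .of_algebraMap_eq fun x => by
      rw [IsScalarTower.algebraMap_apply K R L, IsScalarTower.algebraMap_apply R B L,
        ← IsScalarTower.algebraMap_apply K R B]
    have : IsFractionRing B L := IsFractionRing.isFractionRing_of_isDomain_of_isLocalization q.primeCompl B L
    have : Algebra.EssFiniteType R B := Algebra.EssFiniteType.of_isLocalization B q.primeCompl
    have : Algebra.EssFiniteType K B := Algebra.EssFiniteType.comp K R B
    have h1 := trdeg_le_finrank (K := K) (B := B) (L := L) (nonZeroDivisors B)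
    have h2 : Algebra.trdeg K L = n := by
      have : Algebra.IsAlgebraic R L := IsLocalization.isAlgebraic _ (nonZeroDivisors R)
      have : FaithfulSMul R L := (faithfulSMul_iff_algebraMap_injective _ _).mpr (IsFractionRing.injective R L)
      have : FaithfulSMul K R := (faithfulSMul_iff_algebraMap_injective _ _).mpr (algebraMap K R).injective
      have h2 := trdeg_add_eq K R (A := L)
      rw [trdeg_eq_zero (R := R) (A := L), add_zero] at h2
      rw [← h2, hn]
    rw [h2, finrank_localization (K := K) q] at h1
    exact_mod_cast h1

/-- The jet space of the local ring at `q` of an `n`-dimensional domain smooth at `q` has dimension `n + 1`. -/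
theorem finrank_jet {K R : Type u} [Field K] [CommRing R] [IsDomain R] [Algebra K R]
    [Algebra.FiniteType K R] (n : ℕ) (hn : Algebra.trdeg K R = n) (q : Ideal R) [q.IsPrime]
    (hq : Algebra.IsSmoothAt K q) (B : Type u)
    [CommRing B] [IsLocalRing B] [Algebra K B] [Algebra R B] [IsScalarTower K R B] [IsLocalization.AtPrime B q] :
    Module.finrank (ResidueField B) (Jet K B) = n + 1 := by
  have : Algebra.EssFiniteType R B := Algebra.EssFiniteType.of_isLocalization B q.primeCompl
  have : Algebra.EssFiniteType K B := Algebra.EssFiniteType.comp K R B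
  have h := finrank_localization (K := K) (B := B) q
  rw [finrank_residueField n hn q hq] at h
  change Module.finrank (ResidueField B) (ResidueField B × (ResidueField B ⊗[B] Ω[B⁄K])) = n + 1
  rw [Module.finrank_prod, h, Module.finrank_self, add_comm]

end Groth.Agent.CycA.MovJet
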