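import Groth.Agent.CycA.MovJet
import Groth.Agent.CycA.MovForms

/-!
# Jets of generic linear forms

`jetMap K B a : (I → K) →ₗ[K] Jet K B` sends `v` to the 1-jet of `∑ v i • a i`.

* `span_range_jetMap`: its image spans `Jet K B` if `a i0 = 1` and `Ω[B⁄K]` is spanned by the `D (a i)`.
* `exists_isUnit_of_linearIndependent`, `formallyUnramified_of_linearIndependent`: consequences of the linear
  independence of `dim (Jet K B)` jets.
-/

set_option autoImplicit false
universe u
open IsLocalRing TensorProduct Groth.Agent.CycA.MovForms

namespace Groth.Agent.CycA.MovJet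

variable (K : Type u) [Field K] (B : Type u) [CommRing B] [IsLocalRing B] [Algebra K B]

/-- The 1-jet of a linear combination. -/
noncomputable def jetMap {I : Type*} [Fintype I] (a : I → B) : (I → K) →ₗ[K] Jet K B :=
  (jet K B).comp (Fintype.linearCombination K a)

variable {K B}

lemma jetMap_apply {I : Type*} [Fintype I] (a : I → B) (v : I → K) :
    jetMap K B a v = jet K B (comb a v) := rfl

lemma jetMap_single {I : Type*} [Fintype I] [DecidableEq I] (a : I → B) (i : I) :
    jetMap K B a (Pi.single i 1) = jet K B (a i) := by
  rw [jetMap, LinearMap.comp_apply, Fintype.linearCombination_apply_single, one_smul]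

/-- Stacks-free: the jets of the coordinates span. -/
theorem span_range_jetMap {I : Type*} [Fintype I] (a : I → B) (i0 : I) (hi0 : a i0 = 1)
    (h : Submodule.span B (Set.range fun j => KaehlerDifferential.D K B (a j)) = ⊤) :
    Submodule.span (ResidueField B) (Set.range (jetMap K B a)) = ⊤ := by
  classical
  rw [eq_top_iff, ← span_jet_eq_top a i0 hi0 h]
  apply Submodule.span_mono
  rintro _ ⟨j, rfl⟩
  exact ⟨Pi.single j 1, jetMap_single a j⟩

theorem span_eq_top_of_linearIndependent {n : ℕ} (hn : Module.finrank (ResidueField B) (Jet K B) = n + 1)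
    {v : Fin (n + 1) → Jet K B} (hv : LinearIndependent (ResidueField B) v) :
    Submodule.span (ResidueField B) (Set.range v) = ⊤ := by
  have : FiniteDimensional (ResidueField B) (Jet K B) := by
    apply FiniteDimensional.of_finrank_pos
    omega
  exact hv.span_eq_top_of_card_eq_finrank' (by rw [hn, Fintype.card_fin])

/-- If the jets of the `a j` span the jet space, one of the `a j` is a unit. -/
theorem exists_isUnit_of_span {ι : Type*} (a : ι → B)
    (hJ : Submodule.span (ResidueField B) (Set.range fun j => jet K B (a j)) = ⊤) :
    ∃ j, IsUnit (a j) := by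
  by_contra hc
  push Not at hc
  have h1 : Submodule.span (ResidueField B) (Set.range fun j => jet K B (a j)) ≤
      LinearMap.ker (LinearMap.fst (ResidueField B) (ResidueField B) (ResidueField B ⊗[B] Ω[B⁄K])) := by
    rw [Submodule.span_le]
    rintro _ ⟨j, rfl⟩
    change residue B (a j) = 0
    rw [residue_eq_zero_iff, mem_maximalIdeal, mem_nonunits_iff]
    exact hc j
  rw [hJ] at h1
  have h2 : ((1 : ResidueField B), (0 : ResidueField B ⊗[B] Ω[B⁄K])) ∈
      LinearMap.ker (LinearMap.fst (ResidueField B) (ResidueField B) (ResidueField B ⊗[B] Ω[B⁄K])) :=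
    h1 trivial
  have h3 : (1 : ResidueField B) = 0 := h2
  exact one_ne_zero h3

variable {I : Type*} [Fintype I] (a : I → B) {n : ℕ} (l : Fin (n + 1) → (I → K))

theorem exists_isUnit_of_linearIndependent (hn : Module.finrank (ResidueField B) (Jet K B) = n + 1)
    (hl : LinearIndependent (ResidueField B) (fun j => jetMap K B a (l j))) :
    ∃ j, IsUnit (comb a (l j)) :=
  exists_isUnit_of_span (K := K) (fun j => comb a (l j)) (span_eq_top_of_linearIndependent hn hl)

theorem formallyUnramified_of_linearIndependent {A : Type u} [CommRing A] [Algebra K A] [Algebra A B]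
    [IsScalarTower K A B] [Module.Finite B Ω[B⁄K]]
    (hn : Module.finrank (ResidueField B) (Jet K B) = n + 1)
    (hl : LinearIndependent (ResidueField B) (fun j => jetMap K B a (l j)))
    (j0 : Fin (n + 1)) (hj0 : IsUnit (comb a (l j0)))
    (t : Fin (n + 1) → A) (ht : ∀ j, comb a (l j) = algebraMap A B (t j) * comb a (l j0)) :
    Algebra.FormallyUnramified A B :=
  formallyUnramified_of_span (K := K) (fun j => comb a (l j)) j0 hj0 t ht
    (span_eq_top_of_linearIndependent hn hl)

/-- Consequences: `𝔪_A B = 𝔪_B` and `κ(B)/κ(A)` is separable and finite. -/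
theorem map_maximalIdeal_of_linearIndependent {A : Type u} [CommRing A] [IsLocalRing A] [Algebra K A]
    [Algebra A B] [IsLocalHom (algebraMap A B)]
    [IsScalarTower K A B] [Algebra.EssFiniteType K B]
    (hn : Module.finrank (ResidueField B) (Jet K B) = n + 1)
    (hl : LinearIndependent (ResidueField B) (fun j => jetMap K B a (l j)))
    (j0 : Fin (n + 1)) (hj0 : IsUnit (comb a (l j0)))
    (t : Fin (n + 1) → A) (ht : ∀ j, comb a (l j) = algebraMap A B (t j) * comb a (l j0)) :
    (maximalIdeal A).map (algebraMap A B) = maximalIdeal B ∧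
      Module.Finite (ResidueField A) (ResidueField B) ∧
      Algebra.IsSeparable (ResidueField A) (ResidueField B) := by
  have : Algebra.EssFiniteType A B := Algebra.EssFiniteType.of_comp K A B
  have : Algebra.FormallyUnramified A B :=
    formallyUnramified_of_linearIndependent a l hn hl j0 hj0 t ht
  exact ⟨Algebra.FormallyUnramified.map_maximalIdeal, inferInstance, inferInstance⟩

end Groth.Agent.CycA.MovJet
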