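import Groth.Agent.CycA.MovJetDim
import Groth.Agent.CycA.MovJets
import Groth.Agent.CycA.MovCoord
import Groth.Agent.CycA.MovDouble2
import Mathlib.AlgebraicGeometry.Morphisms.Smooth
import Mathlib.AlgebraicGeometry.FunctionField

/-!
# Generic projections are unramified at given points (scheme form)
-/

set_option autoImplicit false
universe u
open Filter TensorProduct Groth.Agent.CycA.MovForms Groth.Agent.CycA.MovCoord
open CategoryTheory AlgebraicGeometry Groth.Agent.VarietyB.ProjGlue IsLocalRing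

namespace Groth.Agent.CycA.MovJet

open Groth.Agent.CycB.RelDim

variable {K : Type u} [Field K] {X : Scheme.{u}} (p : X ⟶ Spec (CommRingCat.of K))

/-- The constants in a local ring. -/
noncomputable def cstStalk (ζ : X) : K →+* X.presheaf.stalk ζ :=
  (X.presheaf.germ ⊤ ζ trivial).hom.comp (cst p ⊤)

theorem germ_cst (ζ : X) (U : X.Opens) (h : ζ ∈ U) (k : K) :
    (X.presheaf.germ U ζ h).hom (cst p U k) = cstStalk p ζ k := by
  rw [← map_cst p (le_top : U ≤ ⊤)]
  exact X.presheaf.germ_res_apply (homOfLE le_top) ζ h _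

theorem cst_comp {Z : Scheme.{u}} (f : X ⟶ Z) (pZ : Z ⟶ Spec (CommRingCat.of K)) :
    cst (f ≫ pZ) ⊤ = f.appTop.hom.comp (cst pZ ⊤) := by
  have h1 : ∀ {Y : Scheme.{u}}, Y.presheaf.map (homOfLE (le_top : (⊤ : Y.Opens) ≤ ⊤)).op = 𝟙 _ := fun {Y} =>
    Y.presheaf.map_id _
  unfold cst
  rw [h1, h1, Scheme.Hom.comp_appTop, Category.comp_id, Category.comp_id]
  rfl

theorem stalkMap_cstStalk {Z : Scheme.{u}} (f : X ⟶ Z) (pZ : Z ⟶ Spec (CommRingCat.of K))
    (hf : f ≫ pZ = p) (ζ : X) (k : K) :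
    (f.stalkMap ζ).hom (cstStalk pZ (f ζ) k) = cstStalk p ζ k := by
  subst hf
  change ((Z.presheaf.germ ⊤ (f ζ) trivial ≫ f.stalkMap ζ).hom (cst pZ ⊤ k)) = _
  rw [Scheme.Hom.germ_stalkMap]
  change (X.presheaf.germ ⊤ ζ _).hom ((f.appTop).hom (cst pZ ⊤ k)) = _
  rw [← germ_cst _ _ ⊤ trivial, cst_comp]
  rfl

theorem cst_formallySmooth [Smooth p] {U : X.Opens} (hU : IsAffineOpen U) :
    (cst p U).FormallySmooth := by
  have h1 := (p.smooth_appLE (isAffineOpen_top _) hU (by simp)).formallySmooth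
  have h2 : ((Scheme.ΓSpecIso (CommRingCat.of K)).inv.hom).FormallySmooth :=
    RingHom.FormallySmooth.of_bijective
      (ConcreteCategory.bijective_of_isIso (Scheme.ΓSpecIso (CommRingCat.of K)).inv)
  exact h2.comp h1

section

variable [IsIntegral X] [LocallyOfFiniteType p] {U : X.Opens} (hU : IsAffineOpen U) {ζ : X} (hζ : ζ ∈ U)

include hU hζ

omit [LocallyOfFiniteType p] in
theorem trdeg_sections (δ : X → ℤ) (hδ : Cyc.DeltaCompat p δ (fun _ => 0)) (n : ℕ)
    (hn : δ (genericPoint X) = n) :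
    letI := (cst p U).toAlgebra
    Algebra.trdeg K Γ(X, U) = n := by
  let _ := (cst p U).toAlgebra
  have hξ : genericPoint X ∈ U :=
    ((genericPoint_spec X).mem_open_set_iff U.isOpen).mpr ⟨ζ, trivial, hζ⟩
  have h1 := MovDouble.trdeg_quotient p hU (genericPoint X) hξ
  have hne : Nonempty U := ⟨⟨ζ, hζ⟩⟩
  have h2 : RingHom.ker (X.evaluation U (genericPoint X) hξ).hom = ⊥ := by
    rw [ker_evaluation hU, hU.primeIdealOf_genericPoint, genericPoint_eq_bot_of_affine]
    rfl
  obtain ⟨m, hm1, hm2⟩ := hδ (genericPoint X)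
  have h3 : m = n := by
    rw [hn] at hm2
    simpa using hm2.symm
  have h4 := h1.trans hm1
  rw [h2, h3] at h4
  rw [← h4]
  exact (AlgEquiv.quotientBot K Γ(X, U)).trdeg_eq.symm

theorem finrank_jet_stalk [Smooth p] (δ : X → ℤ) (hδ : Cyc.DeltaCompat p δ (fun _ => 0)) (n : ℕ)
    (hn : δ (genericPoint X) = n) :
    letI := (cstStalk p ζ).toAlgebra
    Module.finrank (ResidueField (X.presheaf.stalk ζ)) (Jet K (X.presheaf.stalk ζ)) = n + 1 ∧
      Algebra.EssFiniteType K (X.presheaf.stalk ζ) := by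
  let _ := (cstStalk p ζ).toAlgebra
  let _ := (cst p U).toAlgebra
  have hne : Nonempty U := ⟨⟨ζ, hζ⟩⟩
  let _ := X.presheaf.algebra_section_stalk ⟨ζ, hζ⟩
  have : IsScalarTower K Γ(X, U) (X.presheaf.stalk ζ) :=
    .of_algebraMap_eq fun k => (germ_cst p ζ U hζ k).symm
  have hloc : IsLocalization.AtPrime (X.presheaf.stalk ζ) (hU.primeIdealOf ⟨ζ, hζ⟩).asIdeal :=
    hU.isLocalization_stalk ⟨ζ, hζ⟩
  have hft : Algebra.FiniteType K Γ(X, U) := MovDouble.cst_finiteType p hU
  have hfs : Algebra.FormallySmooth K Γ(X, U) := cst_formallySmooth p hU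
  have hsm : Algebra.IsSmoothAt K (hU.primeIdealOf ⟨ζ, hζ⟩).asIdeal := by
    have : Algebra.FormallySmooth Γ(X, U) (Localization.AtPrime (hU.primeIdealOf ⟨ζ, hζ⟩).asIdeal) :=
      Algebra.FormallySmooth.of_isLocalization (hU.primeIdealOf ⟨ζ, hζ⟩).asIdeal.primeCompl
    exact Algebra.FormallySmooth.comp K Γ(X, U) _
  refine ⟨finrank_jet n (trdeg_sections p hU hζ δ hδ n hn) _ hsm (X.presheaf.stalk ζ), ?_⟩
  have : Algebra.EssFiniteType Γ(X, U) (X.presheaf.stalk ζ) :=
    Algebra.EssFiniteType.of_isLocalization _ (hU.primeIdealOf ⟨ζ, hζ⟩).asIdeal.primeCompl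
  exact Algebra.EssFiniteType.comp K Γ(X, U) _

end

section

variable {I : Type} [Fintype I] [IsIntegral X] [Smooth p] (δ : X → ℤ)
  (hδ : Cyc.DeltaCompat p δ (fun _ => 0)) (n : ℕ) (hn : δ (genericPoint X) = n) (D : CoordData X I)
  (hD : ∀ a, IsAffineOpen (D.U a)) (hsurj : ∀ a, Function.Surjective (D.hom p a))

/-- The germs of the coordinates in the chart `a`. -/
noncomputable def crdGerm (a : I) {ζ : X} (hζ : ζ ∈ D.U a) (i : I) : X.presheaf.stalk ζ :=
  (X.presheaf.germ (D.U a) ζ hζ).hom (D.f a i)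

omit [IsIntegral X] [Smooth p] in
theorem germ_form (a : I) {ζ : X} (hζ : ζ ∈ D.U a) (v : I → K) :
    letI := (cstStalk p ζ).toAlgebra
    (X.presheaf.germ (D.U a) ζ hζ).hom (form p D a v) = comb (crdGerm D a hζ) v := by
  let _ := (cstStalk p ζ).toAlgebra
  unfold form comb crdGerm
  rw [map_sum]
  refine Finset.sum_congr rfl fun i _ => ?_
  rw [map_mul, germ_cst, Algebra.smul_def]
  rfl

omit [Fintype I] [IsIntegral X] [Smooth p] in
theorem adjoin_eq_top (a : I) (h : Function.Surjective (D.hom p a)) :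
    letI := (cst p (D.U a)).toAlgebra
    Algebra.adjoin K (Set.range (D.f a)) = ⊤ := by
  let _ := (cst p (D.U a)).toAlgebra
  rw [eq_top_iff]
  rintro z -
  obtain ⟨P, rfl⟩ := h z
  induction P using MvPolynomial.induction_on with
  | C k =>
    have : D.hom p a (MvPolynomial.C k) = algebraMap K Γ(X, D.U a) k := by
      simp only [CoordData.hom, MvPolynomial.eval₂Hom_C]
      rfl
    rw [this]
    exact Subalgebra.algebraMap_mem _ k
  | add P Q hP hQ => rw [map_add]; exact Subalgebra.add_mem _ hP hQ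
  | mul_X P i hP =>
    rw [map_mul, CoordData.hom_X]
    exact Subalgebra.mul_mem _ hP (Algebra.subset_adjoin ⟨i, rfl⟩)

include hδ hn hD hsurj

/-- The 1-jets at `ζ` of `n + 1` generic linear forms are linearly independent. -/
theorem eventually_jet [Infinite K] (ζ : X) (a : I) (hζ : ζ ∈ D.U a) :
    letI := (cstStalk p ζ).toAlgebra
    ∀ᶠ ℓ in genTuple K (I → K) (n + 1), LinearIndependent (ResidueField (X.presheaf.stalk ζ))
      (fun j => jetMap K (X.presheaf.stalk ζ) (crdGerm D a hζ) (ℓ j)) := by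
  let _ := (cstStalk p ζ).toAlgebra
  let _ := (cst p (D.U a)).toAlgebra
  let _ := X.presheaf.algebra_section_stalk ⟨ζ, hζ⟩
  have : IsScalarTower K Γ(X, D.U a) (X.presheaf.stalk ζ) :=
    .of_algebraMap_eq fun k => (germ_cst p ζ (D.U a) hζ k).symm
  have hloc : IsLocalization.AtPrime (X.presheaf.stalk ζ) ((hD a).primeIdealOf ⟨ζ, hζ⟩).asIdeal :=
    (hD a).isLocalization_stalk ⟨ζ, hζ⟩
  obtain ⟨h1, h2⟩ := finrank_jet_stalk p (hD a) hζ δ hδ n hn
  have hfd : FiniteDimensional (ResidueField (X.presheaf.stalk ζ)) (Jet K (X.presheaf.stalk ζ)) := by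
    apply FiniteDimensional.of_finrank_pos
    omega
  refine eventually_linearIndependent (jetMap K (X.presheaf.stalk ζ) (crdGerm D a hζ)) ?_ (n + 1) h1.ge
  refine span_range_jetMap _ a ?_ ?_
  · unfold crdGerm
    rw [D.f_self, map_one]
  · exact span_D_eq_top_of_isLocalization ((hD a).primeIdealOf ⟨ζ, hζ⟩).asIdeal.primeCompl (D.f a)
      (adjoin_eq_top p D a (hsurj a))

omit hD hsurj in
/-- If the 1-jets at `ζ` of the `n + 1` linear forms are linearly independent, then any morphism `f` of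
`K`-schemes whose target contains their ratios is unramified at `ζ`. -/
theorem unramified_of_jet (ζ : X) (a : I) (hζ : ζ ∈ D.U a) (ℓ : Fin (n + 1) → (I → K))
    (hl : letI := (cstStalk p ζ).toAlgebra
      LinearIndependent (ResidueField (X.presheaf.stalk ζ))
        (fun j => jetMap K (X.presheaf.stalk ζ) (crdGerm D a hζ) (ℓ j)))
    {Z : Scheme.{u}} (f : X ⟶ Z) (pZ : Z ⟶ Spec (CommRingCat.of K)) (hf : f ≫ pZ = p)
    (j0 : Fin (n + 1)) (hj0 : ζ ∈ X.basicOpen (form p D a (ℓ j0)))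
    (t : Fin (n + 1) → Z.presheaf.stalk (f ζ))
    (ht : ∀ j, (X.presheaf.germ (D.U a) ζ hζ).hom (form p D a (ℓ j)) =
      (f.stalkMap ζ).hom (t j) * (X.presheaf.germ (D.U a) ζ hζ).hom (form p D a (ℓ j0))) :
    (maximalIdeal (Z.presheaf.stalk (f ζ))).map (f.stalkMap ζ).hom =
      maximalIdeal (X.presheaf.stalk ζ) ∧
    (f.stalkMap ζ).hom.FormallyUnramified ∧
    (letI := (f.residueFieldMap ζ).hom.toAlgebra;
      Module.Finite (Z.residueField (f ζ)) (X.residueField ζ) ∧
      Algebra.IsSeparable (Z.residueField (f ζ)) (X.residueField ζ)) := by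
  let _ := (cstStalk p ζ).toAlgebra
  let _ := (cstStalk pZ (f ζ)).toAlgebra
  let _ := (f.stalkMap ζ).hom.toAlgebra
  have hst : IsScalarTower K (Z.presheaf.stalk (f ζ)) (X.presheaf.stalk ζ) :=
    .of_algebraMap_eq fun k => (stalkMap_cstStalk p f pZ hf ζ k).symm
  have hlocal : IsLocalHom (algebraMap (Z.presheaf.stalk (f ζ)) (X.presheaf.stalk ζ)) :=
    inferInstanceAs (IsLocalHom (f.stalkMap ζ).hom)
  obtain ⟨V, hV, hζV, -⟩ := exists_isAffineOpen_mem_and_subset (X := X) (U := ⊤) (x := ζ) trivial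
  obtain ⟨h1, h2⟩ := finrank_jet_stalk p hV hζV δ hδ n hn
  have hu : IsUnit (comb (crdGerm D a hζ) (ℓ j0)) := by
    rw [← germ_form]
    exact (X.mem_basicOpen (form p D a (ℓ j0)) ζ hζ).mp hj0
  have ht' : ∀ j, comb (crdGerm D a hζ) (ℓ j) =
      algebraMap (Z.presheaf.stalk (f ζ)) (X.presheaf.stalk ζ) (t j) *
        comb (crdGerm D a hζ) (ℓ j0) := by
    intro j
    rw [← germ_form, ← germ_form]
    exact ht j
  have hfu := formallyUnramified_of_linearIndependent (crdGerm D a hζ) ℓ h1 hl j0 hu t ht'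
  have h3 := map_maximalIdeal_of_linearIndependent (crdGerm D a hζ) ℓ h1 hl j0 hu t ht'
  have e : (inferInstance : Algebra (ResidueField (Z.presheaf.stalk (f ζ))) (ResidueField (X.presheaf.stalk ζ))) =
      (ResidueField.map (f.stalkMap ζ).hom).toAlgebra := by
    apply Algebra.algebra_ext
    intro r
    obtain ⟨r, rfl⟩ := IsLocalRing.residue_surjective r
    rfl
  have h4 : @Module.Finite (ResidueField (Z.presheaf.stalk (f ζ))) (ResidueField (X.presheaf.stalk ζ)) _ _
      (inferInstance : Algebra (ResidueField (Z.presheaf.stalk (f ζ)))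
        (ResidueField (X.presheaf.stalk ζ))).toModule := h3.2.1
  have h5 : @Algebra.IsSeparable (ResidueField (Z.presheaf.stalk (f ζ))) (ResidueField (X.presheaf.stalk ζ)) _ _
      (inferInstance : Algebra (ResidueField (Z.presheaf.stalk (f ζ)))
        (ResidueField (X.presheaf.stalk ζ))) := h3.2.2
  rw [e] at h4 h5
  exact ⟨h3.1, hfu, h4, h5⟩

end

end Groth.Agent.CycA.MovJet
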