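import Groth.Agent.CycA.MovExc
import Groth.Agent.CycA.MovE4
import Groth.Agent.CycA.MovFinite
import Groth.Agent.CycA.MovCyc

/-!
# The one-step moving lemma
-/

set_option autoImplicit false
universe u
open AlgebraicGeometry CategoryTheory HomogeneousLocalization Filter

namespace Groth.Agent.CycA.MovMain

open Groth.Agent.VarietyB.ProjHom Groth.Agent.VarietyB.ProjGlue Groth.Agent.VarietyB.ProjStd
open Groth.Agent.CycA.MovVec Groth.Agent.CycA.MovCoord Groth.Agent.CycA.MovForms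
open Groth.Agent.CycA.MovProj Groth.Agent.CycA.MovGlob Groth.Agent.CycA.MovExc

attribute [local instance] MvPolynomial.gradedAlgebra

variable {K : Type u} [Field K] {I : Type} [Fintype I] {X : Scheme.{u}}
  (ι : X ⟶ Proj (MvPolynomial.homogeneousSubmodule I K)) (δ : X → ℤ)

/-- The points of maximal dimension in the intersections of the closure of `η` with those of the
points of `T`. -/
def maxPts (η : X) (T : Set X) : Set X :=
  {ζ | ∃ τ ∈ T, η ⤳ ζ ∧ τ ⤳ ζ ∧ ∀ ζ', η ⤳ ζ' → τ ⤳ ζ' → δ ζ' ≤ δ ζ}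

theorem finite_maxPts [TopologicalSpace.NoetherianSpace X] (hδ : Cyc.IsDimFun X δ) (η : X)
    {T : Set X} (hT : T.Finite) : (maxPts δ η T).Finite := by
  have h1 : ∀ τ : X, {x : X | x ∈ closure {η} ∩ closure {τ} ∧
      ∀ y ∈ closure {η} ∩ closure {τ}, y ⤳ x → y = x}.Finite := fun τ =>
    MovFin.finite_maximal (isClosed_closure.inter isClosed_closure)
  refine (hT.biUnion fun τ _ => h1 τ).subset ?_
  rintro ζ ⟨τ, hτ, h2, h3, h4⟩
  rw [Set.mem_iUnion₂]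
  refine ⟨τ, hτ, ⟨specializes_iff_mem_closure.1 h2, specializes_iff_mem_closure.1 h3⟩, ?_⟩
  intro y hy hyζ
  by_contra hne
  have h5 := (hδ y ζ hyζ hne).1
  have h6 := h4 y (specializes_iff_mem_closure.2 hy.1) (specializes_iff_mem_closure.2 hy.2)
  omega

theorem iSup_eq_top_of_E3 {p : X ⟶ Spec (CommRingCat.of K)} (D : CoordData X I) {m : ℕ}
    {ℓ : Fin m → I → K}
    (h : ∀ (a : I) (x : X), x ∈ D.U a → ∃ j, x ∈ X.basicOpen (form p D a (ℓ j))) :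
    ⨆ α : Fin m × I, X.basicOpen (form p D α.2 (ℓ α.1)) = ⊤ := by
  rw [eq_top_iff]
  intro x _
  obtain ⟨a, ha⟩ := exists_chart D x
  obtain ⟨j, hj⟩ := h a x ha
  exact TopologicalSpace.Opens.mem_iSup.2 ⟨(j, a), hj⟩

/-- **The one-step moving lemma.** -/
theorem moves [IsAlgClosed K] [IsClosedImmersion ι]
    [Smooth (ι ≫ Groth.Agent.VarietyB.ProjStd.toSpec I K)]
    [IsSeparated (ι ≫ Groth.Agent.VarietyB.ProjStd.toSpec I K)]
    [QuasiCompact (ι ≫ Groth.Agent.VarietyB.ProjStd.toSpec I K)] [IsIntegral X]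
    (hX : Cyc.IsSetup X δ)
    (hδ : Cyc.DeltaCompat (ι ≫ Groth.Agent.VarietyB.ProjStd.toSpec I K) δ (fun _ => 0)) (n : ℤ)
    (hn : δ (genericPoint X) = n) (δP : ↥(CohB1.ProjSpaceOver 1 X) → ℤ)
    (hP : Cyc.DeltaCompat (CohB1.ProjSpaceOver.toBase 1 X) δP δ) (η : X) (hη : δ η < n)
    (T : Set X) (hT : T.Finite) :
    MovLemmaM.Moves (ι ≫ Groth.Agent.VarietyB.ProjStd.toSpec I K) δ n δP η T := by
  set p := ι ≫ Groth.Agent.VarietyB.ProjStd.toSpec I K with hp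
  set D := pullbackData ι (stdData I K) with hD0
  have hdf : Cyc.IsDimFun X δ := hX.2.2
  have hN : IsLocallyNoetherian X := hX.1
  have hcpt : CompactSpace X := QuasiCompact.compactSpace_of_compactSpace p
  have hNX : TopologicalSpace.NoetherianSpace X := by
    have : IsNoetherian X := {}
    infer_instance
  obtain ⟨m, rfl⟩ : ∃ m : ℕ, n = m :=
    ⟨n.toNat, (Int.toNat_of_nonneg (hn ▸ MovZ.delta_nonneg hδ (genericPoint X))).symm⟩
  have hle : ∀ x, δ x < ((m + 1 : ℕ) : ℤ) := fun x => by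
    have := MovZ.delta_le hdf x
    push_cast
    omega
  have hD : ∀ a, IsAffineOpen (D.U a) := MovE4.isAffineOpen_U_pullback ι
  have hsurj : ∀ a, Function.Surjective (D.hom p a) := MovE4.hom_surjective ι
  have e3 := MovDouble.E3 p δ hδ D hD (m + 1) hle
  have e1 : ∀ᶠ ℓ : Fin (m + 1) → I → K in genTuple K (I → K) (m + 1),
      ∀ τ ∈ T, Good1 ι δ (m + 1) η τ ℓ :=
    (Filter.eventually_all_finite hT).2 fun τ _ => MovDouble.E1 p δ hδ D hD (m + 1) η τ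
  have e4 : ∀ᶠ ℓ : Fin (m + 1) → I → K in genTuple K (I → K) (m + 1),
      ∀ ζ ∈ insert η (maxPts δ η T),
      ∀ (h : ⨆ α : Fin (m + 1) × I, X.basicOpen (form p D α.2 (ℓ α.1)) = ⊤),
        MovE4.UnramAt (linMap p D ℓ h) ζ :=
    (Filter.eventually_all_finite ((finite_maxPts δ hdf η hT).insert η)).2 fun ζ _ =>
      MovE4.E4 p δ hδ m hn D hD hsurj ζ
  obtain ⟨ℓ, h3, h1, h4⟩ := (e3.and (e1.and e4)).exists
  have h₀ := iSup_eq_top_of_E3 D h3
  have e2 : ∀ᶠ ℓ' : Fin (m + 1) → I → K in genTuple K (I → K) (m + 1),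
      ∀ τ ∈ T, Good2 ι δ (m + 1) η τ ℓ ℓ' :=
    (Filter.eventually_all_finite hT).2 fun τ _ => MovDouble.E2 p δ hδ D hD (m + 1) η τ ℓ
  obtain ⟨ℓ', h3', h2⟩ := (e3.and e2).exists
  have h₁ := iSup_eq_top_of_E3 D h3'
  have hf : IsFinite (linMap p D ℓ h₀) := MovFinite.isFinite_linMap ι ℓ h₀
  have hsm := MovZ.smooth_toSpec K m
  have hint := MovZ.isIntegral_proj K m
  obtain ⟨δZ, hZ⟩ := MovZ.exists_delta K m
  have hZn := MovZ.delta_genericPoint hZ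
  have hs₀ := MovP1.s₀_hmap p D ℓ ℓ' h₀
  have hs₁ := MovP1.s₁_hmap p D ℓ ℓ' h₁
  refine MovCyc.moves_of_hom p δ hX hδ m hn δP hP (Groth.Agent.VarietyB.ProjStd.toSpec (Fin (m + 1)) K)
    δZ hZ hZn (MovP1.Om p D ℓ ℓ') (MovP1.hmap p D ℓ ℓ') (MovP1.hmap_toSpec p D ℓ ℓ')
    (MovP1.s₀ p D ℓ ℓ' h₀) (MovP1.s₁ p D ℓ ℓ' h₁) (MovP1.s₀_ι p D ℓ ℓ' h₀)
    (MovP1.s₁_ι p D ℓ ℓ' h₁) ?_ ?_ η hη ?_ T ?_ ?_
  · rw [hs₀]
    exact fun x => MovZ.delta_eq (linMap p D ℓ h₀) _ p (linMap_toSpec p D ℓ h₀) hδ hZ x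
  · rw [hs₀]
    exact fun z => (linMap p D ℓ h₀).finite_preimage_singleton z
  · rw [hs₀]
    exact (h4 η (Set.mem_insert _ _) h₀).1
  · rw [hs₀]
    intro x hx hxη τ hτ ζ hxζ hτζ
    by_cases hmax : ∃ ζ', η ⤳ ζ' ∧ τ ⤳ ζ' ∧ δ ζ < δ ζ'
    · exact Or.inr hmax
    · left
      push Not at hmax
      have h5 : η ⤳ ζ → MovE4.UnramAt (linMap p D ℓ h₀) ζ := fun hηζ =>
        h4 ζ (Set.mem_insert_of_mem _ ⟨τ, hτ, hηζ, hτζ, hmax⟩) h₀
      have := excess_zero (h1 τ hτ) h₀ hx hxη hxζ hτζ (fun h => (h5 h).1) (fun h => (h5 h).2)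
      push_cast at this
      omega
  · rw [hs₀, hs₁]
    intro x hx τ hτ ζ hxζ hτζ
    have := excess_infty (h2 τ hτ) h₀ h₁ hx hxζ hτζ
    push_cast at this
    omega

end Groth.Agent.CycA.MovMain
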