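import Groth.Agent.CycA.MovSeg
import Groth.Agent.CycB.P1Chart

/-!
# The family of linear projections on `P^1_X`
-/

set_option autoImplicit false
universe u
open AlgebraicGeometry CategoryTheory HomogeneousLocalization

namespace Groth.Agent.CycA.MovP1

open P1 Groth.Agent.CycB.P1Chart
open Groth.Agent.VarietyB.ProjHom Groth.Agent.VarietyB.ProjGlue Groth.Agent.VarietyB.ProjStd
open Groth.Agent.CycA.MovVec Groth.Agent.CycA.MovCoord Groth.Agent.CycA.MovForms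
open Groth.Agent.CycA.MovProj Groth.Agent.CycA.MovSeg

attribute [local instance] MvPolynomial.gradedAlgebra

/-- The standard data on `P^1_ℤ`. -/
noncomputable def stdZ : CoordData (CohB1.ProjSpace 1 R0.{u}) (Fin 2) := stdData (Fin 2) R0.{u}

theorem app_eq_zero_of_eq {X Z : Scheme.{u}} {φ ψ : X ⟶ Z} (h : φ = ψ) (U : Z.Opens) (x : Γ(Z, U))
    (h0 : ψ.app U x = 0) : φ.app U x = 0 := by
  subst h; exact h0

theorem preimage_eq_top_of_eq {X Z : Scheme.{u}} {φ ψ : X ⟶ Z} (h : φ = ψ) (U : Z.Opens)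
    (h0 : ψ ⁻¹ᵁ U = ⊤) : φ ⁻¹ᵁ U = ⊤ := by
  subst h; exact h0

/-- Evaluation at the point with values in the global sections. -/
noncomputable def evT {X : Scheme.{u}} (g : X ⟶ Spec (CommRingCat.of R0.{u})) (i : Fin 2) :
    Away grading.{u} (T i) →+* Γ(X, ⊤) :=
  ((Scheme.ΓSpecIso (CommRingCat.of R0.{u})).inv ≫ g.appTop).hom.comp (evalAway i)

theorem comp_point_eq {X : Scheme.{u}} (g : X ⟶ Spec (CommRingCat.of R0.{u})) (i : Fin 2) :
    g ≫ P1.point.{u} i = X.toSpecΓ ≫ Spec.map (CommRingCat.ofHom (evT g i)) ≫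
      Proj.awayι grading (T i) (P1.X_mem i) one_pos := by
  have h1 : CommRingCat.ofHom (evT.{u} g i) = CommRingCat.ofHom (evalAway i) ≫
        (Scheme.ΓSpecIso (CommRingCat.of R0.{u})).inv ≫ g.appTop := rfl
  rw [h1, Spec.map_comp, Spec.map_comp, Category.assoc, Category.assoc,
    ← Scheme.toSpecΓ_naturality_assoc, toSpecΓ_SpecMap_ΓSpecIso_inv_assoc]
  rfl

theorem comp_point_preimage {X : Scheme.{u}} (g : X ⟶ Spec (CommRingCat.of R0.{u}))
    (i : Fin 2) : (g ≫ P1.point.{u} i) ⁻¹ᵁ stdZ.U i = ⊤ := by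
  apply le_antisymm le_top
  intro x _
  have h1 := Proj.opensRange_awayι grading.{u} (T i) (P1.X_mem i) one_pos
  change P1.point i (g x) ∈ Proj.basicOpen grading.{u} (T i)
  rw [← h1]
  exact ⟨_, rfl⟩

theorem comp_point_app {X : Scheme.{u}} (g : X ⟶ Spec (CommRingCat.of R0.{u})) (i : Fin 2) :
    (g ≫ P1.point.{u} i).app (stdZ.U i) (stdZ.f i (1 - i)) = 0 := by
  refine app_eq_zero_of_eq (comp_point_eq g i) _ _ ?_
  refine (comp_awayι_app grading (P1.X_mem i) one_pos (evT g i) _).trans ?_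
  have h1 : evalAway.{u} i (deh (Fin 2) R0.{u} i (MvPolynomial.X (1 - i))) = 0 := by
    have h2 : deh (Fin 2) R0.{u} i (MvPolynomial.X (1 - i)) = coord i := by
      have h3 : (1 - i : Fin 2) = i + 1 := by
        fin_cases i <;> rfl
      rw [h3]
      exact deh_of_isHomogeneous (Fin 2) R0.{u} i (n := 1) _ (by simpa using P1.X_mem (i + 1))
    rw [h2, evalAway_eq, chartMap_coord]
  rw [evT, RingHom.comp_apply, h1, map_zero, map_zero]
  rfl

/-- The standard data on `P^1_X`. -/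
noncomputable def stdP1 (X : Scheme.{u}) : CoordData (CohB1.ProjSpaceOver 1 X) (Fin 2) :=
  pullbackData (toZ X) stdZ

theorem sect_preimage (X : Scheme.{u}) (i : Fin 2) : P1.sect X i ⁻¹ᵁ (stdP1 X).U i = ⊤ := by
  have h1 : P1.sect X i ≫ toZ X = specULiftZIsTerminal.from X ≫ P1.point i := by
    rw [sect_eq, lift_toZ]
    rfl
  exact preimage_eq_top_of_eq h1 (stdZ.U i) (comp_point_preimage _ i)

theorem sect_app (X : Scheme.{u}) (i : Fin 2) :
    (P1.sect X i).app ((stdP1 X).U i) ((stdP1 X).f i (1 - i)) = 0 := by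
  have h1 : P1.sect X i ≫ toZ X = specULiftZIsTerminal.from X ≫ P1.point i := by
    rw [sect_eq, lift_toZ]
    rfl
  exact app_eq_zero_of_eq h1 (stdZ.U i) (stdZ.f i (1 - i)) (comp_point_app _ i)

theorem sect_toBase (X : Scheme.{u}) (i : Fin 2) :
    P1.sect X i ≫ CohB1.ProjSpaceOver.toBase 1 X = 𝟙 X := by
  rw [sect_eq, lift_toBase]

section family

variable {K : Type u} [Field K] {X : Scheme.{u}} (p : X ⟶ Spec (CommRingCat.of K)) {I J : Type}
  [Fintype I] (D : CoordData X I) (ℓ ℓ' : J → I → K)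

/-- The open of `P^1_X` on which the forms `T₀ ℓ j + T₁ ℓ' j` have no common zero. -/
noncomputable def Om : (CohB1.ProjSpaceOver 1 X).Opens :=
  famOpen (CohB1.ProjSpaceOver.toBase 1 X) p (stdP1 X) D ℓ ℓ'

/-- The family of linear projections. -/
noncomputable def hmap : (Om p D ℓ ℓ').toScheme ⟶ Proj (MvPolynomial.homogeneousSubmodule J K) :=
  famMap (CohB1.ProjSpaceOver.toBase 1 X) p (stdP1 X) D ℓ ℓ'

theorem hmap_toSpec : hmap p D ℓ ℓ' ≫ Groth.Agent.VarietyB.ProjStd.toSpec J K =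
    (Om p D ℓ ℓ').ι ≫ CohB1.ProjSpaceOver.toBase 1 X ≫ p :=
  famMap_toSpec _ _ _ _ _ _

variable (h₀ : ⨆ α : J × I, X.basicOpen (form p D α.2 (ℓ α.1)) = ⊤)
  (h₁ : ⨆ α : J × I, X.basicOpen (form p D α.2 (ℓ' α.1)) = ⊤)

include h₀ in
theorem range_sect_zero : Set.range (P1.sect X 0) ⊆ Set.range (Om p D ℓ ℓ').ι := by
  rintro _ ⟨x, rfl⟩
  rw [Scheme.Opens.range_ι]
  exact mem_famOpen (CohB1.ProjSpaceOver.toBase 1 X) p (stdP1 X) D ℓ ℓ' (P1.sect X 0)
    (sect_toBase X 0) 0 (sect_preimage X 0) (sect_app X 0) (by simpa using h₀) x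

include h₁ in
theorem range_sect_one : Set.range (P1.sect X 1) ⊆ Set.range (Om p D ℓ ℓ').ι := by
  rintro _ ⟨x, rfl⟩
  rw [Scheme.Opens.range_ι]
  exact mem_famOpen (CohB1.ProjSpaceOver.toBase 1 X) p (stdP1 X) D ℓ ℓ' (P1.sect X 1)
    (sect_toBase X 1) 1 (sect_preimage X 1) (sect_app X 1) (by simpa using h₁) x

/-- The section over `0`, as a map to the open. -/
noncomputable def s₀ : X ⟶ (Om p D ℓ ℓ').toScheme :=
  IsOpenImmersion.lift (Om p D ℓ ℓ').ι (P1.sect X 0) (range_sect_zero p D ℓ ℓ' h₀)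

/-- The section over `∞`, as a map to the open. -/
noncomputable def s₁ : X ⟶ (Om p D ℓ ℓ').toScheme :=
  IsOpenImmersion.lift (Om p D ℓ ℓ').ι (P1.sect X 1) (range_sect_one p D ℓ ℓ' h₁)

theorem s₀_ι : s₀ p D ℓ ℓ' h₀ ≫ (Om p D ℓ ℓ').ι = P1.sect X 0 := IsOpenImmersion.lift_fac _ _ _

theorem s₁_ι : s₁ p D ℓ ℓ' h₁ ≫ (Om p D ℓ ℓ').ι = P1.sect X 1 := IsOpenImmersion.lift_fac _ _ _

theorem s₀_hmap : s₀ p D ℓ ℓ' h₀ ≫ hmap p D ℓ ℓ' = linMap p D ℓ h₀ := by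
  refine (comp_famMap (CohB1.ProjSpaceOver.toBase 1 X) p (stdP1 X) D ℓ ℓ' (s₀ p D ℓ ℓ' h₀)
    ?_ 0 ?_ ?_ (by simpa using h₀)).trans ?_
  · have := s₀_ι p D ℓ ℓ' h₀
    exact (congrArg (fun z => z ≫ CohB1.ProjSpaceOver.toBase 1 X) this).trans (sect_toBase X 0)
  · exact preimage_eq_top_of_eq (s₀_ι p D ℓ ℓ' h₀) _ (sect_preimage X 0)
  · exact app_eq_zero_of_eq (s₀_ι p D ℓ ℓ' h₀) _ _ (sect_app X 0)
  · rfl

theorem s₁_hmap : s₁ p D ℓ ℓ' h₁ ≫ hmap p D ℓ ℓ' = linMap p D ℓ' h₁ := by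
  refine (comp_famMap (CohB1.ProjSpaceOver.toBase 1 X) p (stdP1 X) D ℓ ℓ' (s₁ p D ℓ ℓ' h₁)
    ?_ 1 ?_ ?_ (by simpa using h₁)).trans ?_
  · have := s₁_ι p D ℓ ℓ' h₁
    exact (congrArg (fun z => z ≫ CohB1.ProjSpaceOver.toBase 1 X) this).trans (sect_toBase X 1)
  · exact preimage_eq_top_of_eq (s₁_ι p D ℓ ℓ' h₁) _ (sect_preimage X 1)
  · exact app_eq_zero_of_eq (s₁_ι p D ℓ ℓ' h₁) _ _ (sect_app X 1)
  · rfl

end family

end Groth.Agent.CycA.MovP1
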