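import Groth.Agent.CycA.MovProj

/-!
# Functoriality of linear projections; product data
-/

set_option autoImplicit false
universe u
open AlgebraicGeometry CategoryTheory HomogeneousLocalization

namespace Groth.Agent.CycA.MovSeg

open Groth.Agent.VarietyB.ProjHom Groth.Agent.VarietyB.ProjGlue Groth.Agent.VarietyB.ProjStd
open Groth.Agent.CycA.MovVec Groth.Agent.CycA.MovCoord Groth.Agent.CycA.MovForms
open Groth.Agent.CycA.MovProj

attribute [local instance] MvPolynomial.gradedAlgebra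

variable {K : Type u} [Field K]

section basic

variable {X Y : Scheme.{u}} (g : Y ⟶ X) (p : X ⟶ Spec (CommRingCat.of K)) {I J : Type}
  [Fintype I] (D : CoordData X I)

omit [Fintype I] in
theorem app_cst (U : X.Opens) (k : K) : g.app U (cst p U k) = cst (g ≫ p) (g ⁻¹ᵁ U) k := by
  change (g.app U).hom (((Scheme.ΓSpecIso (CommRingCat.of K)).inv ≫
    p.appTop ≫ X.presheaf.map (homOfLE le_top).op).hom k) = ((Scheme.ΓSpecIso (CommRingCat.of K)).inv ≫
    (g ≫ p).appTop ≫ Y.presheaf.map (homOfLE le_top).op).hom k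
  rw [Scheme.Hom.comp_appTop]
  simp only [CommRingCat.hom_comp, RingHom.comp_apply]
  exact (map_app g le_top le_top _).symm

theorem form_pullback (a : I) (v : I → K) :
    form (g ≫ p) (pullbackData g D) a v = g.app (D.U a) (form p D a v) := by
  unfold form
  rw [map_sum]
  refine Finset.sum_congr rfl fun i _ => ?_
  rw [map_mul, app_cst]
  rfl

theorem basicOpen_form_pullback (a : I) (v : I → K) :
    Y.basicOpen (form (g ≫ p) (pullbackData g D) a v) = g ⁻¹ᵁ X.basicOpen (form p D a v) := by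
  rw [form_pullback, Scheme.preimage_basicOpen]
  rfl

theorem iSup_pullback (L : J → I → K)
    (h : ⨆ α : J × I, X.basicOpen (form p D α.2 (L α.1)) = ⊤) :
    ⨆ α : J × I, Y.basicOpen (form (g ≫ p) (pullbackData g D) α.2 (L α.1)) = ⊤ := by
  simp only [basicOpen_form_pullback]
  rw [← Scheme.Hom.preimage_iSup, h]
  rfl

/-- Criterion for two linear projections to be equal. -/
theorem linMap_congr {p p' : X ⟶ Spec (CommRingCat.of K)} (hp : p = p') {I' : Type} [Fintype I']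
    (D : CoordData X I) (D' : CoordData X I') (L : J → I → K) (L' : J → I' → K)
    (h : ⨆ α : J × I, X.basicOpen (form p D α.2 (L α.1)) = ⊤)
    (h' : ⨆ α : J × I', X.basicOpen (form p' D' α.2 (L' α.1)) = ⊤)
    (H : ∀ (a : I) (b : I') (W : X.Opens) (ha : W ≤ D.U a) (hb : W ≤ D'.U b), ∃ u : Γ(X, W)ˣ,
      ∀ j, X.presheaf.map (homOfLE ha).op (form p D a (L j)) =
        u * X.presheaf.map (homOfLE hb).op (form p' D' b (L' j))) :
    linMap p D L h = linMap p' D' L' h' := by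
  subst hp
  apply VecData.toProjSpace_congr
  rintro ⟨j, a⟩ ⟨j', b⟩
  have ha : X.basicOpen (form p D a (L j)) ⊓ X.basicOpen (form p D' b (L' j')) ≤ D.U a :=
    inf_le_left.trans (X.basicOpen_le _)
  have hb : X.basicOpen (form p D a (L j)) ⊓ X.basicOpen (form p D' b (L' j')) ≤ D'.U b :=
    inf_le_right.trans (X.basicOpen_le _)
  obtain ⟨u, hu⟩ := H a b _ ha hb
  refine ⟨u, fun k => (map_map_apply _ _ _).trans ((hu k).trans ?_)⟩
  exact congrArg (fun z : Γ(X, X.basicOpen (form p D a (L j)) ⊓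
    X.basicOpen (form p D' b (L' j'))) => (u : Γ(X, X.basicOpen (form p D a (L j)) ⊓
    X.basicOpen (form p D' b (L' j')))) * z) (map_map_apply _ _ _).symm

theorem comp_linMap (L : J → I → K)
    (h : ⨆ α : J × I, X.basicOpen (form p D α.2 (L α.1)) = ⊤) :
    g ≫ linMap p D L h = linMap (g ≫ p) (pullbackData g D) L (iSup_pullback g p D L h) := by
  unfold linMap
  rw [VecData.comp_toProjSpace]
  apply VecData.toProjSpace_congr
  rintro ⟨j, a⟩ ⟨j', b⟩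
  have ha' : g ⁻¹ᵁ X.basicOpen (form p D a (L j)) ≤ (pullbackData g D).U a :=
    g.preimage_mono (X.basicOpen_le _)
  have ha : g ⁻¹ᵁ X.basicOpen (form p D a (L j)) ⊓
      Y.basicOpen (form (g ≫ p) (pullbackData g D) b (L j')) ≤ (pullbackData g D).U a :=
    inf_le_left.trans ha'
  have hb : g ⁻¹ᵁ X.basicOpen (form p D a (L j)) ⊓
      Y.basicOpen (form (g ≫ p) (pullbackData g D) b (L j')) ≤ (pullbackData g D).U b :=
    inf_le_right.trans (Y.basicOpen_le _)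
  refine ⟨(isUnit_map_f (pullbackData g D) a b _ ha hb).unit, fun k => ?_⟩
  rw [IsUnit.unit_spec]
  have h1 := map_form (g ≫ p) (pullbackData g D) (L k) _ ha hb
  rw [form_pullback g p D a] at h1
  have h2 := map_app g (X.basicOpen_le (form p D a (L j))) ha' (form p D a (L k))
  refine (congrArg (Y.presheaf.map (homOfLE inf_le_left).op) h2.symm).trans ?_
  refine (map_map_apply _ _ _).trans (h1.trans ?_)
  exact congrArg (fun z => Y.presheaf.map (homOfLE ha).op ((pullbackData g D).f a b) * z)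
    (map_map_apply _ _ _).symm

end basic

section prod

variable {X P : Scheme.{u}} (b : P ⟶ X) (p : X ⟶ Spec (CommRingCat.of K)) {I J : Type}
  [Fintype I] (E : CoordData P (Fin 2)) (D : CoordData X I)

/-- The product data. -/
noncomputable abbrev segData : CoordData P (Fin 2 × I) := prodData E (pullbackData b D)

/-- The linear form `T₀ v + T₁ v'`. -/
def segForm (v v' : I → K) : Fin 2 × I → K := fun c => if c.1 = 0 then v c.2 else v' c.2

theorem form_segData (e : Fin 2) (a : I) (v v' : I → K) :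
    form (b ≫ p) (segData b E D) (e, a) (segForm v v') =
      P.presheaf.map (homOfLE (inf_le_left : E.U e ⊓ b ⁻¹ᵁ D.U a ≤ E.U e)).op (E.f e 0) *
        P.presheaf.map (homOfLE (inf_le_right : E.U e ⊓ b ⁻¹ᵁ D.U a ≤ b ⁻¹ᵁ D.U a)).op
          (b.app _ (form p D a v)) +
      P.presheaf.map (homOfLE (inf_le_left : E.U e ⊓ b ⁻¹ᵁ D.U a ≤ E.U e)).op (E.f e 1) *
        P.presheaf.map (homOfLE (inf_le_right : E.U e ⊓ b ⁻¹ᵁ D.U a ≤ b ⁻¹ᵁ D.U a)).op
          (b.app _ (form p D a v')) := by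
  rw [← form_pullback, ← form_pullback]
  have key : ∀ v : I → K, P.presheaf.map
      (homOfLE (inf_le_right : E.U e ⊓ b ⁻¹ᵁ D.U a ≤ b ⁻¹ᵁ D.U a)).op
        (form (b ≫ p) (pullbackData b D) a v) = ∑ i, cst (b ≫ p) (E.U e ⊓ b ⁻¹ᵁ D.U a) (v i) *
          P.presheaf.map (homOfLE (inf_le_right : E.U e ⊓ b ⁻¹ᵁ D.U a ≤ b ⁻¹ᵁ D.U a)).op
            ((pullbackData b D).f a i) := by
    intro v
    refine (map_sum (P.presheaf.map (homOfLE (inf_le_right : E.U e ⊓ b ⁻¹ᵁ D.U a ≤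
      b ⁻¹ᵁ D.U a)).op).hom _ _).trans ?_
    refine Finset.sum_congr rfl fun i _ => ?_
    refine (map_mul (P.presheaf.map (homOfLE (inf_le_right : E.U e ⊓ b ⁻¹ᵁ D.U a ≤
      b ⁻¹ᵁ D.U a)).op).hom _ _).trans ?_
    exact congrArg (fun z => z * _) (map_cst (b ≫ p) _ _)
  rw [key, key]
  unfold form
  rw [Fintype.sum_prod_type, Fin.sum_univ_two, Finset.mul_sum, Finset.mul_sum]
  congr 1
  · refine Finset.sum_congr rfl fun i _ => ?_
    exact mul_left_comm (cst (b ≫ p) (E.U e ⊓ b ⁻¹ᵁ D.U a) (v i)) _ _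
  · refine Finset.sum_congr rfl fun i _ => ?_
    exact mul_left_comm (cst (b ≫ p) (E.U e ⊓ b ⁻¹ᵁ D.U a) (v' i)) _ _

section appLE

variable (s : X ⟶ P)

theorem appLE_map_apply {U V : P.Opens} (h : U ≤ V) {W : X.Opens} (hW : W ≤ s ⁻¹ᵁ U) (x : Γ(P, V)) :
    s.appLE U W hW (P.presheaf.map (homOfLE h).op x) =
      s.appLE V W (hW.trans (s.preimage_mono h)) x := by
  have h1 := s.map_appLE hW (homOfLE h).op
  exact congr(($h1).hom x)

theorem appLE_res {U : P.Opens} {W W' : X.Opens} (hW : W ≤ s ⁻¹ᵁ U) (h : W' ≤ W) (x : Γ(P, U)) :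
    X.presheaf.map (homOfLE h).op (s.appLE U W hW x) = s.appLE U W' (h.trans hW) x := by
  have h1 := s.appLE_map hW (homOfLE h).op
  exact congr(($h1).hom x)

theorem appLE_section (hs : s ≫ b = 𝟙 X) {U W : X.Opens} (hW : W ≤ s ⁻¹ᵁ (b ⁻¹ᵁ U))
    (hWU : W ≤ U) (x : Γ(X, U)) :
    s.appLE (b ⁻¹ᵁ U) W hW (b.app U x) = X.presheaf.map (homOfLE hWU).op x := by
  have h1 := Scheme.Hom.comp_appLE s b U W hW
  have h2 : ∀ (g : X ⟶ X) (hg : g = 𝟙 X) (h : W ≤ g ⁻¹ᵁ U), g.appLE U W h x =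
      X.presheaf.map (homOfLE hWU).op x := by
    rintro g rfl h
    rfl
  rw [← h2 (s ≫ b) hs hW, h1]
  rfl

end appLE

/-- Linear forms `T₀ v + T₁ v'` along a section on which `T_{i'} = 0`. -/
theorem appLE_form_segData (s : X ⟶ P) (hs : s ≫ b = 𝟙 X) (i : Fin 2)
    (htop : s ⁻¹ᵁ E.U i = ⊤) (hzero : s.app (E.U i) (E.f i (1 - i)) = 0) (e : Fin 2) (a : I)
    (W : X.Opens) (hW : W ≤ s ⁻¹ᵁ (E.U e ⊓ b ⁻¹ᵁ D.U a)) (hWa : W ≤ D.U a) (v v' : I → K) :
    s.appLE (E.U e ⊓ b ⁻¹ᵁ D.U a) W hW (form (b ≫ p) (segData b E D) (e, a) (segForm v v')) =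
      s.appLE (E.U e) W (hW.trans (s.preimage_mono inf_le_left)) (E.f e i) *
        X.presheaf.map (homOfLE hWa).op (form p D a (if i = 0 then v else v')) := by
  rw [form_segData, map_add, map_mul, map_mul, appLE_map_apply, appLE_map_apply, appLE_map_apply,
    appLE_map_apply, appLE_section b s hs _ hWa, appLE_section b s hs _ hWa]
  have hWi : W ≤ s ⁻¹ᵁ E.U i := by rw [htop]; exact le_top
  have hWe : W ≤ s ⁻¹ᵁ E.U e := hW.trans (s.preimage_mono inf_le_left)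
  have hWei : W ≤ s ⁻¹ᵁ (E.U e ⊓ E.U i) := le_inf hWe hWi
  have h0 : s.appLE (E.U e) W hWe (E.f e (1 - i)) = 0 := by
    have h1 := congrArg (s.appLE (E.U e ⊓ E.U i) W hWei) (E.f_mul e i (1 - i))
    rw [map_mul, appLE_map_apply, appLE_map_apply, appLE_map_apply] at h1
    rw [h1]
    have h2 : s.appLE (E.U i) W hWi (E.f i (1 - i)) = 0 := by
      rw [← appLE_res s le_rfl hWi, s.appLE_eq_app, hzero, map_zero]
    rw [h2, mul_zero]
  have h01 : i = 0 ∨ i = 1 := by omega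
  rcases h01 with rfl | rfl
  · have h0' : s.appLE (E.U e) W hWe (E.f e 1) = 0 := h0
    rw [h0', zero_mul, add_zero, if_pos rfl]
  · have h0' : s.appLE (E.U e) W hWe (E.f e 0) = 0 := h0
    rw [h0', zero_mul, zero_add, if_neg (by decide)]

theorem isUnit_appLE (s : X ⟶ P) (i : Fin 2) (htop : s ⁻¹ᵁ E.U i = ⊤) (e : Fin 2)
    (W : X.Opens) (hW : W ≤ s ⁻¹ᵁ E.U e) : IsUnit (s.appLE (E.U e) W hW (E.f e i)) := by
  have hWi : W ≤ s ⁻¹ᵁ E.U i := by rw [htop]; exact le_top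
  have hWei : W ≤ s ⁻¹ᵁ (E.U e ⊓ E.U i) := le_inf hW hWi
  have h1 := (E.f_isUnit e i).map (s.appLE (E.U e ⊓ E.U i) W hWei).hom
  have h2 := appLE_map_apply s (inf_le_left : E.U e ⊓ E.U i ≤ E.U e) hWei (E.f e i)
  rw [← h2]
  exact h1

end prod

section family

variable {X P : Scheme.{u}} (b : P ⟶ X) (p : X ⟶ Spec (CommRingCat.of K)) {I J : Type}
  [Fintype I] (E : CoordData P (Fin 2)) (D : CoordData X I) (ℓ ℓ' : J → I → K)

/-- The open on which the forms `T₀ ℓ j + T₁ ℓ' j` have no common zero. -/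
noncomputable def famOpen : P.Opens :=
  ⨆ α : J × (Fin 2 × I), P.basicOpen
    (form (b ≫ p) (segData b E D) α.2 (segForm (ℓ α.1) (ℓ' α.1)))

theorem famOpen_iSup : ⨆ α : J × (Fin 2 × I), (famOpen b p E D ℓ ℓ').toScheme.basicOpen
    (form ((famOpen b p E D ℓ ℓ').ι ≫ b ≫ p) (pullbackData (famOpen b p E D ℓ ℓ').ι
      (segData b E D)) α.2 (segForm (ℓ α.1) (ℓ' α.1))) = ⊤ := by
  simp only [basicOpen_form_pullback]
  rw [← Scheme.Hom.preimage_iSup]
  change (famOpen b p E D ℓ ℓ').ι ⁻¹ᵁ famOpen b p E D ℓ ℓ' = ⊤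
  exact Scheme.Opens.ι_preimage_self _

/-- The family of linear projections. -/
noncomputable def famMap : (famOpen b p E D ℓ ℓ').toScheme ⟶
    Proj (MvPolynomial.homogeneousSubmodule J K) :=
  linMap ((famOpen b p E D ℓ ℓ').ι ≫ b ≫ p)
    (pullbackData (famOpen b p E D ℓ ℓ').ι (segData b E D)) (fun j => segForm (ℓ j) (ℓ' j))
    (famOpen_iSup b p E D ℓ ℓ')

theorem famMap_toSpec : famMap b p E D ℓ ℓ' ≫ Groth.Agent.VarietyB.ProjStd.toSpec J K =
    (famOpen b p E D ℓ ℓ').ι ≫ b ≫ p := linMap_toSpec _ _ _ _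

theorem mem_famOpen (s : X ⟶ P) (hs : s ≫ b = 𝟙 X) (i : Fin 2)
    (htop : s ⁻¹ᵁ E.U i = ⊤) (hzero : s.app (E.U i) (E.f i (1 - i)) = 0)
    (h : ⨆ α : J × I, X.basicOpen (form p D α.2 ((if i = 0 then ℓ else ℓ') α.1)) = ⊤) (x : X) :
    s x ∈ famOpen b p E D ℓ ℓ' := by
  have hx : x ∈ ⨆ α : J × I, X.basicOpen (form p D α.2 ((if i = 0 then ℓ else ℓ') α.1)) := by
    rw [h]; trivial
  rw [TopologicalSpace.Opens.mem_iSup] at hx
  obtain ⟨⟨j, a⟩, hx⟩ := hx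
  rw [famOpen, TopologicalSpace.Opens.mem_iSup]
  refine ⟨(j, (i, a)), ?_⟩
  have hbs : ∀ (g : X ⟶ X) (_ : g = 𝟙 X), g ⁻¹ᵁ D.U a = D.U a := by
    rintro g rfl
    rfl
  have hW : D.U a ≤ s ⁻¹ᵁ (E.U i ⊓ b ⁻¹ᵁ D.U a) := by
    have h1 : s ⁻¹ᵁ (b ⁻¹ᵁ D.U a) = D.U a := hbs (s ≫ b) hs
    change D.U a ≤ s ⁻¹ᵁ E.U i ⊓ s ⁻¹ᵁ (b ⁻¹ᵁ D.U a)
    rw [htop, h1, top_inf_eq]
  have h1 := appLE_form_segData b p E D s hs i htop hzero i a (D.U a) hW le_rfl (ℓ j) (ℓ' j)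
  have h2 := Scheme.basicOpen_appLE s (D.U a) (E.U i ⊓ b ⁻¹ᵁ D.U a) hW
    (form (b ≫ p) (segData b E D) (i, a) (segForm (ℓ j) (ℓ' j)))
  have hx' : x ∈ X.basicOpen (s.appLE (E.U i ⊓ b ⁻¹ᵁ D.U a) (D.U a) hW
      (form (b ≫ p) (segData b E D) (i, a) (segForm (ℓ j) (ℓ' j)))) := by
    rw [h1, Scheme.basicOpen_mul]
    constructor
    · rw [(X.basicOpen_of_isUnit (isUnit_appLE E s i htop i (D.U a) _))]
      exact X.basicOpen_le _ hx
    · rw [Scheme.basicOpen_res]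
      refine ⟨X.basicOpen_le _ hx, ?_⟩
      convert hx using 3
      split_ifs <;> rfl
  have h3 := h2.le hx'
  exact h3.2

theorem comp_famMap (s' : X ⟶ (famOpen b p E D ℓ ℓ').toScheme)
    (hs : (s' ≫ (famOpen b p E D ℓ ℓ').ι) ≫ b = 𝟙 X) (i : Fin 2)
    (htop : (s' ≫ (famOpen b p E D ℓ ℓ').ι) ⁻¹ᵁ E.U i = ⊤)
    (hzero : (s' ≫ (famOpen b p E D ℓ ℓ').ι).app (E.U i) (E.f i (1 - i)) = 0)
    (h : ⨆ α : J × I, X.basicOpen (form p D α.2 ((if i = 0 then ℓ else ℓ') α.1)) = ⊤) :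
    s' ≫ famMap b p E D ℓ ℓ' = linMap p D (if i = 0 then ℓ else ℓ') h := by
  unfold famMap
  rw [comp_linMap]
  apply linMap_congr
  · rw [← Category.assoc, ← Category.assoc, hs, Category.id_comp]
  · rintro ⟨e, a⟩ c W ha hc
    have hbs : ∀ (g : X ⟶ X) (_ : g = 𝟙 X), g ⁻¹ᵁ D.U a = D.U a := by
      rintro g rfl
      rfl
    have hWa : W ≤ D.U a := by
      have h1 : W ≤ (s' ≫ (famOpen b p E D ℓ ℓ').ι) ⁻¹ᵁ (b ⁻¹ᵁ D.U a) :=
        ha.trans (fun x hx => hx.2)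
      exact h1.trans (le_of_eq (hbs ((s' ≫ (famOpen b p E D ℓ ℓ').ι) ≫ b) hs))
    have hWe : W ≤ (s' ≫ (famOpen b p E D ℓ ℓ').ι) ⁻¹ᵁ E.U e := ha.trans (fun x hx => hx.1)
    refine ⟨(isUnit_appLE E (s' ≫ (famOpen b p E D ℓ ℓ').ι) i htop e W hWe).unit *
      (isUnit_map_f D a c W hWa hc).unit, fun j => ?_⟩
    rw [Units.val_mul, IsUnit.unit_spec, IsUnit.unit_spec, mul_assoc,
      ← map_form p D _ W hWa hc]
    have h1 := appLE_form_segData b p E D (s' ≫ (famOpen b p E D ℓ ℓ').ι) hs i htop hzero e a W ha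
      hWa (ℓ j) (ℓ' j)
    have h2 : (if i = 0 then ℓ else ℓ') j = if i = 0 then ℓ j else ℓ' j := by
      split_ifs <;> rfl
    rw [h2, ← h1]
    have h3 := form_pullback s' ((famOpen b p E D ℓ ℓ').ι ≫ b ≫ p)
      (pullbackData (famOpen b p E D ℓ ℓ').ι (segData b E D)) (e, a) (segForm (ℓ j) (ℓ' j))
    have h4 := form_pullback (famOpen b p E D ℓ ℓ').ι (b ≫ p) (segData b E D) (e, a)
      (segForm (ℓ j) (ℓ' j))
    rw [h4] at h3
    refine (congrArg (X.presheaf.map (homOfLE ha).op) h3).trans ?_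
    have h5 : (s' ≫ (famOpen b p E D ℓ ℓ').ι).appLE (E.U e ⊓ b ⁻¹ᵁ D.U a) W ha =
        (famOpen b p E D ℓ ℓ').ι.app _ ≫ s'.app _ ≫ X.presheaf.map (homOfLE ha).op :=
      Scheme.Hom.comp_appLE s' (famOpen b p E D ℓ ℓ').ι (E.U e ⊓ b ⁻¹ᵁ D.U a) W ha
    rw [h5]
    rfl

end family

end Groth.Agent.CycA.MovSeg
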