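import Groth.Agent.VarietyB.ProjStd

/-!
# Morphisms to projective space from local coordinate vectors

`VecData Y J A`: an open cover `V α` of `Y` with coordinate vectors `g α : J → Γ(Y, V α)`, one entry
of which is a unit, which agree up to units on the overlaps. It defines a morphism
`Y ⟶ Proj (MvPolynomial.homogeneousSubmodule J R)`.
-/

set_option autoImplicit false
universe u
open AlgebraicGeometry CategoryTheory HomogeneousLocalization

namespace Groth.Agent.CycA.MovVec

open Groth.Agent.VarietyB.ProjHom Groth.Agent.VarietyB.ProjGlue Groth.Agent.VarietyB.ProjStd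

attribute [local instance] MvPolynomial.gradedAlgebra

theorem X_mem {J : Type} (R : Type u) [CommRing R] (j : J) :
    (MvPolynomial.X j : MvPolynomial J R) ∈ MvPolynomial.homogeneousSubmodule J R 1 :=
  (MvPolynomial.mem_homogeneousSubmodule 1 _).mpr (MvPolynomial.isHomogeneous_X R j)

/-- Local coordinate vectors, well defined up to units. -/
structure VecData (Y : Scheme.{u}) (J A : Type) where
  /-- the opens -/
  V : A → Y.Opens
  iSup_V : ⨆ α, V α = ⊤
  /-- the coordinate vectors -/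
  g : (α : A) → J → Γ(Y, V α)
  /-- the index of an entry which is a unit -/
  t : A → J
  isUnit : ∀ α, IsUnit (g α (t α))
  compat : ∀ α β, ∃ u : Γ(Y, V α ⊓ V β)ˣ, ∀ k,
    Y.presheaf.map (homOfLE (inf_le_left : V α ⊓ V β ≤ V α)).op (g α k) =
      u * Y.presheaf.map (homOfLE (inf_le_right : V α ⊓ V β ≤ V β)).op (g β k)

namespace VecData

variable {Y : Scheme.{u}} {J A : Type} (D : VecData Y J A) {R : Type u} [CommRing R]
  (p : Y ⟶ Spec (CommRingCat.of R))

/-- The ring homomorphism from the polynomial ring to sections over `V α`. -/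
noncomputable def hom (α : A) : MvPolynomial J R →+* Γ(Y, D.V α) :=
  MvPolynomial.eval₂Hom (CoordData.baseHom p (D.V α)) (fun k => D.g α k)

lemma hom_X (α : A) (k : J) : D.hom p α (MvPolynomial.X k) = D.g α k := by
  simp [hom]

/-- The ring homomorphism to the global sections of the open subscheme. -/
noncomputable def homTop (α : A) : MvPolynomial J R →+* Γ((D.V α).toScheme, ⊤) :=
  (D.V α).topIso.inv.hom.comp (D.hom p α)

lemma homTop_X (α : A) (k : J) :
    D.homTop p α (MvPolynomial.X k) = (D.V α).topIso.inv (D.g α k) := by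
  rw [homTop, RingHom.comp_apply, hom_X]

lemma isUnit_homTop (α : A) : IsUnit (D.homTop p α (MvPolynomial.X (D.t α))) := by
  rw [homTop_X]
  exact (D.isUnit α).map (D.V α).topIso.inv.hom

/-- local morphisms -/
noncomputable def localHom (α : A) :
    (D.V α).toScheme ⟶ Proj (MvPolynomial.homogeneousSubmodule J R) :=
  toProj (MvPolynomial.homogeneousSubmodule J R) (D.homTop p α) (X_mem R (D.t α)) Nat.one_pos
    (D.isUnit_homTop p α)

lemma comp_homTop (α : A) {V : Y.Opens} (h : V ≤ D.V α) :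
    (Y.homOfLE h).appTop.hom.comp (D.homTop p α) =
      V.topIso.inv.hom.comp (MvPolynomial.eval₂Hom (CoordData.baseHom p V)
        (fun k => Y.presheaf.map (homOfLE h).op (D.g α k))) := by
  rw [homTop, ← RingHom.comp_assoc, ← CommRingCat.hom_comp, CoordData.homOfLE_appTop_topIso_inv,
    CommRingCat.hom_comp, RingHom.comp_assoc]
  congr 1
  apply MvPolynomial.ringHom_ext
  · intro r
    simp only [hom, RingHom.comp_apply, MvPolynomial.eval₂Hom_C]
    rw [← CoordData.baseHom_map p h]; rfl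
  · intro k
    simp only [RingHom.comp_apply, hom_X, MvPolynomial.eval₂Hom_X']

lemma localHom_compat (α β : A) :
    Y.homOfLE (inf_le_left : D.V α ⊓ D.V β ≤ D.V α) ≫ D.localHom p α =
      Y.homOfLE (inf_le_right : D.V α ⊓ D.V β ≤ D.V β) ≫ D.localHom p β := by
  set V := D.V α ⊓ D.V β with hV
  obtain ⟨u, hu⟩ := D.compat α β
  have h1 : (Y.homOfLE (inf_le_left : V ≤ D.V α)).appTop.hom.comp (D.homTop p α)
      (MvPolynomial.X (D.t β)) = V.topIso.inv.hom (u *
        Y.presheaf.map (homOfLE (inf_le_right : V ≤ D.V β)).op (D.g β (D.t β))) := by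
    rw [comp_homTop, ← hu, RingHom.comp_apply, MvPolynomial.eval₂Hom_X']
  have hu1 : IsUnit ((Y.homOfLE (inf_le_left : V ≤ D.V α)).appTop.hom.comp (D.homTop p α)
      (MvPolynomial.X (D.t β))) := by
    rw [h1]
    exact (u.isUnit.mul ((D.isUnit β).map (Y.presheaf.map (homOfLE inf_le_right).op).hom)).map _
  rw [localHom, localHom, comp_toProj, comp_toProj]
  rw [toProj_indep _ _ _ _ (X_mem R (D.t β)) Nat.one_pos _ hu1]
  refine toProj_twist _ _ _ _ _ _ _ (Units.map V.topIso.inv.hom.toMonoidHom u) ?_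
  intro n a ha
  rw [comp_homTop, comp_homTop, RingHom.comp_apply, RingHom.comp_apply]
  have h2 : (fun k => Y.presheaf.map (homOfLE (inf_le_left : V ≤ D.V α)).op (D.g α k)) =
      fun k => (u : Γ(Y, V)) * Y.presheaf.map (homOfLE (inf_le_right : V ≤ D.V β)).op (D.g β k) :=
    funext hu
  rw [h2, eval₂Hom_smul_of_isHomogeneous _ _ _ ha, map_mul, map_pow]
  rfl

/-- The morphism to projective space defined by local coordinate vectors. -/
noncomputable def toProjSpace : Y ⟶ Proj (MvPolynomial.homogeneousSubmodule J R) :=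
  (exists_glue_opens D.V D.iSup_V (D.localHom p) (D.localHom_compat p)).choose

lemma ι_toProjSpace (α : A) : (D.V α).ι ≫ D.toProjSpace p = D.localHom p α :=
  (exists_glue_opens D.V D.iSup_V (D.localHom p) (D.localHom_compat p)).choose_spec α

lemma localHom_toSpec (α : A) : D.localHom p α ≫ Groth.Agent.VarietyB.ProjStd.toSpec J R = (D.V α).ι ≫ p := by
  rw [localHom, Groth.Agent.VarietyB.ProjStd.toSpec, ← Category.assoc, toProj_toSpecZero, Category.assoc,
    ← Spec.map_comp, ← CommRingCat.ofHom_comp]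
  rw [← eq_toSpecΓ_comp ((D.V α).ι ≫ p)]
  congr 3
  ext r
  simp only [RingHom.comp_apply]
  have h1 : algebraMap (MvPolynomial.homogeneousSubmodule J R 0) (MvPolynomial J R)
    (algebraMap R (MvPolynomial.homogeneousSubmodule J R 0) r) = MvPolynomial.C r := rfl
  rw [h1]
  simp only [homTop, hom, RingHom.comp_apply, MvPolynomial.eval₂Hom_C, CoordData.baseHom]
  rw [Scheme.Hom.comp_appTop]
  simp only [CommRingCat.hom_comp, RingHom.comp_apply]
  have h2 : Y.presheaf.map (homOfLE (le_top : D.V α ≤ ⊤)).op ≫ (D.V α).topIso.inv =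
      (D.V α).ι.appTop := by
    rw [Iso.comp_inv_eq, Scheme.Opens.ι_appTop, Scheme.Opens.topIso_hom]
    refine Eq.trans ?_ (Y.presheaf.map_comp _ _)
    rfl
  exact congr(($h2).hom _)

lemma toProjSpace_toSpec : D.toProjSpace p ≫ Groth.Agent.VarietyB.ProjStd.toSpec J R = p := by
  apply hom_ext_opens D.V D.iSup_V
  intro α
  rw [← Category.assoc, ι_toProjSpace, localHom_toSpec]

lemma preimage_inf (α : A) (k : J) :
    D.V α ⊓ D.toProjSpace p ⁻¹ᵁ
      Proj.basicOpen (MvPolynomial.homogeneousSubmodule J R) (MvPolynomial.X k) =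
      Y.basicOpen (D.g α k) := by
  have h : D.localHom p α ⁻¹ᵁ
      Proj.basicOpen (MvPolynomial.homogeneousSubmodule J R) (MvPolynomial.X k) =
      (D.V α).toScheme.basicOpen ((D.V α).topIso.inv (D.g α k)) := by
    rw [localHom, toProj_preimage_basicOpen _ _ _ _ _ (X_mem R k) Nat.one_pos, homTop_X]
  rw [← ι_toProjSpace, Scheme.Hom.comp_preimage] at h
  have h2 := congrArg (fun V => (D.V α).ι ''ᵁ V) h
  simp only [Scheme.Opens.ι_image_basicOpen_topIso_inv, Scheme.Hom.image_preimage_eq_opensRange_inf,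
    Scheme.Opens.opensRange_ι] at h2
  exact h2

end VecData

section toProjApp

theorem appTop_of_comp_eq {X Z : Scheme.{u}} (U : Z.Opens) (g : X ⟶ U.toScheme) {B : Type u}
    [CommRing B] (a : CommRingCat.of B ⟶ Γ(Z, U)) (b : CommRingCat.of B ⟶ Γ(X, ⊤))
    (h : g ≫ U.toSpecΓ ≫ Spec.map a = X.toSpecΓ ≫ Spec.map b) :
    a ≫ U.topIso.inv ≫ g.appTop = b := by
  have h4 := congrArg Scheme.Hom.appTop h
  rw [Scheme.Hom.comp_appTop, Scheme.Hom.comp_appTop, Scheme.Hom.comp_appTop,
    Scheme.Opens.toSpecΓ_appTop, Scheme.toSpecΓ_appTop] at h4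
  simp only [Category.assoc] at h4
  rw [Scheme.ΓSpecIso_naturality_assoc, Scheme.ΓSpecIso_naturality] at h4
  exact (Iso.cancel_iso_hom_left _ _ _).1 h4

theorem app_comp_ι {X Z : Scheme.{u}} (U : Z.Opens) (g : X ⟶ U.toScheme) (s : Γ(Z, U)) :
    (g ≫ U.ι).app U s = X.presheaf.map (homOfLE le_top).op ((U.topIso.inv ≫ g.appTop) s) := by
  have h0 : (g ≫ U.ι).app U s = g.app (U.ι ⁻¹ᵁ U) (U.ι.app U s) := by
    rw [Scheme.Hom.comp_app]
    rfl
  rw [h0, CommRingCat.comp_apply]
  have h1 := g.naturality (homOfLE (le_top : U.ι ⁻¹ᵁ U ≤ ⊤)).op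
  have h2 := congr(($h1).hom (U.topIso.inv s))
  refine Eq.trans ?_ h2
  change (g.app (U.ι ⁻¹ᵁ U)).hom _ = (g.app (U.ι ⁻¹ᵁ U)).hom _
  congr 1
  change _ = (U.topIso.inv ≫ U.toScheme.presheaf.map (homOfLE le_top).op) s
  have h3 : U.ι.app U = U.topIso.inv ≫ U.toScheme.presheaf.map (homOfLE le_top).op := by
    rw [Iso.eq_inv_comp, Scheme.Opens.topIso_hom, Scheme.Opens.ι_app]
    exact (Z.presheaf.map_comp _ _).symm
  rw [h3]

variable {σ : Type*} {A : Type u} [CommRing A] [SetLike σ A] [AddSubgroupClass σ A]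
  (𝒜 : ℕ → σ) [GradedRing 𝒜]

/-- The map on sections over the basic open of `t` of a morphism through the chart of `t`. -/
theorem comp_awayι_app {X : Scheme.{u}} {t : A} {d : ℕ} (htd : t ∈ 𝒜 d) (hd : 0 < d)
    (ψ : Away 𝒜 t →+* Γ(X, ⊤)) (z : Away 𝒜 t) :
    (X.toSpecΓ ≫ Spec.map (CommRingCat.ofHom ψ) ≫ Proj.awayι 𝒜 t htd hd).app
      (Proj.basicOpen 𝒜 t) (Proj.awayToSection 𝒜 t z) =
      X.presheaf.map (homOfLE le_top).op (ψ z) := by
  let U := Proj.basicOpen 𝒜 t
  let g' : X ⟶ U.toScheme := X.toSpecΓ ≫ Spec.map (CommRingCat.ofHom ψ) ≫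
    (Proj.basicOpenIsoSpec 𝒜 t htd hd).inv
  have hg' : X.toSpecΓ ≫ Spec.map (CommRingCat.ofHom ψ) ≫ Proj.awayι 𝒜 t htd hd = g' ≫ U.ι := by
    simp only [g', Proj.awayι, Category.assoc]
    rfl
  have h1 : g' ≫ U.toSpecΓ ≫ Spec.map (Proj.awayToSection 𝒜 t) =
      X.toSpecΓ ≫ Spec.map (CommRingCat.ofHom ψ) := by
    have h2 : U.toSpecΓ ≫ Spec.map (Proj.awayToSection 𝒜 t) =
      (Proj.basicOpenIsoSpec 𝒜 t htd hd).hom := by
      rw [Proj.basicOpenIsoSpec_hom, Proj.basicOpenToSpec]
    rw [h2]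
    simp only [g', Category.assoc, Iso.inv_hom_id, Category.comp_id]
  have h3 := appTop_of_comp_eq U g' _ _ h1
  rw [hg', app_comp_ι]
  congr 1
  exact congr(($h3).hom z)

/-- The map on sections over the basic open of `t` of the morphism `toProj f t`. -/
theorem toProj_app {X : Scheme.{u}} (f : A →+* Γ(X, ⊤)) {t : A} {d : ℕ} (htd : t ∈ 𝒜 d)
    (hd : 0 < d) (ht : IsUnit (f t)) (z : Away 𝒜 t) :
    (toProj 𝒜 f htd hd ht).app (Proj.basicOpen 𝒜 t) (Proj.awayToSection 𝒜 t z) =
      X.presheaf.map (homOfLE le_top).op (awayLift 𝒜 f t ht z) :=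
  comp_awayι_app 𝒜 htd hd _ z

end toProjApp


theorem topIso_inv_eq {Y : Scheme.{u}} (W : Y.Opens) :
    W.topIso.inv = Y.presheaf.map (eqToHom W.ι_image_top).op := rfl

theorem ι_app_eq {Y : Scheme.{u}} (W V : Y.Opens) (h : W ≤ V) (s : Γ(Y, V)) :
    W.ι.app V s = W.toScheme.presheaf.map (homOfLE le_top).op
      (W.topIso.inv (Y.presheaf.map (homOfLE h).op s)) := by
  have h3 : W.ι.app V = Y.presheaf.map (homOfLE h).op ≫ W.topIso.inv ≫
      W.toScheme.presheaf.map (homOfLE le_top).op := by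
    rw [topIso_inv_eq]
    have e1 := Y.presheaf.map_comp (eqToHom W.ι_image_top).op
      (W.ι.opensFunctor.map (homOfLE (le_top : W.ι ⁻¹ᵁ V ≤ ⊤))).op
    refine Eq.trans ?_ (congrArg (fun z => Y.presheaf.map (homOfLE h).op ≫ z) e1)
    exact (Y.presheaf.map_comp _ _)
  rw [h3]
  rfl

namespace VecData

variable {Y : Scheme.{u}} {J A : Type} (D : VecData Y J A) {R : Type u} [CommRing R]
  (p : Y ⟶ Spec (CommRingCat.of R))

theorem map_ratio_mul (α : A) (i k : J) (W : Y.Opens) (h1 : W ≤ D.V α)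
    (h2 : W ≤ D.toProjSpace p ⁻¹ᵁ
      Proj.basicOpen (MvPolynomial.homogeneousSubmodule J R) (MvPolynomial.X i)) :
    Y.presheaf.map (homOfLE h2).op ((D.toProjSpace p).app _ (ratio J R i k)) *
      Y.presheaf.map (homOfLE h1).op (D.g α i) = Y.presheaf.map (homOfLE h1).op (D.g α k) := by
  let f : MvPolynomial J R →+* Γ(W.toScheme, ⊤) := (Y.homOfLE h1).appTop.hom.comp (D.homTop p α)
  have hf : ∀ k, f (MvPolynomial.X k) = W.topIso.inv (Y.presheaf.map (homOfLE h1).op (D.g α k)) := by
    intro k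
    simp only [f]
    rw [comp_homTop, RingHom.comp_apply, MvPolynomial.eval₂Hom_X']
  have hi : IsUnit (f (MvPolynomial.X i)) := by
    rw [hf]
    apply IsUnit.map W.topIso.inv.hom
    have h3 := le_inf h1 h2
    rw [preimage_inf] at h3
    have h4 := (RingedSpace.isUnit_res_basicOpen _ (D.g α i)).map
      (Y.presheaf.map (homOfLE h3).op).hom
    convert h4 using 1
    exact (map_map_apply _ _ _).symm
  have e1 : W.ι ≫ D.toProjSpace p = toProj (MvPolynomial.homogeneousSubmodule J R) f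
      (X_mem R i) Nat.one_pos hi := by
    have e2 : W.ι = Y.homOfLE h1 ≫ (D.V α).ι := (Scheme.homOfLE_ι _ _).symm
    rw [e2, Category.assoc, ι_toProjSpace, localHom, comp_toProj]
    exact toProj_indep _ _ _ _ _ _ _ _
  let U := Proj.basicOpen (MvPolynomial.homogeneousSubmodule J R) (MvPolynomial.X i)
  have e3 : (W.ι ≫ D.toProjSpace p).app U (ratio J R i k) =
      W.toScheme.presheaf.map (homOfLE le_top).op (W.topIso.inv
        (Y.presheaf.map (homOfLE h2).op ((D.toProjSpace p).app U (ratio J R i k)))) := by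
    have e4 : (W.ι ≫ D.toProjSpace p).app U (ratio J R i k) =
      W.ι.app (D.toProjSpace p ⁻¹ᵁ U) ((D.toProjSpace p).app U (ratio J R i k)) := by
      rw [Scheme.Hom.comp_app]
      rfl
    rw [e4, ι_app_eq _ _ h2]
    rfl
  have e5 : (W.ι ≫ D.toProjSpace p).app U (ratio J R i k) =
      W.toScheme.presheaf.map (homOfLE le_top).op
        (awayLift (MvPolynomial.homogeneousSubmodule J R) f (MvPolynomial.X i) hi
          (deh J R i (MvPolynomial.X k))) := by
    have : ∀ (φ ψ : W.toScheme ⟶ Proj (MvPolynomial.homogeneousSubmodule J R)) (h : φ = ψ)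
        (c : Γ(W.toScheme, ⊤)) (_ : ψ.app U (ratio J R i k) =
          W.toScheme.presheaf.map (homOfLE le_top).op c), φ.app U (ratio J R i k) =
          W.toScheme.presheaf.map (homOfLE le_top).op c := by
      rintro φ _ rfl c hc
      exact hc
    refine this _ _ e1 _ ?_
    exact toProj_app _ _ _ _ _ _
  have htop : (⊤ : W.toScheme.Opens) = (W.ι ≫ D.toProjSpace p) ⁻¹ᵁ U := by
    rw [Scheme.Hom.comp_preimage]
    apply le_antisymm _ le_top
    intro x _
    exact h2 x.2
  have hinj : Function.Injective (W.toScheme.presheaf.map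
      (homOfLE (le_top : (W.ι ≫ D.toProjSpace p) ⁻¹ᵁ U ≤ ⊤)).op) := by
    have : IsIso (homOfLE (le_top : (W.ι ≫ D.toProjSpace p) ⁻¹ᵁ U ≤ ⊤)).op := by
      have : homOfLE (le_top : (W.ι ≫ D.toProjSpace p) ⁻¹ᵁ U ≤ ⊤) = eqToHom htop.symm := rfl
      rw [this]
      infer_instance
    have h5 : IsIso (W.toScheme.presheaf.map
      (homOfLE (le_top : (W.ι ≫ D.toProjSpace p) ⁻¹ᵁ U ≤ ⊤)).op) := inferInstance
    exact ((ConcreteCategory.isIso_iff_bijective _).1 h5).1
  have e6 := hinj (e3.symm.trans e5)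
  have hinj2 : Function.Injective W.topIso.inv :=
    ((ConcreteCategory.isIso_iff_bijective W.topIso.inv).1 inferInstance).1
  apply hinj2
  rw [map_mul, e6, ← hf, ← hf]
  have e7 : deh J R i (MvPolynomial.X k) = Away.mk _ (X_mem R i) 1 (MvPolynomial.X k)
      (by simpa using X_mem R k) := deh_of_isHomogeneous J R i _ _
  rw [e7]
  have e8 := awayLift_mk (MvPolynomial.homogeneousSubmodule J R) f hi (X_mem R i) 1
    (MvPolynomial.X k) (by simpa using X_mem R k)
  rw [pow_one] at e8
  exact e8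

theorem compat_symm {V W : Y.Opens} (g : J → Γ(Y, V)) (g' : J → Γ(Y, W)) (u : Γ(Y, V ⊓ W)ˣ)
    (hu : ∀ k, Y.presheaf.map (homOfLE (inf_le_left : V ⊓ W ≤ V)).op (g k) =
        u * Y.presheaf.map (homOfLE (inf_le_right : V ⊓ W ≤ W)).op (g' k)) :
    ∃ u' : Γ(Y, W ⊓ V)ˣ, ∀ k,
      Y.presheaf.map (homOfLE (inf_le_left : W ⊓ V ≤ W)).op (g' k) =
        u' * Y.presheaf.map (homOfLE (inf_le_right : W ⊓ V ≤ V)).op (g k) := by
  have hle : W ⊓ V ≤ V ⊓ W := le_of_eq (inf_comm _ _)
  refine ⟨(Units.map (Y.presheaf.map (homOfLE hle).op).hom.toMonoidHom u)⁻¹, fun k => ?_⟩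
  have h1 := congrArg (Y.presheaf.map (homOfLE hle).op) (hu k)
  rw [map_mul, map_map_apply, map_map_apply] at h1
  rw [Units.eq_inv_mul_iff_mul_eq]
  exact h1.symm

/-- Two families of local coordinate vectors that agree up to units define the same morphism. -/
theorem toProjSpace_congr {A' : Type} (D' : VecData Y J A')
    (h : ∀ α β, ∃ u : Γ(Y, D.V α ⊓ D'.V β)ˣ, ∀ k,
      Y.presheaf.map (homOfLE (inf_le_left : D.V α ⊓ D'.V β ≤ D.V α)).op (D.g α k) =
        u * Y.presheaf.map (homOfLE (inf_le_right : D.V α ⊓ D'.V β ≤ D'.V β)).op (D'.g β k)) :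
    D.toProjSpace p = D'.toProjSpace p := by
  let E : VecData Y J (A ⊕ A') :=
    { V := Sum.elim D.V D'.V
      iSup_V := by
        rw [iSup_sum]
        simp only [Sum.elim_inl, Sum.elim_inr, D.iSup_V, D'.iSup_V, sup_idem]
      g := fun α => match α with
        | .inl α => D.g α
        | .inr α => D'.g α
      t := Sum.elim D.t D'.t
      isUnit := fun α => match α with
        | .inl α => D.isUnit α
        | .inr α => D'.isUnit α
      compat := fun α β => match α, β with
        | .inl α, .inl β => D.compat α β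
        | .inl α, .inr β => h α β
        | .inr α, .inl β => compat_symm _ _ _ (h β α).choose_spec
        | .inr α, .inr β => D'.compat α β }
  have h1 : E.toProjSpace p = D.toProjSpace p := by
    apply hom_ext_opens D.V D.iSup_V
    intro α
    rw [D.ι_toProjSpace]
    exact E.ι_toProjSpace p (.inl α)
  have h2 : E.toProjSpace p = D'.toProjSpace p := by
    apply hom_ext_opens D'.V D'.iSup_V
    intro α
    rw [D'.ι_toProjSpace]
    exact E.ι_toProjSpace p (.inr α)
  rw [← h1, h2]

/-- Pullback of local coordinate vectors. -/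
noncomputable def pullback {Z : Scheme.{u}} (f : Z ⟶ Y) : VecData Z J A where
  V α := f ⁻¹ᵁ D.V α
  iSup_V := by
    rw [← Scheme.Hom.preimage_iSup, D.iSup_V]; rfl
  g α k := f.app (D.V α) (D.g α k)
  t := D.t
  isUnit α := (D.isUnit α).map (f.app (D.V α)).hom
  compat α β := by
    obtain ⟨u, hu⟩ := D.compat α β
    refine ⟨Units.map (f.app (D.V α ⊓ D.V β)).hom.toMonoidHom u, fun k => ?_⟩
    have h1 := congrArg (f.app (D.V α ⊓ D.V β)) (hu k)
    rw [map_mul, ← map_app f inf_le_left (f.preimage_mono inf_le_left),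
      ← map_app f inf_le_right (f.preimage_mono inf_le_right)] at h1
    exact h1

theorem topIso_inv_morphismRestrict {Z : Scheme.{u}} (f : Z ⟶ Y) (U : Y.Opens) :
    U.topIso.inv ≫ (f ∣_ U).appTop = f.app U ≫ (f ⁻¹ᵁ U).topIso.inv := by
  rw [morphismRestrict_appTop, topIso_inv_eq, topIso_inv_eq]
  have h1 := f.naturality (eqToHom U.ι_image_top).op
  refine (Category.assoc _ _ _).symm.trans (Eq.trans (congrArg (fun z => z ≫ _) h1) ?_)
  refine (Category.assoc _ _ _).trans (congrArg (fun z => f.app U ≫ z) ?_)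
  exact (Z.presheaf.map_comp _ _).symm

theorem comp_toProjSpace {Z : Scheme.{u}} (f : Z ⟶ Y) :
    f ≫ D.toProjSpace p = (D.pullback f).toProjSpace (f ≫ p) := by
  apply hom_ext_opens (D.pullback f).V (D.pullback f).iSup_V
  intro α
  rw [ι_toProjSpace]
  have e : (f ∣_ D.V α).appTop.hom.comp (D.homTop p α) = (D.pullback f).homTop (f ≫ p) α := by
    rw [homTop, ← RingHom.comp_assoc, ← CommRingCat.hom_comp, topIso_inv_morphismRestrict,
      homTop, CommRingCat.hom_comp, RingHom.comp_assoc]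
    congr 1
    apply MvPolynomial.ringHom_ext
    · intro r
      have h1 : D.hom p α (MvPolynomial.C r) = CoordData.baseHom p (D.V α) r := by
        simp only [hom, MvPolynomial.eval₂Hom_C]
      have h2 : (D.pullback f).hom (f ≫ p) α (MvPolynomial.C r) =
          CoordData.baseHom (f ≫ p) (f ⁻¹ᵁ D.V α) r := by
        simp only [hom, MvPolynomial.eval₂Hom_C]
        rfl
      refine Eq.trans ?_ h2.symm
      refine (congrArg (f.app (D.V α)).hom h1).trans ?_
      simp only [CoordData.baseHom, Scheme.Hom.comp_appTop, CommRingCat.hom_comp]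
      exact (map_app f le_top le_top _).symm
    · intro k
      exact (congrArg (f.app (D.V α)).hom (D.hom_X p α k)).trans
        ((D.pullback f).hom_X (f ≫ p) α k).symm
  have e2 : (f ∣_ D.V α) ≫ D.localHom p α = (D.pullback f).localHom (f ≫ p) α := by
    rw [localHom, localHom, comp_toProj]
    have : ∀ (φ ψ : MvPolynomial J R →+* Γ((f ⁻¹ᵁ D.V α).toScheme, ⊤)) (h : φ = ψ)
        (h1 : IsUnit (φ (MvPolynomial.X (D.t α)))) (h2 : IsUnit (ψ (MvPolynomial.X (D.t α)))),
        toProj (MvPolynomial.homogeneousSubmodule J R) φ (X_mem R (D.t α)) Nat.one_pos h1 =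
        toProj (MvPolynomial.homogeneousSubmodule J R) ψ (X_mem R (D.t α)) Nat.one_pos h2 := by
      rintro φ _ rfl _ _
      rfl
    exact this _ _ e _ _
  rw [← e2, ← ι_toProjSpace, morphismRestrict_ι_assoc]
  rfl

end VecData


end Groth.Agent.CycA.MovVec
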