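import Groth.Agent.CycA.PFLen
import Groth.Agent.CycA.SerreGeom
import Groth.Agent.CycB.RelDim3

/-!
# Flat pullback of points and intersection multiplicities
-/

set_option autoImplicit false

universe u

open CategoryTheory CategoryTheory.Limits AlgebraicGeometry

namespace Groth.Agent.CycA.PFFib

open Groth.Agent.CycB.RelDim Groth.Agent.CycB.LocQuot Groth.Agent.CycA.Devissage
  Groth.Agent.CycA.ChiRec

variable {X Y : Scheme.{u}} (f : X ⟶ Y)

/-- The ideal `𝔭_w O_{X,z}` for `w ⤳ f z`. -/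
noncomputable def fibIdeal (z : X) {w : Y} (hw : w ⤳ f z) : Ideal (X.presheaf.stalk z) :=
  (RingHom.ker (Cyc.specMap (f z) w hw)).map (f.stalkMap z).hom

theorem fibIdeal_le_iff {z : X} {w : Y} (hw : w ⤳ f z) {z' : X} (hz : z' ⤳ z) :
    fibIdeal f z hw ≤ RingHom.ker (Cyc.specMap z z' hz) ↔ w ⤳ f z' := by
  rw [fibIdeal, Ideal.map_le_iff_le_comap,
    ProdPoint.comap_ker_specMap f hz (hz.map f.continuous), ker_le_iff]

theorem mem_support_iff {z : X} (J : Ideal (X.presheaf.stalk z)) {z' : X} (hz : z' ⤳ z) :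
    primeOf hz ∈ Module.support (X.presheaf.stalk z) (X.presheaf.stalk z ⧸ J) ↔
      J ≤ RingHom.ker (Cyc.specMap z z' hz) := by
  rw [ChiRec2.mem_support_quotient_iff, primeOf_asIdeal]

theorem exists_lift {f : X ⟶ Y} [Flat f] [LocallyOfFiniteType f] {e : ℕ}
    (hrel : Cyc.HasRelDim f e) {δX : X → ℤ} {δY : Y → ℤ} (hδ : Cyc.DeltaCompat f δX δY)
    {x : X} {w : Y} (h : w ⤳ f x) : ∃ w' : X, w' ⤳ x ∧ f w' = w ∧ δX w' = δY w + e := by
  obtain ⟨x₁, h1, rfl⟩ := exists_specializes_of_flat f h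
  obtain ⟨x₂, h2, h3, h4⟩ := exists_fibGeneric_specializes f x₁
  exact ⟨x₂, h2.trans h1, h3, by rw [(fibGeneric_iff_delta hrel hδ x₂).1 h4, h3]⟩

/-- The multiplicity of the fibre of the closure of `f w'` at `w'`. -/
noncomputable def fm (w' : X) : ℤ :=
  ((Module.length (X.presheaf.stalk w') (X.presheaf.stalk w' ⧸ Ideal.map (f.stalkMap w').hom
    (IsLocalRing.maximalIdeal (Y.presheaf.stalk (f w'))))).toNat : ℤ)

theorem ll_fib {z w' : X} (h : w' ⤳ z) {w : Y} (e : f w' = w) (hw : w ⤳ f z) :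
    ll (primeOf h) (X.presheaf.stalk z ⧸ fibIdeal f z hw) = fm f w' := by
  subst e
  let := (X.presheaf.stalkSpecializes h).hom.toAlgebra
  have h1 := isLocalization_stalkSpecializes h
  have h2 : IsLocalization.AtPrime (X.presheaf.stalk w') (primeOf h).asIdeal := by
    have h3 := primeOf_asIdeal h
    convert h1 using 1
  rw [PFLen.ll_quotient (primeOf h) (fibIdeal f z hw) (X.presheaf.stalk w')]
  have h4 : (fibIdeal f z hw).map (algebraMap (X.presheaf.stalk z) (X.presheaf.stalk w')) =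
      Ideal.map (f.stalkMap w').hom
        (IsLocalRing.maximalIdeal (Y.presheaf.stalk (f w'))) := by
    let := (Y.presheaf.stalkSpecializes hw).hom.toAlgebra
    have h5 := isLocalization_stalkSpecializes hw
    have h6 : (RingHom.ker (Cyc.specMap (f z) (f w') hw)).map
        (Y.presheaf.stalkSpecializes hw).hom =
          IsLocalRing.maximalIdeal (Y.presheaf.stalk (f w')) :=
      IsLocalization.AtPrime.map_eq_maximalIdeal _ _
    rw [← h6, Ideal.map_map, fibIdeal, Ideal.map_map]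
    congr 1
    change (X.presheaf.stalkSpecializes h).hom.comp (f.stalkMap z).hom = _
    rw [← CommRingCat.hom_comp, ← CommRingCat.hom_comp, Scheme.Hom.stalkSpecializes_stalkMap]
  rw [h4]
  rfl

section RelDimE

variable {f} {δX : X → ℤ} {δY : Y → ℤ} {e : ℕ}

/-- A point of maximal dimension over `w` near `z` gives a minimal prime of `𝔭_w O_z`. -/
theorem mem_minimalPrimes [LocallyOfFiniteType f] (hrel : Cyc.HasRelDim f e)
    (hδ : Cyc.DeltaCompat f δX δY) {z w' : X} (h : w' ⤳ z) (hw : f w' ⤳ f z)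
    (hd : δX w' = δY (f w') + e) :
    (primeOf h).asIdeal ∈ (fibIdeal f z hw).minimalPrimes := by
  refine ⟨⟨(primeOf h).2, ?_⟩, ?_⟩
  · rw [primeOf_asIdeal]
    exact (fibIdeal_le_iff f hw h).2 (specializes_refl _)
  · rintro q ⟨hq, hq1⟩ hq2
    obtain ⟨w'', hw'', rfl⟩ := exists_eq_ker q
    rw [fibIdeal_le_iff] at hq1
    rw [primeOf_asIdeal, ker_le_iff] at hq2
    have h1 : f w'' = f w' := ((hq2.map f.continuous).antisymm hq1).eq
    have h2 : w'' = w' := ((fibGeneric_iff_delta hrel hδ w').2 hd) w'' h1 hq2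
    subst h2
    rw [primeOf_asIdeal]

/-- There are only finitely many points of maximal dimension over `w` near `z`. -/
theorem finite_lifts [LocallyOfFiniteType f] [IsLocallyNoetherian X] (hrel : Cyc.HasRelDim f e)
    (hδ : Cyc.DeltaCompat f δX δY) (z : X) (w : Y) :
    {w' : X | w' ⤳ z ∧ f w' = w ∧ δX w' = δY w + e}.Finite := by
  by_cases hw : w ⤳ f z
  · have h1 := (fibIdeal f z hw).finite_minimalPrimes_of_isNoetherianRing (X.presheaf.stalk z)
    have h2 : {q : PrimeSpectrum (X.presheaf.stalk z) |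
        q.asIdeal ∈ (fibIdeal f z hw).minimalPrimes}.Finite :=
      h1.preimage (fun a _ b _ hab => PrimeSpectrum.ext hab)
    refine (h2.image ptOf).subset ?_
    rintro w' ⟨h3, rfl, h4⟩
    exact ⟨primeOf h3, mem_minimalPrimes hrel hδ h3 hw h4, ptOf_primeOf h3⟩
  · convert Set.finite_empty (α := X)
    ext w'
    simp only [Set.mem_ofPred_eq, Set.mem_empty_iff_false, iff_false]
    rintro ⟨h1, rfl, -⟩
    exact hw (h1.map f.continuous)

end RelDimE

/-- Dimension of the local rings of an integral scheme with a dimension function. -/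
theorem exists_dim [IsIntegral X] {δX : X → ℤ} (hδ : Cyc.IsDimFun X δX) (x : X) :
    ∃ d : ℕ, ringKrullDim (X.presheaf.stalk x) = d ∧ (d : ℤ) + δX x = δX (genericPoint X) := by
  have h3 := CycB.LocQuot.ringKrullDim_locQuot hδ (genericPoint_specializes x)
  have h4 : RingHom.ker (Cyc.specMap x _ (genericPoint_specializes x)) = ⊥ :=
    ProdPoint.ker_genericPoint x _
  refine ⟨_, (ringKrullDim_eq_of_ringEquiv ((Ideal.quotEquivOfEq h4).trans
    (RingEquiv.quotientBot _))).symm.trans h3, ?_⟩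
  have := CycB.LocQuot.le_of_specializes hδ (genericPoint_specializes x)
  omega

section Main

variable {K : Type u} [Field K] [IsAlgClosed K] {f} {δX : X → ℤ} {δY : Y → ℤ} {e : ℕ}

/-- Decomposition of the intersection multiplicity with the fibre ideal. -/
theorem chi_fib [IsIntegral X] (gX : X ⟶ Spec (CommRingCat.of K)) [Smooth gX] [IsSeparated gX]
    (hX : Cyc.DeltaCompat gX δX (fun _ => 0)) [Flat f] [LocallyOfFiniteType f]
    (hrel : Cyc.HasRelDim f e) (hδ : Cyc.DeltaCompat f δX δY) {z v : X} (hv : v ⤳ z) {w : Y}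
    (hw : w ⤳ f z) (hprop : ∀ z', v ⤳ z' → w ⤳ f z' → z' ⤳ z → z' = z)
    (hdim : δX v + (δY w + e) ≤ δX (genericPoint X) + δX z) :
    IntMult.chi (X.presheaf.stalk z) (X.presheaf.stalk z ⧸ fibIdeal f z hw)
      (X.presheaf.stalk z ⧸ RingHom.ker (Cyc.specMap z v hv)) =
    ∑ᶠ w' ∈ {w' : X | w' ⤳ z ∧ f w' = w ∧ δX w' = δY w + e},
      fm f w' * IntMult.mult (IntMult.ptIdeal v) (IntMult.ptIdeal w') z := by
  have hset := SetupField.isSetup_of_field _ hX
  have : IsLocallyNoetherian X := hset.1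
  have hreg := SerreGeom.isRegularLocalRing_stalk gX z
  have hfin := finite_lifts hrel hδ z w
  have hfin' : {q : PrimeSpectrum (X.presheaf.stalk z) |
      ptOf q ∈ {w' : X | w' ⤳ z ∧ f w' = w ∧ δX w' = δY w + e}}.Finite :=
    hfin.preimage (ptOf_injective z).injOn
  obtain ⟨d, hd, -⟩ := exists_dim hset.2.2 z
  have hsupp : ∀ q : PrimeSpectrum (X.presheaf.stalk z),
      q ∈ Module.support (X.presheaf.stalk z) (X.presheaf.stalk z ⧸ fibIdeal f z hw) ↔
        w ⤳ f (ptOf q) := by
    intro q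
    rw [← primeOf_ptOf q, mem_support_iff, fibIdeal_le_iff, primeOf_ptOf]
  have key := chi_devissage (A := X.presheaf.stalk z)
    (X.presheaf.stalk z ⧸ RingHom.ker (Cyc.specMap z v hv)) d
    (fun M' _ _ _ => TorReg.vanish_of_finite_left d hd M' _)
    (X.presheaf.stalk z ⧸ fibIdeal f z hw) ?_ hfin'.toFinset ?_ ?_
  · rw [key, ← finsum_mem_finset_eq_sum]
    simp only [Set.Finite.mem_toFinset]
    refine finsum_mem_eq_of_bijOn ptOf ⟨fun q hq => hq, (ptOf_injective z).injOn, ?_⟩ ?_
    · intro w' hw'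
      exact ⟨primeOf hw'.1, by rw [Set.mem_ofPred_eq, ptOf_primeOf]; exact hw', ptOf_primeOf _⟩
    · intro q hq
      obtain ⟨h1, h2, h3⟩ := hq
      have h4 := ll_fib f h1 h2 hw
      rw [primeOf_ptOf] at h4
      rw [h4, IntMult.mult, StalkIdeal.stalkIdeal_ptIdeal h1, StalkIdeal.stalkIdeal_ptIdeal hv,
        ← primeOf_asIdeal h1, primeOf_ptOf]
  · intro q hq1 hq2
    rw [hsupp] at hq1
    rw [← primeOf_ptOf q, mem_support_iff, ker_le_iff] at hq2
    have h1 := hprop _ hq2 hq1 (ptOf_specializes q)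
    have h2 := primeOf_ptOf q
    rw [← h2, primeOf_asIdeal]
    have : ∀ {a : X} (h : a ⤳ z), a = z → (RingHom.ker (Cyc.specMap z a h)).IsMaximal := by
      rintro a h rfl
      rw [ker_refl]
      infer_instance
    exact this _ h1
  · intro q hq q' hq' hle
    rw [Set.Finite.mem_toFinset] at hq
    rw [hsupp] at hq'
    obtain ⟨h1, h2, h3⟩ := hq
    have h4 : ptOf q' ⤳ ptOf q := (ptOf_specializes_iff q' q).2 hle
    have h5 : f (ptOf q') = f (ptOf q) :=
      ((h4.map f.continuous).antisymm (h2.symm ▸ hq')).eq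
    exact ptOf_injective z (((fibGeneric_iff_delta hrel hδ _).2 (by rw [h3, h2])) _ h5 h4)
  · intro q hq hqn
    rw [hsupp] at hq
    rw [Set.Finite.mem_toFinset] at hqn
    have h0 := ptOf_specializes q
    have h1 : δX (ptOf q) < δY w + e := by
      obtain ⟨w₁, h2, h3, h4⟩ := exists_lift hrel hδ hq
      by_contra hcon
      have h5 : w₁ = ptOf q := eq_of_specializes_of_eq hset.2.2 h2
        (le_antisymm (le_of_specializes hset.2.2 h2) (by omega))
      subst h5
      exact hqn ⟨h0, h3, h4⟩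
    have h2 := (SerreGeom.chi_main gX hX h0 hv (fun z' h3 h4 h5 =>
      hprop z' h4 (hq.trans (h3.map f.continuous)) h5)).2.2.1 (by omega)
    rw [← primeOf_asIdeal, primeOf_ptOf] at h2
    exact h2

end Main

end Groth.Agent.CycA.PFFib
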