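import Groth.Agent.CycA.PFFib
import Groth.Agent.CycB.PushLocal

/-!
# Dimension inequality at a point isolated in its fibre, and finiteness
-/

set_option autoImplicit false

universe u

open CategoryTheory CategoryTheory.Limits AlgebraicGeometry

namespace Groth.Agent.CycA.PFIso

open Groth.Agent.CycB.RelDim Groth.Agent.CycB.LocQuot

variable {X Y : Scheme.{u}}

/-- A local homomorphism of Noetherian local rings whose closed fibre has only one prime does not
increase the dimension. -/
theorem ringKrullDim_le_of_fibre {A B : Type u} [CommRing A] [IsLocalRing A] [IsNoetherianRing A]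
    [CommRing B] [IsLocalRing B] [IsNoetherianRing B] (φ : A →+* B) [hφ : IsLocalHom φ]
    (h : ∀ Q : Ideal B, Q.IsPrime → (IsLocalRing.maximalIdeal A).map φ ≤ Q →
      Q = IsLocalRing.maximalIdeal B) : ringKrullDim B ≤ ringKrullDim A := by
  let _ := φ.toAlgebra
  have : IsLocalHom (algebraMap A B) := hφ
  have hl : (IsLocalRing.maximalIdeal B).LiesOver (IsLocalRing.maximalIdeal A) :=
    ⟨(IsLocalRing.maximalIdeal_comap (algebraMap A B)).symm⟩
  have h1 := Ideal.height_le_height_add_of_liesOver (IsLocalRing.maximalIdeal A)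
    (IsLocalRing.maximalIdeal B)
  set J := (IsLocalRing.maximalIdeal A).map (algebraMap A B) with hJ
  have hJm : J ≤ IsLocalRing.maximalIdeal B := by
    rw [hJ, Ideal.map_le_iff_le_comap, IsLocalRing.maximalIdeal_comap]
  have hJ' : J ≠ ⊤ := fun h => (IsLocalRing.maximalIdeal.isMaximal B).ne_top (top_le_iff.1 (h ▸ hJm))
  have hsub : Subsingleton (PrimeSpectrum (B ⧸ J)) := by
    refine ⟨fun a b => ?_⟩
    have key : ∀ c : PrimeSpectrum (B ⧸ J), c.asIdeal.comap (Ideal.Quotient.mk J) =
        IsLocalRing.maximalIdeal B := fun c => by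
      refine h _ (Ideal.comap_isPrime _ _) ?_
      intro x (hx : x ∈ J)
      rw [Ideal.mem_comap, Ideal.Quotient.eq_zero_iff_mem.2 hx]
      exact c.asIdeal.zero_mem
    apply PrimeSpectrum.ext
    apply Ideal.comap_injective_of_surjective _ Ideal.Quotient.mk_surjective
    rw [key, key]
  have h2 : ((IsLocalRing.maximalIdeal B).map (Ideal.Quotient.mk J)).height = 0 := by
    have hne : (IsLocalRing.maximalIdeal B).map (Ideal.Quotient.mk J) ≠ ⊤ := by
      intro h3
      have h4 := Ideal.comap_map_of_surjective (Ideal.Quotient.mk J) Ideal.Quotient.mk_surjective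
        (IsLocalRing.maximalIdeal B)
      rw [h3, Ideal.comap_top, ← RingHom.ker_eq_comap_bot, Ideal.mk_ker, sup_eq_left.2 hJm] at h4
      exact (IsLocalRing.maximalIdeal.isMaximal B).ne_top h4.symm
    have h3 := Ideal.height_le_ringKrullDim_of_ne_top hne
    have h4 : ringKrullDim (B ⧸ J) ≤ 0 := Order.krullDim_nonpos_of_subsingleton
    have h5 : (((IsLocalRing.maximalIdeal B).map (Ideal.Quotient.mk J)).height :
      WithBot ℕ∞) ≤ (0 : ℕ∞) := h3.trans h4
    exact nonpos_iff_eq_zero.1 (WithBot.coe_le_coe.1 h5)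
  rw [h2, add_zero] at h1
  rw [← IsLocalRing.maximalIdeal_height_eq_ringKrullDim,
    ← IsLocalRing.maximalIdeal_height_eq_ringKrullDim]
  exact WithBot.coe_le_coe.2 h1

/-- If `z` is isolated in the fibre of the closure of `v` over `f z`, the relative dimension of
`v` is at most that of `z`. -/
theorem delta_le_of_isolated (f : X ⟶ Y) [IsLocallyNoetherian X] [IsLocallyNoetherian Y]
    {δX : X → ℤ} {δY : Y → ℤ} (hX : Cyc.IsDimFun X δX) (hY : Cyc.IsDimFun Y δY) {v z : X}
    (hv : v ⤳ z) (hiso : ∀ z', v ⤳ z' → z' ⤳ z → f z' = f z → z' = z) :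
    δX v - δX z ≤ δY (f v) - δY (f z) := by
  have hfv : f v ⤳ f z := hv.map f.continuous
  let φ : Cyc.LocQuot (f z) (f v) hfv →+* Cyc.LocQuot z v hv :=
    Ideal.quotientMap (RingHom.ker (Cyc.specMap z v hv)) (f.stalkMap z).hom
      (ProdPoint.comap_ker_specMap f hv hfv).ge
  have hφ : ∀ a, φ (Ideal.Quotient.mk _ a) = Ideal.Quotient.mk _ ((f.stalkMap z).hom a) :=
    fun a => rfl
  have hB : IsLocalRing (Cyc.LocQuot z v hv) := inferInstance
  have hlB : IsLocalHom (Ideal.Quotient.mk (RingHom.ker (Cyc.specMap z v hv))) :=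
    Function.Surjective.isLocalHom _ Ideal.Quotient.mk_surjective
  have hφl : IsLocalHom φ := by
    refine ⟨fun a ha => ?_⟩
    obtain ⟨a, rfl⟩ := Ideal.Quotient.mk_surjective a
    rw [hφ, isUnit_map_iff (Ideal.Quotient.mk (RingHom.ker (Cyc.specMap z v hv))),
      isUnit_map_iff] at ha
    exact ha.map _
  have key := ringKrullDim_le_of_fibre φ (by
    intro Q hQ hle
    obtain ⟨z', hz', hvz', e⟩ := exists_comap_eq_ker hv Q
    have h1 : f z ⤳ f z' := by
      have hc : f z' ⤳ f z := hz'.map f.continuous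
      rw [← ker_le_iff (specializes_refl (f z)) hc, ker_refl,
        ← ProdPoint.comap_ker_specMap f hz' hc, ← e]
      intro a ha
      rw [Ideal.mem_comap, Ideal.mem_comap, ← hφ]
      refine hle (Ideal.mem_map_of_mem _ ?_)
      rw [IsLocalRing.mem_maximalIdeal, mem_nonunits_iff]
      have hlA : IsLocalHom (Ideal.Quotient.mk (RingHom.ker (Cyc.specMap (f z) (f v) hfv))) :=
        Function.Surjective.isLocalHom _ Ideal.Quotient.mk_surjective
      rw [isUnit_map_iff (Ideal.Quotient.mk (RingHom.ker (Cyc.specMap (f z) (f v) hfv)))]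
      exact (IsLocalRing.mem_maximalIdeal a).1 ha
    have h2 : z' = z := hiso z' hvz' hz' ((hz'.map f.continuous).antisymm h1).eq
    subst h2
    apply Ideal.comap_injective_of_surjective _
      (Ideal.Quotient.mk_surjective (I := RingHom.ker (Cyc.specMap z' v hv)))
    rw [e, ker_refl]
    exact (IsLocalRing.maximalIdeal_comap
      (Ideal.Quotient.mk (RingHom.ker (Cyc.specMap z' v hv)))).symm)
  rw [ringKrullDim_locQuot hX hv, ringKrullDim_locQuot hY hfv] at key
  have h1 : (δX v - δX z).toNat ≤ (δY (f v) - δY (f z)).toNat := by exact_mod_cast key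
  have h2 := le_of_specializes hX hv
  have h3 := le_of_specializes hY hfv
  omega

end Groth.Agent.CycA.PFIso
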