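import Groth.Agent.CycA.Devissage
import Groth.Agent.CycB.DivNat
import Mathlib.Algebra.Module.LocalizedModule.Submodule
import Mathlib.RingTheory.LocalProperties.Basic

/-!
# Lengths of localizations computed on arbitrary localizations
-/

set_option autoImplicit false

universe u v

namespace Groth.Agent.CycA.PFLen

open Groth.Agent.CycA.EulerLen Groth.Agent.CycA.Devissage

variable {R : Type u} [CommRing R]

/-- The length of `M_q` over `R_q` computed on any model of the localization. -/
theorem length_loc_eq (q : Ideal R) [q.IsPrime] (B : Type*) [CommRing B] [Algebra R B]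
    [IsLocalization.AtPrime B q] {M : Type*} [AddCommGroup M] [Module R M] {M' : Type*}
    [AddCommGroup M'] [Module R M'] [Module B M'] [IsScalarTower R B M'] (f : M →ₗ[R] M')
    [hf : IsLocalizedModule q.primeCompl f] :
    Module.length (Localization.AtPrime q) (LocalizedModule q.primeCompl M) =
      Module.length B M' := by
  let e : LocalizedModule q.primeCompl M ≃ₗ[R] M' :=
    IsLocalizedModule.linearEquiv q.primeCompl (LocalizedModule.mkLinearMap q.primeCompl M) f
  let σ : Localization.AtPrime q ≃ₐ[R] B := IsLocalization.algEquiv q.primeCompl _ _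
  refine Groth.Agent.CycB.DivNat.length_eq_of_semilinear (σ : Localization.AtPrime q →+* B)
    σ.surjective { toFun := e, map_add' := map_add e, map_smul' := ?_ } e.bijective
  intro a x
  obtain ⟨⟨r, s⟩, hrs⟩ := IsLocalization.surj q.primeCompl a
  have hs : IsUnit (algebraMap R B s) := IsLocalization.map_units B s
  apply hs.smul_left_cancel.1
  change algebraMap R B s • e (a • x) = algebraMap R B s • (σ a • e x)
  rw [algebraMap_smul, ← map_smul, ← algebraMap_smul (Localization.AtPrime q) (s : R), smul_smul,
    mul_comm, hrs, algebraMap_smul, map_smul, smul_smul]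
  have h1 : algebraMap R B s * σ a = algebraMap R B r := by
    have := congrArg σ hrs
    rw [map_mul, AlgEquiv.commutes, AlgEquiv.commutes, mul_comm] at this
    exact this
  rw [h1, algebraMap_smul]

/-- The length of `(R/J)_q` computed on any localization. -/
theorem length_loc_quotient (q : Ideal R) [q.IsPrime] (J : Ideal R) (B : Type*) [CommRing B]
    [Algebra R B] [IsLocalization.AtPrime B q] :
    Module.length (Localization.AtPrime q) (LocalizedModule q.primeCompl (R ⧸ J)) =
      Module.length B (B ⧸ J.map (algebraMap R B)) := by
  have h := length_loc_eq q B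
    (Submodule.toLocalizedQuotient' B q.primeCompl (Algebra.linearMap R B) J)
  rw [h]
  have h2 := Ideal.localized'_eq_map B q.primeCompl J
  exact (Submodule.quotEquivOfEq _ _ h2).length_eq

theorem ll_quotient (q : PrimeSpectrum R) (J : Ideal R) (B : Type*) [CommRing B]
    [Algebra R B] [IsLocalization.AtPrime B q.asIdeal] :
    ll q (R ⧸ J) = ((Module.length B (B ⧸ J.map (algebraMap R B))).toNat : ℤ) := by
  unfold ll il
  rw [length_loc_quotient q.asIdeal J B]

end Groth.Agent.CycA.PFLen
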