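import Groth.Agent.CycA.PFScheme
import Groth.Agent.CycB.PtClosure

/-!
# The local projection formula for intersection multiplicities
-/

set_option autoImplicit false

universe u

open CategoryTheory CategoryTheory.Limits AlgebraicGeometry TopologicalSpace

namespace Groth.Agent.CycA.PFLocal

open Groth.Agent.CycB.RelDim Groth.Agent.CycB.LocQuot Groth.Agent.CycB.PushLen
  Groth.Agent.CycA.ChiRec Groth.Agent.CycA.PFFib

variable {K : Type u} [Field K] [IsAlgClosed K] {X Y : Scheme.{u}}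

theorem delta_ge (f : X ⟶ Y) {δX : X → ℤ} {δY : Y → ℤ} (hδ : Cyc.DeltaCompat f δX δY) (x : X) :
    δY (f x) ≤ δX x := by
  obtain ⟨n, -, hn⟩ := hδ x
  omega

theorem exists_specializes_of_closed (f : X ⟶ Y) [UniversallyClosed f] {v : X} {y : Y}
    (h : f v ⤳ y) : ∃ x, v ⤳ x ∧ f x = y := by
  obtain ⟨x, h1, h2⟩ := f.isClosedMap.specializingMap h
  exact ⟨x, h1, h2⟩

/-- Finiteness of the set of points of the closure of `v` over `ζ`. -/
theorem finite_fibre (f : X ⟶ Y) [QuasiCompact f] [IsLocallyNoetherian X] (v : X) (ζ : Y)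
    (hmax : ∀ z, f z = ζ → v ⤳ z → ∀ z', v ⤳ z' → z' ⤳ z → f z' = ζ → z' = z) :
    {z : X | f z = ζ ∧ v ⤳ z}.Finite := by
  obtain ⟨V, hV, hyV, -⟩ := Y.isBasis_affineOpens.exists_subset_of_mem_open (Set.mem_univ ζ)
    isOpen_univ
  obtain ⟨V, hVa, rfl⟩ := hV
  have hWc : IsCompact ((f ⁻¹ᵁ V : X.Opens) : Set X) := f.isSpectralMap.2 V.2 hVa.isCompact
  have hWn : NoetherianSpace (f ⁻¹ᵁ V : X.Opens) := by
    have : CompactSpace (f ⁻¹ᵁ V : X.Opens) := isCompact_iff_compactSpace.mp hWc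
    have : CompactSpace (f ⁻¹ᵁ V).toScheme := this
    have : IsLocallyNoetherian (f ⁻¹ᵁ V).toScheme := inferInstance
    have : IsNoetherian (f ⁻¹ᵁ V).toScheme := ⟨⟩
    exact (inferInstance : NoetherianSpace (f ⁻¹ᵁ V).toScheme)
  refine (@exists_disjoint_nhds X _ _ (f ⁻¹ᵁ V) hWn (closure {v} ∩ f ⁻¹' (closure {ζ}))
    (isClosed_closure.inter (isClosed_closure.preimage f.continuous)) _ ?_ ?_ ?_).1
  · rintro x ⟨hx, -⟩
    change f x ∈ V
    rw [hx]; exact hyV
  · rintro x ⟨hx, hvx⟩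
    exact ⟨specializes_iff_mem_closure.1 hvx, by
      rw [Set.mem_preimage, hx]
      exact subset_closure rfl⟩
  · rintro x ⟨hx, hvx⟩ x' ⟨h1, h2⟩ h3
    refine hmax x hx hvx x' (specializes_iff_mem_closure.2 h1) h3 ?_
    have h4 : ζ ⤳ f x' := specializes_iff_mem_closure.2 h2
    have h5 : f x' ⤳ ζ := hx ▸ h3.map f.continuous
    exact (h5.antisymm h4).eq

theorem map_stalkHom (f : X ⟶ Y) {z : X} {ζ w : Y} (h : f z = ζ) (hw : w ⤳ ζ)
    (hw' : w ⤳ f z) : (RingHom.ker (Cyc.specMap ζ w hw)).map (stalkHom f z ζ h) =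
      fibIdeal f z hw' := by
  subst h
  rw [stalkHom_self]
  rfl

theorem local_formula (f : X ⟶ Y) (gX : X ⟶ Spec (CommRingCat.of K))
    (gY : Y ⟶ Spec (CommRingCat.of K)) [Smooth gX] [IsSeparated gX] [IsIntegral X] [Smooth gY]
    [IsSeparated gY] [IsIntegral Y] [Flat f] [IsProper f] {δX : X → ℤ} {δY : Y → ℤ}
    (hX : Cyc.DeltaCompat gX δX (fun _ => 0)) (hY : Cyc.DeltaCompat gY δY (fun _ => 0))
    (hδ : Cyc.DeltaCompat f δX δY) {e : ℕ} (hrel : Cyc.HasRelDim f e)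
    (hn : δX (genericPoint X) = δY (genericPoint Y) + e) {v : X} {w ζ : Y} (hv : f v ⤳ ζ)
    (hw : w ⤳ ζ)
    (hprop : ∀ z, v ⤳ z → w ⤳ f z → δX z ≤ δX v + δY w - δY (genericPoint Y))
    (hdim : δY ζ = δX v + δY w - δY (genericPoint Y)) :
    δX v = δY (f v) ∧ {z : X | f z = ζ ∧ v ⤳ z}.Finite ∧
      (∀ z, f z = ζ → v ⤳ z → δX z = δY ζ) ∧
      (f.residueDegree v : ℤ) * IntMult.mult (IntMult.ptIdeal (f v)) (IntMult.ptIdeal w) ζ =
        ∑ᶠ z ∈ {z : X | f z = ζ ∧ v ⤳ z}, (f.residueDegree z : ℤ) *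
          ∑ᶠ w' ∈ {w' : X | w' ⤳ z ∧ f w' = w ∧ δX w' = δY w + e},
            PFFib.fm f w' * IntMult.mult (IntMult.ptIdeal v) (IntMult.ptIdeal w') z := by
  have hsX := SetupField.isSetup_of_field _ hX
  have hsY := SetupField.isSetup_of_field _ hY
  have hNX : IsLocallyNoetherian X := hsX.1
  have hNY : IsLocallyNoetherian Y := hsY.1
  -- the points over `ζ`
  have hle : ∀ z, v ⤳ z → w ⤳ f z → δX z ≤ δY ζ := fun z h1 h2 => by
    rw [hdim]; exact hprop z h1 h2
  have hδz : ∀ z, f z = ζ → v ⤳ z → δX z = δY ζ := by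
    rintro z hz hvz
    have h1 := hle z hvz (by rw [hz]; exact hw)
    have h2 := delta_ge f hδ z
    rw [hz] at h2
    omega
  have hiso : ∀ z, f z = ζ → v ⤳ z → ∀ z', v ⤳ z' → z' ⤳ z → w ⤳ f z' → z' = z := by
    intro z hz hvz z' hvz' hz'z hwz'
    refine eq_of_specializes_of_eq hsX.2.2 hz'z ?_
    have h1 := hle z' hvz' hwz'
    have h2 := le_of_specializes hsX.2.2 hz'z
    have h3 := hδz z hz hvz
    omega
  have hfin : {z : X | f z = ζ ∧ v ⤳ z}.Finite := finite_fibre f v ζ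
    (fun z hz hvz z' h1 h2 h3 => hiso z hz hvz z' h1 h2 (by rw [h3]; exact hw))
  have hδv : δX v = δY (f v) := by
    obtain ⟨z, hvz, hz⟩ := exists_specializes_of_closed f hv
    have h1 := PFIso.delta_le_of_isolated f hsX.2.2 hsY.2.2 hvz (fun z' h1 h2 h3 =>
      hiso z hz hvz z' h1 h2 (by rw [h3, hz]; exact hw))
    have h2 := delta_ge f hδ v
    have h3 := hδz z hz hvz
    rw [hz] at h1
    omega
  refine ⟨hδv, hfin, hδz, ?_⟩
  -- proper intersection on `Y`
  have hisoY : ∀ y, f v ⤳ y → w ⤳ y → y ⤳ ζ → y = ζ := by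
    intro y h1 h2 h3
    obtain ⟨z, hvz, rfl⟩ := exists_specializes_of_closed f h1
    refine eq_of_specializes_of_eq hsY.2.2 h3 ?_
    have h4 := hle z hvz h2
    have h5 := delta_ge f hδ z
    have h6 := le_of_specializes hsY.2.2 h3
    omega
  -- the closure of `v`
  obtain ⟨Z, i, hZ, hi, η, hη, rfl⟩ := CycB.PushLocal.exists_integral_closedImmersion v
  have hp : IsProper (i ≫ f) := inferInstance
  have hgen : ∀ x : Z, i η ⤳ i x := fun x =>
    (CycB.PushFinite.genericPoint_specializes' hη x).map i.continuous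
  have hqf : ∀ x, (i ≫ f) x = ζ → (i ≫ f).QuasiFiniteAt x :=
    CycB.PushLocal.quasiFiniteAt_of_discrete (i ≫ f) ζ (fun x x' h1 h2 h3 => by
      apply i.isClosedEmbedding.injective
      exact hiso (i x') h3 (hgen x') (i x) (hgen x) (h1.map i.continuous)
        (by rw [show f (i x) = ζ from h2]; exact hw))
  obtain ⟨V, hV, hζV, hU, hfinV⟩ := CycB.PushLocal.exists_affine_finite (i ≫ f) ζ hqf
  have hbij : Set.BijOn i {x : Z | (i ≫ f) x = ζ} {z : X | f z = ζ ∧ i η ⤳ z} := by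
    refine ⟨fun x hx => ⟨hx, hgen x⟩, i.isClosedEmbedding.injective.injOn, ?_⟩
    rintro z ⟨hz, hvz⟩
    obtain ⟨x, rfl⟩ : z ∈ Set.range i :=
      hvz.mem_closed i.isClosedEmbedding.isClosed_range ⟨_, rfl⟩
    exact ⟨x, hz, rfl⟩
  have hfinZ : {x : Z | (i ≫ f) x = ζ}.Finite := (hbij.finite_iff_finite).2 hfin
  have hft : Fintype {x : Z // (i ≫ f) x = ζ} := hfinZ.fintype
  have hres : ∀ x : Z, (i ≫ f) x = ζ → ((i ≫ f).residueFieldMap x).hom.Finite := by
    intro x hx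
    have h1 := residueFieldMap_finite f δX δY hδ (i x) (by
      rw [hδz (i x) hx (hgen x)]
      rw [show f (i x) = ζ from hx])
    rw [Scheme.residueFieldMap_comp]
    change ((i.residueFieldMap x).hom.comp (f.residueFieldMap (i x)).hom).Finite
    refine RingHom.Finite.comp (RingHom.Finite.of_surjective _ ?_) h1
    exact residueFieldMap_surjective_of_stalkMap i x (i.stalkMap_surjective x)
  have hregY := SerreGeom.isRegularLocalRing_stalk gY ζ
  obtain ⟨b, hb, -⟩ := exists_dim hsY.2.2 ζ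
  have key := PFScheme.scheme_formula f i hη hV hU hfinV hζV hv hres
    (RingHom.ker (Cyc.specMap ζ w hw)) b
    (fun M' _ _ _ => TorReg.vanish_of_finite_left b hb M' _)
    (by
      intro q hq1 hq2
      have h1 := primeOf_ptOf q
      have h2 := ptOf_specializes q
      rw [← h1, mem_support_iff, ker_le_iff] at hq1 hq2
      have h3 := hisoY _ hq1 hq2 h2
      rw [← h1, primeOf_asIdeal]
      have : ∀ {a : Y} (h : a ⤳ ζ), a = ζ → (RingHom.ker (Cyc.specMap ζ a h)).IsMaximal := by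
        rintro a h rfl
        rw [ker_refl]
        infer_instance
      exact this _ h3)
    (by
      intro y' hy' h1 h2
      have h3 := eq_of_specializes_of_eq hsY.2.2 (ξ := (i ≫ f) η) (x := y') h1
      have h4 := le_of_specializes hsY.2.2 h1
      have h5 : δY y' ≠ δY (f (i η)) := fun h => h2 (h3 h).symm
      have h6 : δY y' ≤ δY (f (i η)) := h4
      refine (SerreGeom.chi_main gY hY hy' hw (fun z h7 h8 h9 =>
        hisoY z (h1.trans h7) h8 h9)).2.2.1 ?_
      omega)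
  have hdeg : ∀ x : Z, (i ≫ f).residueDegree x = f.residueDegree (i x) := fun x => by
    rw [CycB.Push.residueDegree_comp, CycB.DivNat.residueDegree_eq_one i x, mul_one]
  have hL : IntMult.mult (IntMult.ptIdeal (f (i η))) (IntMult.ptIdeal w) ζ =
      IntMult.chi (Y.presheaf.stalk ζ) (Y.presheaf.stalk ζ ⧸ RingHom.ker (Cyc.specMap ζ _ hv))
        (Y.presheaf.stalk ζ ⧸ RingHom.ker (Cyc.specMap ζ w hw)) := by
    rw [IntMult.mult, StalkIdeal.stalkIdeal_ptIdeal hv, StalkIdeal.stalkIdeal_ptIdeal hw]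
    exact chi_symm _ _
  rw [hL]
  rw [hdeg η] at key
  refine Eq.trans key ?_
  rw [← finsum_mem_eq_of_bijOn (f := fun x : Z => (f.residueDegree (i x) : ℤ) *
          ∑ᶠ w' ∈ {w' : X | w' ⤳ i x ∧ f w' = w ∧ δX w' = δY w + e},
            PFFib.fm f w' * IntMult.mult (IntMult.ptIdeal (i η)) (IntMult.ptIdeal w') (i x))
      i hbij (fun x _ => rfl), ← finsum_set_coe_eq_finsum_mem]
  change _ = ∑ᶠ x : {x : Z // (i ≫ f) x = ζ}, _
  rw [finsum_eq_sum_of_fintype]
  refine Finset.sum_congr rfl fun x _ => ?_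
  rw [hdeg]
  congr 1
  have hfx : f (i x.1) = ζ := x.2
  have hwx : w ⤳ f (i x.1) := by rw [hfx]; exact hw
  have e1 : RingHom.ker (i.stalkMap x.1).hom =
      RingHom.ker (Cyc.specMap (i x.1) (i η) (hgen x.1)) := by
    rw [← ProdPoint.comap_ker_specMap i (CycB.PushFinite.genericPoint_specializes' hη x.1)
      (hgen x.1), (RingHom.injective_iff_ker_eq_bot _).1 (CycB.PushFinite.specMap_injective hη _)]
    rfl
  have e2 : (RingHom.ker (Cyc.specMap ζ w hw)).map (stalkHom f (i x.1) ζ x.2) =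
      fibIdeal f (i x.1) hwx := map_stalkHom f hfx hw hwx
  rw [e1, e2, ← chi_fib gX hX hrel hδ (hgen x.1) hwx
    (fun z' h1 h2 h3 => hiso (i x.1) hfx (hgen x.1) z' h1 h3 h2)
    (by rw [hδz _ hfx (hgen x.1)]; omega)]
  exact chi_symm _ _

end Groth.Agent.CycA.PFLocal
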