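import Groth.Agent.CycA.PFSemi2
import Groth.Agent.CycA.PFIso
import Groth.Agent.CycB.PushLen
import Mathlib.AlgebraicGeometry.Morphisms.Flat

/-!
# The semilocal formula for a closed integral subscheme finite over the base near a point
-/

set_option autoImplicit false

universe u

open CategoryTheory CategoryTheory.Limits AlgebraicGeometry TensorProduct

namespace Groth.Agent.CycA.PFScheme

open Groth.Agent.CycB.RelDim Groth.Agent.CycB.LocQuot Groth.Agent.CycB.PushLen
  Groth.Agent.CycA.ChiRec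

variable {X Y Z : Scheme.{u}}

theorem isLocalHom_stalkHom (f : X ⟶ Y) (x : X) (y : Y) (h : f x = y) :
    IsLocalHom (stalkHom f x y h) := by
  subst h
  rw [stalkHom_self]
  infer_instance

theorem flat_stalkHom (f : X ⟶ Y) [Flat f] (x : X) (y : Y) (h : f x = y) :
    (stalkHom f x y h).Flat := by
  subst h
  rw [stalkHom_self]
  exact Flat.stalkMap f x

theorem stalkHom_comp (i : Z ⟶ X) (f : X ⟶ Y) (x : Z) (y : Y) (h : (i ≫ f) x = y) :
    (i.stalkMap x).hom.comp (stalkHom f (i x) y h) = stalkHom (i ≫ f) x y h := by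
  subst h
  rw [stalkHom_self (i ≫ f) x]
  have : stalkHom f (i x) ((i ≫ f) x) rfl = (f.stalkMap (i x)).hom := stalkHom_self f (i x)
  rw [this, Scheme.Hom.stalkMap_comp]
  rfl

/-- The length of the residue field over the local ring of the image. -/
theorem length_residueField (p : Z ⟶ Y) (x : Z) (y : Y) (h : p x = y)
    (hfin : (p.residueFieldMap x).hom.Finite) :
    (letI := (stalkHom p x y h).toAlgebra
     Module.length (Y.presheaf.stalk y) (IsLocalRing.ResidueField (Z.presheaf.stalk x))) =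
      (p.residueDegree x : ℕ∞) := by
  subst h
  let : Algebra (Y.presheaf.stalk (p x)) (Z.presheaf.stalk x) := (stalkHom p x (p x) rfl).toAlgebra
  have hl : IsLocalHom (algebraMap (Y.presheaf.stalk (p x)) (Z.presheaf.stalk x)) :=
    isLocalHom_stalkHom p x _ rfl
  have key := IsLocalRing.length_restrictScalars (Y.presheaf.stalk (p x)) (Z.presheaf.stalk x)
    (IsLocalRing.ResidueField (Z.presheaf.stalk x))
  have hsimple : Module.length (Z.presheaf.stalk x)
      (IsLocalRing.ResidueField (Z.presheaf.stalk x)) = 1 := by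
    rw [Module.length_eq_one_iff]
    exact isSimpleModule_iff_quot_maximal.2 ⟨_, IsLocalRing.maximalIdeal.isMaximal _,
      ⟨LinearEquiv.refl _ _⟩⟩
  rw [hsimple, one_mul] at key
  refine key.trans ?_
  let i1 : Algebra (IsLocalRing.ResidueField (Y.presheaf.stalk (p x)))
      (IsLocalRing.ResidueField (Z.presheaf.stalk x)) := inferInstance
  let i2 : Algebra (Y.residueField (p x)) (Z.residueField x) := (p.residueFieldMap x).hom.toAlgebra
  have hfin' : Module.Finite (Y.residueField (p x)) (Z.residueField x) := hfin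
  have h1 : Module.length (Y.residueField (p x)) (Z.residueField x) = (p.residueDegree x : ℕ∞) :=
    Module.length_eq_finrank _ _
  rw [← h1]
  have h2 : (algebraMap (IsLocalRing.ResidueField (Y.presheaf.stalk (p x)))
      (IsLocalRing.ResidueField (Z.presheaf.stalk x))) = (p.residueFieldMap x).hom := by
    change IsLocalRing.ResidueField.map (stalkHom p x (p x) rfl) =
      IsLocalRing.ResidueField.map (p.stalkMap x).hom
    congr 1
    exact stalkHom_self p x
  have h3 : i1 = i2 := Algebra.algebra_ext _ _ (fun r => congr($h2 r))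
  change @Module.length _ _ _ _ i1.toModule = @Module.length _ _ _ _ i2.toModule
  rw [h3]
  rfl

/-- **The semilocal formula** for `Z ⊂ X` closed integral with `Z → Y` finite near `ζ`. -/
theorem scheme_formula (f : X ⟶ Y) [Flat f] (i : Z ⟶ X) [IsClosedImmersion i] [IsIntegral Z]
    [IsLocallyNoetherian Y] {η : Z} (hη : η = genericPoint Z) {V : Y.Opens} (hV : IsAffineOpen V)
    (hU : IsAffineOpen ((i ≫ f) ⁻¹ᵁ V)) (hfin : ((i ≫ f).app V).hom.Finite) {ζ : Y} (hζ : ζ ∈ V)
    (h : (i ≫ f) η ⤳ ζ) [Fintype {x : Z // (i ≫ f) x = ζ}]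
    (hres : ∀ x : Z, (i ≫ f) x = ζ → ((i ≫ f).residueFieldMap x).hom.Finite)
    (J : Ideal (Y.presheaf.stalk ζ)) (b : ℕ)
    (hb : ∀ (M' : Type u) [AddCommGroup M'] [Module (Y.presheaf.stalk ζ) M']
      [Module.Finite (Y.presheaf.stalk ζ) M'], TorBd (Y.presheaf.stalk ζ) M'
        (Y.presheaf.stalk ζ ⧸ J) b)
    (hm : Meets (Y.presheaf.stalk ζ) (Y.presheaf.stalk ζ ⧸ RingHom.ker (Cyc.specMap ζ _ h))
      (Y.presheaf.stalk ζ ⧸ J))
    (hv : ∀ (y' : Y) (h' : y' ⤳ ζ), (i ≫ f) η ⤳ y' → y' ≠ (i ≫ f) η →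
      IntMult.chi (Y.presheaf.stalk ζ) (Y.presheaf.stalk ζ ⧸ RingHom.ker (Cyc.specMap ζ y' h'))
        (Y.presheaf.stalk ζ ⧸ J) = 0) :
    ((i ≫ f).residueDegree η : ℤ) * IntMult.chi (Y.presheaf.stalk ζ)
      (Y.presheaf.stalk ζ ⧸ RingHom.ker (Cyc.specMap ζ _ h)) (Y.presheaf.stalk ζ ⧸ J) =
    ∑ x : {x : Z // (i ≫ f) x = ζ}, ((i ≫ f).residueDegree x.1 : ℤ) *
      IntMult.chi (X.presheaf.stalk (i x.1))
        (X.presheaf.stalk (i x.1) ⧸ RingHom.ker (i.stalkMap x.1).hom)
        (X.presheaf.stalk (i x.1) ⧸ J.map (stalkHom f (i x.1) ζ x.2)) := by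
  have hηU : η ∈ (i ≫ f) ⁻¹ᵁ V := h.mem_open V.2 hζ
  have hxU : ∀ x : {x : Z // (i ≫ f) x = ζ}, x.1 ∈ (i ≫ f) ⁻¹ᵁ V := fun x => by
    change (i ≫ f) x.1 ∈ V
    rw [x.2]; exact hζ
  let A0 := Γ(Y, V)
  let B0 := Γ(Z, (i ≫ f) ⁻¹ᵁ V)
  let A := Y.presheaf.stalk ζ
  let L : {x : Z // (i ≫ f) x = ζ} → Type u := fun x => Z.presheaf.stalk x.1
  let B : {x : Z // (i ≫ f) x = ζ} → Type u := fun x => X.presheaf.stalk (i x.1)
  let F := Z.residueField η
  let k := Y.residueField ((i ≫ f) η)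
  let P : Ideal A0 := (hV.primeIdealOf ⟨ζ, hζ⟩).asIdeal
  let Q : {x : Z // (i ≫ f) x = ζ} → Ideal B0 := fun x => (hU.primeIdealOf ⟨x.1, hxU x⟩).asIdeal
  let iA0B0 : Algebra A0 B0 := ((i ≫ f).app V).hom.toAlgebra
  let iA0A : Algebra A0 A := (Y.presheaf.germ V ζ hζ).hom.toAlgebra
  let iB0L : ∀ x, Algebra B0 (L x) := fun x =>
    (Z.presheaf.germ ((i ≫ f) ⁻¹ᵁ V) x.1 (hxU x)).hom.toAlgebra
  let iA0L : ∀ x, Algebra A0 (L x) := fun x =>
    ((algebraMap B0 (L x)).comp (algebraMap A0 B0)).toAlgebra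
  let iAL : ∀ x, Algebra A (L x) := fun x => (stalkHom (i ≫ f) x.1 ζ x.2).toAlgebra
  let iAB : ∀ x, Algebra A (B x) := fun x => (stalkHom f (i x.1) ζ x.2).toAlgebra
  let iBL : ∀ x, Algebra (B x) (L x) := fun x => (i.stalkMap x.1).hom.toAlgebra
  let iB0F : Algebra B0 F := (Z.evaluation ((i ≫ f) ⁻¹ᵁ V) η hηU).hom.toAlgebra
  let iA0F : Algebra A0 F := ((algebraMap B0 F).comp (algebraMap A0 B0)).toAlgebra
  let ikF : Algebra k F := ((i ≫ f).residueFieldMap η).hom.toAlgebra
  let iAk : Algebra A k := (Cyc.specMap ζ ((i ≫ f) η) h).toAlgebra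
  let iAF : Algebra A F := ((algebraMap k F).comp (algebraMap A k)).toAlgebra
  have t1 : ∀ x, IsScalarTower A0 B0 (L x) := fun x => IsScalarTower.of_algebraMap_eq' rfl
  have t2 : ∀ x, IsScalarTower A0 A (L x) := fun x => IsScalarTower.of_algebraMap_eq fun a =>
    (stalkHom_germ (i ≫ f) x.1 ζ x.2 V hζ a).symm
  have t3 : ∀ x, IsScalarTower A (B x) (L x) := fun x => IsScalarTower.of_algebraMap_eq' (by
    change stalkHom (i ≫ f) x.1 ζ x.2 = (i.stalkMap x.1).hom.comp (stalkHom f (i x.1) ζ x.2)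
    exact (stalkHom_comp i f x.1 ζ x.2).symm)
  have t4 : IsScalarTower A0 B0 F := IsScalarTower.of_algebraMap_eq' rfl
  have t5 : IsScalarTower A k F := IsScalarTower.of_algebraMap_eq' rfl
  have t6 : IsScalarTower A0 A F := by
    refine IsScalarTower.of_algebraMap_eq fun a => ?_
    change Z.evaluation ((i ≫ f) ⁻¹ᵁ V) η hηU ((i ≫ f).app V a) =
      (i ≫ f).residueFieldMap η (Cyc.specMap ζ ((i ≫ f) η) h (Y.presheaf.germ V ζ hζ a))
    rw [CycB.DivFun.specMap_germ h hζ, Scheme.evaluation_naturality_apply]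
  have hfinAlg : Module.Finite A0 B0 := hfin
  have hB0inj : Function.Injective (algebraMap B0 F) :=
    CycB.PushFinite.evaluation_injective hη hηU
  have hfrac : IsFractionRing B0 F := by
    have : FaithfulSMul B0 F := (faithfulSMul_iff_algebraMap_injective _ _).2 hB0inj
    refine IsFractionRing.of_field _ _ ?_
    intro z
    obtain ⟨a, b, hb, hz⟩ := CycB.DivFun.exists_evaluation_div hU hηU z
    exact ⟨a, b, hz⟩
  have hdomB0 : IsDomain B0 := hB0inj.isDomain (algebraMap B0 F)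
  have hPprime : P.IsPrime := (hV.primeIdealOf ⟨ζ, hζ⟩).2
  have hQprime : ∀ x, (Q x).IsPrime := fun x => (hU.primeIdealOf ⟨x.1, hxU x⟩).2
  have hlocA : IsLocalization.AtPrime A P := hV.isLocalization_stalk ⟨ζ, hζ⟩
  have hlocL : ∀ x, IsLocalization.AtPrime (L x) (Q x) := fun x =>
    hU.isLocalization_stalk ⟨x.1, hxU x⟩
  have hlocalL : ∀ x, IsLocalHom (algebraMap A (L x)) := fun x =>
    isLocalHom_stalkHom (i ≫ f) x.1 ζ x.2
  have hflat : ∀ x, Module.Flat A (B x) := fun x => flat_stalkHom f (i x.1) ζ x.2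
  have hQeq : ∀ (z : Z) (hz : z ∈ (i ≫ f) ⁻¹ᵁ V),
      (hU.primeIdealOf ⟨z, hz⟩).asIdeal.comap (algebraMap A0 B0) =
        (hV.primeIdealOf ⟨(i ≫ f) z, hz⟩).asIdeal := by
    intro z hz
    ext a
    rw [Ideal.mem_comap, CycB.DivFun.mem_primeIdealOf_iff, CycB.DivFun.mem_primeIdealOf_iff]
    change ¬ IsUnit (Z.presheaf.germ ((i ≫ f) ⁻¹ᵁ V) z hz ((i ≫ f).app V a)) ↔
      ¬ IsUnit (Y.presheaf.germ V ((i ≫ f) z) hz a)
    rw [← Scheme.Hom.germ_stalkMap_apply, isUnit_map_iff]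
  let p : PrimeSpectrum A := primeOf h
  have hp : p.asIdeal = RingHom.ker (Cyc.specMap ζ _ h) := primeOf_asIdeal h
  have key := PFSemi.semilocal_formula (A0 := A0) (B0 := B0) (A := A) P
    (ι := {x : Z // (i ≫ f) x = ζ}) Q
    (by
      intro x
      refine (hQeq _ _).trans ?_
      congr 2
      exact Subtype.ext x.2)
    (by
      intro z z' hzz
      have h1 := CycB.DivFun.primeIdealOf_injective hU (PrimeSpectrum.ext hzz)
      have h2 : z.1 = z'.1 := congrArg (fun u : ↥((i ≫ f) ⁻¹ᵁ V) => u.1) h1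
      exact Subtype.ext h2)
    (by
      intro Q' hQ' hQc
      obtain ⟨h1, h2⟩ := CycB.DivFun.primeIdealOf_fromSpec hU ⟨Q', hQ'⟩
      have h3 := hQeq _ h1
      rw [h2] at h3
      have h4 : hV.primeIdealOf ⟨(i ≫ f) (hU.fromSpec (⟨Q', hQ'⟩ : PrimeSpectrum _)), h1⟩ =
          hV.primeIdealOf ⟨ζ, hζ⟩ := by
        apply PrimeSpectrum.ext
        rw [← h3]
        exact hQc
      have h5 := congrArg Subtype.val (CycB.DivFun.primeIdealOf_injective hV h4)
      refine ⟨⟨hU.fromSpec (⟨Q', hQ'⟩ : PrimeSpectrum _), h5⟩, ?_⟩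
      exact congrArg PrimeSpectrum.asIdeal h2)
    B L (fun x => i.stalkMap_surjective x.1) (fun x => (i ≫ f).residueDegree x.1)
    (fun x => length_residueField (i ≫ f) x.1 ζ x.2 (hres x.1 x.2)) k F
    (by
      intro x
      obtain ⟨x, rfl⟩ := Y.residue_surjective _ x
      let _ := (Y.presheaf.stalkSpecializes h).hom.toAlgebra
      have h1 := isLocalization_stalkSpecializes h
      obtain ⟨⟨a, s⟩, has⟩ := IsLocalization.surj
        (RingHom.ker (Cyc.specMap ζ ((i ≫ f) η) h)).primeCompl x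
      refine ⟨a, s.1, fun h0 => s.2 h0, ?_⟩
      have h2 := congrArg (Y.residue ((i ≫ f) η)).hom has
      rw [map_mul] at h2
      exact h2)
    (A ⧸ J) b hb p
    (by
      intro a
      rw [hp, RingHom.mem_ker, IsScalarTower.algebraMap_apply A k F]
      exact map_eq_zero_iff _ (algebraMap k F).injective)
    (by rw [hp]; exact hm)
    (by
      intro q hq hqp
      have h1 := primeOf_ptOf q
      have h2 := hv (ptOf q) (ptOf_specializes q)
        ((primeOf_le_iff h (ptOf_specializes q)).1 (by rw [h1]; exact hq)) (by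
          intro h3
          apply hqp
          rw [← h1]
          exact (primeOf_inj (ptOf_specializes q) h).2 h3)
      rw [← primeOf_asIdeal, h1] at h2
      exact h2)
  rw [hp] at key
  refine (show _ = _ from key).trans (Finset.sum_congr rfl fun x _ => ?_)
  congr 1
  let e1 : (B x ⧸ RingHom.ker (algebraMap (B x) (L x))) ≃ₗ[B x] L x :=
    (Algebra.linearMap (B x) (L x)).quotKerEquivOfSurjective (i.stalkMap_surjective x.1)
  let e2 : (B x ⧸ J.map (algebraMap A (B x))) ≃ₗ[B x] B x ⊗[A] (A ⧸ J) :=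
    (Algebra.TensorProduct.quotIdealMapEquivTensorQuot (B x) J).toLinearEquiv
  exact (IntCore.chi_congr_left e1.symm _).trans (IntCore.chi_congr_right _ e2.symm)

end Groth.Agent.CycA.PFScheme
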