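import Mathlib.RingTheory.Localization.BaseChange
import Mathlib.RingTheory.Localization.LocalizationLocalization
import Mathlib.RingTheory.Localization.AtPrime.Basic
import Mathlib.RingTheory.TensorProduct.Finite
import Mathlib.RingTheory.Ideal.GoingUp
import Mathlib.RingTheory.Localization.FractionRing
import Mathlib.RingTheory.Length
import Mathlib.RingTheory.LocalRing.ResidueField.Basic
import Mathlib.RingTheory.SimpleModule.Basic

/-!
# The semilocal ring `A ⊗_{A₀} B₀` for `B₀` finite over `A₀` and `A = (A₀)_P`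
-/

set_option autoImplicit false

universe u v

open TensorProduct

namespace Groth.Agent.CycA.PFSemi

attribute [local instance] Algebra.TensorProduct.rightAlgebra

variable {A0 B0 A : Type u} [CommRing A0] [CommRing B0] [CommRing A] [Algebra A0 B0] [Algebra A0 A]

/-- The map from `A ⊗ B₀` to a common algebra. -/
noncomputable def toL (L : Type v) [CommRing L] [Algebra A0 L] [Algebra A L] [Algebra B0 L]
    [IsScalarTower A0 A L] [IsScalarTower A0 B0 L] : A ⊗[A0] B0 →ₐ[A] L :=
  Algebra.TensorProduct.lift (Algebra.ofId A L) (IsScalarTower.toAlgHom A0 B0 L)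
    (fun _ _ => Commute.all _ _)

theorem toL_tmul (L : Type v) [CommRing L] [Algebra A0 L] [Algebra A L] [Algebra B0 L]
    [IsScalarTower A0 A L] [IsScalarTower A0 B0 L] (a : A) (b : B0) :
    toL (A0 := A0) L (a ⊗ₜ[A0] b) = algebraMap A L a * algebraMap B0 L b := by
  simp [toL, Algebra.ofId_apply]

theorem toL_algebraMap (L : Type v) [CommRing L] [Algebra A0 L] [Algebra A L] [Algebra B0 L]
    [IsScalarTower A0 A L] [IsScalarTower A0 B0 L] (b : B0) :
    toL (A0 := A0) L (algebraMap B0 (A ⊗[A0] B0) b) = algebraMap B0 L b := by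
  change toL (A0 := A0) L ((1 : A) ⊗ₜ[A0] b) = _
  rw [toL_tmul, map_one, one_mul]

variable (P : Ideal A0) [P.IsPrime] [IsLocalization.AtPrime A P] [IsLocalRing A]

section One

variable (L : Type v) [CommRing L] [IsLocalRing L] [Algebra A0 L] [Algebra A L] [Algebra B0 L]
    [IsScalarTower A0 A L] [IsScalarTower A0 B0 L]

/-- The prime of `A ⊗ B₀` attached to `L`. -/
noncomputable def nn : Ideal (A ⊗[A0] B0) :=
  (IsLocalRing.maximalIdeal L).comap (toL (A0 := A0) (A := A) (B0 := B0) L).toRingHom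

instance : (nn (A0 := A0) (B0 := B0) (A := A) L).IsPrime := Ideal.comap_isPrime _ _

omit [IsLocalRing A] in
theorem mem_nn_iff (x : A ⊗[A0] B0) :
    x ∈ nn (A0 := A0) (B0 := B0) (A := A) L ↔ ¬ IsUnit (toL (A0 := A0) L x) := by
  rw [nn, Ideal.mem_comap, IsLocalRing.mem_maximalIdeal, mem_nonunits_iff]
  rfl

theorem comap_nn (Q : Ideal B0) [Q.IsPrime] [IsLocalization.AtPrime L Q] :
    (nn (A0 := A0) (B0 := B0) (A := A) L).comap (algebraMap B0 (A ⊗[A0] B0)) = Q := by
  ext b
  rw [Ideal.mem_comap, mem_nn_iff, toL_algebraMap]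
  rw [IsLocalization.AtPrime.isUnit_to_map_iff L Q]
  exact not_not

include P in
theorem isLocalization_nn (Q : Ideal B0) [Q.IsPrime] (hQ : Q.comap (algebraMap A0 B0) = P)
    [IsLocalization.AtPrime L Q] :
    letI := (toL (A0 := A0) (A := A) (B0 := B0) L).toRingHom.toAlgebra
    IsLocalization.AtPrime L (nn (A0 := A0) (B0 := B0) (A := A) L) := by
  let _ := (toL (A0 := A0) (A := A) (B0 := B0) L).toRingHom.toAlgebra
  have htow : IsScalarTower B0 (A ⊗[A0] B0) L := IsScalarTower.of_algebraMap_eq fun b =>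
    (toL_algebraMap L b).symm
  have h1 : Algebra.algebraMapSubmonoid B0 P.primeCompl ≤ Q.primeCompl := by
    rintro _ ⟨a, ha, rfl⟩ hb
    exact ha (by rw [← hQ]; exact hb)
  have h2 := IsLocalization.isLocalization_of_submonoid_le (A ⊗[A0] B0) L
    (Algebra.algebraMapSubmonoid B0 P.primeCompl) Q.primeCompl h1
  refine IsLocalization.of_le (M := Q.primeCompl.map (algebraMap B0 (A ⊗[A0] B0))) _ ?_ ?_
  · rintro _ ⟨b, hb, rfl⟩ hn
    have := comap_nn (A0 := A0) (A := A) L Q
    exact hb (by rw [← this]; exact hn)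
  · intro r hr
    by_contra hcon
    exact hr ((mem_nn_iff L r).2 hcon)

theorem comap_algebraMap_nn [IsLocalHom (algebraMap A L)] :
    (nn (A0 := A0) (B0 := B0) (A := A) L).comap (algebraMap A (A ⊗[A0] B0)) =
      IsLocalRing.maximalIdeal A := by
  ext a
  rw [Ideal.mem_comap, mem_nn_iff, AlgHom.commutes, isUnit_map_iff, IsLocalRing.mem_maximalIdeal]
  rfl

theorem isMaximal_nn [Module.Finite A0 B0] [IsLocalHom (algebraMap A L)] :
    (nn (A0 := A0) (B0 := B0) (A := A) L).IsMaximal := by
  have : Algebra.IsIntegral A (A ⊗[A0] B0) := inferInstance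
  refine Ideal.isMaximal_of_isIntegral_of_isMaximal_comap (R := A) _ ?_
  rw [comap_algebraMap_nn]
  infer_instance

end One

include P in
/-- Ideals of `A ⊗ B₀` are determined by their contraction to `B₀`. -/
theorem eq_of_comap_eq (M M' : Ideal (A ⊗[A0] B0))
    (h : M.comap (algebraMap B0 (A ⊗[A0] B0)) = M'.comap (algebraMap B0 (A ⊗[A0] B0))) :
    M = M' := by
  have h' : M.under B0 = M'.under B0 := h
  rw [← IsLocalization.map_under (Algebra.algebraMapSubmonoid B0 P.primeCompl) (A ⊗[A0] B0) M, h',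
    IsLocalization.map_under (Algebra.algebraMapSubmonoid B0 P.primeCompl) (A ⊗[A0] B0) M']

include P in
theorem comap_comap_of_isMaximal [Module.Finite A0 B0] (M : Ideal (A ⊗[A0] B0)) (hM : M.IsMaximal) :
    (M.comap (algebraMap B0 (A ⊗[A0] B0))).comap (algebraMap A0 B0) = P := by
  have : Algebra.IsIntegral A (A ⊗[A0] B0) := inferInstance
  have h1 : (M.comap (algebraMap A (A ⊗[A0] B0))).IsMaximal :=
    Ideal.isMaximal_comap_of_isIntegral_of_isMaximal M
  have h2 := IsLocalRing.eq_maximalIdeal h1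
  have h3 : (IsLocalRing.maximalIdeal A).comap (algebraMap A0 A) = P :=
    IsLocalization.AtPrime.under_maximalIdeal A P
  rw [← h3, ← h2, Ideal.comap_comap, Ideal.comap_comap]
  congr 1
  ext a
  exact (Algebra.TensorProduct.tmul_one_eq_one_tmul a).symm

end Groth.Agent.CycA.PFSemi
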