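import Groth.Agent.CycA.TorRestr
import Groth.Agent.CycA.ChiRec
import Groth.Agent.CycA.Devissage
import Groth.Agent.CycB.SemiLocalLen
import Mathlib.RingTheory.Flat.Equalizer
import Mathlib.RingTheory.Localization.BaseChange
import Mathlib.Data.ENat.BigOperators

/-!
# Tor of a finite algebra, semilocally

`A → D` a ring map, `A → B_i` flat, `D → L_i` flat with `A → D → L_i` equal to `A → B_i → L_i`.
For an `A`-module `N` there is a `D`-module `T` which is `Tor^A_n(D, N)` over `A` and such that
`L_i ⊗_D T` is `Tor^{B_i}_n(L_i, B_i ⊗_A N)`. Consequence: `chi_semilocal`. `ll_domain`: length of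
`D_P` for a finite domain `D` over `A` with `P = ker (A → D)`.
-/

set_option autoImplicit false

universe u v w

open TensorProduct

namespace Groth.Agent.CycA.PFTor

open Groth.Agent.CycA.TorBasic Groth.Agent.CycA.TorShift Groth.Agent.CycA.TorFin
  Groth.Agent.CycA.TorRestr

/-- Kernels of conjugate maps. -/
noncomputable def kerCongr {R : Type u} [CommRing R] {X Y X' Y' : Type v} [AddCommGroup X]
    [Module R X] [AddCommGroup Y] [Module R Y] [AddCommGroup X'] [Module R X'] [AddCommGroup Y']
    [Module R Y'] (e : X ≃ₗ[R] X') (e' : Y ≃ₗ[R] Y') (u : X →ₗ[R] Y) (u' : X' →ₗ[R] Y')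
    (h : ∀ x, e' (u x) = u' (e x)) : LinearMap.ker u ≃ₗ[R] LinearMap.ker u' :=
  e.ofSubmodules _ _ (by
    ext y
    rw [LinearMap.mem_ker, Submodule.mem_map]
    constructor
    · rintro ⟨x, hx, rfl⟩
      show u' (e x) = 0
      rw [← h, LinearMap.mem_ker.1 hx, map_zero]
    · intro hy
      refine ⟨e.symm y, ?_, e.apply_symm_apply y⟩
      rw [LinearMap.mem_ker]
      apply e'.injective
      rw [h, e.apply_symm_apply, hy, map_zero])

lemma cancel_natural (A D L : Type u) [CommRing A] [CommRing D] [CommRing L] [Algebra A D]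
    [Algebra A L] [Algebra D L] [IsScalarTower A D L] {K P : Type u} [AddCommGroup K] [Module A K]
    [AddCommGroup P] [Module A P] (f : K →ₗ[A] P) (x : L ⊗[D] (D ⊗[A] K)) :
    AlgebraTensorModule.cancelBaseChange A D L L P
        (AlgebraTensorModule.lTensor L L (f.baseChange D) x) =
      AlgebraTensorModule.lTensor L L f (AlgebraTensorModule.cancelBaseChange A D L L K x) := by
  have : (AlgebraTensorModule.cancelBaseChange A D L L P).toLinearMap ∘ₗ
      (AlgebraTensorModule.lTensor L L (f.baseChange D)) =
      (AlgebraTensorModule.lTensor L L f) ∘ₗ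
        (AlgebraTensorModule.cancelBaseChange A D L L K).toLinearMap := by
    ext l
    simp
  exact LinearMap.congr_fun this x

/-- `L ⊗_D ker (D ⊗ f) = ker (L ⊗ f)`. -/
noncomputable def kerEquiv (A D L : Type u) [CommRing A] [CommRing D] [CommRing L] [Algebra A D]
    [Algebra A L] [Algebra D L] [IsScalarTower A D L] {K P : Type u} [AddCommGroup K] [Module A K]
    [AddCommGroup P] [Module A P] (f : K →ₗ[A] P) :
    LinearMap.ker (AlgebraTensorModule.lTensor L L (f.baseChange D)) ≃ₗ[L]
      LinearMap.ker (AlgebraTensorModule.lTensor L L f) :=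
  kerCongr (AlgebraTensorModule.cancelBaseChange A D L L K)
    (AlgebraTensorModule.cancelBaseChange A D L L P) _ _ (cancel_natural A D L f)

variable {A D : Type u} [CommRing A] [CommRing D] [Algebra A D] {ι : Type*}
  (B L : ι → Type u) [∀ i, CommRing (B i)] [∀ i, Algebra A (B i)] [∀ i, Module.Flat A (B i)]
  [∀ i, CommRing (L i)] [∀ i, Algebra A (L i)] [∀ i, Algebra (B i) (L i)]
  [∀ i, IsScalarTower A (B i) (L i)] [∀ i, Algebra D (L i)] [∀ i, IsScalarTower A D (L i)]
  [∀ i, Module.Flat D (L i)]

/-- A `D`-module `T` which is `Tor^A_n(D, N)` over `A` and such that `L_i ⊗_D T` is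
`Tor^{B_i}_n(L_i, B_i ⊗_A N)` for all `i`. -/
theorem exists_tor_model (n : ℕ) : ∀ (N : Type u) [AddCommGroup N] [Module A N],
    ∃ (T : Type u) (_ : AddCommGroup T) (_ : Module D T), Semi A D T (DRing.Tor A n D N) ∧
      ∀ i, Semi (B i) (L i) (L i ⊗[D] T) (DRing.Tor (B i) n (L i) (B i ⊗[A] N)) := by
  induction n with
  | zero =>
    intro N _ _
    refine ⟨D ⊗[A] N, inferInstance, inferInstance, ?_, fun i => ?_⟩
    · have h : Semi A D (D ⊗[A] N) (D ⊗[A] N) := ⟨AddEquiv.refl _, fun a x => by
        show algebraMap A D a • x = a • x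
        rw [algebraMap_smul]⟩
      exact h.congr (LinearEquiv.refl _ _) (zeroEquiv A D N).symm
    · have h : Semi (B i) (L i) (L i ⊗[B i] (B i ⊗[A] N)) (L i ⊗[B i] (B i ⊗[A] N)) :=
        ⟨AddEquiv.refl _, fun a x => by
          show algebraMap (B i) (L i) a • x = a • x
          rw [algebraMap_smul]⟩
      exact h.congr ((AlgebraTensorModule.cancelBaseChange A D (L i) (L i) N).trans
        (AlgebraTensorModule.cancelBaseChange A (B i) (L i) (L i) N).symm)
        (zeroEquiv (B i) (L i) (B i ⊗[A] N)).symm
  | succ n ih =>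
    intro N _ _
    obtain ⟨K, P, _, _, _, _, f, g, _, hf, h, hg⟩ := exists_free_cover (A := A) N
    cases n with
    | zero =>
      obtain ⟨e1⟩ := shiftR_one f g hf h hg D
      refine ⟨LinearMap.ker (f.baseChange D), inferInstance, inferInstance, ?_, fun i => ?_⟩
      · have h1 : Semi A D (LinearMap.ker (f.baseChange D))
            (LinearMap.ker (LinearMap.lTensor D f)) :=
          ⟨{ toFun := fun x => ⟨x.1, x.2⟩
             invFun := fun x => ⟨x.1, x.2⟩
             left_inv := fun _ => rfl
             right_inv := fun _ => rfl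
             map_add' := fun _ _ => rfl }, fun a x => by
              ext
              show algebraMap A D a • x.1 = a • x.1
              rw [algebraMap_smul]⟩
        exact h1.congr (LinearEquiv.refl _ _) e1.symm
      · obtain ⟨e2⟩ := shiftR_one (f.baseChange (B i)) (g.baseChange (B i))
          (baseChange_injective (B i) hf) (baseChange_exact (B i) h)
          (baseChange_surjective (B i) hg) (L i)
        have h2 : Semi (B i) (L i)
            (LinearMap.ker (AlgebraTensorModule.lTensor (L i) (L i) (f.baseChange (B i))))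
            (LinearMap.ker (LinearMap.lTensor (L i) (f.baseChange (B i)))) :=
          ⟨{ toFun := fun x => ⟨x.1, x.2⟩
             invFun := fun x => ⟨x.1, x.2⟩
             left_inv := fun _ => rfl
             right_inv := fun _ => rfl
             map_add' := fun _ _ => rfl }, fun a x => by
              ext
              show algebraMap (B i) (L i) a • x.1 = a • x.1
              rw [algebraMap_smul]⟩
        exact h2.congr (((f.baseChange D).tensorKerEquiv (L i) (L i)).trans
          ((kerEquiv A D (L i) f).trans (kerEquiv A (B i) (L i) f).symm)) e2.symm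
    | succ n =>
      obtain ⟨e1⟩ := shiftR f g hf h hg n D
      obtain ⟨T, i1, i2, hT, hT'⟩ := ih K
      refine ⟨T, i1, i2, hT.congr (LinearEquiv.refl _ _) e1.symm, fun i => ?_⟩
      obtain ⟨e2⟩ := shiftR (f.baseChange (B i)) (g.baseChange (B i))
        (baseChange_injective (B i) hf) (baseChange_exact (B i) h)
        (baseChange_surjective (B i) hg) n (L i)
      exact (hT' i).congr (LinearEquiv.refl _ _) e2.symm

/-- The length of a localization in terms of any model of the localized ring. -/
theorem length_loc_eq {R : Type u} [CommRing R] (p : Ideal R) [p.IsPrime] (S : Type u) [CommRing S]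
    [Algebra R S] [IsLocalization.AtPrime S p] (T : Type u) [AddCommGroup T] [Module R T] :
    Module.length (Localization.AtPrime p) (LocalizedModule p.primeCompl T) =
      Module.length S (S ⊗[R] T) := by
  rw [(LocalizedModule.equivTensorProduct p.primeCompl T).length_eq]
  let e₀ : Localization.AtPrime p ≃ₐ[R] S :=
    IsLocalization.algEquiv p.primeCompl (Localization.AtPrime p) S
  let _ : Algebra (Localization.AtPrime p) S := e₀.toRingHom.toAlgebra
  have h : Semi (Localization.AtPrime p) S (S ⊗[R] T) (Localization.AtPrime p ⊗[R] T) := by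
    let e : Localization.AtPrime p ⊗[R] T ≃ₗ[R] S ⊗[R] T :=
      TensorProduct.congr e₀.toLinearEquiv (LinearEquiv.refl R T)
    have he : ∀ (a : Localization.AtPrime p) (x : Localization.AtPrime p ⊗[R] T),
        e (a • x) = e₀ a • e x := by
      intro a x
      induction x with
      | zero => simp
      | add x y hx hy => rw [smul_add, map_add, hx, hy, map_add, smul_add]
      | tmul b t =>
        show e ((a • b) ⊗ₜ t) = e₀ a • e (b ⊗ₜ t)
        simp only [e, TensorProduct.congr_tmul, TensorProduct.smul_tmul', smul_eq_mul]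
        congr 1
        exact map_mul e₀ a b
    refine ⟨e.symm.toAddEquiv, fun a x => ?_⟩
    show e.symm (e₀ a • x) = a • e.symm x
    apply e.injective
    rw [he, e.apply_symm_apply, e.apply_symm_apply]
  refine (h.length_eq fun b => ⟨e₀.symm b, fun x => ?_⟩).symm
  show b • x = e₀ (e₀.symm b) • x
  rw [e₀.apply_symm_apply]

/-- Length of `Tor^A_n(D, N)` in terms of the local contributions. -/
theorem length_tor_semilocal [IsNoetherianRing A] [Module.Finite A D] [Fintype ι]
    (𝔫 : ι → Ideal D) [h𝔫 : ∀ i, (𝔫 i).IsPrime] (hmax : ∀ i, (𝔫 i).IsMaximal)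
    (hinj : Function.Injective 𝔫) (hsurj : ∀ M : Ideal D, M.IsMaximal → ∃ i, 𝔫 i = M)
    [∀ i, IsLocalization.AtPrime (L i) (𝔫 i)]
    (hBL : ∀ i, Function.Surjective (algebraMap (B i) (L i)))
    (n : ℕ) (N : Type u) [AddCommGroup N] [Module A N]
    (hfin : Module.length A (DRing.Tor A n D N) ≠ ⊤) :
    Module.length A (DRing.Tor A n D N) = ∑ i, Module.length A (D ⧸ 𝔫 i) *
      Module.length (B i) (DRing.Tor (B i) n (L i) (B i ⊗[A] N)) := by
  classical
  obtain ⟨T, _, _, hT, hT'⟩ := exists_tor_model (A := A) (D := D) B L n N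
  let _ : Module A T := Module.compHom T (algebraMap A D)
  have hst : IsScalarTower A D T := ⟨fun a d t => by
    show (a • d) • t = algebraMap A D a • (d • t)
    rw [Algebra.smul_def, mul_smul]⟩
  obtain ⟨e, he⟩ := hT
  let e' : T ≃ₗ[A] DRing.Tor A n D N :=
    { e with map_smul' := fun a x => he a x }
  have hlen : Module.length A T = Module.length A (DRing.Tor A n D N) := e'.length_eq
  have hA : IsFiniteLength A T := by
    rw [← Module.length_ne_top_iff, hlen]
    exact hfin
  rw [isFiniteLength_iff_isNoetherian_isArtinian] at hA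
  have hD : IsFiniteLength D T := by
    rw [isFiniteLength_iff_isNoetherian_isArtinian]
    exact ⟨isNoetherian_of_tower A hA.1, isArtinian_of_tower A hA.2⟩
  let φ : ι ≃ MaximalSpectrum D := Equiv.ofBijective (fun i => ⟨𝔫 i, hmax i⟩)
    ⟨fun i j hij => hinj (congrArg MaximalSpectrum.asIdeal hij), fun M => by
      obtain ⟨i, hi⟩ := hsurj M.asIdeal M.isMaximal
      exact ⟨i, MaximalSpectrum.ext hi⟩⟩
  let _ : Fintype (MaximalSpectrum D) := Fintype.ofEquiv ι φ
  rw [← hlen, Groth.Agent.CycB.SemiLocalLen.length_eq_sum A D hD]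
  rw [← Equiv.sum_comp φ]
  refine Finset.sum_congr rfl fun i _ => ?_
  congr 1
  show Module.length (Localization.AtPrime (𝔫 i)) (LocalizedModule (𝔫 i).primeCompl T) = _
  rw [length_loc_eq (𝔫 i) (L i) T]
  refine (hT' i).length_eq fun c => ?_
  obtain ⟨b, rfl⟩ := hBL i c
  exact ⟨b, fun x => rfl⟩

open Groth.Agent.CycA.ChiRec in
/-- `χ^A(D, N)` for a finite algebra `D` over `A` as a sum over the maximal ideals of `D`. -/
theorem chi_semilocal [IsNoetherianRing A] [Module.Finite A D] [Fintype ι]
    (𝔫 : ι → Ideal D) [h𝔫 : ∀ i, (𝔫 i).IsPrime] (hmax : ∀ i, (𝔫 i).IsMaximal)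
    (hinj : Function.Injective 𝔫) (hsurj : ∀ M : Ideal D, M.IsMaximal → ∃ i, 𝔫 i = M)
    [∀ i, IsLocalization.AtPrime (L i) (𝔫 i)]
    (hBL : ∀ i, Function.Surjective (algebraMap (B i) (L i)))
    (d : ι → ℕ) (hd : ∀ i, Module.length A (D ⧸ 𝔫 i) = d i)
    (N : Type u) [AddCommGroup N] [Module A N] [Module.Finite A N] (hm : Meets A D N) (b : ℕ)
    (hb : TorBd A D N b) :
    IntMult.chi A D N = ∑ i, (d i : ℤ) * IntMult.chi (B i) (L i) (B i ⊗[A] N) := by
  classical
  have hfin : ∀ n, Module.length A (DRing.Tor A n D N) ≠ ⊤ := fun n => length_tor_ne_top hm n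
  have hlen : ∀ n, Module.length A (DRing.Tor A n D N) = ∑ i, (d i : ℕ∞) *
      Module.length (B i) (DRing.Tor (B i) n (L i) (B i ⊗[A] N)) := by
    intro n
    rw [length_tor_semilocal B L 𝔫 hmax hinj hsurj hBL n N (hfin n)]
    exact Finset.sum_congr rfl fun i _ => by rw [hd i]
  have hdpos : ∀ i, d i ≠ 0 := by
    intro i hi
    have h1 := hd i
    have : Nontrivial (D ⧸ 𝔫 i) := Ideal.Quotient.nontrivial_iff.2 (h𝔫 i).ne_top
    rw [hi, Nat.cast_zero, Module.length_eq_zero_iff] at h1
    exact not_subsingleton _ h1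
  have hlen0 : ∀ n, b < n → ∀ i,
      (Module.length (B i) (DRing.Tor (B i) n (L i) (B i ⊗[A] N))).toNat = 0 := by
    intro n hn i
    have h1 := hlen n
    have : Subsingleton (DRing.Tor A n D N) := hb n hn
    rw [Module.length_eq_zero] at h1
    have h2 := (Finset.sum_eq_zero_iff.1 h1.symm) i (Finset.mem_univ i)
    rcases mul_eq_zero.1 h2 with h3 | h3
    · exact absurd (by exact_mod_cast h3) (hdpos i)
    · rw [h3]; rfl
  unfold IntMult.chi
  have hterm : ∀ n : ℕ, (-1 : ℤ) ^ n * ((Module.length A (DRing.Tor A n D N)).toNat : ℤ) =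
      ∑ i, (-1 : ℤ) ^ n * ((d i : ℤ) *
        ((Module.length (B i) (DRing.Tor (B i) n (L i) (B i ⊗[A] N))).toNat : ℤ)) := by
    intro n
    have h1 := hfin n
    rw [hlen n] at h1 ⊢
    rw [ENat.toNat_sum (fun i hi => (ENat.sum_ne_top.1 h1) i hi), Nat.cast_sum, Finset.mul_sum]
    refine Finset.sum_congr rfl fun i _ => ?_
    rw [ENat.toNat_mul, Nat.cast_mul, ENat.toNat_natCast]
  rw [finsum_congr hterm, finsum_sum_comm]
  · refine Finset.sum_congr rfl fun i _ => ?_
    rw [mul_finsum]
    exact finsum_congr fun n => by ring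
  · intro i _
    refine (Set.finite_le_nat b).subset fun n hn => ?_
    by_contra hcon
    have hcon' : b < n := not_le.1 hcon
    apply hn
    show (-1 : ℤ) ^ n * ((d i : ℤ) *
      ((Module.length (B i) (DRing.Tor (B i) n (L i) (B i ⊗[A] N))).toNat : ℤ)) = 0
    rw [hlen0 n hcon' i]
    simp

/-- A domain `D` finite over `A` with `P = ker (A → D)`: the length of `D_P` over `A_P` is the
degree of the fraction field of `D` over the fraction field of `A / P`. -/
theorem ll_domain {A D : Type u} [CommRing A] [CommRing D] [IsDomain D] [Algebra A D]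
    [Module.Finite A D] (P : PrimeSpectrum A) (hP : ∀ a : A, algebraMap A D a = 0 ↔ a ∈ P.asIdeal)
    (k F : Type u) [Field k] [Field F] [Algebra A k] [Algebra A F] [Algebra k F]
    [IsScalarTower A k F] [Algebra D F] [IsScalarTower A D F] [IsFractionRing D F]
    (hk : ∀ x : k, ∃ a b : A, algebraMap A k b ≠ 0 ∧ x * algebraMap A k b = algebraMap A k a) :
    Module.Finite k F ∧ Devissage.ll P D = Module.finrank k F := by
  have hDF : Function.Injective (algebraMap D F) := IsFractionRing.injective D F
  have hPF : ∀ a : A, algebraMap A F a = 0 ↔ a ∈ P.asIdeal := by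
    intro a
    rw [← hP, IsScalarTower.algebraMap_apply A D F]
    exact ⟨fun h => hDF (by rw [h, map_zero]), fun h => by rw [h, map_zero]⟩
  have hPk : ∀ a : A, algebraMap A k a = 0 ↔ a ∈ P.asIdeal := by
    intro a
    rw [← hPF, IsScalarTower.algebraMap_apply A k F]
    exact ⟨fun h => by rw [h, map_zero], fun h => (algebraMap k F).injective (by rw [h, map_zero])⟩
  -- every nonzero element of `D` divides the image of an element outside `P`
  have hdvd : ∀ e : D, e ≠ 0 → ∃ (s : A) (e' : D), s ∉ P.asIdeal ∧ e * e' = algebraMap A D s := by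
    intro e he
    have hint : Algebra.IsIntegral (algebraMap A D).range D := by
      have : Algebra.IsIntegral A D := Algebra.IsIntegral.of_finite A D
      refine ⟨fun x => ?_⟩
      obtain ⟨q, hq, hq0⟩ := Algebra.IsIntegral.isIntegral (R := A) x
      refine ⟨q.map (algebraMap A D).rangeRestrict, hq.map _, ?_⟩
      rw [Polynomial.eval₂_map]
      exact hq0
    have halg : IsAlgebraic (algebraMap A D).range e := by
      have : Nontrivial (algebraMap A D).range := inferInstance
      exact (Algebra.IsIntegral.isIntegral e).isAlgebraic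
    obtain ⟨⟨_, s, rfl⟩, hr0, e', he'⟩ := halg.exists_nonzero_dvd (mem_nonZeroDivisors_of_ne_zero he)
    refine ⟨s, e', fun hs => hr0 ?_, he'.symm⟩
    ext
    exact (hP s).2 hs
  have hloc : IsLocalizedModule P.asIdeal.primeCompl (IsScalarTower.toAlgHom A D F).toLinearMap := by
    refine ⟨fun s => ?_, fun y => ?_, fun {x₁ x₂} h => ⟨1, ?_⟩⟩
    · rw [Module.End.isUnit_iff]
      have hs : algebraMap A F s ≠ 0 := fun h => s.2 ((hPF s).1 h)
      constructor
      · intro x y hxy
        have : algebraMap A F s * x = algebraMap A F s * y := by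
          simpa [Algebra.smul_def] using hxy
        exact mul_left_cancel₀ hs this
      · intro y
        refine ⟨(algebraMap A F s)⁻¹ * y, ?_⟩
        show (s : A) • ((algebraMap A F s)⁻¹ * y) = y
        rw [Algebra.smul_def, ← mul_assoc, mul_inv_cancel₀ hs, one_mul]
    · obtain ⟨x, e, he, rfl⟩ := IsFractionRing.div_surjective (A := D) y
      have he0 : e ≠ 0 := nonZeroDivisors.ne_zero he
      obtain ⟨s, e', hs, hee⟩ := hdvd e he0
      refine ⟨(x * e', ⟨s, hs⟩), ?_⟩
      show s • (algebraMap D F x / algebraMap D F e) = algebraMap D F (x * e')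
      rw [Algebra.smul_def, IsScalarTower.algebraMap_apply A D F, ← hee, map_mul, map_mul]
      have : algebraMap D F e ≠ 0 := fun h => he0 (hDF (by rw [h, map_zero]))
      field_simp
    · rw [one_smul, one_smul]
      exact hDF h
  let AP := Localization.AtPrime P.asIdeal
  let lft : AP →+* k := IsLocalization.lift (M := P.asIdeal.primeCompl) (g := algebraMap A k)
    (fun s => IsUnit.mk0 _ fun h => s.2 ((hPk s).1 h))
  let _ : Algebra AP k := lft.toAlgebra
  let _ : Algebra AP F := ((algebraMap k F).comp lft).toAlgebra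
  have hlift : ∀ a : A, lft (algebraMap A AP a) = algebraMap A k a := fun a =>
    IsLocalization.lift_eq _ a
  have t1 : IsScalarTower A AP k := IsScalarTower.of_algebraMap_eq fun a => (hlift a).symm
  have t2 : IsScalarTower AP k F := IsScalarTower.of_algebraMap_eq fun a => rfl
  have t3 : IsScalarTower A AP F := IsScalarTower.of_algebraMap_eq fun a => by
    rw [IsScalarTower.algebraMap_apply A k F, ← hlift]
    rfl
  have hfinAP : Module.Finite AP F :=
    Module.Finite.of_isLocalizedModule P.asIdeal.primeCompl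
      (IsScalarTower.toAlgHom A D F).toLinearMap
  have hfinF : Module.Finite k F := Module.Finite.of_restrictScalars_finite AP k F
  refine ⟨hfinF, ?_⟩
  let e : LocalizedModule P.asIdeal.primeCompl D ≃ₗ[A] F :=
    IsLocalizedModule.iso P.asIdeal.primeCompl (IsScalarTower.toAlgHom A D F).toLinearMap
  have hlen1 : Module.length AP (LocalizedModule P.asIdeal.primeCompl D) = Module.length AP F :=
    (e.extendScalarsOfIsLocalization P.asIdeal.primeCompl AP).length_eq
  have hsemi : Semi AP k F F := ⟨AddEquiv.refl F, fun a x => algebraMap_smul k a x⟩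
  have hlen2 : Module.length k F = Module.length AP F := by
    refine hsemi.length_eq fun c => ?_
    obtain ⟨a, b, hb, hab⟩ := hk c
    have hb' : b ∈ P.asIdeal.primeCompl := fun h => hb ((hPk b).2 h)
    refine ⟨IsLocalization.mk' AP a ⟨b, hb'⟩, fun x => ?_⟩
    congr 1
    show c = lft (IsLocalization.mk' AP a ⟨b, hb'⟩)
    apply mul_right_cancel₀ hb
    rw [hab, ← hlift b, ← hlift a, ← map_mul, IsLocalization.mk'_spec]
  have hlen3 : Module.length AP (LocalizedModule P.asIdeal.primeCompl D) = Module.finrank k F := by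
    rw [hlen1, ← hlen2, Module.length_eq_finrank]
  show ((Module.length AP (LocalizedModule P.asIdeal.primeCompl D)).toNat : ℤ) = _
  rw [hlen3, ENat.toNat_natCast]

end Groth.Agent.CycA.PFTor
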