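import Groth.Agent.CycA.PFSemi
import Groth.Agent.CycA.PFTor
import Groth.Agent.CycA.Devissage
import Groth.Agent.CycA.ChiRec2

/-!
# The semilocal formula for Euler characteristics of Tor (finite part of a proper morphism)
-/

set_option autoImplicit false

universe u v

open TensorProduct

namespace Groth.Agent.CycA.PFSemi

attribute [local instance] Algebra.TensorProduct.rightAlgebra

open Groth.Agent.CycA.ChiRec

variable {A0 B0 A : Type u} [CommRing A0] [CommRing B0] [CommRing A] [Algebra A0 B0] [Algebra A0 A]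
variable (P : Ideal A0) [P.IsPrime] [IsLocalization.AtPrime A P] [IsLocalRing A]

include P in
omit [IsLocalRing A] in
theorem toL_injective (F : Type u) [Field F] [Algebra A0 F] [Algebra A F] [Algebra B0 F]
    [IsScalarTower A0 A F] [IsScalarTower A0 B0 F] (hinj : Function.Injective (algebraMap B0 F)) :
    Function.Injective (toL (A0 := A0) (A := A) (B0 := B0) F) := by
  rw [injective_iff_map_eq_zero]
  intro x hx
  obtain ⟨⟨b, s⟩, hbs⟩ := IsLocalization.surj
    (Algebra.algebraMapSubmonoid B0 P.primeCompl) (S := A ⊗[A0] B0) x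
  have h1 : algebraMap B0 F b = 0 := by
    have := congrArg (toL (A0 := A0) (A := A) (B0 := B0) F) hbs
    rw [map_mul, hx, zero_mul, toL_algebraMap] at this
    exact this.symm
  have h2 : b = 0 := hinj (by rw [h1, map_zero])
  rw [h2, map_zero] at hbs
  exact (IsLocalization.map_units (A ⊗[A0] B0) s).mul_left_eq_zero.1 hbs

include P in
omit [IsLocalRing A] in
theorem isDomain_tensor (F : Type u) [Field F] [Algebra A0 F] [Algebra A F] [Algebra B0 F]
    [IsScalarTower A0 A F] [IsScalarTower A0 B0 F] (hinj : Function.Injective (algebraMap B0 F)) :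
    IsDomain (A ⊗[A0] B0) :=
  (toL_injective P F hinj).isDomain (toL (A0 := A0) (A := A) (B0 := B0) F).toRingHom

include P in
omit [IsLocalRing A] in
theorem isFractionRing_tensor (F : Type u) [Field F] [Algebra A0 F] [Algebra A F] [Algebra B0 F]
    [IsScalarTower A0 A F] [IsScalarTower A0 B0 F] [IsFractionRing B0 F] [IsDomain B0] :
    letI := (toL (A0 := A0) (A := A) (B0 := B0) F).toRingHom.toAlgebra
    IsFractionRing (A ⊗[A0] B0) F := by
  let _ := (toL (A0 := A0) (A := A) (B0 := B0) F).toRingHom.toAlgebra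
  have : FaithfulSMul (A ⊗[A0] B0) F :=
    (faithfulSMul_iff_algebraMap_injective _ _).2 (toL_injective P F (IsFractionRing.injective B0 F))
  refine IsFractionRing.of_field _ _ ?_
  intro z
  obtain ⟨a, b, hb, rfl⟩ := IsFractionRing.div_surjective (A := B0) z
  refine ⟨algebraMap B0 _ a, algebraMap B0 _ b, ?_⟩
  have h1 := toL_algebraMap (A0 := A0) (A := A) F a
  have h2 := toL_algebraMap (A0 := A0) (A := A) F b
  change _ = toL (A0 := A0) (A := A) (B0 := B0) F (algebraMap B0 _ a) /
    toL (A0 := A0) (A := A) (B0 := B0) F (algebraMap B0 _ b)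
  rw [h1, h2]

/-- The length of `D/𝔫` is the length of the residue field of the localization. -/
theorem length_quot_eq {A D L : Type*} [CommRing A] [CommRing D] [Algebra A D] [CommRing L]
    [IsLocalRing L] [Algebra D L] [Algebra A L] [IsScalarTower A D L] (𝔫 : Ideal D)
    [h𝔫 : 𝔫.IsMaximal] [IsLocalization.AtPrime L 𝔫] :
    Module.length A (D ⧸ 𝔫) = Module.length A (IsLocalRing.ResidueField L) := by
  let e : (D ⧸ 𝔫) ≃+* L ⧸ IsLocalRing.maximalIdeal L :=
    IsLocalization.AtPrime.equivQuotMaximalIdeal 𝔫 L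
  let e' : (D ⧸ 𝔫) ≃ₗ[A] IsLocalRing.ResidueField L :=
    { e.toAddEquiv with
      map_smul' := by
        intro a x
        obtain ⟨x, rfl⟩ := Ideal.Quotient.mk_surjective x
        change e (a • Ideal.Quotient.mk 𝔫 x) = a • e (Ideal.Quotient.mk 𝔫 x)
        have h1 : a • Ideal.Quotient.mk 𝔫 x = Ideal.Quotient.mk 𝔫 (algebraMap A D a * x) := by
          rw [← Algebra.smul_def]; rfl
        rw [h1, IsLocalization.AtPrime.equivQuotMaximalIdeal_apply_mk,
          IsLocalization.AtPrime.equivQuotMaximalIdeal_apply_mk, map_mul, map_mul,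
          ← IsScalarTower.algebraMap_apply A D L, Algebra.smul_def]
        rfl }
  exact e'.length_eq

include P in
/-- **The semilocal formula.** -/
theorem semilocal_formula [IsDomain B0] [Module.Finite A0 B0] [IsNoetherianRing A]
    {ι : Type*} [Fintype ι] (Q : ι → Ideal B0) [hQp : ∀ i, (Q i).IsPrime]
    (hQ : ∀ i, (Q i).comap (algebraMap A0 B0) = P) (hinj : Function.Injective Q)
    (hsurj : ∀ Q' : Ideal B0, Q'.IsPrime → Q'.comap (algebraMap A0 B0) = P → ∃ i, Q i = Q')
    (B L : ι → Type u) [∀ i, CommRing (B i)] [∀ i, CommRing (L i)] [∀ i, IsLocalRing (L i)]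
    [∀ i, Algebra A0 (L i)] [∀ i, Algebra A (L i)] [∀ i, Algebra B0 (L i)]
    [∀ i, IsScalarTower A0 A (L i)] [∀ i, IsScalarTower A0 B0 (L i)]
    [∀ i, IsLocalHom (algebraMap A (L i))] [∀ i, IsLocalization.AtPrime (L i) (Q i)]
    [∀ i, Algebra A (B i)] [∀ i, Module.Flat A (B i)] [∀ i, Algebra (B i) (L i)]
    [∀ i, IsScalarTower A (B i) (L i)] (hBL : ∀ i, Function.Surjective (algebraMap (B i) (L i)))
    (d : ι → ℕ) (hd : ∀ i, Module.length A (IsLocalRing.ResidueField (L i)) = d i)
    (k F : Type u) [Field k] [Field F] [Algebra A k] [Algebra A F] [Algebra k F]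
    [IsScalarTower A k F] [Algebra A0 F] [Algebra B0 F] [IsScalarTower A0 A F]
    [IsScalarTower A0 B0 F] [IsFractionRing B0 F]
    (hk : ∀ x : k, ∃ a b : A, algebraMap A k b ≠ 0 ∧ x * algebraMap A k b = algebraMap A k a)
    (N : Type u) [AddCommGroup N] [Module A N] [Module.Finite A N] (b : ℕ)
    (hb : ∀ (M' : Type u) [AddCommGroup M'] [Module A M'] [Module.Finite A M'], TorBd A M' N b)
    (p : PrimeSpectrum A) (hp : ∀ a : A, algebraMap A F a = 0 ↔ a ∈ p.asIdeal)
    (hm : Meets A (A ⧸ p.asIdeal) N)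
    (hv : ∀ q : PrimeSpectrum A, p ≤ q → q ≠ p → IntMult.chi A (A ⧸ q.asIdeal) N = 0) :
    (Module.finrank k F : ℤ) * IntMult.chi A (A ⧸ p.asIdeal) N =
      ∑ i, (d i : ℤ) * IntMult.chi (B i) (L i) (B i ⊗[A] N) := by
  classical
  let D := A ⊗[A0] B0
  let _ : ∀ i, Algebra D (L i) := fun i => (toL (A0 := A0) (A := A) (B0 := B0) (L i)).toRingHom.toAlgebra
  let _ : Algebra D F := (toL (A0 := A0) (A := A) (B0 := B0) F).toRingHom.toAlgebra
  have t1 : ∀ i, IsScalarTower A D (L i) := fun i => IsScalarTower.of_algebraMap_eq fun a =>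
    ((toL (A0 := A0) (A := A) (B0 := B0) (L i)).commutes a).symm
  have t2 : IsScalarTower A D F := IsScalarTower.of_algebraMap_eq fun a =>
    ((toL (A0 := A0) (A := A) (B0 := B0) F).commutes a).symm
  have hdom : IsDomain D := isDomain_tensor P F (IsFractionRing.injective B0 F)
  have hfr : IsFractionRing D F := isFractionRing_tensor P F
  let 𝔫 : ι → Ideal D := fun i => nn (A0 := A0) (B0 := B0) (A := A) (L i)
  have hprime : ∀ i, (𝔫 i).IsPrime := fun i => inferInstanceAs (nn (A0 := A0) (B0 := B0) (A := A) (L i)).IsPrime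
  have hmax : ∀ i, (𝔫 i).IsMaximal := fun i => isMaximal_nn (A0 := A0) (A := A) (L i)
  have hloc : ∀ i, IsLocalization.AtPrime (L i) (𝔫 i) := fun i =>
    isLocalization_nn P (L i) (Q i) (hQ i)
  have hflat : ∀ i, Module.Flat D (L i) := fun i => IsLocalization.flat (L i) (𝔫 i).primeCompl
  have hcomap : ∀ i, (𝔫 i).comap (algebraMap B0 D) = Q i := fun i => comap_nn (L i) (Q i)
  have hni : Function.Injective 𝔫 := by
    intro i j hij
    apply hinj
    rw [← hcomap i, ← hcomap j, hij]
  have hns : ∀ M : Ideal D, M.IsMaximal → ∃ i, 𝔫 i = M := by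
    intro M hM
    obtain ⟨i, hi⟩ := hsurj (M.comap (algebraMap B0 D)) (Ideal.comap_isPrime _ _)
      (comap_comap_of_isMaximal P M hM)
    refine ⟨i, eq_of_comap_eq P _ _ ?_⟩
    rw [← hi]
    exact hcomap i
  have hker : ∀ a : A, algebraMap A D a = 0 ↔ a ∈ p.asIdeal := by
    intro a
    rw [← hp, IsScalarTower.algebraMap_apply A D F]
    have hDF : Function.Injective (algebraMap D F) := IsFractionRing.injective D F
    exact ⟨fun h => by rw [h, map_zero], fun h => hDF (by rw [h, map_zero])⟩
  have hsupp : ∀ q ∈ Module.support A D, p ≤ q := by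
    intro q hq
    rw [Module.support_of_algebra] at hq
    intro a ha
    exact hq (by rw [SetLike.mem_coe, RingHom.mem_ker]; exact (hker a).2 ha)
  have hmD : Meets A D N := fun q hq hq' => hm q
    ((ChiRec2.mem_support_quotient_iff q).2 (hsupp q hq)) hq'
  have key1 := PFTor.chi_semilocal B L 𝔫 hmax hni hns hBL d
    (fun i => (length_quot_eq (A := A) (L := L i) (𝔫 i)).trans (hd i)) N hmD b (hb D)
  have key2 := Devissage.chi_devissage N b hb D hmD {p}
    (by
      intro p' hp' q hq hle
      rw [Finset.mem_singleton] at hp'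
      subst hp'
      exact le_antisymm hle (hsupp q hq))
    (by
      intro q hq hqn
      exact hv q (hsupp q hq) (fun h => hqn (by rw [h]; exact Finset.mem_singleton_self p)))
  rw [Finset.sum_singleton, (PFTor.ll_domain p hker k F hk).2, key1] at key2
  exact key2.symm

end Groth.Agent.CycA.PFSemi
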