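import Mathlib.AlgebraicGeometry.Stalk
import Mathlib.AlgebraicGeometry.Pullbacks
import Mathlib.AlgebraicGeometry.Morphisms.Preimmersion
import Mathlib.RingTheory.TensorProduct.Basic

/-!
# Local rings of fibre products over an affine base

* `toStalk f x : R ⟶ O_{X,x}` for `f : X ⟶ Spec R`.
* `isLocalization_of_isPushout`: for a pullback square over `Spec R` and a point `z` of the fibre
  product over `x`, `y`, the local ring `O_z` is the localization of the pushout
  `O_{X,x} ⊗[R] O_{Y,y}` at a prime ideal.
-/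

set_option autoImplicit false

universe u

open CategoryTheory Limits AlgebraicGeometry TensorProduct

namespace Groth.Agent.CycA.ProdStalk

variable {X Y P : Scheme.{u}} {R : CommRingCat.{u}}

/-- If `ψ : Spec R ⟶ P` is a preimmersion through which `Spec O_{P,z} ⟶ P` factors via `φ`,
then `O_{P,z}` is the localization of `R` at the prime `φ⁻¹(m)`. -/
theorem isLocalization_of_preimmersion (ψ : Spec R ⟶ P) [IsPreimmersion ψ] {z : P}
    (φ : R ⟶ P.presheaf.stalk z) (h : Spec.map φ ≫ ψ = P.fromSpecStalk z) :
    letI := φ.hom.toAlgebra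
    IsLocalization.AtPrime (P.presheaf.stalk z)
      ((IsLocalRing.maximalIdeal (P.presheaf.stalk z)).comap φ.hom) := by
  let := φ.hom.toAlgebra
  let z' : PrimeSpectrum R := PrimeSpectrum.comap φ.hom
    (IsLocalRing.closedPoint (P.presheaf.stalk z))
  have hz : ψ z' = z := by
    have h1 := congr($h (IsLocalRing.closedPoint (P.presheaf.stalk z)))
    rw [Scheme.Hom.comp_apply] at h1
    exact h1.trans Scheme.fromSpecStalk_closedPoint
  -- the map `O_z → O_{Spec R, z'}`
  let s : P.presheaf.stalk z ⟶ (Spec R).presheaf.stalk z' :=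
    P.presheaf.stalkSpecializes (specializes_of_eq hz) ≫ ψ.stalkMap z'
  have hs : Function.Surjective s.hom := by
    have h1 : Function.Surjective (ψ.stalkMap z').hom := ψ.stalkMap_surjective z'
    have h2 : IsIso (P.presheaf.stalkSpecializes (specializes_of_eq hz)) := by
      have : ∀ (w : P) (e : w = z),
          IsIso (P.presheaf.stalkSpecializes (specializes_of_eq e)) := by
        rintro w rfl
        rw [TopCat.Presheaf.stalkSpecializes_refl]
        infer_instance
      exact this _ hz
    have h3 := (ConcreteCategory.isIso_iff_bijective _).mp h2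
    exact h1.comp h3.2
  let t : (Spec R).presheaf.stalk z' ⟶ P.presheaf.stalk z :=
    Scheme.stalkClosedPointTo (Spec.map φ)
  have hst : s ≫ t = 𝟙 _ := by
    apply Spec.map_injective
    rw [← cancel_mono (P.fromSpecStalk z), Spec.map_comp, Category.assoc, Spec.map_id,
      Category.id_comp]
    have h4 : Spec.map s ≫ P.fromSpecStalk z = (Spec R).fromSpecStalk z' ≫ ψ := by
      simp only [s]
      rw [Spec.map_comp, Category.assoc, Scheme.SpecMap_stalkSpecializes_fromSpecStalk,
        Scheme.SpecMap_stalkMap_fromSpecStalk]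
    have h5 : Spec.map t ≫ (Spec R).fromSpecStalk z' = Spec.map φ :=
      Scheme.Spec_stalkClosedPointTo_fromSpecStalk (Spec.map φ)
    rw [h4, ← Category.assoc, h5, h]
  have h2 : Function.LeftInverse t.hom s.hom := fun a => congr(($hst).hom a)
  have h3 : Function.LeftInverse s.hom t.hom := by
    intro a
    obtain ⟨b, rfl⟩ := hs a
    rw [h2]
  let e' : CommRingCat.of (Localization.AtPrime z'.asIdeal) ⟶ P.presheaf.stalk z :=
    (Spec.stalkIso R z').inv ≫ t
  have hcomm : CommRingCat.ofHom (algebraMap R (Localization.AtPrime z'.asIdeal)) ≫ e' = φ := by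
    simp only [e']
    rw [Spec.algebraMap_stalkIso_inv_assoc]
    have h1 := Scheme.germ_stalkClosedPointTo_Spec φ
    rw [Iso.inv_comp_eq]
    exact h1
  have hbij : Function.Bijective e'.hom := by
    have h5 : Function.Bijective (Spec.stalkIso R z').inv.hom :=
      (ConcreteCategory.isIso_iff_bijective _).mp inferInstance
    have h6 : Function.Bijective t.hom := ⟨h3.injective, h2.surjective⟩
    exact h6.comp h5
  let e : Localization.AtPrime z'.asIdeal ≃ₐ[R] P.presheaf.stalk z :=
    AlgEquiv.ofBijective ⟨e'.hom, fun a => congr(($hcomm).hom a)⟩ hbij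
  exact IsLocalization.isLocalization_of_algEquiv z'.asIdeal.primeCompl e

/-- The ring map `R ⟶ O_{X,x}` for `f : X ⟶ Spec R`. -/
noncomputable def toStalk (f : X ⟶ Spec R) (x : X) : R ⟶ X.presheaf.stalk x :=
  Spec.preimage (X.fromSpecStalk x ≫ f)

@[reassoc]
theorem SpecMap_toStalk (f : X ⟶ Spec R) (x : X) :
    Spec.map (toStalk f x) = X.fromSpecStalk x ≫ f := Spec.map_preimage _

theorem toStalk_stalkMap (g : Y ⟶ X) (f : X ⟶ Spec R) (y : Y) :
    toStalk f (g y) ≫ g.stalkMap y = toStalk (g ≫ f) y := by
  apply Spec.map_injective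
  rw [Spec.map_comp, SpecMap_toStalk, SpecMap_toStalk, ← Category.assoc,
    Scheme.SpecMap_stalkMap_fromSpecStalk, Category.assoc]

theorem toStalk_stalkSpecializes (f : X ⟶ Spec R) {x ξ : X} (h : ξ ⤳ x) :
    toStalk f x ≫ X.presheaf.stalkSpecializes h = toStalk f ξ := by
  apply Spec.map_injective
  rw [Spec.map_comp, SpecMap_toStalk, SpecMap_toStalk, ← Category.assoc,
    Scheme.SpecMap_stalkSpecializes_fromSpecStalk]

theorem toStalk_congr {f f' : X ⟶ Spec R} (h : f = f') (x : X) : toStalk f x = toStalk f' x := by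
  rw [h]

section Pb

variable {f : X ⟶ Spec R} {g : Y ⟶ Spec R} {p : P ⟶ X} {q : P ⟶ Y}

theorem toStalk_fst_eq_snd (w : p ≫ f = q ≫ g) (z : P) :
    toStalk f (p z) ≫ p.stalkMap z = toStalk g (q z) ≫ q.stalkMap z := by
  rw [toStalk_stalkMap, toStalk_stalkMap, toStalk_congr w]

/-- For a fibre product `P` of `X` and `Y` over `Spec R` and `z : P`, the local ring `O_{P,z}` is
the localization at a prime of the pushout of `O_{X,x}` and `O_{Y,y}` over `R`. -/
theorem isLocalization_of_isPushout (H : IsPullback p q f g) (z : P) {T : CommRingCat.{u}}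
    {iA : X.presheaf.stalk (p z) ⟶ T} {iB : Y.presheaf.stalk (q z) ⟶ T}
    (hT : IsPushout (toStalk f (p z)) (toStalk g (q z)) iA iB)
    (φ : T ⟶ P.presheaf.stalk z) (hA : iA ≫ φ = p.stalkMap z) (hB : iB ≫ φ = q.stalkMap z) :
    letI := φ.hom.toAlgebra
    IsLocalization.AtPrime (P.presheaf.stalk z)
      ((IsLocalRing.maximalIdeal (P.presheaf.stalk z)).comap φ.hom) := by
  have sq : IsPullback (Spec.map iA) (Spec.map iB) (Spec.map (toStalk f (p z)))
      (Spec.map (toStalk g (q z))) := isPullback_SpecMap_of_isPushout _ _ _ _ hT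
  let ψ : Spec T ⟶ P := H.lift (Spec.map iA ≫ X.fromSpecStalk (p z))
    (Spec.map iB ≫ Y.fromSpecStalk (q z)) (by
      rw [Category.assoc, Category.assoc, ← SpecMap_toStalk, ← SpecMap_toStalk]
      exact sq.w)
  have hψ : IsPreimmersion ψ := by
    have sq' : IsPullback (Spec.map iA) (Spec.map iB) (X.fromSpecStalk (p z) ≫ f)
        (Y.fromSpecStalk (q z) ≫ g) := by
      rw [← SpecMap_toStalk, ← SpecMap_toStalk]
      exact sq
    have hfac : ψ = sq'.isoPullback.hom ≫ pullback.map (X.fromSpecStalk (p z) ≫ f)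
        (Y.fromSpecStalk (q z) ≫ g) f g (X.fromSpecStalk (p z)) (Y.fromSpecStalk (q z)) (𝟙 _)
        (Category.comp_id _) (Category.comp_id _) ≫ H.isoPullback.inv := by
      apply H.hom_ext
      · simp only [ψ, IsPullback.lift_fst, Category.assoc, IsPullback.isoPullback_inv_fst]
        rw [pullback.lift_fst, IsPullback.isoPullback_hom_fst_assoc]
      · simp only [ψ, IsPullback.lift_snd, Category.assoc, IsPullback.isoPullback_inv_snd]
        rw [pullback.lift_snd, IsPullback.isoPullback_hom_snd_assoc]
    rw [hfac]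
    have : IsPreimmersion (pullback.map (X.fromSpecStalk (p z) ≫ f) (Y.fromSpecStalk (q z) ≫ g) f g
        (X.fromSpecStalk (p z)) (Y.fromSpecStalk (q z)) (𝟙 _) (Category.comp_id _)
        (Category.comp_id _)) := by
      apply MorphismProperty.pullbackMap (P := @IsPreimmersion)
      all_goals first | infer_instance | rfl
    infer_instance
  have hfac : Spec.map φ ≫ ψ = P.fromSpecStalk z := by
    apply H.hom_ext
    · simp only [ψ, Category.assoc, IsPullback.lift_fst]
      rw [← Category.assoc, ← Spec.map_comp, hA, Scheme.SpecMap_stalkMap_fromSpecStalk]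
    · simp only [ψ, Category.assoc, IsPullback.lift_snd]
      rw [← Category.assoc, ← Spec.map_comp, hB, Scheme.SpecMap_stalkMap_fromSpecStalk]
  exact isLocalization_of_preimmersion ψ φ hfac

end Pb

end Groth.Agent.CycA.ProdStalk
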