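import Groth.Agent.CycA.KoszulChi
import Groth.Agent.CycA.ChiRec2
import Mathlib.RingTheory.KrullDimension.Regular

/-!
# The Samuel limit and positivity for an ideal generated by a regular sequence
-/

set_option autoImplicit false

universe u

namespace Groth.Agent.CycA.SamuelPos

open Groth.Agent.CycA IsLocalRing RingTheory.Sequence ChiRec ChiRec2

variable {B : Type u} [CommRing B]

theorem regChain_of_isWeaklyRegular [IsLocalRing B] (l : List B) :
    IsWeaklyRegular B l → (∀ x ∈ l, x ∈ maximalIdeal B) →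
      RegChain B l.length (Ideal.ofList l) := by
  induction l using List.reverseRecOn with
  | nil =>
    intro _ _
    rw [Ideal.ofList_nil]
    exact RegChain.zero
  | append_singleton l x ih =>
    intro hl hm
    rw [isWeaklyRegular_append_iff, isWeaklyRegular_singleton_iff] at hl
    have h1 := ih hl.1 (fun y hy => hm y (by simp [hy]))
    rw [Ideal.ofList_append, Ideal.ofList_singleton, List.length_append, List.length_singleton]
    refine h1.succ (hm x (by simp)) ?_
    intro y hy
    have h2 := hl.2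
    have h3 : (Submodule.Quotient.mk y : B ⧸ (Ideal.ofList l • ⊤ : Submodule B B)) = 0 := by
      apply h2
      simp only [smul_zero]
      rw [← Submodule.Quotient.mk_smul, Submodule.Quotient.mk_eq_zero, smul_eq_mul, smul_eq_mul,
        Ideal.mul_top]
      exact hy
    rw [Submodule.Quotient.mk_eq_zero, smul_eq_mul, Ideal.mul_top] at h3
    exact h3

theorem meets_of_only [IsLocalRing B] {I q : Ideal B}
    (honly : ∀ P : Ideal B, P.IsPrime → I ≤ P → q ≤ P → P = maximalIdeal B) :
    Meets B (B ⧸ I) (B ⧸ q) := by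
  intro p hp hq
  rw [mem_support_quotient_iff] at hp hq
  rw [honly p.asIdeal p.isPrime hp hq]
  infer_instance

/-- The quotient of `B ⧸ q` by `J • ⊤` is `B ⧸ (q ⊔ J)`. -/
noncomputable def quotEquiv (q J : Ideal B) :
    ((B ⧸ q) ⧸ (J • ⊤ : Submodule B (B ⧸ q))) ≃ₗ[B] B ⧸ (q ⊔ J) :=
  (Submodule.quotEquivOfEq _ _ (by
    have h1 : (⊤ : Submodule B (B ⧸ q)) = Submodule.map (Submodule.mkQ q) ⊤ := by
      rw [Submodule.map_top, Submodule.range_mkQ]
    rw [h1, ← Submodule.map_smul'', smul_eq_mul, Ideal.mul_top])).trans (Submodule.quotientQuotientEquivQuotientSup q J)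

/-- Stacks 0B04, the algebra: the Samuel limit is the intersection multiplicity, and it is
positive. -/
theorem key [IsLocalRing B] [IsNoetherianRing B] (I q : Ideal B) [q.IsPrime] (c : ℕ)
    (g : Fin c → B) (hg : I = Ideal.span (Set.range g)) (hreg : IsRegular B (List.ofFn g))
    (honly : ∀ P : Ideal B, P.IsPrime → I ≤ P → q ≤ P → P = maximalIdeal B)
    (a b d : ℕ) (ha : ringKrullDim (B ⧸ I) = a) (hb : ringKrullDim (B ⧸ q) = b)
    (hd : ringKrullDim B = d) (hle : d ≤ a + b) :
    Filter.Tendsto (fun t : ℕ => (c.factorial : ℝ) *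
      ((Module.length B (B ⧸ (q ⊔ I ^ t))).toNat : ℝ) / (t : ℝ) ^ c) Filter.atTop
        (nhds (IntMult.chi B (B ⧸ q) (B ⧸ I) : ℝ)) ∧ 0 < IntMult.chi B (B ⧸ q) (B ⧸ I) := by
  have hset : {x | x ∈ List.ofFn g} = Set.range g := by
    ext x; simp [List.mem_ofFn]
  have hI : Ideal.ofList (List.ofFn g) = I := by
    rw [hg, ← hset]
  have hI' : Ideal.span {x | x ∈ List.ofFn g} = I := hI
  have hlen : (List.ofFn g).length = c := List.length_ofFn
  have hne : I ≠ ⊤ := by
    intro h
    apply hreg.top_ne_smul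
    rw [hI, h, smul_eq_mul, Ideal.mul_top]
  have hm : ∀ x ∈ List.ofFn g, x ∈ maximalIdeal B := by
    intro x hx
    refine le_maximalIdeal hne ?_
    rw [← hI']
    exact Ideal.subset_span hx
  have hchain := regChain_of_isWeaklyRegular _ hreg.toIsWeaklyRegular hm
  rw [hlen, hI] at hchain
  have hmeet : Meets B (B ⧸ I) (B ⧸ q) := meets_of_only honly
  obtain ⟨m1, m2, m3, m4⟩ := ChiRec2.main hchain (B ⧸ q) hmeet
  rw [Module.supportDim_quotient_eq_ringKrullDim, hb] at m1 m4
  have hdim := ringKrullDim_add_length_eq_ringKrullDim_of_isRegular _ hreg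
  rw [hI, hlen, ha, hd] at hdim
  have h1 : a + c = d := by exact_mod_cast hdim
  have h2 : b ≤ c := by exact_mod_cast m1
  have h3 : b = c := by omega
  have hsymm : IntMult.chi B (B ⧸ q) (B ⧸ I) = IntMult.chi B (B ⧸ I) (B ⧸ q) := chi_symm _ _
  rw [hsymm]
  refine ⟨?_, m4 (by rw [h3])⟩
  have hart : IsArtinian B ((B ⧸ q) ⧸ (Ideal.span {x | x ∈ List.ofFn g} • ⊤ :
      Submodule B (B ⧸ q))) := by
    rw [hI']
    have h4 : Module.length B (B ⧸ (q ⊔ I)) ≠ ⊤ := by
      refine length_ne_top_of_support fun p hp => ?_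
      rw [mem_support_quotient_iff] at hp
      rw [honly p.asIdeal p.isPrime (le_sup_right.trans hp) (le_sup_left.trans hp)]
      infer_instance
    rw [← (quotEquiv q I).length_eq, Module.length_ne_top_iff,
      isFiniteLength_iff_isNoetherian_isArtinian] at h4
    exact h4.2
  have := KoszulChi.tendsto_samuel_chi (List.ofFn g) hreg.toIsWeaklyRegular (B ⧸ q) hart
  rw [hI', hlen] at this
  refine this.congr fun t => ?_
  rw [(quotEquiv q (I ^ t)).length_eq]

end Groth.Agent.CycA.SamuelPos
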