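import Groth.Agent.CycB.P1Chart
import Groth.Agent.CycB.P1Sep
import Groth.Agent.CycB.RelDim
import Groth.Agent.CycB.LocQuot
import Groth.Agent.CycA.ProdPoint
import Groth.Agent.Sga5.ProjSmooth
import Groth.Agent.Divis.CartierStalk
import Groth.Agent.Dix.ProjProper
import Groth.Prelude.Def_IntMult

/-!
# Sections of `P^1_X` over `0` and `∞`: local equations, smoothness

* `sect_toBase`, `smooth_toBase`, closed immersion;
* `exists_ker_sect`: the kernel of `O_{P,σ(x)} → O_{X,x}` is principal;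
* `ker_stalkMap_snd`: stalks of `W ×_P X` as quotients.
-/

set_option autoImplicit false

universe u

open CategoryTheory AlgebraicGeometry CategoryTheory.Limits

namespace Groth.Agent.CycA.SectGeom

open Groth.Agent.CycB Groth.Agent.CycB.P1Chart Groth.Agent.CycB.RelDim

variable {X : Scheme.{u}}

@[reassoc (attr := simp)]
theorem sect_toBase (X : Scheme.{u}) (i : Fin (1 + 1)) :
    P1.sect X i ≫ CohB1.ProjSpaceOver.toBase 1 X = 𝟙 X := by
  rw [sect_eq, lift_toBase]

theorem toBase_sect_apply (i : Fin (1 + 1)) (x : X) :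
    CohB1.ProjSpaceOver.toBase 1 X (P1.sect X i x) = x := by
  rw [← Scheme.Hom.comp_apply, sect_toBase]
  rfl

instance smooth_toBase (X : Scheme.{u}) : Smooth (CohB1.ProjSpaceOver.toBase 1 X) := by
  have h : SmoothOfRelativeDimension 1 (CohB1.ProjSpace.toSpec 1 (ULift.{u} ℤ)) := inferInstance
  have h' : Smooth (CohB1.ProjSpace.toSpec 1 (ULift.{u} ℤ)) := SmoothOfRelativeDimension.smooth 1 _
  exact MorphismProperty.of_isPullback (P := @Smooth)
    (Groth.Agent.Dix.ProjProper.isPullback_toZ 1 X) h'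

instance isClosedImmersion_sect (X : Scheme.{u}) (i : Fin (1 + 1)) :
    IsClosedImmersion (P1.sect X i) := by
  have := P1Sep.isSeparated_toBase 1 X
  have h : IsClosedImmersion (P1.sect X i ≫ CohB1.ProjSpaceOver.toBase 1 X) := by
    rw [sect_toBase]; infer_instance
  exact IsClosedImmersion.of_comp (P1.sect X i) (CohB1.ProjSpaceOver.toBase 1 X)

theorem point_toSpec (i : Fin (1 + 1)) :
    P1.point.{u} i ≫ CohB1.ProjSpace.toSpec 1 (ULift.{u} ℤ) = 𝟙 _ :=
  specULiftZIsTerminal.hom_ext _ _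

theorem isPullback_sect (X : Scheme.{u}) (i : Fin (1 + 1)) :
    IsPullback (P1.sect X i) (specULiftZIsTerminal.from X) (toZ X) (P1.point i) := by
  have h1 : IsPullback (CohB1.ProjSpaceOver.toBase 1 X) (toZ X) (specULiftZIsTerminal.from X)
      (CohB1.ProjSpace.toSpec 1 (ULift.{u} ℤ)) :=
    (Groth.Agent.Dix.ProjProper.isPullback_toZ 1 X).flip
  refine IsPullback.of_right (h₁₂ := CohB1.ProjSpaceOver.toBase 1 X)
    (h₂₂ := CohB1.ProjSpace.toSpec 1 (ULift.{u} ℤ)) (v₁₃ := specULiftZIsTerminal.from X) ?_ ?_ h1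
  · rw [sect_toBase, point_toSpec]
    exact IsPullback.of_horiz_isIso ⟨by simp⟩
  · rw [sect_eq, lift_toZ]
    rfl

instance isClosedImmersion_point (i : Fin (1 + 1)) : IsClosedImmersion (P1.point.{u} i) := by
  have h0 := P1Sep.isSeparated_toSpec 1 (ULift.{u} ℤ)
  have h : IsClosedImmersion (P1.point.{u} i ≫ CohB1.ProjSpace.toSpec 1 (ULift.{u} ℤ)) := by
    rw [point_toSpec]; infer_instance
  exact IsClosedImmersion.of_comp (P1.point.{u} i) (CohB1.ProjSpace.toSpec 1 (ULift.{u} ℤ))

/-! ### the local equation -/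

theorem ker_evalAway (i : Fin (1 + 1)) :
    RingHom.ker (P1.evalAway.{u} i) = Ideal.span {coord.{u} i} := by
  rw [evalAway_eq]
  let B := HomogeneousLocalization.Away P1.grading.{u} (P1.T i)
  let ψ : B →+* Polynomial P1.R0.{u} := P1.chartMap i (Polynomial P1.R0.{u}) Polynomial.X
  let χ : Polynomial P1.R0.{u} →+* B :=
    Polynomial.eval₂RingHom ((Int.castRingHom B).comp ULift.ringEquiv.toRingHom) (coord i)
  have hχ : χ Polynomial.X = coord i := by simp [χ]
  have h1 : χ.comp ψ = RingHom.id B := by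
    apply chart_hom_ext i
    rw [RingHom.comp_apply, chartMap_coord]
    exact hχ
  have h2 : (Polynomial.evalRingHom 0).comp ψ = P1.chartMap i P1.R0.{u} 0 := by
    rw [comp_chartMap]
    simp
  apply le_antisymm
  · intro x hx
    rw [RingHom.mem_ker, ← h2, RingHom.comp_apply, Polynomial.coe_evalRingHom,
      ← Polynomial.coeff_zero_eq_eval_zero, ← Polynomial.X_dvd_iff] at hx
    obtain ⟨q, hq⟩ := hx
    have h3 : x = χ (ψ x) := (RingHom.congr_fun h1 x).symm
    rw [Ideal.mem_span_singleton', h3, hq]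
    refine ⟨χ q, ?_⟩
    refine ((map_mul χ Polynomial.X q).trans ?_).symm
    rw [hχ]
    exact mul_comm (coord i : HomogeneousLocalization.Away P1.grading.{u} (P1.T i)) (χ q)
  · rw [Ideal.span_le, Set.singleton_subset_iff]
    exact chartMap_coord i _ _

theorem surjective_of_intCast {B R : Type u} [CommRing B] [CommRing R] (f : B →+* R)
    (h : ∀ r : R, ∃ n : ℤ, r = n) : Function.Surjective f := by
  intro r
  obtain ⟨n, rfl⟩ := h r
  exact ⟨n, map_intCast f n⟩

theorem surjective_evalAway (i : Fin (1 + 1)) : Function.Surjective (P1.evalAway.{u} i) := by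
  refine surjective_of_intCast (P1.evalAway.{u} i) fun r => ⟨r.down, ?_⟩
  cases r
  rfl

theorem exists_comap_span {A B : Type u} [CommRing A] [CommRing B] (e : A →+* B)
    (he : Function.Bijective e) (t : B) : ∃ t', (Ideal.span {t}).comap e = Ideal.span {t'} := by
  obtain ⟨t', rfl⟩ := he.2 t
  refine ⟨t', ?_⟩
  ext a
  rw [Ideal.mem_comap, Ideal.mem_span_singleton', Ideal.mem_span_singleton']
  constructor
  · rintro ⟨d, hd⟩
    obtain ⟨d, rfl⟩ := he.2 d
    refine ⟨d, he.1 ?_⟩
    rw [map_mul, hd]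
  · rintro ⟨d, rfl⟩
    exact ⟨_, by rw [map_mul]⟩

theorem exists_ker_SpecMap {B R : CommRingCat.{u}} (φ : B ⟶ R) (hφ : Function.Surjective φ.hom)
    (c : B) (hc : RingHom.ker φ.hom = Ideal.span {c}) (z : Spec R) :
    ∃ t, RingHom.ker ((Spec.map φ).stalkMap z).hom = Ideal.span {t} := by
  have : IsClosedImmersion (Spec.map φ) := IsClosedImmersion.spec_of_surjective φ hφ
  rw [Divis.CartierStalk.ker_stalkMap, Divis.CartierBasic.stalkIdeal_eq _
    ⟨⊤, isAffineOpen_top _⟩ trivial]
  have h1 : (Spec.map φ).ker.ideal ⟨⊤, isAffineOpen_top _⟩ =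
      Ideal.span {(Scheme.ΓSpecIso B).inv.hom c} := by
    rw [Scheme.Hom.ker_apply]
    have key : ∀ b : B, (Spec.map φ).app ⊤ ((Scheme.ΓSpecIso B).inv.hom b) =
        (Scheme.ΓSpecIso R).inv.hom (φ.hom b) := fun b =>
      congr(($(Scheme.ΓSpecIso_inv_naturality φ)).hom b).symm
    have hsurj : Function.Surjective (Scheme.ΓSpecIso B).inv.hom :=
      ((ConcreteCategory.isIso_iff_bijective (Scheme.ΓSpecIso B).inv).mp inferInstance).2
    have hinj : Function.Injective (Scheme.ΓSpecIso R).inv.hom :=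
      ((ConcreteCategory.isIso_iff_bijective (Scheme.ΓSpecIso R).inv).mp inferInstance).1
    apply le_antisymm
    · intro a ha
      obtain ⟨b, rfl⟩ := hsurj a
      have h2 : (Scheme.ΓSpecIso R).inv.hom (φ.hom b) = 0 := (key b).symm.trans ha
      have h3 : b ∈ RingHom.ker φ.hom := hinj (h2.trans (map_zero _).symm)
      rw [hc, Ideal.mem_span_singleton'] at h3
      obtain ⟨d, rfl⟩ := h3
      rw [map_mul]
      exact Ideal.mul_mem_left _ _ (Ideal.mem_span_singleton_self _)
    · rw [Ideal.span_le, Set.singleton_subset_iff]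
      have h3 : c ∈ RingHom.ker φ.hom := by rw [hc]; exact Ideal.mem_span_singleton_self _
      have h4 : φ.hom c = 0 := h3
      change (Spec.map φ).app ⊤ ((Scheme.ΓSpecIso B).inv.hom c) = 0
      rw [key, h4]
      exact map_zero _
  rw [h1, Ideal.map_span, Set.image_singleton]
  exact ⟨_, rfl⟩

theorem exists_ker_point (i : Fin (1 + 1)) (z : ↥(Spec (CommRingCat.of P1.R0.{u}))) :
    ∃ t, RingHom.ker ((P1.point.{u} i).stalkMap z).hom = Ideal.span {t} := by
  obtain ⟨t, ht⟩ := exists_ker_SpecMap (CommRingCat.ofHom (P1.evalAway.{u} i))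
    (surjective_evalAway i) (coord i) (ker_evalAway i) z
  let g := Spec.map (CommRingCat.ofHom (P1.evalAway.{u} i))
  have hpt : P1.point.{u} i = g ≫ chartι i := rfl
  have h1 : ((g ≫ chartι i).stalkMap z) = (chartι i).stalkMap (g z) ≫ g.stalkMap z :=
    Scheme.Hom.stalkMap_comp _ _ _
  have hbij : Function.Bijective ((chartι i).stalkMap (g z)).hom :=
    (ConcreteCategory.isIso_iff_bijective _).mp inferInstance
  obtain ⟨t', ht'⟩ := exists_comap_span _ hbij t
  refine ⟨t', ?_⟩
  have h2 : RingHom.ker ((P1.point.{u} i).stalkMap z).hom =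
      (RingHom.ker (g.stalkMap z).hom).comap ((chartι i).stalkMap (g z)).hom :=
    (congrArg (fun φ => RingHom.ker (CommRingCat.Hom.hom φ)) h1).trans
      (RingHom.comap_ker (g.stalkMap z).hom ((chartι i).stalkMap (g z)).hom).symm
  refine h2.trans ?_
  rw [ht]
  exact ht'

/-- Stalks of base changes of closed immersions. -/
theorem ker_stalkMap_of_isPullback {Z P Z' : Scheme.{u}} {ι' : Z' ⟶ X} {g' : Z' ⟶ Z} {g : X ⟶ P}
    {ι : Z ⟶ P} [IsClosedImmersion ι] (H : IsPullback ι' g' g ι) (z : Z') :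
    RingHom.ker (ι'.stalkMap z).hom =
      (IntMult.stalkIdeal ι.ker (g (ι' z))).map (g.stalkMap (ι' z)).hom := by
  have h0 : IsClosedImmersion ι' := MorphismProperty.of_isPullback (P := @IsClosedImmersion) H.flip
    inferInstance
  have h1 : ι'.ker = ι.ker.comap g := by
    rw [← Scheme.IdealSheafData.ker_fst_of_isClosedImmersion ι g,
      ← H.isoPullback_hom_fst, Scheme.Hom.ker_comp_of_isIso]
  rw [Divis.CartierStalk.ker_stalkMap, h1, Divis.CartierStalk.stalkIdeal_comap]
  rfl

/-- The kernel of `O_{P,σ(x)} → O_{X,x}` is principal. -/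
theorem exists_ker_sect (i : Fin (1 + 1)) (x : X) :
    ∃ t, RingHom.ker ((P1.sect X i).stalkMap x).hom = Ideal.span {t} := by
  have H := isPullback_sect X i
  obtain ⟨t, ht⟩ := exists_ker_point i (specULiftZIsTerminal.from X x)
  rw [ker_stalkMap_of_isPullback H x]
  have h1 : P1.point.{u} i (specULiftZIsTerminal.from X x) = toZ X (P1.sect X i x) := by
    rw [← Scheme.Hom.comp_apply, ← Scheme.Hom.comp_apply, H.w]
  have h2 : ∀ (y : ↥(CohB1.ProjSpace 1 P1.R0.{u})) (_ : P1.point.{u} i (specULiftZIsTerminal.from X x) = y),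
      ∃ t, IntMult.stalkIdeal (P1.point.{u} i).ker y = Ideal.span {t} := by
    rintro _ rfl
    refine ⟨t, ?_⟩
    rw [← ht, Divis.CartierStalk.ker_stalkMap]
    rfl
  obtain ⟨t', ht'⟩ := h2 _ h1
  rw [ht', Ideal.map_span, Set.image_singleton]
  exact ⟨_, rfl⟩

end Groth.Agent.CycA.SectGeom
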