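import Groth.Agent.CycA.SectGeom
import Groth.Agent.CycA.StalkIdeal
import Groth.Agent.CycA.ProdMult
import Groth.Agent.CycB.RelDim2
import Groth.Agent.CycB.C1Fin
import Mathlib.RingTheory.Ideal.KrullsHeightTheorem

/-!
# Points and the sections of `P^1_X`; multiplicities of closed subschemes

* `delta_sect`; `mem_range_sect_iff`;
* `delta_eq_succ`: Krull's principal ideal theorem in terms of a dimension function;
* `subschemeFun_closed`, `stalkIdeal_snd`, `stalkIdeal_ker_integral`.
-/

set_option autoImplicit false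

universe u

open CategoryTheory AlgebraicGeometry CategoryTheory.Limits

namespace Groth.Agent.CycA.SectPt

open Groth.Agent.CycB Groth.Agent.CycB.P1Chart Groth.Agent.CycB.RelDim Groth.Agent.CycB.LocQuot
open Groth.Agent.CycA.SectGeom Groth.Agent.CycA.ProdPoint

variable {X P Z : Scheme.{u}}

theorem delta_sect {δ : X → ℤ} {δP : ↥(CohB1.ProjSpaceOver 1 X) → ℤ}
    (hP : Cyc.DeltaCompat (CohB1.ProjSpaceOver.toBase 1 X) δP δ) (i : Fin (1 + 1)) (x : X) :
    δP (P1.sect X i x) = δ x := by
  rw [deltaCompat_iff] at hP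
  obtain ⟨n, hn, hn'⟩ := hP (P1.sect X i x)
  have h1 : rtd (P1.sect X i ≫ CohB1.ProjSpaceOver.toBase 1 X) x = 0 := by
    rw [sect_toBase]
    exact rtd_eq_zero_of_isPreimmersion (𝟙 X) x
  rw [rtd_comp, hn] at h1
  have h2 : (n : Cardinal.{u}) = 0 := by
    have := add_eq_zero.1 h1
    exact this.1
  have h3 : n = 0 := by exact_mod_cast h2
  rw [hn', h3, toBase_sect_apply]
  simp

/-- A generization `T` of `σ(x)`, `σ` an embedding with surjective stalk maps, is in the image of
`σ` iff its prime contains the kernel of the stalk map. -/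
theorem mem_range_iff_ker_le (σ : X ⟶ P) [IsClosedImmersion σ] {x : X} {T : P} (h : T ⤳ σ x) :
    T ∈ Set.range σ ↔ RingHom.ker (σ.stalkMap x).hom ≤ RingHom.ker (Cyc.specMap (σ x) T h) := by
  have hs : Function.Surjective (σ.stalkMap x).hom := σ.stalkMap_surjective x
  constructor
  · rintro ⟨z, rfl⟩
    have hz : z ⤳ x := (σ.isClosedEmbedding.isEmbedding.isInducing.specializes_iff).1 h
    rw [← comap_ker_specMap σ hz h]
    exact Ideal.ker_le_comap _
  · intro hle
    have h1 : (RingHom.ker (Cyc.specMap (σ x) T h)) =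
        ((RingHom.ker (Cyc.specMap (σ x) T h)).map (σ.stalkMap x).hom).comap (σ.stalkMap x).hom := by
      rw [Ideal.comap_map_of_surjective' _ hs, sup_eq_left.2 hle]
    have h2 : ((RingHom.ker (Cyc.specMap (σ x) T h)).map (σ.stalkMap x).hom).IsPrime :=
      Ideal.map_isPrime_of_surjective hs hle
    obtain ⟨z, hz, hQ⟩ := exists_eq_ker ((RingHom.ker (Cyc.specMap (σ x) T h)).map (σ.stalkMap x).hom)
    rw [hQ] at h1
    have h3 : σ z ⤳ σ x := hz.map σ.continuous
    rw [comap_ker_specMap σ hz h3, ker_inj h h3] at h1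
    exact ⟨z, h1.symm⟩

/-- The dictionary between generizations of `x` in the fibre and primes of `O_{X,x}`. -/
theorem map_ker_le_iff (σ : X ⟶ P) {x z : X} (hz : z ⤳ x) {T : P} (h : T ⤳ σ x) :
    (RingHom.ker (Cyc.specMap (σ x) T h)).map (σ.stalkMap x).hom ≤ RingHom.ker (Cyc.specMap x z hz) ↔
      T ⤳ σ z := by
  rw [Ideal.map_le_iff_le_comap, comap_ker_specMap σ hz (hz.map σ.continuous), ker_le_iff]

/-- **Krull's principal ideal theorem** for a dimension function. -/
theorem delta_eq_succ [IsLocallyNoetherian P] {δP : P → ℤ} (hδ : Cyc.IsDimFun P δP) {y T : P}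
    (h : T ⤳ y) (t : P.presheaf.stalk y) (htm : t ∈ IsLocalRing.maximalIdeal (P.presheaf.stalk y))
    (htT : t ∉ RingHom.ker (Cyc.specMap y T h))
    (hmin : ∀ (z : P) (hz : z ⤳ y), T ⤳ z → t ∈ RingHom.ker (Cyc.specMap y z hz) → z = y) :
    δP T = δP y + 1 := by
  have hne : T ≠ y := by
    rintro rfl
    exact htT (by rw [ker_refl]; exact htm)
  refine (hδ T y h hne).2 fun z hTz hzy => ?_
  by_contra hcon
  rw [not_or] at hcon
  -- the quotient ring
  let q := RingHom.ker (Cyc.specMap y T h)
  let D := P.presheaf.stalk y ⧸ q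
  let mk : P.presheaf.stalk y →+* D := Ideal.Quotient.mk q
  have hmk : Function.Surjective mk := Ideal.Quotient.mk_surjective
  have hDdom : IsDomain D := Ideal.Quotient.isDomain _
  have hDloc : IsLocalRing D := IsLocalRing.of_surjective' mk hmk
  have hDN : IsNoetherianRing D := inferInstance
  let m := IsLocalRing.maximalIdeal D
  have hm0 : m ∈ (Ideal.span {mk t}).minimalPrimes := by
    refine ⟨⟨inferInstance, ?_⟩, ?_⟩
    · rw [Ideal.span_singleton_le_iff_mem]
      have : IsLocalHom mk := IsLocalHom.of_surjective _ hmk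
      rw [IsLocalRing.mem_maximalIdeal, mem_nonunits_iff] at htm ⊢
      exact fun hu => htm (isUnit_of_map_unit mk t hu)
    · rintro Q ⟨hQ, hQt⟩ _
      obtain ⟨w, hw, hTw, hQw⟩ := exists_comap_eq_ker h Q
      have h1 : t ∈ RingHom.ker (Cyc.specMap y w hw) := by
        rw [← hQw]
        exact hQt (Ideal.mem_span_singleton_self _)
      have h2 := hmin w hw hTw h1
      subst h2
      rw [ker_refl] at hQw
      have h3 : (Q.comap mk).IsMaximal := by
        change (Q.comap (Ideal.Quotient.mk _)).IsMaximal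
        rw [hQw]; infer_instance
      have h4 : Q.IsMaximal := by
        rcases Ideal.map_eq_top_or_isMaximal_of_surjective mk hmk h3 with h0 | h0
        · rw [Ideal.map_comap_of_surjective _ hmk] at h0
          exact absurd h0 hQ.ne_top
        · rwa [Ideal.map_comap_of_surjective _ hmk] at h0
      exact (IsLocalRing.eq_maximalIdeal h4).ge
  have hht : m.height ≤ 1 := Ideal.height_le_one_of_isPrincipal_of_mem_minimalPrimes _ m hm0
  -- a chain of length two
  let Qz : Ideal D := (RingHom.ker (Cyc.specMap y z hzy)).map mk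
  have hqz : q ≤ RingHom.ker (Cyc.specMap y z hzy) := (ker_le_iff h hzy).2 hTz
  have hkermk : RingHom.ker mk = q := Ideal.mk_ker
  have hQz : Qz.IsPrime := Ideal.map_isPrime_of_surjective hmk (by rw [hkermk]; exact hqz)
  have hcomap : Qz.comap mk = RingHom.ker (Cyc.specMap y z hzy) := by
    rw [Ideal.comap_map_of_surjective' _ hmk, hkermk, sup_eq_left.2 hqz]
  have hne0 : Qz ≠ ⊥ := by
    intro h0
    rw [h0] at hcomap
    have h1 : RingHom.ker (Cyc.specMap y T h) = RingHom.ker (Cyc.specMap y z hzy) := by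
      rw [← hcomap]
      exact hkermk.symm
    exact hcon.1 ((ker_inj h hzy).1 h1).symm
  have hltm : Qz < m := by
    refine lt_of_le_of_ne (IsLocalRing.le_maximalIdeal hQz.ne_top) fun h0 => ?_
    have h1 : RingHom.ker (Cyc.specMap y z hzy) =
        RingHom.ker (Cyc.specMap y y (specializes_refl y)) := by
      rw [ker_refl, ← hcomap, h0]
      have : IsLocalHom mk := IsLocalHom.of_surjective _ hmk
      exact ((IsLocalRing.local_hom_TFAE mk).out 0 4).1 this
    exact hcon.2 ((ker_inj hzy (specializes_refl y)).1 h1)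
  have h5 : Qz.height < m.height := Ideal.height_strict_mono_of_isPrime_of_isPrime hltm
  have h6 : Qz.height = 0 := by
    have : Qz.height < 1 := lt_of_lt_of_le h5 hht
    exact Order.lt_one_iff.1 this
  exact hne0 (Ideal.height_eq_zero_iff_eq_bot.1 h6)

/-! ### multiplicities of closed subschemes -/

/-- The multiplicity of a closed subscheme in terms of the stalk of its ideal. -/
theorem subschemeFun_closed (δ : X → ℤ) (k : ℤ) (j : Z ⟶ X) [IsClosedImmersion j] (x : X)
    (hx : δ x = k) : Cyc.subschemeFun δ k j x =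
      ((Module.length (X.presheaf.stalk x)
        (X.presheaf.stalk x ⧸ IntMult.stalkIdeal j.ker x)).toNat : ℤ) := by
  by_cases h : x ∈ Set.range j
  · obtain ⟨z, rfl⟩ := h
    have h1 := C1Fin.subschemeFun_apply_of_injective j j.isClosedEmbedding.injective δ k z
    rw [h1, C1Fin.subschemeFun_id, if_pos hx]
    congr 2
    rw [StalkIdeal.stalkIdeal_ker j z]
    let _ := (j.stalkMap z).hom.toAlgebra
    have hs : Function.Surjective (j.stalkMap z).hom := j.stalkMap_surjective z
    rw [← Module.length_eq_of_surjective (S := X.presheaf.stalk (j z)) (R := Z.presheaf.stalk z)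
      (M := Z.presheaf.stalk z) hs]
    exact ((Algebra.linearMap (X.presheaf.stalk (j z)) (Z.presheaf.stalk z)).quotKerEquivOfSurjective
      hs).symm.length_eq
  · rw [C1Fin.subschemeFun_apply_notMem j δ k x h]
    have h1 : IntMult.stalkIdeal j.ker x = ⊤ := by
      by_contra hne
      apply h
      have h2 := (StalkIdeal.stalkIdeal_ne_top_iff _ x).1 hne
      have h3 : (j.ker.support : Set X) = Set.range j := by
        rw [Scheme.Hom.support_ker, j.isClosedEmbedding.isClosed_range.closure_eq]
      rw [← h3]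
      exact h2
    have : Subsingleton (X.presheaf.stalk x ⧸ IntMult.stalkIdeal j.ker x) := by
      rw [h1]
      exact Submodule.Quotient.subsingleton_iff.2 rfl
    rw [Module.length_eq_zero]
    rfl

/-- Stalk of the ideal of the pullback of a closed immersion. -/
theorem stalkIdeal_snd (ι : Z ⟶ P) [IsClosedImmersion ι] (g : X ⟶ P) (x : X) :
    IntMult.stalkIdeal (pullback.snd ι g).ker x =
      (IntMult.stalkIdeal ι.ker (g x)).map (g.stalkMap x).hom := by
  have h1 : (pullback.snd ι g).ker = ι.ker.comap g := by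
    rw [← Scheme.IdealSheafData.ker_fst_of_isClosedImmersion ι g,
      ← pullbackSymmetry_hom_comp_fst ι g, Scheme.Hom.ker_comp_of_isIso]
  rw [h1]
  exact Divis.CartierStalk.stalkIdeal_comap _ _ _

theorem mem_range_integral (ι : Z ⟶ P) [IsIntegral Z] [IsClosedImmersion ι] {y : P} :
    y ∈ Set.range ι ↔ ι (genericPoint Z) ⤳ y := by
  constructor
  · rintro ⟨z, rfl⟩
    exact (genericPoint_specializes z).map ι.continuous
  · intro h
    exact h.mem_closed ι.isClosedEmbedding.isClosed_range ⟨_, rfl⟩

/-- The stalk of the ideal of an integral closed subscheme is the prime of its generic point. -/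
theorem stalkIdeal_ker_integral (ι : Z ⟶ P) [IsIntegral Z] [IsClosedImmersion ι] {y : P}
    (h : ι (genericPoint Z) ⤳ y) :
    IntMult.stalkIdeal ι.ker y = RingHom.ker (Cyc.specMap y (ι (genericPoint Z)) h) := by
  obtain ⟨z, rfl⟩ := (mem_range_integral ι).2 h
  rw [StalkIdeal.stalkIdeal_ker ι z, ← comap_ker_specMap ι (genericPoint_specializes z) h,
    ker_genericPoint]
  rfl

theorem stalkIdeal_ker_integral_eq_top (ι : Z ⟶ P) [IsIntegral Z] [IsClosedImmersion ι] {y : P}
    (h : ¬ ι (genericPoint Z) ⤳ y) : IntMult.stalkIdeal ι.ker y = ⊤ := by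
  by_contra hne
  apply h
  have h2 := (StalkIdeal.stalkIdeal_ne_top_iff _ y).1 hne
  have h3 : (ι.ker.support : Set P) = Set.range ι := by
    rw [Scheme.Hom.support_ker, ι.isClosedEmbedding.isClosed_range.closure_eq]
  rw [← mem_range_integral, ← h3]
  exact h2

end Groth.Agent.CycA.SectPt
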