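import Groth.Agent.CycA.StalkIdeal
import Groth.Agent.CycA.ProdPoint
import Groth.Agent.CycB.LocQuot
import Groth.Agent.Flat2D.PbStalk

/-!
# Local rings of closed subschemes and their intersections
-/

set_option autoImplicit false

universe u

open CategoryTheory Limits AlgebraicGeometry

namespace Groth.Agent.CycA.SubLoc

open Groth.Agent.Flat2D.PbStalk Groth.Agent.CycB.LocQuot Groth.Agent.CycA.ProdPoint

variable {X Y Z W : Scheme.{u}}

theorem stalkIdeal_ker_eq (i : Y ⟶ X) [IsClosedImmersion i] {x : X} (y : Y) (hy : i y = x) :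
    IntMult.stalkIdeal i.ker x = RingHom.ker (stalkTo i y hy).hom := by
  subst hy
  rw [stalkTo_rfl, StalkIdeal.stalkIdeal_ker]

/-- `O_{X,x}/I ≅ O_{Y,y}`. -/
noncomputable def quotEquiv (i : Y ⟶ X) [IsClosedImmersion i] {x : X} (y : Y) (hy : i y = x) :
    (X.presheaf.stalk x ⧸ IntMult.stalkIdeal i.ker x) ≃+* Y.presheaf.stalk y :=
  (Ideal.quotEquivOfEq (stalkIdeal_ker_eq i y hy)).trans
    (RingHom.quotientKerEquivOfSurjective (stalkTo_surjective i y hy))

theorem stalkIdeal_le_ker (i : Y ⟶ X) [IsClosedImmersion i] {x : X} (y : Y) (hy : i y = x)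
    (y' : Y) (h : i y' ⤳ x) :
    IntMult.stalkIdeal i.ker x ≤ RingHom.ker (Cyc.specMap x (i y') h) := by
  subst hy
  rw [StalkIdeal.stalkIdeal_ker]
  have h' : y' ⤳ y := i.isEmbedding.isInducing.specializes_iff.1 h
  rw [← comap_ker_specMap i h' h]
  exact Ideal.comap_mono bot_le

theorem length_self_of_maximalIdeal_eq_bot (R : Type u) [CommRing R] [IsLocalRing R]
    (h : IsLocalRing.maximalIdeal R = ⊥) : Module.length R R = 1 := by
  have h1 : IsSimpleModule R (R ⧸ IsLocalRing.maximalIdeal R) :=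
    isSimpleModule_iff_isCoatom.2 (IsLocalRing.maximalIdeal.isMaximal R).out
  rw [← (Submodule.quotEquivOfEqBot (IsLocalRing.maximalIdeal R) h).length_eq,
    Module.length_eq_one]

/-- If the local ring of a closed subscheme at `x` is a domain, there is a unique component of the
subscheme through `x`, with multiplicity one. -/
theorem exists_generic (i : Y ⟶ X) [IsClosedImmersion i] {x : X} (y : Y) (hy : i y = x)
    [IsDomain (X.presheaf.stalk x ⧸ IntMult.stalkIdeal i.ker x)] :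
    ∃ (y₀ : Y) (h : i y₀ ⤳ x),
      RingHom.ker (Cyc.specMap x (i y₀) h) = IntMult.stalkIdeal i.ker x ∧
      Module.length (Y.presheaf.stalk y₀) (Y.presheaf.stalk y₀) = 1 ∧
      ∀ y', i y' ⤳ x → i y₀ ⤳ i y' := by
  have hdom : IsDomain (Y.presheaf.stalk y) := (quotEquiv i y hy).symm.toMulEquiv.isDomain _
  subst hy
  obtain ⟨y₀, h₀, hk⟩ := exists_eq_ker (x := y) (⊥ : Ideal (Y.presheaf.stalk y))
  have h : i y₀ ⤳ i y := h₀.map i.continuous
  refine ⟨y₀, h, ?_, ?_, ?_⟩
  · rw [← comap_ker_specMap i h₀ h, ← hk, StalkIdeal.stalkIdeal_ker]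
    rfl
  · have hloc := isLocalization_stalkSpecializes h₀
    let := (Y.presheaf.stalkSpecializes h₀).hom.toAlgebra
    have hm : IsLocalRing.maximalIdeal (Y.presheaf.stalk y₀) = ⊥ := by
      rw [← IsLocalization.AtPrime.map_eq_maximalIdeal
        (RingHom.ker (Cyc.specMap y y₀ h₀)) (Y.presheaf.stalk y₀)]
      rw [← hk, Ideal.map_bot]
    exact length_self_of_maximalIdeal_eq_bot _ hm
  · intro y' h'
    have h'' : y' ⤳ y := i.isEmbedding.isInducing.specializes_iff.1 h'
    refine Specializes.map ?_ i.continuous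
    rw [← ker_le_iff h₀ h'', ← hk]
    exact bot_le

/-- The ideal of an intersection is the sum of the ideals. -/
theorem ker_inter {iY : Y ⟶ X} {iZ : Z ⟶ X} [IsPreimmersion iY] [IsPreimmersion iZ]
    {a : W ⟶ Y} {b : W ⟶ Z} (H : IsPullback a b iY iZ) {x : X} (w : W) (hY : iY (a w) = x)
    (hZ : iZ (b w) = x) (hW : (a ≫ iY) w = x) :
    RingHom.ker (stalkTo (a ≫ iY) w hW).hom =
      RingHom.ker (stalkTo iY (a w) hY).hom ⊔ RingHom.ker (stalkTo iZ (b w) hZ).hom := by
  let I := RingHom.ker (stalkTo iY (a w) hY).hom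
  let J := RingHom.ker (stalkTo iZ (b w) hZ).hom
  have hi : IsPreimmersion (a ≫ iY) := by
    have : IsPreimmersion a := MorphismProperty.of_isPullback H.flip inferInstance
    infer_instance
  -- the two factorizations
  have fY : stalkTo (a ≫ iY) w hW = stalkTo iY (a w) hY ≫ a.stalkMap w := by
    rw [stalkTo, stalkTo, Category.assoc, ← Scheme.Hom.stalkMap_comp]
    rfl
  have fZ : stalkTo (a ≫ iY) w hW = stalkTo iZ (b w) hZ ≫ b.stalkMap w := by
    apply Spec.map_injective
    rw [← cancel_mono (X.fromSpecStalk x), SpecMap_stalkTo, Spec.map_comp, Category.assoc,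
      SpecMap_stalkTo, Scheme.SpecMap_stalkMap_fromSpecStalk_assoc, H.w]
  have hge : I ⊔ J ≤ RingHom.ker (stalkTo (a ≫ iY) w hW).hom := by
    refine sup_le ?_ ?_
    · intro t ht
      rw [RingHom.mem_ker, fY, CommRingCat.hom_comp, RingHom.comp_apply, RingHom.mem_ker.1 ht,
        map_zero]
    · intro t ht
      rw [RingHom.mem_ker, fZ, CommRingCat.hom_comp, RingHom.comp_apply, RingHom.mem_ker.1 ht,
        map_zero]
  refine le_antisymm ?_ hge
  have htop : I ⊔ J ≠ ⊤ := fun h => by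
    rw [h, top_le_iff] at hge
    exact RingHom.ker_ne_top _ hge
  have hnt : Nontrivial (X.presheaf.stalk x ⧸ (I ⊔ J)) := Ideal.Quotient.nontrivial_iff.mpr htop
  have hloc : IsLocalRing (X.presheaf.stalk x ⧸ (I ⊔ J)) :=
    IsLocalRing.of_surjective' (Ideal.Quotient.mk (I ⊔ J)) Ideal.Quotient.mk_surjective
  let q : X.presheaf.stalk x ⟶ CommRingCat.of (X.presheaf.stalk x ⧸ (I ⊔ J)) :=
    CommRingCat.ofHom (Ideal.Quotient.mk (I ⊔ J))
  have hqI : ∀ t ∈ I, q.hom t = 0 := fun t ht =>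
    Ideal.Quotient.eq_zero_iff_mem.2 (Ideal.mem_sup_left ht)
  have hqJ : ∀ t ∈ J, q.hom t = 0 := fun t ht =>
    Ideal.Quotient.eq_zero_iff_mem.2 (Ideal.mem_sup_right ht)
  let ρY : Y.presheaf.stalk (a w) ⟶ CommRingCat.of (X.presheaf.stalk x ⧸ (I ⊔ J)) :=
    CommRingCat.ofHom (RingHom.liftOfSurjective (stalkTo iY (a w) hY).hom
      (stalkTo_surjective iY (a w) hY) ⟨q.hom, fun t ht => hqI t ht⟩)
  let ρZ : Z.presheaf.stalk (b w) ⟶ CommRingCat.of (X.presheaf.stalk x ⧸ (I ⊔ J)) :=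
    CommRingCat.ofHom (RingHom.liftOfSurjective (stalkTo iZ (b w) hZ).hom
      (stalkTo_surjective iZ (b w) hZ) ⟨q.hom, fun t ht => hqJ t ht⟩)
  have hρY : stalkTo iY (a w) hY ≫ ρY = q := by
    ext t
    exact RingHom.liftOfRightInverse_comp_apply _ _
      (Function.rightInverse_surjInv (stalkTo_surjective iY (a w) hY))
      ⟨q.hom, fun t ht => hqI t ht⟩ t
  have hρZ : stalkTo iZ (b w) hZ ≫ ρZ = q := by
    ext t
    exact RingHom.liftOfRightInverse_comp_apply _ _
      (Function.rightInverse_surjInv (stalkTo_surjective iZ (b w) hZ))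
      ⟨q.hom, fun t ht => hqJ t ht⟩ t
  have hcomm : (Spec.map ρY ≫ Y.fromSpecStalk (a w)) ≫ iY =
      (Spec.map ρZ ≫ Z.fromSpecStalk (b w)) ≫ iZ := by
    rw [Category.assoc, ← SpecMap_stalkTo iY (a w) hY, ← Category.assoc, ← Spec.map_comp, hρY,
      Category.assoc, ← SpecMap_stalkTo iZ (b w) hZ, ← Category.assoc, ← Spec.map_comp, hρZ]
  let θ : Spec (CommRingCat.of (X.presheaf.stalk x ⧸ (I ⊔ J))) ⟶ W := H.lift _ _ hcomm
  have hθ : θ ≫ (a ≫ iY) = Spec.map q ≫ X.fromSpecStalk x := by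
    rw [← Category.assoc, H.lift_fst, Category.assoc, ← SpecMap_stalkTo iY (a w) hY,
      ← Category.assoc, ← Spec.map_comp, hρY]
  have hqloc : IsLocalHom q.hom :=
    IsLocalHom.of_surjective _ Ideal.Quotient.mk_surjective
  have hθz : θ (IsLocalRing.closedPoint _) = w := by
    apply (a ≫ iY).isEmbedding.injective
    rw [hW, ← Scheme.Hom.comp_apply, hθ, Scheme.Hom.comp_apply, Spec_closedPoint]
    exact Scheme.fromSpecStalk_closedPoint
  have key : Spec.map q ≫ X.fromSpecStalk x =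
      Spec.map (stalkTo (a ≫ iY) w hW ≫ (W.presheaf.stalkSpecializes (specializes_of_eq hθz) ≫
        Scheme.stalkClosedPointTo θ)) ≫ X.fromSpecStalk x := by
    rw [Spec.map_comp, Category.assoc, SpecMap_stalkTo, Spec.map_comp, Category.assoc,
      Scheme.SpecMap_stalkSpecializes_fromSpecStalk_assoc,
      Scheme.Spec_stalkClosedPointTo_fromSpecStalk_assoc, hθ]
  rw [cancel_mono] at key
  have key2 := Spec.map_injective key
  intro t ht
  rw [RingHom.mem_ker] at ht
  have h3 : q.hom t = 0 := by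
    rw [key2, CommRingCat.hom_comp, RingHom.comp_apply, ht, map_zero]
  exact Ideal.Quotient.eq_zero_iff_mem.mp h3

end Groth.Agent.CycA.SubLoc
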