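import Groth.Agent.CycA.TameTower

/-!
# Comparing the products of local symbols for two finite extensions
-/

set_option autoImplicit false
universe u v w

namespace Groth.Agent.CycA.TameCompare

open IsLocalRing CycAlg Groth.Agent.CycA.TameSym Groth.Agent.CycA.TameLen
  Groth.Agent.CycA.TameNorm Groth.Agent.CycA.TameTower

section FiniteLength

/-- A finite module killed by a nonzerodivisor of a Noetherian ring of dimension at most one has
finite length. -/
lemma length_ne_top_of_smul_eq_zero {A : Type u} [CommRing A] [IsNoetherianRing A]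
    [Ring.KrullDimLE 1 A] {N : Type v} [AddCommGroup N] [Module A N] [Module.Finite A N]
    {c : A} (hc : c ∈ nonZeroDivisors A) (h : ∀ x : N, c • x = 0) : Module.length A N ≠ ⊤ := by
  have hT : Module.IsTorsionBySet A N (Ideal.span {c} : Set A) := by
    rintro x ⟨a, ha⟩
    obtain ⟨r, rfl⟩ := Ideal.mem_span_singleton'.1 ha
    change (r * c) • x = 0
    rw [mul_smul, h, smul_zero]
  let _ : Module (A ⧸ Ideal.span {c}) N := hT.module
  have : IsScalarTower A (A ⧸ Ideal.span {c}) N := hT.isScalarTower
  have : Module.Finite (A ⧸ Ideal.span {c}) N := Module.Finite.of_restrictScalars_finite A _ _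
  have h1 := isFiniteLength_quotient_span_singleton A hc
  rw [isFiniteLength_iff_isNoetherian_isArtinian] at h1
  have h2 : IsArtinianRing (A ⧸ Ideal.span {c}) := by
    have := h1.2
    exact isArtinian_of_tower A inferInstance
  rw [Module.length_eq_of_surjective (S := A) (R := A ⧸ Ideal.span {c}) (M := N)
    Ideal.Quotient.mk_surjective]
  exact Module.length_ne_top

/-- Finite length passes to localizations. -/
lemma isFiniteLength_of_surj {B : Type u} [CommRing B] {B' : Type v} [CommRing B'] [Algebra B B']
    (S : Submonoid B) (hS : ∀ s ∈ S, IsUnit (algebraMap B B' s))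
    {M : Type w} [AddCommGroup M] [Module B M] {M' : Type*} [AddCommGroup M'] [Module B M']
    [Module B' M'] [IsScalarTower B B' M'] (f : M →ₗ[B] M')
    (hsurj : ∀ x : M', ∃ s ∈ S, ∃ m, s • x = f m) (h : IsFiniteLength B M) :
    IsFiniteLength B' M' := by
  let φ : Submodule B' M' ↪o Submodule B M := OrderEmbedding.ofMapLEIff
    (fun W => (W.restrictScalars B).comap f) (by
      intro W W'
      constructor
      · intro hle x hx
        obtain ⟨s, hs, m, hm⟩ := hsurj x
        have h1 : f m ∈ W := by
          rw [← hm, ← algebraMap_smul B' s x]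
          exact W.smul_mem _ hx
        have h2 : f m ∈ W' := hle h1
        rw [← hm, ← algebraMap_smul B' s x] at h2
        obtain ⟨t, ht⟩ := (hS s hs)
        rw [← ht] at h2
        have h3 := W'.smul_mem ((t⁻¹ : B'ˣ) : B') h2
        rwa [smul_smul, Units.inv_mul, one_smul] at h3
      · intro hle x hx
        exact hle hx)
  rw [isFiniteLength_iff_isNoetherian_isArtinian] at h ⊢
  have h1 := isNoetherian_iff'.1 h.1
  have h2 : WellFoundedLT (Submodule B M) := h.2
  exact ⟨isNoetherian_iff'.2 φ.wellFoundedGT, φ.wellFoundedLT⟩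

/-- Finite length of quotients passes to localizations. -/
lemma isFiniteLength_quot_of_surj {B : Type u} [CommRing B] {B' : Type v} [CommRing B']
    [Algebra B B'] (S : Submonoid B) (hS : ∀ s ∈ S, IsUnit (algebraMap B B' s))
    {M : Type w} [AddCommGroup M] [Module B M] {M' : Type*} [AddCommGroup M'] [Module B M']
    [Module B' M'] [IsScalarTower B B' M'] (g : M →ₗ[B] M')
    (hsurj : ∀ x : M', ∃ s ∈ S, ∃ m, s • x = g m) (V : Submodule B M) (W : Submodule B' M')
    (hVW : ∀ v ∈ V, g v ∈ W) (h : IsFiniteLength B (M ⧸ V)) :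
    IsFiniteLength B' (M' ⧸ W) := by
  refine isFiniteLength_of_surj S hS
    (Submodule.liftQ V (((Submodule.mkQ W).restrictScalars B) ∘ₗ g) ?_) ?_ h
  · intro v hv
    rw [LinearMap.mem_ker]
    simp only [LinearMap.comp_apply, LinearMap.restrictScalars_apply, Submodule.mkQ_apply,
      Submodule.Quotient.mk_eq_zero]
    exact hVW v hv
  · intro x
    obtain ⟨x, rfl⟩ := Submodule.Quotient.mk_surjective _ x
    obtain ⟨s, hs, m, hm⟩ := hsurj x
    refine ⟨s, hs, Submodule.Quotient.mk m, ?_⟩
    change Submodule.Quotient.mk (s • x) = Submodule.Quotient.mk (g m)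
    rw [hm]

end FiniteLength

section Compare

variable {A : Type u} {B : Type v} {C : Type w} [CommRing A] [IsLocalRing A] [IsNoetherianRing A]
  [Ring.KrullDimLE 1 A] [CommRing B] [CommRing C] [Algebra A B] [Module.Finite A B]
  [Algebra B C] [Module.Finite B C] [Algebra A C] [IsScalarTower A B C]

omit [IsNoetherianRing A] [Ring.KrullDimLE 1 A] [Module.Finite A B] in
/-- The parameter of a factorization divides whichever of the two elements is not a unit. -/
lemma dvd_of_mem {a b c : A} (hc : c = a ∨ c = b) (hcm : c ∈ maximalIdeal A)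
    {L : Type*} [CommRing L] [Algebra A L] [IsLocalHom (algebraMap A L)]
    (F : Fac L (algebraMap A L a) (algebraMap A L b)) : F.π ∣ algebraMap A L c := by
  have hnu : ¬ IsUnit (algebraMap A L c) := fun h => hcm (isUnit_of_map_unit _ _ h)
  rcases hc with rfl | rfl
  · have he : F.e ≠ 0 := by
      intro he
      apply hnu
      have := F.hx
      rw [he, pow_zero, mul_one] at this
      rw [this]
      exact F.u.isUnit
    exact (Dvd.dvd.mul_left (dvd_pow_self _ he) _).trans (dvd_of_eq F.hx.symm)
  · have he : F.f ≠ 0 := by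
      intro he
      apply hnu
      have := F.hy
      rw [he, pow_zero, mul_one] at this
      rw [this]
      exact F.v.isUnit
    exact (Dvd.dvd.mul_left (dvd_pow_self _ he) _).trans (dvd_of_eq F.hy.symm)

lemma mem_nonZeroDivisors_of_dvd {L : Type*} [CommRing L] {x y : L} (h : x ∣ y)
    (hy : y ∈ nonZeroDivisors L) : x ∈ nonZeroDivisors L := by
  obtain ⟨z, rfl⟩ := h
  exact (mul_mem_nonZeroDivisors.1 hy).1

omit [IsLocalRing A] in
lemma ord_localization_ne_top (q : MaximalSpectrum B) {c : A} (hc : c ∈ nonZeroDivisors A) :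
    Ring.ord (Localization.AtPrime q.asIdeal)
      (algebraMap A (Localization.AtPrime q.asIdeal) c) ≠ ⊤ := by
  have h1 : Module.length A (B ⧸ Ideal.span {algebraMap A B c}) ≠ ⊤ := by
    refine length_ne_top_of_smul_eq_zero hc fun x => ?_
    obtain ⟨x, rfl⟩ := Ideal.Quotient.mk_surjective x
    change Ideal.Quotient.mk _ (c • x) = 0
    rw [Ideal.Quotient.eq_zero_iff_mem, Algebra.smul_def]
    exact Ideal.mul_mem_right _ _ (Ideal.mem_span_singleton_self _)
  have h2 : IsFiniteLength B (B ⧸ Ideal.span {algebraMap A B c}) := by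
    rw [Module.length_ne_top_iff] at h1
    rw [isFiniteLength_iff_isNoetherian_isArtinian] at h1 ⊢
    exact h1.imp (isNoetherian_of_tower A) (isArtinian_of_tower A)
  rw [Ring.ord, Module.length_ne_top_iff]
  let f := Ideal.quotientMapₐ
    (Ideal.span {algebraMap A (Localization.AtPrime q.asIdeal) c})
    (I := Ideal.span {algebraMap A B c}) (Algebra.ofId B (Localization.AtPrime q.asIdeal)) (by
      rw [Ideal.span_singleton_le_iff_mem, Ideal.mem_comap]
      refine Ideal.subset_span ?_
      rw [Set.mem_singleton_iff, IsScalarTower.algebraMap_apply A B]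
      rfl)
  refine isFiniteLength_of_surj q.asIdeal.primeCompl (fun s hs =>
    IsLocalization.map_units (Localization.AtPrime q.asIdeal) (⟨s, hs⟩ : q.asIdeal.primeCompl))
    f.toLinearMap ?_ h2
  intro x
  obtain ⟨x, rfl⟩ := Ideal.Quotient.mk_surjective x
  obtain ⟨⟨y, s⟩, hy⟩ := IsLocalization.surj q.asIdeal.primeCompl x
  refine ⟨s, s.2, Ideal.Quotient.mk _ y, ?_⟩
  change Ideal.Quotient.mk _ ((s : B) • x) = Ideal.Quotient.mk _
    (algebraMap B (Localization.AtPrime q.asIdeal) y)
  rw [← hy, Algebra.smul_def, mul_comm]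

omit [IsLocalRing A] in
lemma length_coker_locAt_ne_top (q : MaximalSpectrum B) {c : A} (hc : c ∈ nonZeroDivisors A)
    {n : ℕ} (hn : ∀ x : C, c ^ n • x ∈ (algebraMap B C).range) :
    Module.length (Localization.AtPrime q.asIdeal)
      (locAt C q ⧸ LinearMap.range (Algebra.linearMap (Localization.AtPrime q.asIdeal)
        (locAt C q))) ≠ ⊤ := by
  have hfinC : Module.Finite A C := Module.Finite.trans B C
  have hfinN : Module.Finite A (C ⧸ LinearMap.range (Algebra.linearMap B C)) :=
    inferInstance
  have h1 : Module.length A (C ⧸ LinearMap.range (Algebra.linearMap B C)) ≠ ⊤ := by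
    refine length_ne_top_of_smul_eq_zero (pow_mem hc n) fun x => ?_
    obtain ⟨x, rfl⟩ := Submodule.Quotient.mk_surjective _ x
    rw [← Submodule.Quotient.mk_smul, Submodule.Quotient.mk_eq_zero]
    exact hn x
  have h2 : IsFiniteLength B (C ⧸ LinearMap.range (Algebra.linearMap B C)) := by
    rw [Module.length_ne_top_iff] at h1
    rw [isFiniteLength_iff_isNoetherian_isArtinian] at h1 ⊢
    exact h1.imp (isNoetherian_of_tower A) (isArtinian_of_tower A)
  rw [Module.length_ne_top_iff]
  refine isFiniteLength_quot_of_surj q.asIdeal.primeCompl (fun s hs =>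
    IsLocalization.map_units (Localization.AtPrime q.asIdeal) (⟨s, hs⟩ : q.asIdeal.primeCompl))
    (IsScalarTower.toAlgHom B C (locAt C q)).toLinearMap ?_ _ _ ?_ h2
  · intro x
    obtain ⟨⟨y, s⟩, hy⟩ := IsLocalization.surj
      (Algebra.algebraMapSubmonoid C q.asIdeal.primeCompl) x
    obtain ⟨t, ht, hts⟩ := s.2
    refine ⟨t, ht, y, ?_⟩
    change t • x = algebraMap C (locAt C q) y
    rw [← hy, Algebra.smul_def, IsScalarTower.algebraMap_apply B C, hts, mul_comm]
  · rintro _ ⟨b, rfl⟩
    refine ⟨algebraMap B (Localization.AtPrime q.asIdeal) b, ?_⟩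
    simp only [Algebra.linearMap_apply, AlgHom.toLinearMap_apply,
      IsScalarTower.coe_toAlgHom']
    rw [← IsScalarTower.algebraMap_apply, ← IsScalarTower.algebraMap_apply]

/-- Comparison of the products of norms of local symbols in a tower `A → B → C` where `C` is a
finite extension of `B` with `C/B` killed by a power of `c`. -/
theorem compare [Fintype (MaximalSpectrum B)] [Fintype (MaximalSpectrum C)]
    [∀ q : MaximalSpectrum B, IsLocalHom (algebraMap A (Localization.AtPrime q.asIdeal))]
    [∀ Q : MaximalSpectrum C, IsLocalHom (algebraMap A (Localization.AtPrime Q.asIdeal))]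
    {a b c : A} (hc : c = a ∨ c = b) (hcm : c ∈ maximalIdeal A) (hcA : c ∈ nonZeroDivisors A)
    (hcC : algebraMap A C c ∈ nonZeroDivisors C) (hBC : Function.Injective (algebraMap B C))
    {n : ℕ} (hn : ∀ x : C, c ^ n • x ∈ (algebraMap B C).range)
    (hfac : ∀ q : MaximalSpectrum B, Nonempty (Fac (Localization.AtPrime q.asIdeal)
      (algebraMap A (Localization.AtPrime q.asIdeal) a)
      (algebraMap A (Localization.AtPrime q.asIdeal) b))) :
    ∏ Q : MaximalSpectrum C, Algebra.norm (ResidueField A)
      (locSym (Localization.AtPrime Q.asIdeal) (algebraMap A (Localization.AtPrime Q.asIdeal) a)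
        (algebraMap A (Localization.AtPrime Q.asIdeal) b)) =
    ∏ q : MaximalSpectrum B, Algebra.norm (ResidueField A)
      (locSym (Localization.AtPrime q.asIdeal) (algebraMap A (Localization.AtPrime q.asIdeal) a)
        (algebraMap A (Localization.AtPrime q.asIdeal) b)) := by
  classical
  have : ∀ q : MaximalSpectrum B, Fintype (MaximalSpectrum (locAt C q)) :=
    fun q => Fintype.ofFinite _
  rw [prod_regroup (B := B)]
  refine Finset.prod_congr rfl fun q _ => ?_
  congr 1
  obtain ⟨F⟩ := hfac q
  have hdvd := dvd_of_mem hc hcm F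
  refine prod_norm_locSym ?_ (length_coker_locAt_ne_top q hcA hn) F ?_ ?_
  · exact localizationAlgebra_injective _ _ hBC
  · have := isScalarTower_locAt (A := A) (C := C) q
    have h1 : algebraMap A (locAt C q) c ∈ nonZeroDivisors (locAt C q) := by
      rw [IsScalarTower.algebraMap_apply A C]
      exact (IsLocalization.toLocalizationMap (Algebra.algebraMapSubmonoid C
        q.asIdeal.primeCompl) (locAt C q)).map_nonZeroDivisors_le ⟨_, hcC, rfl⟩
    refine mem_nonZeroDivisors_of_dvd ?_ h1
    rw [IsScalarTower.algebraMap_apply A (Localization.AtPrime q.asIdeal) (locAt C q)]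
    exact map_dvd _ hdvd
  · exact ne_top_of_le_ne_top (ord_localization_ne_top q hcA) (Ring.ord_le_ord_of_dvd hdvd)

end Compare

end Groth.Agent.CycA.TameCompare
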