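import Groth.Agent.CycA.TameCompare
import Mathlib.RingTheory.TensorProduct.Finite

/-!
# Compositum of two finite extensions inside a localization, and independence of tame data
-/

set_option autoImplicit false
universe u v w

namespace Groth.Agent.CycA.TameCompositum

open IsLocalRing CycAlg Groth.Agent.CycA.TameSym Groth.Agent.CycA.TameLen
  Groth.Agent.CycA.TameNorm Groth.Agent.CycA.TameTower Groth.Agent.CycA.TameCompare

section Embed

variable {A : Type u} {B : Type v} [CommRing A] [CommRing B] [Algebra A B]

/-- If `c^n B` lies in the image of `A`, then `B_c` is also the localization of `A` at `c`. -/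
lemma isLocalization_away (hinj : Function.Injective (algebraMap A B)) {c : A} {n : ℕ}
    (hn : ∀ b : B, c ^ n • b ∈ (algebraMap A B).range) :
    IsLocalization (Submonoid.powers c) (Localization.Away (algebraMap A B c)) := by
  refine ⟨?_, ?_, ?_⟩
  · rintro ⟨_, k, rfl⟩
    simp only [map_pow]
    refine IsUnit.pow k ?_
    rw [IsScalarTower.algebraMap_apply A B]
    exact IsLocalization.Away.algebraMap_isUnit (algebraMap A B c)
  · intro z
    obtain ⟨⟨b, ⟨_, k, rfl⟩⟩, hk⟩ := IsLocalization.surj (Submonoid.powers (algebraMap A B c)) z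
    obtain ⟨a, ha⟩ := hn b
    refine ⟨(a, ⟨c ^ (k + n), _, rfl⟩), ?_⟩
    simp only at hk ⊢
    rw [IsScalarTower.algebraMap_apply A B _ a, ha, Algebra.smul_def, map_mul, ← hk,
      IsScalarTower.algebraMap_apply A B _ (c ^ (k + n)), pow_add, map_mul, map_mul, map_pow]
    ring
  · intro x y hxy
    rw [IsScalarTower.algebraMap_apply A B, IsScalarTower.algebraMap_apply A B] at hxy
    obtain ⟨⟨_, k, rfl⟩, hk⟩ := IsLocalization.exists_of_eq
      (M := Submonoid.powers (algebraMap A B c)) hxy
    refine ⟨⟨c ^ k, k, rfl⟩, ?_⟩
    apply hinj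
    simpa using hk

/-- An embedding of a finite extension in a localization of the base. -/
lemma exists_embed {E : Type w} [CommRing E] [Algebra A E] {c : A} [IsLocalization.Away c E]
    (hinj : Function.Injective (algebraMap A B)) {n : ℕ}
    (hn : ∀ b : B, c ^ n • b ∈ (algebraMap A B).range)
    (hc : algebraMap A B c ∈ nonZeroDivisors B) :
    ∃ φ : B →ₐ[A] E, Function.Injective φ := by
  have := isLocalization_away hinj hn
  let e : Localization.Away (algebraMap A B c) ≃ₐ[A] E :=
    IsLocalization.algEquiv (Submonoid.powers c) _ _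
  refine ⟨(e : Localization.Away (algebraMap A B c) →ₐ[A] E).comp
    (IsScalarTower.toAlgHom A B (Localization.Away (algebraMap A B c))), ?_⟩
  refine e.injective.comp ?_
  refine IsLocalization.injective (M := Submonoid.powers (algebraMap A B c)) _ ?_
  exact Submonoid.powers_le.2 hc

end Embed

section Compositum

variable {A : Type u} {B : Type u} {B' : Type u} [CommRing A] [CommRing B] [Algebra A B]
  [CommRing B'] [Algebra A B'] [Module.Finite A B] [Module.Finite A B']

/-- Two finite extensions of `A` have a common finite extension. -/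
theorem exists_compositum (hinj : Function.Injective (algebraMap A B))
    (hinj' : Function.Injective (algebraMap A B')) {c : A} {n n' : ℕ}
    (hn : ∀ b : B, c ^ n • b ∈ (algebraMap A B).range)
    (hn' : ∀ b : B', c ^ n' • b ∈ (algebraMap A B').range)
    (hc : algebraMap A B c ∈ nonZeroDivisors B) (hc' : algebraMap A B' c ∈ nonZeroDivisors B') :
    ∃ (C : Type u) (_ : CommRing C) (_ : Algebra A C) (_ : Algebra B C) (_ : Algebra B' C)
      (_ : IsScalarTower A B C) (_ : IsScalarTower A B' C),
      Module.Finite A C ∧ Function.Injective (algebraMap B C) ∧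
      Function.Injective (algebraMap B' C) ∧ algebraMap A C c ∈ nonZeroDivisors C ∧
      (∀ (r r' : A), (∀ b : B, r • b ∈ (algebraMap A B).range) →
        (∀ b : B', r' • b ∈ (algebraMap A B').range) →
          ∀ x : C, (r * r') • x ∈ (algebraMap A C).range) := by
  obtain ⟨φ, hφ⟩ := exists_embed (E := Localization.Away c) hinj hn hc
  obtain ⟨φ', hφ'⟩ := exists_embed (E := Localization.Away c) hinj' hn' hc'
  let Φ := Algebra.TensorProduct.productMap φ φ'
  let C := Φ.range
  let ι : B →ₐ[A] C := Φ.rangeRestrict.comp Algebra.TensorProduct.includeLeft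
  let ι' : B' →ₐ[A] C := Φ.rangeRestrict.comp Algebra.TensorProduct.includeRight
  have hι : ∀ b, ((ι b : C) : Localization.Away c) = φ b := by
    intro b
    simp [ι, Φ]
  have hι' : ∀ b, ((ι' b : C) : Localization.Away c) = φ' b := by
    intro b
    simp [ι', Φ]
  let _ : Algebra B C := ι.toRingHom.toAlgebra
  let _ : Algebra B' C := ι'.toRingHom.toAlgebra
  have t1 : IsScalarTower A B C := IsScalarTower.of_algebraMap_eq fun a => (ι.commutes a).symm
  have t2 : IsScalarTower A B' C := IsScalarTower.of_algebraMap_eq fun a => (ι'.commutes a).symm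
  refine ⟨C, inferInstance, inferInstance, inferInstance, inferInstance, t1, t2, ?_, ?_, ?_, ?_,
    ?_⟩
  · exact Module.Finite.of_surjective Φ.rangeRestrict.toLinearMap Φ.rangeRestrict_surjective
  · intro x y hxy
    apply hφ
    rw [← hι, ← hι]
    exact congrArg Subtype.val hxy
  · intro x y hxy
    apply hφ'
    rw [← hι', ← hι']
    exact congrArg Subtype.val hxy
  · rw [mem_nonZeroDivisors_iff_right]
    intro z hz
    have hz' : (z : Localization.Away c) * algebraMap A (Localization.Away c) c = 0 :=
      congrArg Subtype.val hz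
    have hu : IsUnit (algebraMap A (Localization.Away c) c) :=
      IsLocalization.Away.algebraMap_isUnit c
    exact Subtype.ext ((hu.mul_left_eq_zero).1 hz')
  · intro r r' hr hr' x
    obtain ⟨t, ht⟩ := Φ.rangeRestrict_surjective x
    subst ht
    induction t using TensorProduct.induction_on with
    | zero => simp
    | tmul b b' =>
      obtain ⟨a, ha⟩ := hr b
      obtain ⟨a', ha'⟩ := hr' b'
      refine ⟨a * a', ?_⟩
      apply Subtype.ext
      simp only [Φ]
      change algebraMap A (Localization.Away c) (a * a') = (r * r') • (φ b * φ' b')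
      rw [map_mul, ← φ.commutes, ← φ'.commutes, ha, ha', map_smul, map_smul, smul_mul_smul_comm]
    | add t t' h h' =>
      rw [map_add, smul_add]
      exact add_mem h h'

end Compositum

section Main

/-- A nonzerodivisor can be detected in the localizations at the maximal ideals. -/
lemma mem_nonZeroDivisors_of_local {B : Type u} [CommRing B] {t : B}
    (h : ∀ q : MaximalSpectrum B, algebraMap B (Localization.AtPrime q.asIdeal) t ∈
      nonZeroDivisors (Localization.AtPrime q.asIdeal)) : t ∈ nonZeroDivisors B := by
  rw [mem_nonZeroDivisors_iff_right]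
  intro z hz
  apply MaximalSpectrum.toPiLocalization_injective B
  rw [map_zero]
  funext q
  rw [MaximalSpectrum.toPiLocalization_apply_apply, Pi.zero_apply]
  have h1 : algebraMap B (Localization.AtPrime q.asIdeal) z *
      algebraMap B (Localization.AtPrime q.asIdeal) t = 0 := by
    rw [← map_mul, hz, map_zero]
  exact (mul_right_mem_nonZeroDivisors_eq_zero_iff (h q)).1 h1

variable {A : Type u} {B : Type u} {B' : Type u} [CommRing A] [IsLocalRing A] [IsNoetherianRing A]
  [Ring.KrullDimLE 1 A] [CommRing B] [Algebra A B] [CommRing B'] [Algebra A B']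

omit [IsLocalRing A] [IsNoetherianRing A] [Ring.KrullDimLE 1 A] in
lemma regular_of_fac {a b c : A} (hc : c = a ∨ c = b)
    (hfac : ∀ q : MaximalSpectrum B, Nonempty (Fac (Localization.AtPrime q.asIdeal)
      (algebraMap A (Localization.AtPrime q.asIdeal) a)
      (algebraMap A (Localization.AtPrime q.asIdeal) b))) :
    algebraMap A B c ∈ nonZeroDivisors B := by
  refine mem_nonZeroDivisors_of_local fun q => ?_
  obtain ⟨F⟩ := hfac q
  rw [← IsScalarTower.algebraMap_apply]
  rcases hc with rfl | rfl
  · exact F.x_mem
  · exact F.y_mem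

omit [IsNoetherianRing A] [Ring.KrullDimLE 1 A] in
lemma pow_smul_mem {c : A} (hcm : c ∈ maximalIdeal A) {n : ℕ}
    (h : ∀ r ∈ maximalIdeal A ^ n, ∀ b : B, r • b ∈ (algebraMap A B).range) (b : B) :
    c ^ n • b ∈ (algebraMap A B).range := h _ (Ideal.pow_mem_pow hcm n) b

/-- The product of the norms of the local symbols does not depend on the finite extension on
which the two elements factor locally. -/
theorem prod_locSym_eq (hB : IsFinExt A B (maximalIdeal A)) (hB' : IsFinExt A B' (maximalIdeal A))
    [Fintype (MaximalSpectrum B)] [Fintype (MaximalSpectrum B')]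
    [∀ q : MaximalSpectrum B, IsLocalHom (algebraMap A (Localization.AtPrime q.asIdeal))]
    [∀ q : MaximalSpectrum B', IsLocalHom (algebraMap A (Localization.AtPrime q.asIdeal))]
    {a b c : A} (hc : c = a ∨ c = b) (hcm : c ∈ maximalIdeal A) (hcA : c ∈ nonZeroDivisors A)
    (hfac : ∀ q : MaximalSpectrum B, Nonempty (Fac (Localization.AtPrime q.asIdeal)
      (algebraMap A (Localization.AtPrime q.asIdeal) a)
      (algebraMap A (Localization.AtPrime q.asIdeal) b)))
    (hfac' : ∀ q : MaximalSpectrum B', Nonempty (Fac (Localization.AtPrime q.asIdeal)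
      (algebraMap A (Localization.AtPrime q.asIdeal) a)
      (algebraMap A (Localization.AtPrime q.asIdeal) b))) :
    ∏ q : MaximalSpectrum B, Algebra.norm (ResidueField A)
      (locSym (Localization.AtPrime q.asIdeal) (algebraMap A (Localization.AtPrime q.asIdeal) a)
        (algebraMap A (Localization.AtPrime q.asIdeal) b)) =
    ∏ q : MaximalSpectrum B', Algebra.norm (ResidueField A)
      (locSym (Localization.AtPrime q.asIdeal) (algebraMap A (Localization.AtPrime q.asIdeal) a)
        (algebraMap A (Localization.AtPrime q.asIdeal) b)) := by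
  obtain ⟨hinj, hfin, n, hn⟩ := hB
  obtain ⟨hinj', hfin', n', hn'⟩ := hB'
  obtain ⟨C, iC, iAC, iBC, iBC', t1, t2, hCfin, hBC, hBC', hcC, hC⟩ := exists_compositum hinj hinj'
    (pow_smul_mem hcm hn) (pow_smul_mem hcm hn') (regular_of_fac hc hfac)
    (regular_of_fac hc hfac')
  have hC' : ∀ x : C, c ^ (n + n') • x ∈ (algebraMap A C).range := by
    intro x
    rw [pow_add]
    exact hC _ _ (pow_smul_mem hcm hn) (pow_smul_mem hcm hn') x
  have : Finite (MaximalSpectrum C) := finite_maximalSpectrum A C
  have : Fintype (MaximalSpectrum C) := Fintype.ofFinite _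
  have : ∀ Q : MaximalSpectrum C, IsLocalHom (algebraMap A (Localization.AtPrime Q.asIdeal)) :=
    fun Q => isLocalHom_algebraMap A Q
  have : Module.Finite B C := Module.Finite.of_restrictScalars_finite A B C
  have : Module.Finite B' C := Module.Finite.of_restrictScalars_finite A B' C
  have h1 := compare (B := B) (C := C) hc hcm hcA hcC hBC (n := n + n') (fun x => by
    obtain ⟨y, hy⟩ := hC' x
    exact ⟨algebraMap A B y, by rw [← hy, ← IsScalarTower.algebraMap_apply]⟩) hfac
  have h2 := compare (B := B') (C := C) hc hcm hcA hcC hBC' (n := n + n') (fun x => by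
    obtain ⟨y, hy⟩ := hC' x
    exact ⟨algebraMap A B' y, by rw [← hy, ← IsScalarTower.algebraMap_apply]⟩) hfac'
  rw [← h1, ← h2]

/-- When both elements are units all local symbols are trivial. -/
lemma locSym_units {L : Type u} [CommRing L] [IsLocalRing L] {x y : L} (hx : IsUnit x)
    (hy : IsUnit y) : locSym L x y = 1 := by
  obtain ⟨x, rfl⟩ := hx
  obtain ⟨y, rfl⟩ := hy
  let F : Fac L (x : L) (y : L) := ⟨1, one_mem _, x, y, 0, 0, by simp, by simp⟩
  rw [locSym_eq F, Fac.val]
  simp [F]

end Main

end Groth.Agent.CycA.TameCompositum
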