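import Groth.Prelude.Def_Tame
import Groth.Agent.CycA.FinLocal
import Groth.Agent.CycA.FlatIso

/-!
# Base change of the local data of a tame symbol along a flat local homomorphism
-/

set_option autoImplicit false

universe u v w

namespace Groth.Agent.CycA.TameFlat

open TensorProduct IsLocalRing Groth.Agent.CycA.DetRes Groth.Agent.CycA.LocLen
open Groth.Agent.CycA.FinLocal Groth.Agent.CycA.FlatDev Groth.Agent.CycA.FlatIso

attribute [local instance] Algebra.TensorProduct.rightAlgebra

variable {A A' : Type u} [CommRing A] [IsLocalRing A] [CommRing A'] [IsLocalRing A']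
  [Algebra A A'] [IsLocalHom (algebraMap A A')]
  {B : Type u} [CommRing B] [Algebra A B]

section field

variable (L : Type u) [Field L] [Algebra A L] [Algebra B L] [IsScalarTower A B L]

/-- The map `A' ⊗ B → A' ⊗ L`. -/
noncomputable def psi : A' ⊗[A] B →ₐ[A'] A' ⊗[A] L :=
  Algebra.TensorProduct.map (AlgHom.id A' A') (IsScalarTower.toAlgHom A B L)

omit [IsLocalRing A] [IsLocalRing A'] [IsLocalHom (algebraMap A A')] in
theorem psi_tmul (a : A') (b : B) :
    psi (A := A) L (a ⊗ₜ b : A' ⊗[A] B) = a ⊗ₜ algebraMap B L b := rfl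

/-- `A' ⊗ L` as a module over `A' ⊗ B`. -/
@[reducible] noncomputable def modL : Module (A' ⊗[A] B) (A' ⊗[A] L) :=
  Module.compHom _ (psi (A := A) (A' := A') (B := B) L).toRingHom

attribute [local instance] modL

omit [IsLocalRing A] [IsLocalRing A'] [IsLocalHom (algebraMap A A')] in
theorem smul_def' (s : A' ⊗[A] B) (x : A' ⊗[A] L) : s • x = psi L s * x := rfl

omit [IsLocalRing A] [IsLocalRing A'] [IsLocalHom (algebraMap A A')] in
theorem smul_tmul_tmul (b : B) (a : A') (l : L) :
    ((1 : A') ⊗ₜ[A] b : A' ⊗[A] B) • (a ⊗ₜ[A] l : A' ⊗[A] L) = a ⊗ₜ (algebraMap B L b * l) := by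
  rw [smul_def', psi_tmul, Algebra.TensorProduct.tmul_mul_tmul, one_mul]

local instance towerL : IsScalarTower A' (A' ⊗[A] B) (A' ⊗[A] L) := by
  constructor
  intro a s x
  rw [smul_def', smul_def', map_smul, smul_mul_assoc]

omit [IsLocalRing A] [IsLocalRing A'] [IsLocalHom (algebraMap A A')] in
/-- `(A' ⊗ L)_{q'} = (A' ⊗ B)_{q'} / q` in terms of lengths. -/
theorem ll_modL (q : Ideal B) (hL : Function.Surjective (algebraMap B L))
    (hq : RingHom.ker (algebraMap B L) = q) (q' : MaximalSpectrum (A' ⊗[A] B)) :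
    ll q' (A' ⊗[A] L) = Module.length (Localization.AtPrime q'.asIdeal)
      (Localization.AtPrime q'.asIdeal ⧸
        q.map (algebraMap B (Localization.AtPrime q'.asIdeal))) := by
  have hsurj : Function.Surjective (psi (A := A) (A' := A') (B := B) L) :=
    Algebra.TensorProduct.map_surjective _ _ Function.surjective_id hL
  have hker : RingHom.ker (psi (A := A) (A' := A') (B := B) L) =
      q.map (algebraMap B (A' ⊗[A] B)) := by
    have h := Algebra.TensorProduct.lTensor_ker (R := A) (A := A') (IsScalarTower.toAlgHom A B L) hL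
    have h1 : RingHom.ker (IsScalarTower.toAlgHom A B L) = q := hq
    rw [h1] at h
    exact h
  let φ : (A' ⊗[A] B) →ₗ[A' ⊗[A] B] (A' ⊗[A] L) :=
    { toFun := psi L
      map_add' := map_add _
      map_smul' := fun s x => by
        rw [smul_eq_mul, map_mul]; rfl }
  have hφ : LinearMap.ker φ = q.map (algebraMap B (A' ⊗[A] B)) := by
    rw [← hker]; rfl
  let e : ((A' ⊗[A] B) ⧸ q.map (algebraMap B (A' ⊗[A] B))) ≃ₗ[A' ⊗[A] B] (A' ⊗[A] L) :=
    (Submodule.quotEquivOfEq _ _ hφ.symm).trans (φ.quotKerEquivOfSurjective hsurj)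
  rw [ll, ← length_loc_equiv q'.asIdeal e]
  rw [← ll, ll_quotient, Ideal.map_map, ← IsScalarTower.algebraMap_eq]

omit [IsLocalHom (algebraMap A A')] in
/-- Dévissage: `ℓ((A' ⊗ L)_{q'}) = ℓ(A'/𝔪A') ℓ((κ' ⊗ L)_{q'})`. -/
theorem ll_modL' [Algebra (ResidueField A) L] [IsScalarTower A (ResidueField A) L]
    (hfin : IsFiniteLength A' (A' ⧸ (maximalIdeal A).map (algebraMap A A')))
    (q' : MaximalSpectrum (A' ⊗[A] B)) :
    ll q' (A' ⊗[A] L) = Module.length A' (A' ⧸ (maximalIdeal A).map (algebraMap A A')) *
      ll q' ((A' ⊗[A] L) ⊗[A'] (A' ⧸ maximalIdeal A')) := by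
  have hkill : ∀ a ∈ (maximalIdeal A).map (algebraMap A A'), ∀ n : A' ⊗[A] L, a • n = 0 := by
    have h1 : ∀ a ∈ maximalIdeal A, ∀ n : A' ⊗[A] L, algebraMap A A' a • n = 0 := by
      intro a ha n
      induction n with
      | zero => rw [smul_zero]
      | add x y hx hy => rw [smul_add, hx, hy, add_zero]
      | tmul x l =>
        have h2 : a • l = 0 := by
          rw [← IsScalarTower.algebraMap_smul (ResidueField A) a l,
            ResidueField.algebraMap_eq, (residue_eq_zero_iff a).mpr ha, zero_smul]
        rw [algebraMap_smul, smul_tmul', smul_tmul, h2, tmul_zero]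
    intro a ha
    refine Submodule.span_induction (p := fun a _ => ∀ n : A' ⊗[A] L, a • n = 0) ?_ ?_ ?_ ?_ ha
    · rintro _ ⟨a, ha, rfl⟩ n
      exact h1 a ha n
    · intro n
      rw [zero_smul]
    · intro x y _ _ hx hy n
      rw [add_smul, hx, hy, add_zero]
    · intro c x _ hx n
      rw [smul_assoc, hx, smul_zero]
  rw [← ll_tensor_quot (A' ⊗[A] L) ((maximalIdeal A).map (algebraMap A A')) hkill q']
  refine ll_tensor (A' ⊗[A] L) ((maximalIdeal A).map (algebraMap A A')) ?_ q' _ hfin ?_
  · intro T₁ T₂ _ _ _ _ f hf h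
    exact lTensor_injective f hf (fun a ha t => h _ (Ideal.mem_map_of_mem _ ha) t)
  · intro a ha t
    obtain ⟨t, rfl⟩ := Submodule.Quotient.mk_surjective _ t
    rw [← Submodule.Quotient.mk_smul, Submodule.Quotient.mk_eq_zero, smul_eq_mul]
    exact Ideal.mul_mem_right _ _ ha

/-- The product formula for norms in the fibre over `q`. -/
theorem prod_eq [Module.Finite A B] [IsNoetherianRing A'] [Algebra (ResidueField A) L]
    [IsScalarTower A (ResidueField A) L] [Module.Finite (ResidueField A) L]
    [hloc : ∀ q : MaximalSpectrum (A' ⊗[A] B),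
      IsLocalHom (algebraMap A' (Localization.AtPrime q.asIdeal))]
    (hL : Function.Surjective (algebraMap B L)) (s : B) :
    (∀ q' : MaximalSpectrum (A' ⊗[A] B),
      ll q' ((A' ⊗[A] L) ⊗[A'] (A' ⧸ maximalIdeal A')) ≠ ⊤) ∧
    algebraMap (ResidueField A) (ResidueField A')
        (Algebra.norm (ResidueField A) (algebraMap B L s)) =
      ∏ᶠ q' : MaximalSpectrum (A' ⊗[A] B), nrm A' q' ((1 : A') ⊗ₜ[A] s) ^
        (ll q' ((A' ⊗[A] L) ⊗[A'] (A' ⧸ maximalIdeal A'))).toNat := by
  have : Module.Finite A L := Module.Finite.of_surjective (IsScalarTower.toAlgHom A B L).toLinearMap hL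
  have : Module.Finite (A' ⊗[A] B) ((A' ⊗[A] L) ⊗[A'] (A' ⧸ maximalIdeal A')) :=
    Module.Finite.of_restrictScalars_finite A' _ _
  have : IsNoetherianRing (A' ⊗[A] B) := IsNoetherianRing.of_finite A' _
  have := finite_maximalSpectrum (A := A') (S := A' ⊗[A] B)
  have hk : ∀ a ∈ maximalIdeal A', ∀ n : (A' ⊗[A] L) ⊗[A'] (A' ⧸ maximalIdeal A'),
      algebraMap A' (A' ⊗[A] B) a • n = 0 := by
    intro a ha n
    rw [algebraMap_smul]
    induction n with
    | zero => rw [smul_zero]
    | add x y hx hy => rw [smul_add, hx, hy, add_zero]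
    | tmul x c =>
      obtain ⟨c, rfl⟩ := Submodule.Quotient.mk_surjective _ c
      have h2 : a • (Submodule.Quotient.mk c : A' ⧸ maximalIdeal A') = 0 := by
        rw [← Submodule.Quotient.mk_smul, Submodule.Quotient.mk_eq_zero, smul_eq_mul]
        exact Ideal.mul_mem_right _ _ ha
      rw [← tmul_smul, h2, tmul_zero]
  obtain ⟨i, c⟩ := exists_compat (A := A') (S := A' ⊗[A] B)
    ((A' ⊗[A] L) ⊗[A'] (A' ⧸ maximalIdeal A')) hk
  obtain ⟨h1, h2⟩ := det_eq (A := A') (S := A' ⊗[A] B) ((1 : A') ⊗ₜ[A] s)
    ((A' ⊗[A] L) ⊗[A'] (A' ⧸ maximalIdeal A')) c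
  refine ⟨h1, ?_⟩
  rw [← h2, det_eq_norm L ((1 : A') ⊗ₜ[A] s) (algebraMap B L s) (smul_tmul_tmul L s) c]

omit [IsLocalRing A] [IsLocalHom (algebraMap A A')] in
/-- Away from `q` the module `κ' ⊗ L` vanishes. -/
theorem ll_eq_zero (q' : MaximalSpectrum (A' ⊗[A] B)) (b : B) (hb : algebraMap B L b = 0)
    (hb' : algebraMap B (A' ⊗[A] B) b ∉ q'.asIdeal) :
    ll q' ((A' ⊗[A] L) ⊗[A'] (A' ⧸ maximalIdeal A')) = 0 := by
  have : q'.asIdeal.IsPrime := q'.isMaximal.isPrime
  rw [ll, length_loc_eq_zero_iff (⟨q'.asIdeal, this⟩ : PrimeSpectrum (A' ⊗[A] B)),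
    Module.notMem_support_iff']
  intro m
  refine ⟨algebraMap B (A' ⊗[A] B) b, hb', ?_⟩
  induction m with
  | zero => rw [smul_zero]
  | add x y hx hy => rw [smul_add, hx, hy, add_zero]
  | tmul x c =>
    rw [smul_tmul']
    have : algebraMap B (A' ⊗[A] B) b • x = 0 := by
      change ((1 : A') ⊗ₜ[A] b : A' ⊗[A] B) • x = 0
      induction x with
      | zero => rw [smul_zero]
      | add x y hx hy => rw [smul_add, hx, hy, add_zero]
      | tmul x l => rw [smul_tmul_tmul, hb, zero_mul, tmul_zero]
    rw [this, zero_tmul]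

end field

section assembly

open CycAlg

attribute [local instance] modL towerL

/-- The maximal ideal of `B` under a maximal ideal of `A' ⊗ B`. -/
noncomputable def underMax [Module.Finite A B] (q' : MaximalSpectrum (A' ⊗[A] B)) :
    MaximalSpectrum B :=
  ⟨q'.asIdeal.comap (algebraMap B (A' ⊗[A] B)), by
    have := q'.isMaximal
    refine Ideal.isMaximal_of_isIntegral_of_isMaximal_comap (R := A) _ ?_
    rw [Ideal.comap_comap, ← IsScalarTower.algebraMap_eq, IsScalarTower.algebraMap_eq A A',
      ← Ideal.comap_comap, comap_eq (A := A') q'.asIdeal,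
      ((local_hom_TFAE (algebraMap A A')).out 0 4 rfl rfl).mp inferInstance]
    exact maximalIdeal.isMaximal A⟩

instance [Module.Finite A B] (q' : MaximalSpectrum (A' ⊗[A] B)) :
    q'.asIdeal.LiesOver (underMax q').asIdeal := ⟨rfl⟩

/-- The local homomorphism `B_q → B'_{q'}`. -/
noncomputable def hq [Module.Finite A B] (q' : MaximalSpectrum (A' ⊗[A] B)) :
    Localization.AtPrime (underMax q').asIdeal →+* Localization.AtPrime q'.asIdeal :=
  Localization.localRingHom _ _ (algebraMap B (A' ⊗[A] B)) rfl

theorem hq_algebraMap [Module.Finite A B] (q' : MaximalSpectrum (A' ⊗[A] B)) (b : B) :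
    hq q' (algebraMap B _ b) = algebraMap (A' ⊗[A] B) _ (algebraMap B (A' ⊗[A] B) b) :=
  Localization.localRingHom_to_map ..

theorem hq_algebraMap' [Module.Finite A B] (q' : MaximalSpectrum (A' ⊗[A] B)) (a : A) :
    hq q' (algebraMap A _ a) = algebraMap A' _ (algebraMap A A' a) := by
  rw [IsScalarTower.algebraMap_apply A B (Localization.AtPrime (underMax q').asIdeal),
    hq_algebraMap, IsScalarTower.algebraMap_apply A' (A' ⊗[A] B) (Localization.AtPrime q'.asIdeal),
    ← IsScalarTower.algebraMap_apply A A' (A' ⊗[A] B),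
    ← IsScalarTower.algebraMap_apply A B (A' ⊗[A] B)]

instance [Module.Finite A B] (q' : MaximalSpectrum (A' ⊗[A] B)) : IsLocalHom (hq q') :=
  Localization.isLocalHom_localRingHom _ _ _ _

omit [IsLocalRing A] [IsLocalRing A'] [IsLocalHom (algebraMap A A')] in
theorem flat_right [Module.Flat A A'] : Module.Flat B (A' ⊗[A] B) :=
  Module.Flat.isBaseChange A B A' (A' ⊗[A] B)
    (Algebra.IsPushout.out : IsBaseChange B (IsScalarTower.toAlgHom A A' (A' ⊗[A] B)).toLinearMap)

theorem flat_hq [Module.Finite A B] [Module.Flat A A'] (q' : MaximalSpectrum (A' ⊗[A] B)) :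
    letI := (hq q').toAlgebra
    Module.Flat (Localization.AtPrime (underMax q').asIdeal) (Localization.AtPrime q'.asIdeal) := by
  have := flat_right (A := A) (A' := A') (B := B)
  let _ := Localization.AtPrime.algebraOfLiesOver (underMax q').asIdeal q'.asIdeal
  exact (inferInstance : Module.Flat (Localization.AtPrime (underMax q').asIdeal)
    (Localization.AtPrime q'.asIdeal))

theorem hq_mem_nonZeroDivisors [Module.Finite A B] [Module.Flat A A']
    (q' : MaximalSpectrum (A' ⊗[A] B)) {x : Localization.AtPrime (underMax q').asIdeal}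
    (hx : x ∈ nonZeroDivisors (Localization.AtPrime (underMax q').asIdeal)) :
    hq q' x ∈ nonZeroDivisors (Localization.AtPrime q'.asIdeal) := by
  let _ := (hq q').toAlgebra
  have := flat_hq q'
  have h1 : IsSMulRegular (Localization.AtPrime (underMax q').asIdeal) x := by
    intro y z hyz
    exact (mul_cancel_left_mem_nonZeroDivisors hx).mp hyz
  have h2 : IsSMulRegular (Localization.AtPrime q'.asIdeal)
    (algebraMap (Localization.AtPrime (underMax q').asIdeal) (Localization.AtPrime q'.asIdeal) x) :=
    h1.of_flat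
  rw [mem_nonZeroDivisors_iff]
  have h3 : ∀ y, hq q' x * y = 0 → y = 0 := fun y hy => h2 (by
    change hq q' x * y = hq q' x * 0
    rw [hy, mul_zero])
  exact ⟨h3, fun y hy => h3 y (by rw [mul_comm]; exact hy)⟩

/-- The order of vanishing upstairs. -/
theorem ord_hq [Module.Finite A B] [Module.Flat A A'] (q' : MaximalSpectrum (A' ⊗[A] B))
    (hfin : IsFiniteLength A' (A' ⧸ (maximalIdeal A).map (algebraMap A A')))
    [IsLocalHom (algebraMap A (Localization.AtPrime (underMax q').asIdeal))]
    (x : Localization.AtPrime (underMax q').asIdeal) :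
    Ring.ord (Localization.AtPrime q'.asIdeal) (hq q' x) =
      Ring.ord (Localization.AtPrime (underMax q').asIdeal) x *
      (Module.length A' (A' ⧸ (maximalIdeal A).map (algebraMap A A')) *
      ll q' ((A' ⊗[A] (ResidueField (Localization.AtPrime (underMax q').asIdeal))) ⊗[A']
        (A' ⧸ maximalIdeal A'))) := by
  let _ := (hq q').toAlgebra
  have := flat_hq q'
  have : IsLocalHom (algebraMap (Localization.AtPrime (underMax q').asIdeal)
    (Localization.AtPrime q'.asIdeal)) := inferInstanceAs (IsLocalHom (hq q'))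
  have h1 := ord_flat (R := Localization.AtPrime (underMax q').asIdeal)
    (T := Localization.AtPrime q'.asIdeal) x
  have hm := (underMax q').isMaximal
  have h2 := ll_modL (A := A) (A' := A') (ResidueField (Localization.AtPrime (underMax q').asIdeal))
    (underMax q').asIdeal (Ideal.algebraMap_residueField_surjective _)
    (Ideal.ker_algebraMap_residueField _) q'
  have h3 := ll_modL' (A := A) (A' := A') (B := B)
    (ResidueField (Localization.AtPrime (underMax q').asIdeal)) hfin q'
  rw [← h3, h2]
  have h4 : (maximalIdeal (Localization.AtPrime (underMax q').asIdeal)).map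
      (algebraMap (Localization.AtPrime (underMax q').asIdeal) (Localization.AtPrime q'.asIdeal)) =
      (underMax q').asIdeal.map (algebraMap B (Localization.AtPrime q'.asIdeal)) := by
    rw [← Localization.AtPrime.map_eq_maximalIdeal, Ideal.map_map]
    congr 1
    ext b
    rw [RingHom.comp_apply]
    exact (hq_algebraMap q' b).trans (IsScalarTower.algebraMap_apply ..).symm
  rw [h4] at h1
  exact h1

/-- Base change of tame data along a flat local homomorphism. -/
noncomputable def baseData [Module.Flat A A'] [IsNoetherianRing A'] (hA : ringKrullDim A = 1)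
    (hA' : ringKrullDim A' = 1) {a₁ a₂ : A} (D : TameData A a₁ a₂) :
    TameData A' (algebraMap A A' a₁) (algebraMap A A' a₂) :=
  haveI : Module.Finite A D.B := D.isFinExt.2.1
  { B := A' ⊗[A] D.B
    isFinExt := isFinExt_baseChange hA hA' D.isFinExt
    isLocalHom := fun q => isLocalHom q
    π := fun q' => hq q' (D.π (underMax q'))
    π_mem := fun q' => hq_mem_nonZeroDivisors q' (D.π_mem _)
    u₁ := fun q' => Units.map (hq q').toMonoidHom (D.u₁ (underMax q'))
    u₂ := fun q' => Units.map (hq q').toMonoidHom (D.u₂ (underMax q'))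
    e₁ := fun q' => D.e₁ (underMax q')
    e₂ := fun q' => D.e₂ (underMax q')
    fac₁ := fun q' => by
      rw [← hq_algebraMap', D.fac₁, map_mul, map_pow]
      rfl
    fac₂ := fun q' => by
      rw [← hq_algebraMap', D.fac₂, map_mul, map_pow]
      rfl }

omit [IsLocalHom (algebraMap A A')] in
/-- The closed fibre has finite length. -/
theorem isFiniteLength_quot [Module.Flat A A'] [IsNoetherianRing A'] (hA : ringKrullDim A = 1)
    (hA' : ringKrullDim A' = 1) :
    IsFiniteLength A' (A' ⧸ (maximalIdeal A).map (algebraMap A A')) := by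
  rw [← Module.length_ne_top_iff]
  refine length_ne_top_of_support_subset inferInstance ?_
  intro p hp
  rw [Module.support_eq_zeroLocus, Ideal.annihilator_quotient] at hp
  have hp' : (maximalIdeal A).map (algebraMap A A') ≤ p.asIdeal := hp
  obtain ⟨N, hN⟩ := exists_pow_le (A := A) (A' := A') hA hA' 1
  rw [pow_one] at hN
  have h1 : maximalIdeal A' ≤ p.asIdeal := by
    intro a ha
    exact p.2.mem_of_pow_mem N (hp' (hN (Ideal.pow_mem_pow ha N)))
  rw [← (maximalIdeal.isMaximal A').eq_of_le p.2.ne_top h1]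
  exact maximalIdeal.isMaximal A'

/-- The value of base changed tame data. -/
theorem value_baseData [IsNoetherianRing A] [Module.Flat A A'] [IsNoetherianRing A']
    (hA : ringKrullDim A = 1)
    (hA' : ringKrullDim A' = 1) {a₁ a₂ : A} (D : TameData A a₁ a₂) :
    (baseData hA hA' D : TameData A' (algebraMap A A' a₁) (algebraMap A A' a₂)).value =
      algebraMap (ResidueField A) (ResidueField A') D.value ^
        (Module.length A' (A' ⧸ (maximalIdeal A).map (algebraMap A A'))).toNat := by
  classical
  have hBfin : Module.Finite A D.B := D.isFinExt.2.1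
  have hlocB := D.isLocalHom
  have hlocB' : ∀ q : MaximalSpectrum (A' ⊗[A] D.B),
      IsLocalHom (algebraMap A' (Localization.AtPrime q.asIdeal)) := fun q => isLocalHom q
  have := finite_maximalSpectrum (A := A) (S := D.B)
  have := finite_maximalSpectrum (A := A') (S := A' ⊗[A] D.B)
  let _ := Fintype.ofFinite (MaximalSpectrum D.B)
  let _ := Fintype.ofFinite (MaximalSpectrum (A' ⊗[A] D.B))
  have hfin := isFiniteLength_quot (A := A) (A' := A') hA hA'
  set m := Module.length A' (A' ⧸ (maximalIdeal A).map (algebraMap A A')) with hm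
  -- lifts of the local symbols
  let t : ∀ q : MaximalSpectrum D.B, ResidueField (Localization.AtPrime q.asIdeal) := fun q =>
    (-1 : ResidueField (Localization.AtPrime q.asIdeal)) ^ (D.e₁ q * D.e₂ q) *
        residue (Localization.AtPrime q.asIdeal) (D.u₁ q : Localization.AtPrime q.asIdeal) ^ D.e₂ q *
        (residue (Localization.AtPrime q.asIdeal) (D.u₂ q : Localization.AtPrime q.asIdeal) ^
          D.e₁ q)⁻¹
  have hs : ∀ q : MaximalSpectrum D.B, ∃ s : D.B,
      algebraMap D.B (ResidueField (Localization.AtPrime q.asIdeal)) s = t q := fun q => by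
    have := q.isMaximal
    exact Ideal.algebraMap_residueField_surjective q.asIdeal (t q)
  choose s hs using hs
  have key1 : ∀ q' : MaximalSpectrum (A' ⊗[A] D.B), (baseData hA hA' D :
      TameData A' (algebraMap A A' a₁) (algebraMap A A' a₂)).localFactor q' =
      nrm A' q' ((1 : A') ⊗ₜ[A] s (underMax q')) ^
        (Ring.ord _ (hq q' (D.π (underMax q')))).toNat := by
    intro q'
    unfold TameData.localFactor nrm
    congr 2
    have h1 : ResidueField.map (hq q') (t (underMax q')) =
        residue (Localization.AtPrime q'.asIdeal)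
          (algebraMap (A' ⊗[A] D.B) (Localization.AtPrime q'.asIdeal)
            ((1 : A') ⊗ₜ[A] s (underMax q'))) := by
      rw [← hs]
      exact (ResidueField.map_residue (hq q') _).trans (congrArg _ (hq_algebraMap q' _))
    rw [← h1]
    simp only [t, map_mul, map_pow, map_neg, map_one, map_inv₀, ResidueField.map_residue]
    rfl
  have key2 : ∀ q : MaximalSpectrum D.B,
      algebraMap (ResidueField A) (ResidueField A') (D.localFactor q) ^ m.toNat =
      ∏ q' : MaximalSpectrum (A' ⊗[A] D.B), nrm A' q' ((1 : A') ⊗ₜ[A] s q) ^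
        ((Ring.ord (Localization.AtPrime q.asIdeal) (D.π q)).toNat * (m.toNat *
          (ll q' ((A' ⊗[A] ResidueField (Localization.AtPrime q.asIdeal)) ⊗[A']
            (A' ⧸ maximalIdeal A'))).toNat)) := by
    intro q
    have := q.isMaximal
    have : Module.Finite A (ResidueField (Localization.AtPrime q.asIdeal)) :=
      Module.Finite.trans D.B _
    have : Module.Finite (ResidueField A) (ResidueField (Localization.AtPrime q.asIdeal)) :=
      Module.Finite.of_restrictScalars_finite A _ _
    obtain ⟨-, h2⟩ := prod_eq (A := A) (A' := A') (B := D.B)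
      (ResidueField (Localization.AtPrime q.asIdeal))
      (Ideal.algebraMap_residueField_surjective q.asIdeal) (s q)
    rw [hs, finprod_eq_prod_of_fintype] at h2
    have h3 : D.localFactor q = Algebra.norm (ResidueField A) (t q) ^
      (Ring.ord (Localization.AtPrime q.asIdeal) (D.π q)).toNat := rfl
    rw [h3, map_pow, h2, ← Finset.prod_pow, ← Finset.prod_pow]
    refine Finset.prod_congr rfl fun q' _ => ?_
    rw [← pow_mul, ← pow_mul]
    congr 1
    ring
  have e0 : (baseData hA hA' D : TameData A' (algebraMap A A' a₁) (algebraMap A A' a₂)).value =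
      ∏ q' : MaximalSpectrum (A' ⊗[A] D.B), (baseData hA hA' D :
        TameData A' (algebraMap A A' a₁) (algebraMap A A' a₂)).localFactor q' :=
    finprod_eq_prod_of_fintype (α := MaximalSpectrum (A' ⊗[A] D.B)) _
  have e1 : D.value = ∏ q, D.localFactor q := finprod_eq_prod_of_fintype _
  rw [e0, e1, map_prod, ← Finset.prod_pow, Finset.prod_congr rfl (fun q _ => key2 q),
    Finset.prod_comm]
  refine Finset.prod_congr rfl fun q' _ => ?_
  rw [key1 q', Finset.prod_eq_single (underMax q')]
  · congr 1
    rw [ord_hq q' hfin, ENat.toNat_mul, ENat.toNat_mul]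
  · intro q _ hne
    have h1 : ¬ q.asIdeal ≤ (underMax q').asIdeal := by
      intro hle
      exact hne (MaximalSpectrum.ext (q.isMaximal.eq_of_le (underMax q').isMaximal.ne_top hle))
    obtain ⟨b, hb, hb'⟩ := SetLike.not_le_iff_exists.mp h1
    have hb0 : algebraMap D.B (ResidueField (Localization.AtPrime q.asIdeal)) b = 0 := by
      have := q.isMaximal
      rw [← RingHom.mem_ker]
      exact (Ideal.ker_algebraMap_residueField q.asIdeal).symm ▸ hb
    have h4 := ll_eq_zero (A := A) (A' := A') (ResidueField (Localization.AtPrime q.asIdeal)) q' b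
      hb0 hb'
    rw [h4]
    simp
  · intro h
    exact absurd (Finset.mem_univ _) h


end assembly

end Groth.Agent.CycA.TameFlat
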