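import Groth.Agent.CycA.TameValue

/-!
# Local identities for the local tame symbol
-/

set_option autoImplicit false
universe u v w

namespace Groth.Agent.CycA.TameLaws

open IsLocalRing Groth.Agent.CycA.TameSym

variable {L : Type u} [CommRing L] [IsLocalRing L]

/-- The local symbol of explicit units times powers. -/
lemma locSym_mk {π : L} (hπ : π ∈ nonZeroDivisors L) (u v : Lˣ) (e f : ℕ) :
    locSym L ((u : L) * π ^ e) ((v : L) * π ^ f) =
      ((-1) ^ (e * f) * residue L (u : L) ^ f * (residue L (v : L) ^ e)⁻¹) ^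
        (Ring.ord L π).toNat :=
  locSym_eq (⟨π, hπ, u, v, e, f, rfl, rfl⟩ : Fac L ((u : L) * π ^ e) ((v : L) * π ^ f))

lemma locSym_mul_left {π : L} (hπ : π ∈ nonZeroDivisors L) {x x' y : L}
    (hx : ∃ (u : Lˣ) (e : ℕ), x = u * π ^ e) (hx' : ∃ (u : Lˣ) (e : ℕ), x' = u * π ^ e)
    (hy : ∃ (u : Lˣ) (e : ℕ), y = u * π ^ e) :
    locSym L (x * x') y = locSym L x y * locSym L x' y := by
  obtain ⟨u, e, rfl⟩ := hx
  obtain ⟨u', e', rfl⟩ := hx'
  obtain ⟨v, f, rfl⟩ := hy
  have h1 : (u : L) * π ^ e * ((u' : L) * π ^ e') = ((u * u' : Lˣ) : L) * π ^ (e + e') := by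
    push_cast
    ring
  rw [h1, locSym_mk hπ, locSym_mk hπ, locSym_mk hπ, ← mul_pow]
  congr 1
  push_cast
  rw [map_mul, add_mul, pow_add, pow_add, mul_pow, mul_inv]
  ring

lemma locSym_mul_right {π : L} (hπ : π ∈ nonZeroDivisors L) {x x' y : L}
    (hx : ∃ (u : Lˣ) (e : ℕ), x = u * π ^ e) (hx' : ∃ (u : Lˣ) (e : ℕ), x' = u * π ^ e)
    (hy : ∃ (u : Lˣ) (e : ℕ), y = u * π ^ e) :
    locSym L y (x * x') = locSym L y x * locSym L y x' := by
  obtain ⟨u, e, rfl⟩ := hx
  obtain ⟨u', e', rfl⟩ := hx'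
  obtain ⟨v, f, rfl⟩ := hy
  have h1 : (u : L) * π ^ e * ((u' : L) * π ^ e') = ((u * u' : Lˣ) : L) * π ^ (e + e') := by
    push_cast
    ring
  rw [h1, locSym_mk hπ, locSym_mk hπ, locSym_mk hπ, ← mul_pow]
  congr 1
  push_cast
  rw [map_mul, mul_add, pow_add, pow_add, mul_pow, mul_inv]
  ring

lemma res_ne (u : Lˣ) : residue L (u : L) ≠ 0 := Fac.residue_unit_ne_zero u

lemma locSym_self {x : L} (F : Nonempty (Fac L x x)) :
    locSym L x x = (-1) ^ (Ring.ord L x).toNat := by
  obtain ⟨F⟩ := F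
  let G : Fac L x x := ⟨F.π, F.π_mem, F.u, F.u, F.e, F.e, F.hx, F.hx⟩
  rw [locSym_eq G, Fac.val_eq']
  have h1 := res_ne F.u
  have h2 : ((-1 : ResidueField L)) ^ ((Ring.ord L x).toNat * (Ring.ord L x).toNat) =
      (-1) ^ (Ring.ord L x).toNat := by
    have := neg_one_pow_mul_self (R := ResidueField L) 1 (Ring.ord L x).toNat
    simpa using this.symm
  rw [h2, mul_assoc, mul_inv_cancel₀ (pow_ne_zero _ h1), mul_one]

lemma locSym_unit (c : Lˣ) {y : L} {π : L} (hπ : π ∈ nonZeroDivisors L)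
    (hy : ∃ (v : Lˣ) (f : ℕ), y = v * π ^ f) :
    locSym L (c : L) y = residue L (c : L) ^ (Ring.ord L y).toNat := by
  obtain ⟨v, f, hy⟩ := hy
  let G : Fac L (c : L) y := ⟨π, hπ, c, v, 0, f, by simp, hy⟩
  rw [locSym_eq G, Fac.val_eq', Ring.ord_of_isUnit c.isUnit]
  simp [G]

/-- The Steinberg-type relation. -/
lemma locSym_steinberg {π : L} (hπ : π ∈ nonZeroDivisors L) {x y : L}
    (hx : ∃ (u : Lˣ) (e : ℕ), x = u * π ^ e) (hy : ∃ (u : Lˣ) (e : ℕ), y = u * π ^ e)
    (hxy : ∃ (u : Lˣ) (e : ℕ), y - x = u * π ^ e) :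
    locSym L x (y - x) * locSym L y y = locSym L y (y - x) * locSym L x y := by
  obtain ⟨u, e, hx⟩ := hx
  obtain ⟨v, f, hy⟩ := hy
  obtain ⟨w, g, hxy⟩ := hxy
  rw [hxy, hx, hy, locSym_mk hπ, locSym_mk hπ, locSym_mk hπ, locSym_mk hπ, ← mul_pow, ← mul_pow]
  rw [hx, hy] at hxy
  by_cases hm : (Ring.ord L π).toNat = 0
  · rw [hm, pow_zero, pow_zero]
  congr 1
  have hπm : π ∈ maximalIdeal L := by
    intro hu
    apply hm
    rw [Ring.ord_of_isUnit hu]
    rfl
  have hπr : residue L π = 0 := (residue_eq_zero_iff π).2 hπm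
  -- uniqueness of exponents and units
  have key : ∀ (s t : Lˣ) (i j : ℕ), (s : L) * π ^ i = (t : L) * π ^ j → i = j ∧ s = t := by
    have aux : ∀ (s t : Lˣ) (i j : ℕ), (s : L) * π ^ i = (t : L) * π ^ j → ¬ i < j := by
      intro s t i j h hij
      obtain ⟨k, rfl⟩ := Nat.exists_eq_add_of_lt hij
      have h1 : (s : L) * π ^ i = ((t : L) * π ^ (k + 1)) * π ^ i := by
        rw [h]
        ring
      have h2 : (s : L) = (t : L) * π ^ (k + 1) :=
        (mul_cancel_right_mem_nonZeroDivisors (pow_mem hπ i)).1 h1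
      have h3 := congrArg (residue L) h2
      rw [map_mul, map_pow, hπr, zero_pow (Nat.succ_ne_zero k), mul_zero] at h3
      exact res_ne s h3
    intro s t i j h
    have hij : i = j := le_antisymm (not_lt.1 (aux t s j i h.symm)) (not_lt.1 (aux s t i j h))
    subst hij
    exact ⟨rfl, Units.ext ((mul_cancel_right_mem_nonZeroDivisors (pow_mem hπ i)).1 h)⟩
  have hsq : ∀ n : ℕ, ((-1 : ResidueField L)) ^ (n * n) = (-1) ^ n := by
    intro n
    have := neg_one_pow_mul_self (R := ResidueField L) 1 n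
    simpa using this.symm
  have hss : ∀ n : ℕ, ((-1 : ResidueField L)) ^ n * (-1) ^ n = 1 := by
    intro n
    rw [← mul_pow, neg_one_mul, neg_neg, one_pow]
  have hinv : ∀ n : ℕ, (((-1 : ResidueField L)) ^ n)⁻¹ = (-1) ^ n := fun n =>
    inv_eq_of_mul_eq_one_left (hss n)
  have hu := res_ne u
  have hv := res_ne v
  have hw := res_ne w
  rcases lt_trichotomy e f with hef | hef | hef
  · obtain ⟨k, rfl⟩ := Nat.exists_eq_add_of_lt hef
    have h1 : (v : L) * π ^ (e + k + 1) - (u : L) * π ^ e =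
        ((v : L) * π ^ (k + 1) - u) * π ^ e := by ring
    have h2 : IsUnit ((v : L) * π ^ (k + 1) - u) := by
      rw [← residue_ne_zero_iff_isUnit, map_sub, map_mul, map_pow, hπr,
        zero_pow (Nat.succ_ne_zero k), mul_zero, zero_sub]
      exact neg_ne_zero.2 hu
    obtain ⟨w', hw'⟩ := h2
    rw [h1, ← hw'] at hxy
    obtain ⟨rfl, rfl⟩ := key _ _ _ _ hxy
    have h3 : residue L (w' : L) = - residue L (u : L) := by
      rw [hw', map_sub, map_mul, map_pow, hπr, zero_pow (Nat.succ_ne_zero k), mul_zero, zero_sub]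
    rw [h3]
    generalize residue L (u : L) = a at *
    generalize residue L (v : L) = b at *
    generalize e + k + 1 = f
    have ha := pow_ne_zero e hu
    have ha' := pow_ne_zero f hu
    have hb := pow_ne_zero e hv
    have hb' := pow_ne_zero f hv
    rw [neg_pow a e, neg_pow a f, mul_inv, mul_inv, hinv, hinv, hsq, hsq, mul_comm f e]
    calc (-1) ^ e * a ^ e * ((-1) ^ e * (a ^ e)⁻¹) * ((-1) ^ f * b ^ f * (b ^ f)⁻¹)
        = ((-1) ^ e * (-1) ^ e) * (-1) ^ f * (a ^ e * (a ^ e)⁻¹) * (b ^ f * (b ^ f)⁻¹) := by ring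
      _ = ((-1) ^ (e * f) * (-1) ^ (e * f)) * (-1) ^ f * (b ^ e * (b ^ e)⁻¹) *
          (a ^ f * (a ^ f)⁻¹) := by
          rw [hss, hss, mul_inv_cancel₀ ha, mul_inv_cancel₀ ha', mul_inv_cancel₀ hb,
            mul_inv_cancel₀ hb']
      _ = _ := by ring
  · subst hef
    have h1 : (v : L) * π ^ e - (u : L) * π ^ e = ((v : L) - u) * π ^ e := by ring
    rw [h1] at hxy
    have hge : e ≤ g := by
      by_contra hlt
      push Not at hlt
      obtain ⟨k, rfl⟩ := Nat.exists_eq_add_of_lt hlt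
      have h2 : ((v : L) - u) * π ^ (k + 1) * π ^ g = w * π ^ g := by
        rw [← hxy]
        ring
      have h3 := congrArg (residue L)
        ((mul_cancel_right_mem_nonZeroDivisors (pow_mem hπ g)).1 h2)
      rw [map_mul, map_pow, hπr, zero_pow (Nat.succ_ne_zero k), mul_zero] at h3
      exact hw h3.symm
    obtain ⟨k, rfl⟩ := Nat.exists_eq_add_of_le hge
    rcases Nat.eq_zero_or_pos k with rfl | hk
    · rw [add_zero]
      generalize residue L (u : L) = a at *
      generalize residue L (v : L) = b at *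
      generalize residue L (w : L) = c at *
      ring
    · have h2 : ((v : L) - u) * π ^ e = w * π ^ k * π ^ e := by
        rw [hxy]
        ring
      have h3 := congrArg (residue L)
        ((mul_cancel_right_mem_nonZeroDivisors (pow_mem hπ e)).1 h2)
      rw [map_mul, map_pow, hπr, zero_pow hk.ne', mul_zero, map_sub, sub_eq_zero] at h3
      rw [h3]
  · obtain ⟨k, rfl⟩ := Nat.exists_eq_add_of_lt hef
    have h1 : (v : L) * π ^ f - (u : L) * π ^ (f + k + 1) =
        ((v : L) - u * π ^ (k + 1)) * π ^ f := by ring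
    have h2 : IsUnit ((v : L) - u * π ^ (k + 1)) := by
      rw [← residue_ne_zero_iff_isUnit, map_sub, map_mul, map_pow, hπr,
        zero_pow (Nat.succ_ne_zero k), mul_zero, sub_zero]
      exact hv
    obtain ⟨w', hw'⟩ := h2
    rw [h1, ← hw'] at hxy
    obtain ⟨rfl, rfl⟩ := key _ _ _ _ hxy
    have h3 : residue L (w' : L) = residue L (v : L) := by
      rw [hw', map_sub, map_mul, map_pow, hπr, zero_pow (Nat.succ_ne_zero k), mul_zero, sub_zero]
    rw [h3]
    generalize residue L (u : L) = a at *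
    generalize residue L (v : L) = b at *
    rw [mul_comm]

end Groth.Agent.CycA.TameLaws
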