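import Mathlib.RingTheory.Length
import Mathlib.RingTheory.LocalRing.Length
import Mathlib.RingTheory.LocalProperties.Exactness
import Mathlib.RingTheory.Spectrum.Maximal.Localization
import Mathlib.RingTheory.OrderOfVanishing.Basic
import Mathlib.Algebra.Module.LocalizedModule.Basic

/-!
# Lengths over semilocal rings

Finite length modules over a ring with finitely many maximal ideals split as the product of their
localizations at the maximal ideals.
-/

set_option autoImplicit false
universe u v w

namespace Groth.Agent.CycA.TameLen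

open Module

section Split

variable {T : Type u} [CommRing T]

/-- In a module of finite length every element is killed by a product of something outside one
maximal ideal and something outside another. -/
lemma exists_mul_smul_eq_zero {N : Type v} [AddCommGroup N] [Module T N] (hN : IsFiniteLength T N)
    (P Q : Ideal T) [P.IsMaximal] [Q.IsMaximal] (hPQ : P ≠ Q) (x : N) :
    ∃ s : T, s ∉ Q ∧ ∃ t : T, t ∉ P ∧ (t * s) • x = 0 := by
  induction hN with
  | of_subsingleton =>
    refine ⟨1, ?_, 1, ?_, Subsingleton.elim _ _⟩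
    · exact fun h => Ideal.IsPrime.ne_top' ((Ideal.eq_top_iff_one _).2 h)
    · exact fun h => Ideal.IsPrime.ne_top' ((Ideal.eq_top_iff_one _).2 h)
  | @of_simple_quotient M _ _ N' _ _ ih =>
    have hmax := IsSimpleModule.annihilator_isMaximal (R := T) (M := M ⧸ N')
    have h1 : ∃ s₁ : T, s₁ ∉ Q ∧ ∃ t₁ : T, t₁ ∉ P ∧ (t₁ * s₁) ∈ Module.annihilator T (M ⧸ N') := by
      by_cases hQ : Module.annihilator T (M ⧸ N') = Q
      · have hP : ¬ Module.annihilator T (M ⧸ N') ≤ P := by
          intro hle
          exact hPQ ((hmax.eq_of_le Ideal.IsPrime.ne_top' hle).symm.trans hQ)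
        obtain ⟨t, ht, htP⟩ := SetLike.not_le_iff_exists.1 hP
        refine ⟨1, fun h => Ideal.IsPrime.ne_top' ((Ideal.eq_top_iff_one _).2 h), t, htP, ?_⟩
        simpa using ht
      · have hP : ¬ Module.annihilator T (M ⧸ N') ≤ Q := by
          intro hle
          exact hQ (hmax.eq_of_le Ideal.IsPrime.ne_top' hle)
        obtain ⟨t, ht, htP⟩ := SetLike.not_le_iff_exists.1 hP
        refine ⟨t, htP, 1, fun h => Ideal.IsPrime.ne_top' ((Ideal.eq_top_iff_one _).2 h), ?_⟩
        simpa using ht
    obtain ⟨s₁, hs₁, t₁, ht₁, hst⟩ := h1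
    have hmem : (t₁ * s₁) • x ∈ N' := by
      rw [Module.mem_annihilator] at hst
      have := hst (Submodule.Quotient.mk x)
      rwa [← Submodule.Quotient.mk_smul, Submodule.Quotient.mk_eq_zero] at this
    obtain ⟨s₂, hs₂, t₂, ht₂, h₂⟩ := ih ⟨_, hmem⟩
    refine ⟨s₂ * s₁, fun h => ?_, t₂ * t₁, fun h => ?_, ?_⟩
    · exact (Ideal.IsPrime.mem_or_mem inferInstance h).elim hs₂ hs₁
    · exact (Ideal.IsPrime.mem_or_mem inferInstance h).elim ht₂ ht₁
    · have := congrArg (Subtype.val) h₂
      simp only [Submodule.coe_smul, ZeroMemClass.coe_zero] at this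
      rw [show t₂ * t₁ * (s₂ * s₁) = (t₂ * s₂) * (t₁ * s₁) by ring, mul_smul]
      exact this

variable [Finite (MaximalSpectrum T)]
variable {N : Type v} [AddCommGroup N] [Module T N]
variable (L : MaximalSpectrum T → Type w) [∀ P, AddCommGroup (L P)] [∀ P, Module T (L P)]
  (f : ∀ P : MaximalSpectrum T, N →ₗ[T] L P)
  [∀ P : MaximalSpectrum T, IsLocalizedModule P.asIdeal.primeCompl (f P)]

include f in
/-- The projection from the product of the localizations to one of them is a localization map. -/
lemma isLocalizedModule_proj (hN : IsFiniteLength T N) (Q : MaximalSpectrum T) :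
    IsLocalizedModule Q.asIdeal.primeCompl (LinearMap.proj Q : (∀ P, L P) →ₗ[T] L Q) := by
  classical
  refine ⟨fun s => IsLocalizedModule.map_units (f Q) s, fun y => ⟨(Pi.single Q y, 1), ?_⟩, ?_⟩
  · simp
  · intro z₁ z₂ hz
    have key : ∀ P : MaximalSpectrum T, ∃ s : Q.asIdeal.primeCompl, s • (z₁ P - z₂ P) = 0 := by
      intro P
      by_cases hPQ : P = Q
      · subst hPQ
        refine ⟨1, ?_⟩
        simp only [LinearMap.coe_proj, Function.eval] at hz
        rw [hz, sub_self, smul_zero]
      · obtain ⟨⟨x, t⟩, hx⟩ := IsLocalizedModule.surj P.asIdeal.primeCompl (f P) (z₁ P - z₂ P)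
        have hne : P.asIdeal ≠ Q.asIdeal := fun h => hPQ (MaximalSpectrum.ext h)
        have := P.isMaximal
        have := Q.isMaximal
        obtain ⟨s, hs, t', ht', hst⟩ := exists_mul_smul_eq_zero hN P.asIdeal Q.asIdeal hne x
        refine ⟨⟨s, hs⟩, ?_⟩
        have h1 : (t' * s) • (t • (z₁ P - z₂ P)) = 0 := by
          rw [hx, ← map_smul, hst, map_zero]
        have h2 : ((⟨t', ht'⟩ : P.asIdeal.primeCompl) * t) • (s • (z₁ P - z₂ P)) = 0 := by
          rw [← h1, Submonoid.smul_def, Submonoid.smul_def, smul_smul, smul_smul]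
          congr 1
          simp only [Submonoid.coe_mul]
          ring
        have h3 := (IsLocalizedModule.smul_injective (f P) ((⟨t', ht'⟩ : P.asIdeal.primeCompl) * t))
        refine h3 ?_
        simp only [smul_zero]
        exact h2
    choose s hs using key
    have := Fintype.ofFinite (MaximalSpectrum T)
    refine ⟨∏ P, s P, ?_⟩
    rw [← sub_eq_zero, ← smul_sub]
    funext P
    rw [Pi.smul_apply, Pi.sub_apply, Pi.zero_apply,
      ← Finset.prod_erase_mul _ _ (Finset.mem_univ P), mul_smul, hs P, smul_zero]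

include f in
/-- A finite length module over a ring with finitely many maximal ideals is the product of its
localizations at the maximal ideals. -/
theorem bijective_pi (hN : IsFiniteLength T N) :
    Function.Bijective (LinearMap.pi f : N →ₗ[T] ∀ P, L P) := by
  have : ∀ Q : MaximalSpectrum T, IsLocalizedModule Q.asIdeal.primeCompl
      (LinearMap.proj Q : (∀ P, L P) →ₗ[T] L Q) := fun Q => isLocalizedModule_proj L f hN Q
  constructor
  · rw [← LinearMap.ker_eq_bot, LinearMap.ker_eq_bot']
    intro x hx
    by_contra hne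
    have : Module.annihilator T (T ∙ x) ≠ ⊤ := by
      intro h
      have h1 : (1 : T) ∈ Module.annihilator T (T ∙ x) := h ▸ Submodule.mem_top
      rw [Submodule.mem_annihilator_span_singleton] at h1
      exact hne (by simpa using h1)
    obtain ⟨P, hP, hle⟩ := Ideal.exists_le_maximal _ this
    have h0 : f ⟨P, hP⟩ x = 0 := congrFun hx _
    have hinst : IsLocalizedModule P.primeCompl (f ⟨P, hP⟩) := inferInstanceAs (IsLocalizedModule
      (⟨P, hP⟩ : MaximalSpectrum T).asIdeal.primeCompl (f ⟨P, hP⟩))
    obtain ⟨s, hs⟩ := (IsLocalizedModule.eq_zero_iff P.primeCompl (f ⟨P, hP⟩)).1 h0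
    exact s.2 (hle ((Submodule.mem_annihilator_span_singleton x (s : T)).2 hs))
  · have inst1 : ∀ (P : Ideal T) [hP : P.IsMaximal], IsLocalizedModule P.primeCompl
        (f ⟨P, hP⟩) := fun P hP => inferInstanceAs (IsLocalizedModule
          (⟨P, hP⟩ : MaximalSpectrum T).asIdeal.primeCompl (f ⟨P, hP⟩))
    have inst2 : ∀ (P : Ideal T) [hP : P.IsMaximal], IsLocalizedModule P.primeCompl
        (LinearMap.proj (⟨P, hP⟩ : MaximalSpectrum T) : (∀ P, L P) →ₗ[T] L ⟨P, hP⟩) := fun P hP =>
          inferInstanceAs (IsLocalizedModule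
          (⟨P, hP⟩ : MaximalSpectrum T).asIdeal.primeCompl
          (LinearMap.proj (⟨P, hP⟩ : MaximalSpectrum T) : (∀ P, L P) →ₗ[T] L ⟨P, hP⟩))
    refine surjective_of_isLocalized_maximal (fun P hP => L ⟨P, hP⟩)
      (fun P hP => f ⟨P, hP⟩) (fun P hP => L ⟨P, hP⟩)
      (fun P hP => (LinearMap.proj (⟨P, hP⟩ : MaximalSpectrum T) : (∀ P, L P) →ₗ[T] L ⟨P, hP⟩)) _ ?_
    intro P hP y
    refine ⟨y, ?_⟩
    have : IsLocalizedModule.map P.primeCompl (f ⟨P, hP⟩)
        (LinearMap.proj (⟨P, hP⟩ : MaximalSpectrum T) : (∀ P, L P) →ₗ[T] L ⟨P, hP⟩) (LinearMap.pi f) = LinearMap.id := by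
      refine IsLocalizedModule.linearMap_ext P.primeCompl (f ⟨P, hP⟩) (f ⟨P, hP⟩) ?_
      ext x
      simp [IsLocalizedModule.map_apply]
    rw [this]
    rfl

end Split

section Sub

variable {R : Type u} [CommRing R] {M : Type v} {N : Type w} [AddCommGroup M] [Module R M]
  [AddCommGroup N] [Module R N]

/-- If `M → N` is injective with finite length cokernel and `x` is injective on `N`, then
`M / x M` and `N / x N` have the same length. -/
theorem length_quot_eq (f : M →ₗ[R] N) (hf : Function.Injective f) (x : R)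
    (hx : ∀ n : N, x • n = 0 → n = 0) (hfin : Module.length R (N ⧸ LinearMap.range f) ≠ ⊤)
    (K : Submodule R M) (hK : ∀ m, m ∈ K ↔ ∃ m', x • m' = m)
    (K' : Submodule R N) (hK' : ∀ m, m ∈ K' ↔ ∃ m', x • m' = m) :
    Module.length R (M ⧸ K) = Module.length R (N ⧸ K') := by
  let J : Submodule R N := K.map f
  have hJ : ∀ n, n ∈ J ↔ ∃ m, x • f m = n := by
    intro n
    constructor
    · rintro ⟨m, hm, rfl⟩
      obtain ⟨m', rfl⟩ := (hK m).1 hm
      exact ⟨m', by simp⟩
    · rintro ⟨m, rfl⟩
      exact ⟨x • m, (hK _).2 ⟨m, rfl⟩, by simp⟩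
  have hJr : J ≤ LinearMap.range f := by
    rintro _ ⟨m, -, rfl⟩
    exact ⟨m, rfl⟩
  have hJK : J ≤ K' := by
    intro n hn
    obtain ⟨m, rfl⟩ := (hJ n).1 hn
    exact (hK' _).2 ⟨_, rfl⟩
  let g₁ : (M ⧸ K) →ₗ[R] (N ⧸ J) := Submodule.mapQ K J f (Submodule.le_comap_map f K)
  let g₂ : (N ⧸ J) →ₗ[R] (N ⧸ LinearMap.range f) :=
    Submodule.mapQ J (LinearMap.range f) LinearMap.id hJr
  let g₃ : (N ⧸ LinearMap.range f) →ₗ[R] (N ⧸ J) :=
    Submodule.mapQ (LinearMap.range f) J (LinearMap.lsmul R N x) (by
      rintro _ ⟨m, rfl⟩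
      exact (hJ _).2 ⟨m, rfl⟩)
  let g₄ : (N ⧸ J) →ₗ[R] (N ⧸ K') := Submodule.mapQ J K' LinearMap.id hJK
  have e1 : Module.length R (N ⧸ J) = Module.length R (M ⧸ K) +
      Module.length R (N ⧸ LinearMap.range f) := by
    refine Module.length_eq_add_of_exact g₁ g₂ ?_ (fun q => by
      obtain ⟨n, rfl⟩ := Submodule.Quotient.mk_surjective _ q
      exact ⟨Submodule.Quotient.mk n, rfl⟩) ?_
    · rw [← LinearMap.ker_eq_bot, LinearMap.ker_eq_bot']
      intro q hq
      obtain ⟨m, rfl⟩ := Submodule.Quotient.mk_surjective K q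
      simp only [g₁, Submodule.mapQ_apply, Submodule.Quotient.mk_eq_zero] at hq ⊢
      obtain ⟨m', hm', h⟩ := hq
      rwa [← hf h]
    · intro q
      obtain ⟨n, rfl⟩ := Submodule.Quotient.mk_surjective J q
      simp only [g₂, Submodule.mapQ_apply, LinearMap.id_apply, Submodule.Quotient.mk_eq_zero]
      constructor
      · rintro ⟨m, rfl⟩
        exact ⟨Submodule.Quotient.mk m, rfl⟩
      · rintro ⟨q, hq⟩
        obtain ⟨m, rfl⟩ := Submodule.Quotient.mk_surjective K q
        simp only [g₁, Submodule.mapQ_apply] at hq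
        have := (Submodule.Quotient.eq J).1 hq.symm
        have h2 : n = (n - f m) + f m := by abel
        rw [h2]
        exact add_mem (hJr this) ⟨m, rfl⟩
  have e2 : Module.length R (N ⧸ J) = Module.length R (N ⧸ LinearMap.range f) +
      Module.length R (N ⧸ K') := by
    refine Module.length_eq_add_of_exact g₃ g₄ ?_ (fun q => by
      obtain ⟨n, rfl⟩ := Submodule.Quotient.mk_surjective _ q
      exact ⟨Submodule.Quotient.mk n, rfl⟩) ?_
    · rw [← LinearMap.ker_eq_bot, LinearMap.ker_eq_bot']
      intro q hq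
      obtain ⟨n, rfl⟩ := Submodule.Quotient.mk_surjective _ q
      simp only [g₃, Submodule.mapQ_apply, Submodule.Quotient.mk_eq_zero,
        LinearMap.lsmul_apply] at hq ⊢
      obtain ⟨m, hm⟩ := (hJ _).1 hq
      have : n - f m = 0 := hx _ (by rw [smul_sub, hm, sub_self])
      rw [sub_eq_zero.1 this]
      exact ⟨m, rfl⟩
    · intro q
      obtain ⟨n, rfl⟩ := Submodule.Quotient.mk_surjective J q
      simp only [g₄, Submodule.mapQ_apply, LinearMap.id_apply, Submodule.Quotient.mk_eq_zero]
      constructor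
      · intro h
        obtain ⟨m, rfl⟩ := (hK' _).1 h
        exact ⟨Submodule.Quotient.mk m, rfl⟩
      · rintro ⟨q, hq⟩
        obtain ⟨m, rfl⟩ := Submodule.Quotient.mk_surjective _ q
        simp only [g₃, Submodule.mapQ_apply, LinearMap.lsmul_apply] at hq
        have := (Submodule.Quotient.eq J).1 hq.symm
        have h2 : n = (n - x • m) + x • m := by abel
        rw [h2]
        exact add_mem (hJK this) ((hK' _).2 ⟨m, rfl⟩)
  rw [e2, add_comm] at e1
  exact (WithTop.add_right_cancel hfin e1).symm

end Sub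

section Ord

open IsLocalRing

variable {R : Type u} {T : Type v} [CommRing R] [IsLocalRing R] [CommRing T] [Algebra R T]
  [Finite (MaximalSpectrum T)]
  (L : MaximalSpectrum T → Type w) [∀ P, CommRing (L P)] [∀ P, Algebra T (L P)]
  [∀ P, IsLocalization.AtPrime (L P) P.asIdeal] [∀ P, IsLocalRing (L P)]
  [∀ P, Algebra R (L P)] [∀ P, IsScalarTower R T (L P)] [∀ P, IsLocalHom (algebraMap R (L P))]

omit [IsLocalRing R] [∀ P, IsLocalHom (algebraMap R (L P))] [∀ P, IsLocalRing (L P)] in
/-- The length over `R` of a finite length quotient of `T` is the sum of the lengths of the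
local pieces. -/
theorem length_quot_eq_sum (t : T) (ht : Module.length T (T ⧸ Ideal.span {t}) ≠ ⊤) [Fintype (MaximalSpectrum T)] :
    Module.length R (T ⧸ Ideal.span {t}) =
      ∑ P : MaximalSpectrum T, Module.length R (L P ⧸ Ideal.span {algebraMap T (L P) t}) := by
  have hfl : IsFiniteLength T (T ⧸ Ideal.span {t}) := Module.length_ne_top_iff.1 ht
  have hbij := bijective_pi (N := T ⧸ Ideal.span {t})
    (fun P => L P ⧸ (Submodule.localized' (L P) P.asIdeal.primeCompl
      (Algebra.linearMap T (L P)) (Ideal.span {t})))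
    (fun P => Submodule.toLocalizedQuotient' (L P) P.asIdeal.primeCompl
      (Algebra.linearMap T (L P)) (Ideal.span {t})) hfl
  rw [((LinearEquiv.ofBijective _ hbij).restrictScalars R).length_eq,
    Module.length_pi_of_fintype]
  refine Finset.sum_congr rfl fun P _ => ?_
  have : Submodule.localized' (L P) P.asIdeal.primeCompl
      (Algebra.linearMap T (L P)) (Ideal.span {t}) = Ideal.span {algebraMap T (L P) t} := by
    rw [Ideal.span, Submodule.localized'_span]
    simp [Ideal.span]
  exact ((Submodule.quotEquivOfEq _ _ this).restrictScalars R).length_eq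

/-- The order of a semilocal extension: `ord_R (x)` is the sum over the maximal ideals `P` of the
extension `T` of `[κ(P) : κ] ord_{T_P} (x)`. -/
theorem ord_eq_sum [Fintype (MaximalSpectrum T)] (hinj : Function.Injective (algebraMap R T))
    (hfin : Module.length R (T ⧸ LinearMap.range (Algebra.linearMap R T)) ≠ ⊤)
    (x : R) (hx : algebraMap R T x ∈ nonZeroDivisors T) (hord : Ring.ord R x ≠ ⊤) :
    Ring.ord R x = ∑ P : MaximalSpectrum T, Ring.ord (L P) (algebraMap R (L P) x) *
      Module.length (ResidueField R) (ResidueField (L P)) := by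
  have h1 : Ring.ord R x = Module.length R (T ⧸ Ideal.span {algebraMap R T x}) := by
    have := length_quot_eq (Algebra.linearMap R T) hinj x (fun n hn => by
      rw [Algebra.smul_def] at hn
      exact (mul_right_mem_nonZeroDivisors_eq_zero_iff hx).1 (by rwa [mul_comm] at hn)) hfin
      (Ideal.span {x}) (fun m => by
        rw [Ideal.mem_span_singleton']
        simp [mul_comm]) ((Ideal.span {algebraMap R T x}).restrictScalars R) (fun m => by
        rw [Submodule.restrictScalars_mem, Ideal.mem_span_singleton']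
        simp [Algebra.smul_def, mul_comm])
    rw [Ring.ord, this]
    exact ((Submodule.Quotient.restrictScalarsEquiv R (Ideal.span {algebraMap R T x}))).length_eq
  have h2 : Module.length T (T ⧸ Ideal.span {algebraMap R T x}) ≠ ⊤ := by
    have h3 : IsFiniteLength R (T ⧸ Ideal.span {algebraMap R T x}) := by
      rw [← Module.length_ne_top_iff, ← h1]
      exact hord
    rw [Module.length_ne_top_iff]
    rw [isFiniteLength_iff_isNoetherian_isArtinian] at h3 ⊢
    exact h3.imp (isNoetherian_of_tower R) (isArtinian_of_tower R)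
  rw [h1, length_quot_eq_sum L _ h2]
  refine Finset.sum_congr rfl fun P _ => ?_
  rw [IsLocalRing.length_restrictScalars R (L P), ← IsScalarTower.algebraMap_apply, Ring.ord]

end Ord

end Groth.Agent.CycA.TameLen
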