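import Groth.Agent.CycA.TameSym
import Mathlib.RingTheory.Norm.Transitivity
import Mathlib.RingTheory.LocalRing.ResidueField.Ideal
import Mathlib.RingTheory.QuasiFinite.Basic

/-!
# The tame symbol as a product of norms of local symbols
-/

set_option autoImplicit false
universe u v w

namespace Groth.Agent.CycA.TameNorm

open IsLocalRing CycAlg Groth.Agent.CycA.TameSym Groth.Agent.CycA.TameLen

/-- The tame value is the product of the norms of the local symbols. -/
theorem value_eq {A : Type u} [CommRing A] [IsLocalRing A] {a b : A} (D : TameData A a b) :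
    haveI := D.isLocalHom
    D.value = ∏ᶠ q : MaximalSpectrum D.B, Algebra.norm (ResidueField A)
      (locSym (Localization.AtPrime q.asIdeal) (algebraMap A (Localization.AtPrime q.asIdeal) a)
        (algebraMap A (Localization.AtPrime q.asIdeal) b)) := by
  unfold TameData.value
  refine finprod_congr fun q => ?_
  unfold TameData.localFactor
  have := D.isLocalHom q
  rw [← map_pow]
  congr 1
  exact (locSym_eq (⟨D.π q, D.π_mem q, D.u₁ q, D.u₂ q, D.e₁ q, D.e₂ q, D.fac₁ q, D.fac₂ q⟩ :
    Fac _ _ _)).symm

section Finite

variable (A : Type u) (B : Type v) [CommRing A] [IsLocalRing A] [CommRing B]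
    [Algebra A B] [Module.Finite A B]

variable {B} in
lemma comap_maximal (q : MaximalSpectrum B) : q.asIdeal.comap (algebraMap A B) = maximalIdeal A := by
  have := q.isMaximal
  exact IsLocalRing.eq_maximalIdeal (Ideal.IsMaximal.under A q.asIdeal)

include A in
lemma finite_maximalSpectrum : Finite (MaximalSpectrum B) := by
  have h := Algebra.QuasiFinite.finite_primesOver (S := B) (maximalIdeal A)
  have : Finite ((maximalIdeal A).primesOver B) := h
  refine Finite.of_injective (fun q : MaximalSpectrum B =>
    (⟨q.asIdeal, q.isMaximal.isPrime, ⟨(comap_maximal A q).symm⟩⟩ :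
      (maximalIdeal A).primesOver B)) ?_
  intro q q' h
  exact MaximalSpectrum.ext (congrArg Subtype.val h)

variable {B} in
lemma isLocalHom_algebraMap (q : MaximalSpectrum B) :
    IsLocalHom (algebraMap A (Localization.AtPrime q.asIdeal)) := by
  refine ⟨fun a ha => ?_⟩
  by_contra h
  have h1 : a ∈ maximalIdeal A := h
  rw [← comap_maximal A q, Ideal.mem_comap] at h1
  rw [IsScalarTower.algebraMap_apply A B] at ha
  exact ((IsLocalization.AtPrime.isUnit_to_map_iff (Localization.AtPrime q.asIdeal) q.asIdeal _).1 ha) h1

variable {B} in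
lemma finite_residueField (q : MaximalSpectrum B)
    [IsLocalHom (algebraMap A (Localization.AtPrime q.asIdeal))] :
    Module.Finite (ResidueField A) (ResidueField (Localization.AtPrime q.asIdeal)) := by
  have := q.isMaximal
  have h1 : Module.Finite B (ResidueField (Localization.AtPrime q.asIdeal)) :=
    inferInstanceAs (Module.Finite B q.asIdeal.ResidueField)
  have h2 : Module.Finite A (ResidueField (Localization.AtPrime q.asIdeal)) :=
    Module.Finite.trans B _
  exact Module.Finite.of_restrictScalars_finite A _ _

end Finite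

section Transfer

lemma ord_equiv {L : Type u} {L' : Type v} [CommRing L] [CommRing L'] (φ : L ≃+* L') (x : L) :
    Ring.ord L' (φ x) = Ring.ord L x := by
  let : Algebra L L' := φ.toRingHom.toAlgebra
  have hs : Function.Surjective (algebraMap L L') := φ.surjective
  rw [Ring.ord, Ring.ord, ← Module.length_eq_of_surjective (S := L) hs]
  symm
  let ψ : L ≃ₗ[L] L' :=
    { φ with
      map_smul' := fun r y => by
        simp only [RingHom.id_apply, Algebra.smul_def]
        exact map_mul φ r y }
  have h : Submodule.map (ψ : L →ₗ[L] L') (Ideal.span {x}) =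
      Submodule.restrictScalars L (Ideal.span {φ x}) := by
    ext y
    simp only [Submodule.mem_map, Submodule.restrictScalars_mem, Ideal.mem_span_singleton']
    constructor
    · rintro ⟨z, ⟨a, rfl⟩, rfl⟩
      exact ⟨φ a, (map_mul φ a x).symm⟩
    · rintro ⟨a, rfl⟩
      obtain ⟨a, rfl⟩ := φ.surjective a
      exact ⟨a * x, ⟨a, rfl⟩, map_mul φ a x⟩
  rw [(Submodule.Quotient.equiv _ _ ψ h).length_eq]
  exact (Submodule.Quotient.restrictScalarsEquiv L (Ideal.span {φ x})).length_eq

/-- The local symbol is invariant under ring isomorphisms. -/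
lemma locSym_equiv {L : Type u} {L' : Type v} [CommRing L] [IsLocalRing L] [CommRing L']
    [IsLocalRing L'] (φ : L ≃+* L') (x y : L) :
    locSym L' (φ x) (φ y) = ResidueField.mapEquiv φ (locSym L x y) := by
  have hreg : ∀ z : L, z ∈ nonZeroDivisors L → φ z ∈ nonZeroDivisors L' := by
    intro z hz
    rw [mem_nonZeroDivisors_iff_right] at hz ⊢
    intro w hw
    obtain ⟨w, rfl⟩ := φ.surjective w
    rw [← map_mul, map_eq_zero_iff φ φ.injective] at hw
    rw [hz w hw, map_zero]
  have hreg' : ∀ z : L', z ∈ nonZeroDivisors L' → φ.symm z ∈ nonZeroDivisors L := by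
    intro z hz
    rw [mem_nonZeroDivisors_iff_right] at hz ⊢
    intro w hw
    have h1 : φ w * z = 0 := by
      have := congrArg φ hw
      simpa using this
    have := hz _ h1
    simpa using this
  by_cases h : Nonempty (Fac L x y)
  · obtain ⟨F⟩ := h
    have : IsLocalHom (φ : L →+* L') := inferInstance
    rw [locSym_eq F]
    have hm : (φ : L →+* L') F.π ∈ nonZeroDivisors L' := hreg _ F.π_mem
    have h2 : locSym L' (φ x) (φ y) = (F.map (φ : L →+* L') hm).val :=
      locSym_eq (F.map (φ : L →+* L') hm)
    rw [h2, Fac.val, Fac.val, Fac.base_map, map_pow]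
    have h3 : Ring.ord L' (F.map (φ : L →+* L') hm).π = Ring.ord L F.π := ord_equiv φ F.π
    rw [h3]
    rfl
  · have h' : ¬ Nonempty (Fac L' (φ x) (φ y)) := by
      rintro ⟨F⟩
      refine h ⟨?_⟩
      have G := F.map (φ.symm : L' →+* L) (hreg' _ F.π_mem)
      simpa using G
    rw [locSym, locSym, dif_neg h, dif_neg h', map_one]

/-- The norm of the local symbol is invariant under isomorphisms of algebras. -/
lemma norm_locSym_equiv {A : Type w} [CommRing A] [IsLocalRing A]
    {L : Type u} {L' : Type v} [CommRing L] [IsLocalRing L] [CommRing L']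
    [IsLocalRing L'] [Algebra A L] [Algebra A L'] [IsLocalHom (algebraMap A L)]
    [IsLocalHom (algebraMap A L')] (φ : L ≃ₐ[A] L') (a b : A) :
    Algebra.norm (ResidueField A) (locSym L' (algebraMap A L' a) (algebraMap A L' b)) =
    Algebra.norm (ResidueField A) (locSym L (algebraMap A L a) (algebraMap A L b)) := by
  have h := locSym_equiv (φ : L ≃+* L') (algebraMap A L a) (algebraMap A L b)
  have h1 : (φ : L ≃+* L') (algebraMap A L a) = algebraMap A L' a := φ.commutes a
  have h2 : (φ : L ≃+* L') (algebraMap A L b) = algebraMap A L' b := φ.commutes b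
  rw [h1, h2] at h
  rw [h]
  exact Algebra.norm_eq_of_algEquiv (ResidueField.mapAlgEquiv' φ) _

lemma algebraMap_mem_nonZeroDivisors {T : Type u} [CommRing T] (P : Ideal T) [P.IsPrime]
    {L : Type v} [CommRing L] [Algebra T L] [IsLocalization.AtPrime L P] {t : T}
    (ht : t ∈ nonZeroDivisors T) : algebraMap T L t ∈ nonZeroDivisors L :=
  (IsLocalization.toLocalizationMap P.primeCompl L).map_nonZeroDivisors_le ⟨t, ht, rfl⟩

end Transfer

section Product

lemma toNat_sum_mul {ι : Type*} (s : Finset ι) (a : ι → ℕ∞) (n : ι → ℕ) (hn : ∀ i ∈ s, n i ≠ 0)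
    (h : ∑ i ∈ s, a i * (n i : ℕ∞) ≠ ⊤) :
    (∑ i ∈ s, a i * (n i : ℕ∞)).toNat = ∑ i ∈ s, (a i).toNat * n i := by
  have ha : ∀ i ∈ s, a i ≠ ⊤ := by
    intro i hi hai
    apply h
    rw [← top_le_iff]
    refine le_trans ?_ (Finset.single_le_sum (f := fun i => a i * (n i : ℕ∞))
      (fun _ _ => zero_le) hi)
    simp only [hai]
    rw [ENat.top_mul (by exact_mod_cast hn i hi)]
  have h1 : ∑ i ∈ s, a i * (n i : ℕ∞) = ((∑ i ∈ s, (a i).toNat * n i : ℕ) : ℕ∞) := by
    push_cast
    refine Finset.sum_congr rfl fun i hi => ?_
    rw [ENat.natCast_toNat (ha i hi)]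
  rw [h1, ENat.toNat_natCast]

variable {R : Type u} {T : Type v} [CommRing R] [IsLocalRing R] [CommRing T] [Algebra R T]
  [Module.Finite R T]

/-- For a finite extension `T` of a local ring `R` with finite length cokernel, the order of
`x` on `R` as a natural number in terms of the local rings of `T`. -/
theorem toNat_ord_eq_sum [Fintype (MaximalSpectrum T)] (hinj : Function.Injective (algebraMap R T))
    (hfin : Module.length R (T ⧸ LinearMap.range (Algebra.linearMap R T)) ≠ ⊤)
    [∀ q : MaximalSpectrum T, IsLocalHom (algebraMap R (Localization.AtPrime q.asIdeal))]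
    (x : R) (hx : algebraMap R T x ∈ nonZeroDivisors T) (hord : Ring.ord R x ≠ ⊤) :
    (Ring.ord R x).toNat = ∑ P : MaximalSpectrum T,
      (Ring.ord (Localization.AtPrime P.asIdeal)
        (algebraMap R (Localization.AtPrime P.asIdeal) x)).toNat *
      Module.finrank (ResidueField R) (ResidueField (Localization.AtPrime P.asIdeal)) := by
  have h := ord_eq_sum (fun P : MaximalSpectrum T => Localization.AtPrime P.asIdeal)
    hinj hfin x hx hord
  have h2 : ∀ P : MaximalSpectrum T,
      Module.length (ResidueField R) (ResidueField (Localization.AtPrime P.asIdeal)) =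
      (Module.finrank (ResidueField R) (ResidueField (Localization.AtPrime P.asIdeal)) : ℕ∞) := by
    intro P
    have := finite_residueField R P
    exact Module.length_eq_finrank _ _
  simp_rw [h2] at h
  rw [h, toNat_sum_mul]
  · intro P _
    have := finite_residueField R P
    exact Module.finrank_pos.ne'
  · rw [← h]
    exact hord

/-- For a finite extension `T` of a local ring `R` with finite length cokernel, the product of
the norms of the local symbols at the maximal ideals of `T` is the local symbol over `R`. -/
theorem prod_norm_locSym [Fintype (MaximalSpectrum T)] (hinj : Function.Injective (algebraMap R T))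
    (hfin : Module.length R (T ⧸ LinearMap.range (Algebra.linearMap R T)) ≠ ⊤)
    [∀ q : MaximalSpectrum T, IsLocalHom (algebraMap R (Localization.AtPrime q.asIdeal))]
    {x y : R} (F : Fac R x y) (hx : algebraMap R T F.π ∈ nonZeroDivisors T)
    (hord : Ring.ord R F.π ≠ ⊤) :
    ∏ P : MaximalSpectrum T, Algebra.norm (ResidueField R)
      (locSym (Localization.AtPrime P.asIdeal) (algebraMap R (Localization.AtPrime P.asIdeal) x)
        (algebraMap R (Localization.AtPrime P.asIdeal) y)) = locSym R x y := by
  rw [locSym_eq F, Fac.val, toNat_ord_eq_sum hinj hfin F.π hx hord, ← Finset.prod_pow_eq_pow_sum]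
  refine Finset.prod_congr rfl fun P _ => ?_
  have hmem : algebraMap R (Localization.AtPrime P.asIdeal) F.π ∈
      nonZeroDivisors (Localization.AtPrime P.asIdeal) := by
    rw [IsScalarTower.algebraMap_apply R T]
    exact algebraMap_mem_nonZeroDivisors P.asIdeal hx
  rw [locSym_eq (F.map (algebraMap R (Localization.AtPrime P.asIdeal)) hmem), Fac.val,
    Fac.base_map, map_pow]
  have h1 : ResidueField.map (algebraMap R (Localization.AtPrime P.asIdeal)) F.base =
    algebraMap (ResidueField R) (ResidueField (Localization.AtPrime P.asIdeal)) F.base := rfl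
  rw [h1, Algebra.norm_algebraMap, ← pow_mul, mul_comm]
  rfl

end Product

end Groth.Agent.CycA.TameNorm
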