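import Groth.Agent.CycA.TameValue
import Mathlib.RingTheory.Ideal.AssociatedPrime.Basic

/-!
# Tools for the norm compatibility of the tame symbol
-/

set_option autoImplicit false
universe u v w

namespace Groth.Agent.CycA.TameNormProd

open IsLocalRing CycAlg Groth.Agent.CycA.TameSym Groth.Agent.CycA.TameLen
  Groth.Agent.CycA.TameNorm Groth.Agent.CycA.TameTower Groth.Agent.CycA.TameCompare
  Groth.Agent.CycA.TameCompositum Groth.Agent.CycA.TameValue

section Up

variable {A : Type u} {B : Type v} {C : Type w} [CommRing A] [IsLocalRing A]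
  [CommRing B] [CommRing C] [Algebra A B]
  [Algebra B C] [Module.Finite B C] [Algebra A C] [IsScalarTower A B C]

/-- Local factorizations pass from `B` to a finite extension `C` on which the non-unit is
regular. -/
lemma fac_up [∀ q : MaximalSpectrum B, IsLocalHom (algebraMap A (Localization.AtPrime q.asIdeal))]
    {a b c : A} (hc : c = a ∨ c = b) (hcm : c ∈ maximalIdeal A)
    (hcC : algebraMap A C c ∈ nonZeroDivisors C)
    (hfac : ∀ q : MaximalSpectrum B, Nonempty (Fac (Localization.AtPrime q.asIdeal)
      (algebraMap A (Localization.AtPrime q.asIdeal) a)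
      (algebraMap A (Localization.AtPrime q.asIdeal) b))) (Q : MaximalSpectrum C) :
    Nonempty (Fac (Localization.AtPrime Q.asIdeal)
      (algebraMap A (Localization.AtPrime Q.asIdeal) a)
      (algebraMap A (Localization.AtPrime Q.asIdeal) b)) := by
  obtain ⟨F⟩ := hfac (under B Q)
  let φ := Localization.localRingHom (under B Q).asIdeal Q.asIdeal (algebraMap B C) rfl
  have hφ : ∀ x : A, φ (algebraMap A (Localization.AtPrime (under B Q).asIdeal) x) =
      algebraMap A (Localization.AtPrime Q.asIdeal) x := by
    intro x
    have h1 : φ (algebraMap B (Localization.AtPrime (under B Q).asIdeal) (algebraMap A B x)) =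
        algebraMap C (Localization.AtPrime Q.asIdeal) (algebraMap B C (algebraMap A B x)) :=
      Localization.localRingHom_to_map _ _ _ rfl _
    rw [IsScalarTower.algebraMap_apply A B (Localization.AtPrime (under B Q).asIdeal),
      h1, IsScalarTower.algebraMap_apply A C
        (Localization.AtPrime Q.asIdeal), IsScalarTower.algebraMap_apply A B C]
  have hdvd := dvd_of_mem hc hcm F
  have hreg : φ F.π ∈ nonZeroDivisors (Localization.AtPrime Q.asIdeal) := by
    refine mem_nonZeroDivisors_of_dvd (map_dvd φ hdvd) ?_
    rw [hφ, IsScalarTower.algebraMap_apply A C]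
    exact algebraMap_mem_nonZeroDivisors Q.asIdeal hcC
  have G := F.map φ hreg
  rw [hφ, hφ] at G
  exact ⟨G⟩

end Up

section Equiv

/-- Transport of a factorization along an isomorphism of algebras. -/
lemma fac_equiv {A : Type u} [CommRing A] {L : Type v} {L' : Type w} [CommRing L] [CommRing L']
    [Algebra A L] [Algebra A L'] (e : L ≃ₐ[A] L') {a b : A}
    (h : Nonempty (Fac L (algebraMap A L a) (algebraMap A L b))) :
    Nonempty (Fac L' (algebraMap A L' a) (algebraMap A L' b)) := by
  obtain ⟨F⟩ := h
  have hreg : (e : L →+* L') F.π ∈ nonZeroDivisors L' := by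
    rw [mem_nonZeroDivisors_iff_right]
    intro w hw
    obtain ⟨w, rfl⟩ := e.surjective w
    have h1 : e (w * F.π) = 0 := by
      rw [map_mul]
      exact hw
    have h2 : w * F.π = 0 := (map_eq_zero_iff e e.injective).1 h1
    rw [(mul_right_mem_nonZeroDivisors_eq_zero_iff F.π_mem).1 h2, map_zero]
  have G := F.map (e : L →+* L') hreg
  have h1 : ∀ x : A, (e : L →+* L') (algebraMap A L x) = algebraMap A L' x := e.commutes
  rw [h1, h1] at G
  exact ⟨G⟩

end Equiv

section Regular

variable {A : Type u} {B : Type v} [CommRing A] [IsLocalRing A] [CommRing B] [Algebra A B]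

/-- If the maximal ideal is not associated to `B`, then regular elements of `A` are regular
on `B`. -/
lemma regular_of_not_mem_associatedPrimes (hB : IsFinExt A B (maximalIdeal A))
    (hass : maximalIdeal A ∉ associatedPrimes A B) {c : A} (hc : c ∈ nonZeroDivisors A) :
    algebraMap A B c ∈ nonZeroDivisors B := by
  obtain ⟨hinj, hfin, n, hn⟩ := hB
  rw [mem_nonZeroDivisors_iff_right]
  intro z hz
  by_contra hne
  apply hass
  have hkill : ∀ r ∈ maximalIdeal A ^ n, r • z = 0 := by
    intro r hr
    obtain ⟨y, hy⟩ := hn r hr z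
    have h1 : algebraMap A B (y * c) = 0 := by
      rw [map_mul, hy, smul_mul_assoc, hz, smul_zero]
    have h2 : y * c = 0 := hinj (by rw [h1, map_zero])
    have h3 : y = 0 := (mul_right_mem_nonZeroDivisors_eq_zero_iff hc).1 h2
    rw [← hy, h3, map_zero]
  refine ⟨inferInstance, z, ?_⟩
  apply le_antisymm
  · intro r hr
    refine ⟨n, ?_⟩
    rw [Submodule.mem_colon_singleton, Submodule.mem_bot]
    exact hkill _ (Ideal.pow_mem_pow hr n)
  · refine IsLocalRing.le_maximalIdeal ?_
    intro h
    rw [Ideal.radical_eq_top] at h
    have h1 : (1 : A) ∈ (⊥ : Submodule A B).colon {z} := h ▸ Submodule.mem_top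
    rw [Submodule.mem_colon_singleton, Submodule.mem_bot, one_smul] at h1
    exact hne h1

end Regular

section LocAt

variable {A : Type u} {B : Type v} {C : Type w} [CommRing A] [IsNoetherianRing A]
  [Ring.KrullDimLE 1 A] [CommRing B] [CommRing C] [Algebra A B] [Module.Finite A B]
  [Algebra B C] [Module.Finite B C] [Algebra A C] [IsScalarTower A B C]

/-- The localization of a finite extension with cokernel killed by a power of a regular element
is a finite extension of the local ring. -/
lemma isFinExt_locAt (q : MaximalSpectrum B) {c : A} (hc : c ∈ nonZeroDivisors A)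
    (hBC : Function.Injective (algebraMap B C))
    {n : ℕ} (hn : ∀ x : C, c ^ n • x ∈ (algebraMap B C).range) :
    IsFinExt (Localization.AtPrime q.asIdeal) (locAt C q)
      (maximalIdeal (Localization.AtPrime q.asIdeal)) := by
  refine ⟨localizationAlgebra_injective _ _ hBC, inferInstance, ?_⟩
  have h1 := length_coker_locAt_ne_top (C := C) q hc hn
  rw [Module.length_ne_top_iff] at h1
  obtain ⟨k, hk⟩ := exists_pow_smul_eq_zero h1
  refine ⟨k, fun r hr x => ?_⟩
  have h2 := hk r hr (Submodule.Quotient.mk x)
  rw [← Submodule.Quotient.mk_smul, Submodule.Quotient.mk_eq_zero] at h2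
  exact h2

end LocAt

end Groth.Agent.CycA.TameNormProd
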