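import Groth.Prelude.Def_Tame
import Groth.Agent.CycA.TameLen

/-!
# The local tame symbol

For a local ring `L` and two elements `x`, `y` which are units times powers of one nonzerodivisor,
`locSym L x y` is the local factor of the tame symbol, as an element of the residue field of `L`.
-/

set_option autoImplicit false
universe u v w

namespace Groth.Agent.CycA.TameSym

open IsLocalRing

/-- A simultaneous factorization of two elements of a ring as units times powers of one
nonzerodivisor. -/
structure Fac (L : Type u) [CommRing L] (x y : L) : Type u where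
  /-- the common parameter -/
  π : L
  π_mem : π ∈ nonZeroDivisors L
  /-- the first unit -/
  u : Lˣ
  /-- the second unit -/
  v : Lˣ
  /-- the first exponent -/
  e : ℕ
  /-- the second exponent -/
  f : ℕ
  hx : x = u * π ^ e
  hy : y = v * π ^ f

lemma toNat_nsmul (n : ℕ) (m : ℕ∞) : (n • m).toNat = n * m.toNat := by
  rw [nsmul_eq_mul]
  simp

lemma neg_one_pow_mul_self {R : Type*} [CommRing R] (c m : ℕ) :
    ((-1 : R) ^ c) ^ m = (-1) ^ (c * m * m) := by
  rw [pow_mul, pow_mul]
  rcases neg_one_pow_eq_or R c with h | h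
  · simp [h]
  · rw [h]
    rcases Nat.even_or_odd m with hm | hm
    · simp [hm.neg_one_pow]
    · simp [hm.neg_one_pow]

namespace Fac

section General

variable {L : Type u} [CommRing L] {x y : L}

lemma ord_x (F : Fac L x y) : (Ring.ord L x).toNat = F.e * (Ring.ord L F.π).toNat := by
  conv_lhs => rw [F.hx]
  rw [Ring.ord_mul_of_isUnit_left F.u.isUnit, Ring.ord_pow F.π_mem, toNat_nsmul]

lemma ord_y (F : Fac L x y) : (Ring.ord L y).toNat = F.f * (Ring.ord L F.π).toNat := by
  conv_lhs => rw [F.hy]
  rw [Ring.ord_mul_of_isUnit_left F.v.isUnit, Ring.ord_pow F.π_mem, toNat_nsmul]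

lemma x_mem (F : Fac L x y) : x ∈ nonZeroDivisors L := by
  rw [F.hx]
  exact mul_mem F.u.isUnit.mem_nonZeroDivisors (pow_mem F.π_mem _)

lemma y_mem (F : Fac L x y) : y ∈ nonZeroDivisors L := by
  rw [F.hy]
  exact mul_mem F.v.isUnit.mem_nonZeroDivisors (pow_mem F.π_mem _)

/-- The image of a factorization under a ring homomorphism. -/
def map {L' : Type v} [CommRing L'] (F : Fac L x y) (φ : L →+* L')
    (h : φ F.π ∈ nonZeroDivisors L') : Fac L' (φ x) (φ y) where
  π := φ F.π
  π_mem := h
  u := Units.map φ.toMonoidHom F.u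
  v := Units.map φ.toMonoidHom F.v
  e := F.e
  f := F.f
  hx := by
    conv_lhs => rw [F.hx]
    simp
  hy := by
    conv_lhs => rw [F.hy]
    simp

/-- The two relations `v^(e m) x^(f m) = u^(f m) y^(e m)`. -/
lemma rel (F : Fac L x y) (m : ℕ) :
    (F.v : L) ^ (F.e * m) * x ^ (F.f * m) = (F.u : L) ^ (F.f * m) * y ^ (F.e * m) := by
  obtain ⟨π, hπ, u, v, e, f, hx, hy⟩ := F
  subst hx hy
  simp only [mul_pow, ← pow_mul]
  have : e * (f * m) = f * (e * m) := by ring
  rw [this]
  ring

end General

variable {L : Type u} [CommRing L] [IsLocalRing L] {x y : L}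

/-- The basic element `(-1)^(e f) u^f v^(-e)` of the residue field. -/
noncomputable def base (F : Fac L x y) : ResidueField L :=
  (-1) ^ (F.e * F.f) * residue L (F.u : L) ^ F.f * (residue L (F.v : L) ^ F.e)⁻¹

/-- The value of the local symbol for one factorization. -/
noncomputable def val (F : Fac L x y) : ResidueField L :=
  F.base ^ (Ring.ord L F.π).toNat

lemma residue_unit_ne_zero (u : Lˣ) : residue L (u : L) ≠ 0 :=
  (residue_ne_zero_iff_isUnit _).2 u.isUnit

lemma base_ne_zero (F : Fac L x y) : F.base ≠ 0 := by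
  unfold base
  have h1 := residue_unit_ne_zero F.u
  have h2 := residue_unit_ne_zero F.v
  exact mul_ne_zero (mul_ne_zero (pow_ne_zero _ (neg_ne_zero.2 one_ne_zero)) (pow_ne_zero _ h1)) (inv_ne_zero (pow_ne_zero _ h2))

lemma val_ne_zero (F : Fac L x y) : F.val ≠ 0 := pow_ne_zero _ F.base_ne_zero

lemma val_eq' (F : Fac L x y) : F.val = (-1) ^ ((Ring.ord L x).toNat * (Ring.ord L y).toNat) *
    residue L (F.u : L) ^ (Ring.ord L y).toNat * (residue L (F.v : L) ^ (Ring.ord L x).toNat)⁻¹ := by
  rw [F.ord_x, F.ord_y, val, base, mul_pow, mul_pow, inv_pow, ← pow_mul (residue L (F.u : L)),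
    ← pow_mul (residue L (F.v : L)), neg_one_pow_mul_self]
  congr 3
  ring

/-- The value does not depend on the factorization. -/
theorem val_eq (F F' : Fac L x y) : F.val = F'.val := by
  rw [F.val_eq', F'.val_eq', mul_assoc, mul_assoc]
  congr 1
  rw [← div_eq_mul_inv, ← div_eq_mul_inv, div_eq_div_iff (pow_ne_zero _ (residue_unit_ne_zero _))
    (pow_ne_zero _ (residue_unit_ne_zero _)), ← map_pow, ← map_pow, ← map_pow, ← map_pow,
    ← map_mul, ← map_mul]
  congr 1
  have h1 := F.rel (Ring.ord L F.π).toNat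
  have h2 := F'.rel (Ring.ord L F'.π).toNat
  rw [← F.ord_x, ← F.ord_y] at h1
  rw [← F'.ord_x, ← F'.ord_y] at h2
  set a := (Ring.ord L x).toNat
  set b := (Ring.ord L y).toNat
  have hy : y ^ a ∈ nonZeroDivisors L := pow_mem F.y_mem _
  refine (mul_cancel_right_mem_nonZeroDivisors hy).1 ?_
  calc (F.u : L) ^ b * (F'.v : L) ^ a * y ^ a = ((F.u : L) ^ b * y ^ a) * (F'.v : L) ^ a := by ring
    _ = ((F.v : L) ^ a * x ^ b) * (F'.v : L) ^ a := by rw [h1]
    _ = (F'.v : L) ^ a * x ^ b * (F.v : L) ^ a := by ring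
    _ = (F'.u : L) ^ b * y ^ a * (F.v : L) ^ a := by rw [h2]
    _ = (F'.u : L) ^ b * (F.v : L) ^ a * y ^ a := by ring

lemma base_map {L' : Type v} [CommRing L'] [IsLocalRing L'] (F : Fac L x y) (φ : L →+* L')
    [IsLocalHom φ] (h : φ F.π ∈ nonZeroDivisors L') :
    (F.map φ h).base = ResidueField.map φ F.base := by
  simp [base, map, ResidueField.map_residue]

end Fac

/-- The local tame symbol: the common value of all factorizations (and `1` when there is none). -/
noncomputable def locSym (L : Type u) [CommRing L] [IsLocalRing L] (x y : L) : ResidueField L :=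
  open Classical in if h : Nonempty (Fac L x y) then h.some.val else 1

variable {L : Type u} [CommRing L] [IsLocalRing L] {x y : L}

theorem locSym_eq (F : Fac L x y) : locSym L x y = F.val := by
  have h : Nonempty (Fac L x y) := ⟨F⟩
  rw [locSym, dif_pos h]
  exact Fac.val_eq _ _

lemma locSym_ne_zero (L : Type u) [CommRing L] [IsLocalRing L] (x y : L) : locSym L x y ≠ 0 := by
  rw [locSym]
  split_ifs with h
  · exact Fac.val_ne_zero _
  · exact one_ne_zero

end Groth.Agent.CycA.TameSym
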