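import Groth.Agent.CycA.TameNorm
import Mathlib.RingTheory.Localization.LocalizationLocalization
import Mathlib.RingTheory.Ideal.GoingUp
import Mathlib.RingTheory.Localization.Integral
import Mathlib.RingTheory.Localization.Finiteness

/-!
# Regrouping products over the maximal ideals in a tower of finite algebras
-/

set_option autoImplicit false
universe u v w

namespace Groth.Agent.CycA.TameTower

open IsLocalRing CycAlg Groth.Agent.CycA.TameSym Groth.Agent.CycA.TameLen
  Groth.Agent.CycA.TameNorm

section Basic

variable {B : Type v} {C : Type w} [CommRing B] [CommRing C] [Algebra B C] [Module.Finite B C]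

/-- The localization of the `B`-algebra `C` at a maximal ideal `q` of `B`. -/
abbrev locAt (C : Type w) [CommRing C] [Algebra B C] (q : MaximalSpectrum B) : Type w :=
  Localization (Algebra.algebraMapSubmonoid C q.asIdeal.primeCompl)

instance finite_locAt (q : MaximalSpectrum B) :
    Module.Finite (Localization.AtPrime q.asIdeal) (locAt C q) :=
  Module.Finite.of_isLocalization B C q.asIdeal.primeCompl

/-- The maximal ideal of `B` below a maximal ideal of `C`. -/
def under (B : Type v) [CommRing B] [Algebra B C] [Module.Finite B C] (Q : MaximalSpectrum C) :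
    MaximalSpectrum B :=
  ⟨Q.asIdeal.comap (algebraMap B C), by
    have := Q.isMaximal
    exact Ideal.IsMaximal.under B Q.asIdeal⟩

lemma comap_comap (q : MaximalSpectrum B) (P : MaximalSpectrum (locAt C q)) :
    (P.asIdeal.comap (algebraMap C (locAt C q))).comap (algebraMap B C) = q.asIdeal := by
  rw [Ideal.comap_comap, ← IsScalarTower.algebraMap_eq,
    IsScalarTower.algebraMap_eq B (Localization.AtPrime q.asIdeal) (locAt C q),
    ← Ideal.comap_comap, comap_maximal (Localization.AtPrime q.asIdeal) P]
  exact IsLocalization.AtPrime.under_maximalIdeal _ q.asIdeal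

/-- The maximal ideal of `C` below a maximal ideal of `locAt C q`. -/
def down (q : MaximalSpectrum B) (P : MaximalSpectrum (locAt C q)) : MaximalSpectrum C :=
  ⟨P.asIdeal.comap (algebraMap C (locAt C q)), by
    have := P.isMaximal
    have hq := q.isMaximal
    have hP : (P.asIdeal.comap (algebraMap C (locAt C q))).IsPrime := inferInstance
    refine Ideal.isMaximal_of_isIntegral_of_isMaximal_comap (R := B) _ ?_
    rw [comap_comap]
    exact hq⟩

lemma under_down (q : MaximalSpectrum B) (P : MaximalSpectrum (locAt C q)) :
    under B (down q P) = q := MaximalSpectrum.ext (comap_comap q P)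

lemma down_injective (q : MaximalSpectrum B) :
    Function.Injective (down q : MaximalSpectrum (locAt C q) → MaximalSpectrum C) := by
  intro P P' h
  have h1 : P.asIdeal.comap (algebraMap C (locAt C q)) = P'.asIdeal.comap (algebraMap C (locAt C q)) :=
    congrArg MaximalSpectrum.asIdeal h
  refine MaximalSpectrum.ext ?_
  have e1 := IsLocalization.map_under (Algebra.algebraMapSubmonoid C q.asIdeal.primeCompl)
    (locAt C q) P.asIdeal
  have e2 := IsLocalization.map_under (Algebra.algebraMapSubmonoid C q.asIdeal.primeCompl)
    (locAt C q) P'.asIdeal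
  rw [← e1, ← e2]
  exact congrArg _ h1

lemma exists_down (q : MaximalSpectrum B) (Q : MaximalSpectrum C) (h : under B Q = q) :
    ∃ P, down q P = Q := by
  have hQ := Q.isMaximal
  have hdisj : Disjoint (Algebra.algebraMapSubmonoid C q.asIdeal.primeCompl : Set C)
      (Q.asIdeal : Set C) := by
    rw [Set.disjoint_left]
    rintro _ ⟨x, hx, rfl⟩ hxQ
    apply hx
    rw [← h]
    exact hxQ
  have hprime := IsLocalization.isPrime_of_isPrime_disjoint
    (Algebra.algebraMapSubmonoid C q.asIdeal.primeCompl) (locAt C q) Q.asIdeal hQ.isPrime hdisj
  have hcomap := IsLocalization.under_map_of_isPrime_disjoint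
    (Algebra.algebraMapSubmonoid C q.asIdeal.primeCompl) (locAt C q) hQ.isPrime hdisj
  have hmax : (Ideal.map (algebraMap C (locAt C q)) Q.asIdeal).IsMaximal := by
    obtain ⟨M, hM, hle⟩ := Ideal.exists_le_maximal _ hprime.ne_top
    have h1 : Q.asIdeal = M.comap (algebraMap C (locAt C q)) := by
      refine hQ.eq_of_le (Ideal.IsPrime.ne_top inferInstance) ?_
      exact Ideal.map_le_iff_le_comap.1 hle
    have h2 : Ideal.map (algebraMap C (locAt C q)) Q.asIdeal = M := by
      rw [h1]
      exact IsLocalization.map_under (Algebra.algebraMapSubmonoid C q.asIdeal.primeCompl)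
        (locAt C q) M
    rw [h2]
    exact hM
  exact ⟨⟨_, hmax⟩, MaximalSpectrum.ext hcomap⟩

instance finite_max_locAt (q : MaximalSpectrum B) : Finite (MaximalSpectrum (locAt C q)) :=
  finite_maximalSpectrum (Localization.AtPrime q.asIdeal) (locAt C q)

instance isLocalHom_locAt (q : MaximalSpectrum B) (P : MaximalSpectrum (locAt C q)) :
    IsLocalHom (algebraMap (Localization.AtPrime q.asIdeal) (Localization.AtPrime P.asIdeal)) :=
  isLocalHom_algebraMap (Localization.AtPrime q.asIdeal) P

end Basic

section Regroup

variable {A : Type u} {B : Type v} {C : Type w} [CommRing A] [IsLocalRing A] [CommRing B]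
  [CommRing C] [Algebra A B] [Algebra B C] [Module.Finite B C] [Algebra A C] [IsScalarTower A B C]

omit [IsLocalRing A] [Module.Finite B C] in
lemma isScalarTower_locAt (q : MaximalSpectrum B) :
    IsScalarTower A (Localization.AtPrime q.asIdeal) (locAt C q) := by
  refine IsScalarTower.of_algebraMap_eq fun a => ?_
  rw [IsScalarTower.algebraMap_apply A B (Localization.AtPrime q.asIdeal),
    ← IsScalarTower.algebraMap_apply B (Localization.AtPrime q.asIdeal) (locAt C q),
    IsScalarTower.algebraMap_apply A C (locAt C q), IsScalarTower.algebraMap_apply A B C,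
    ← IsScalarTower.algebraMap_apply B C (locAt C q)]

omit [IsLocalRing A] [Module.Finite B C] in
lemma isScalarTower_locAt' (q : MaximalSpectrum B) (P : MaximalSpectrum (locAt C q)) :
    IsScalarTower A (Localization.AtPrime q.asIdeal) (Localization.AtPrime P.asIdeal) := by
  have := isScalarTower_locAt (A := A) (C := C) q
  refine IsScalarTower.of_algebraMap_eq fun a => ?_
  rw [IsScalarTower.algebraMap_apply A (locAt C q) (Localization.AtPrime P.asIdeal),
    IsScalarTower.algebraMap_apply A (Localization.AtPrime q.asIdeal) (locAt C q),
    ← IsScalarTower.algebraMap_apply (Localization.AtPrime q.asIdeal) (locAt C q)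
      (Localization.AtPrime P.asIdeal)]

/-- The local ring of `C` at the maximal ideal below `P` is the local ring of `locAt C q`
at `P`. -/
noncomputable def downEquiv (q : MaximalSpectrum B) (P : MaximalSpectrum (locAt C q)) :
    Localization.AtPrime (down q P).asIdeal ≃ₐ[A] Localization.AtPrime P.asIdeal :=
  (IsLocalization.localizationLocalizationAtPrimeIsoLocalization
    (Algebra.algebraMapSubmonoid C q.asIdeal.primeCompl) P.asIdeal).restrictScalars A

/-- Regrouping the product of the norms of the local symbols over the maximal ideals of `C`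
according to the maximal ideals of `B`. -/
theorem prod_regroup [Fintype (MaximalSpectrum B)] [Fintype (MaximalSpectrum C)]
    [∀ q : MaximalSpectrum B, Fintype (MaximalSpectrum (locAt C q))]
    [∀ q : MaximalSpectrum B, IsLocalHom (algebraMap A (Localization.AtPrime q.asIdeal))]
    [∀ Q : MaximalSpectrum C, IsLocalHom (algebraMap A (Localization.AtPrime Q.asIdeal))]
    (a b : A) :
    ∏ Q : MaximalSpectrum C, Algebra.norm (ResidueField A)
      (locSym (Localization.AtPrime Q.asIdeal) (algebraMap A (Localization.AtPrime Q.asIdeal) a)
        (algebraMap A (Localization.AtPrime Q.asIdeal) b)) =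
    ∏ q : MaximalSpectrum B, Algebra.norm (ResidueField A) (∏ P : MaximalSpectrum (locAt C q),
      Algebra.norm (ResidueField (Localization.AtPrime q.asIdeal))
        (locSym (Localization.AtPrime P.asIdeal)
          (algebraMap (Localization.AtPrime q.asIdeal) (Localization.AtPrime P.asIdeal)
            (algebraMap A (Localization.AtPrime q.asIdeal) a))
          (algebraMap (Localization.AtPrime q.asIdeal) (Localization.AtPrime P.asIdeal)
            (algebraMap A (Localization.AtPrime q.asIdeal) b)))) := by
  classical
  rw [← Finset.prod_fiberwise (s := Finset.univ) (g := fun Q : MaximalSpectrum C => under B Q)]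
  refine Finset.prod_congr rfl fun q _ => ?_
  rw [map_prod]
  symm
  refine Finset.prod_bij (fun P _ => down q P) ?_ ?_ ?_ ?_
  · intro P _
    simp [under_down]
  · intro P _ P' _ h
    exact down_injective q h
  · intro Q hQ
    obtain ⟨P, hP⟩ := exists_down q Q (by simpa using hQ)
    exact ⟨P, Finset.mem_univ _, hP⟩
  · intro P _
    have := isScalarTower_locAt' (A := A) (C := C) q P
    have hloc : IsLocalHom (algebraMap A (Localization.AtPrime P.asIdeal)) := by
      rw [IsScalarTower.algebraMap_eq A (Localization.AtPrime q.asIdeal)
        (Localization.AtPrime P.asIdeal)]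
      exact RingHom.isLocalHom_comp _ _
    rw [Algebra.norm_norm, ← IsScalarTower.algebraMap_apply, ← IsScalarTower.algebraMap_apply]
    exact norm_locSym_equiv (downEquiv (A := A) q P) a b

end Regroup

end Groth.Agent.CycA.TameTower
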