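import Groth.Agent.CycA.TameCompositum

/-!
# The tame symbol computed on any suitable finite extension
-/

set_option autoImplicit false
universe u v w

namespace Groth.Agent.CycA.TameValue

open IsLocalRing CycAlg Groth.Agent.CycA.TameSym Groth.Agent.CycA.TameLen
  Groth.Agent.CycA.TameNorm Groth.Agent.CycA.TameTower Groth.Agent.CycA.TameCompare
  Groth.Agent.CycA.TameCompositum

section Dim

variable (A : Type u) {B : Type v} [CommRing A] [CommRing B] [Algebra A B]

/-- The local rings of an integral extension of a ring of dimension at most one have dimension at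
most one. -/
theorem krullDimLE_localization [Algebra.IsIntegral A B] [h : Ring.KrullDimLE 1 A] (q : Ideal B)
    [q.IsPrime] : Ring.KrullDimLE 1 (Localization.AtPrime q) := by
  rw [Ring.KrullDimLE, Order.krullDimLE_iff] at h ⊢
  refine le_trans ?_ h
  refine Order.krullDim_le_of_strictMono (fun P : PrimeSpectrum (Localization.AtPrime q) =>
    (⟨(P.asIdeal.comap (algebraMap B (Localization.AtPrime q))).comap (algebraMap A B),
      inferInstance⟩ : PrimeSpectrum A)) ?_
  intro P P' hlt
  have h1 : P.asIdeal < P'.asIdeal := hlt
  have h2 : P.asIdeal.comap (algebraMap B (Localization.AtPrime q)) <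
      P'.asIdeal.comap (algebraMap B (Localization.AtPrime q)) :=
    (IsLocalization.orderEmbedding q.primeCompl (Localization.AtPrime q)).lt_iff_lt.2 h1
  have h3 := Ideal.IsIntegral.comap_lt_comap (R := A) h2
  exact h3

end Dim

section Pow

/-- A finite length module over a local ring is killed by a power of the maximal ideal. -/
lemma exists_pow_smul_eq_zero {L : Type u} [CommRing L] [IsLocalRing L] {N : Type v}
    [AddCommGroup N] [Module L N] (h : IsFiniteLength L N) :
    ∃ n : ℕ, ∀ r ∈ maximalIdeal L ^ n, ∀ x : N, r • x = 0 := by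
  induction h with
  | of_subsingleton => exact ⟨0, fun r _ x => Subsingleton.elim _ _⟩
  | @of_simple_quotient M _ _ N' _ _ ih =>
    obtain ⟨n, hn⟩ := ih
    refine ⟨n + 1, fun r hr x => ?_⟩
    rw [pow_succ] at hr
    induction hr using Submodule.mul_induction_on' with
    | mem_mul_mem a ha b hb =>
      have hmax := IsSimpleModule.annihilator_isMaximal (R := L) (M := M ⧸ N')
      have hb' : b ∈ Module.annihilator L (M ⧸ N') := by
        rw [IsLocalRing.eq_maximalIdeal hmax]
        exact hb
      have hmem : b • x ∈ N' := by
        rw [Module.mem_annihilator] at hb'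
        have := hb' (Submodule.Quotient.mk x)
        rwa [← Submodule.Quotient.mk_smul, Submodule.Quotient.mk_eq_zero] at this
      have := congrArg Subtype.val (hn a ha ⟨_, hmem⟩)
      rw [mul_smul]
      exact this
    | add a ha b hb h1 h2 => rw [add_smul, h1, h2, add_zero]

end Pow

section Value

variable {L : Type u} [CommRing L] [IsLocalRing L]

/-- Tame data from a finite extension with factorizations at all its maximal ideals. -/
noncomputable def mkData {T : Type u} [CommRing T] [Algebra L T]
    (hT : IsFinExt L T (maximalIdeal L))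
    [hloc : ∀ P : MaximalSpectrum T, IsLocalHom (algebraMap L (Localization.AtPrime P.asIdeal))]
    {x y : L} (F : ∀ P : MaximalSpectrum T, Fac (Localization.AtPrime P.asIdeal)
      (algebraMap L (Localization.AtPrime P.asIdeal) x)
      (algebraMap L (Localization.AtPrime P.asIdeal) y)) : TameData L x y where
  B := T
  isFinExt := hT
  isLocalHom := hloc
  π P := (F P).π
  π_mem P := (F P).π_mem
  u₁ P := (F P).u
  u₂ P := (F P).v
  e₁ P := (F P).e
  e₂ P := (F P).f
  fac₁ P := (F P).hx
  fac₂ P := (F P).hy

/-- The factorizations contained in tame data. -/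
noncomputable def facData {x y : L} (D : TameData L x y) (P : MaximalSpectrum D.B) :
    Fac (Localization.AtPrime P.asIdeal) (algebraMap L (Localization.AtPrime P.asIdeal) x)
      (algebraMap L (Localization.AtPrime P.asIdeal) y) :=
  ⟨D.π P, D.π_mem P, D.u₁ P, D.u₂ P, D.e₁ P, D.e₂ P, D.fac₁ P, D.fac₂ P⟩

/-- The tame symbol of two units is trivial. -/
theorem tameSymbol_units {x y : L} (hx : IsUnit x) (hy : IsUnit y) : tameSymbol L x y = 1 := by
  unfold tameSymbol
  split_ifs with h
  · rw [value_eq]
    refine (finprod_congr fun q => ?_).trans finprod_one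
    rw [locSym_units (hx.map _) (hy.map _), map_one]
  · rfl

/-- The tame symbol computed on any finite extension on which the two elements factor locally. -/
theorem tameSymbol_eq_prod [IsNoetherianRing L] [Ring.KrullDimLE 1 L] {T : Type u} [CommRing T]
    [Algebra L T] (hT : IsFinExt L T (maximalIdeal L)) [Fintype (MaximalSpectrum T)]
    [∀ P : MaximalSpectrum T, IsLocalHom (algebraMap L (Localization.AtPrime P.asIdeal))]
    {x y : L} (hx : x ∈ nonZeroDivisors L) (hy : y ∈ nonZeroDivisors L)
    (hfac : ∀ P : MaximalSpectrum T, Nonempty (Fac (Localization.AtPrime P.asIdeal)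
      (algebraMap L (Localization.AtPrime P.asIdeal) x)
      (algebraMap L (Localization.AtPrime P.asIdeal) y))) :
    tameSymbol L x y = ∏ P : MaximalSpectrum T, Algebra.norm (ResidueField L)
      (locSym (Localization.AtPrime P.asIdeal) (algebraMap L (Localization.AtPrime P.asIdeal) x)
        (algebraMap L (Localization.AtPrime P.asIdeal) y)) := by
  by_cases hu : IsUnit x ∧ IsUnit y
  · rw [tameSymbol_units hu.1 hu.2]
    symm
    refine Finset.prod_eq_one fun P _ => ?_
    rw [locSym_units (hu.1.map _) (hu.2.map _), map_one]
  · have hc : ∃ c : L, (c = x ∨ c = y) ∧ c ∈ IsLocalRing.maximalIdeal L ∧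
        c ∈ nonZeroDivisors L := by
      by_cases h : IsUnit x
      · exact ⟨y, Or.inr rfl, fun h' => hu ⟨h, h'⟩, hy⟩
      · exact ⟨x, Or.inl rfl, h, hx⟩
    obtain ⟨c, hc, hcm, hcA⟩ := hc
    have hne : Nonempty (TameData L x y) := ⟨mkData hT fun P => (hfac P).some⟩
    unfold tameSymbol
    rw [dif_pos hne]
    generalize Classical.choice hne = D
    have hD := D.isLocalHom
    have hf := D.isFinExt.2.1
    have : Finite (MaximalSpectrum D.B) := finite_maximalSpectrum L D.B
    have : Fintype (MaximalSpectrum D.B) := Fintype.ofFinite _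
    rw [value_eq, finprod_eq_prod_of_fintype]
    exact prod_locSym_eq D.isFinExt hT hc hcm hcA (fun q => ⟨facData D q⟩) hfac

end Value

end Groth.Agent.CycA.TameValue
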