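import Mathlib.RingTheory.AlgebraicIndependent.TranscendenceBasis
import Mathlib.RingTheory.TensorProduct.MvPolynomial
import Mathlib.RingTheory.Flat.Basic
import Mathlib.RingTheory.Algebraic.Integral
import Groth.Agent.CycB.TrdegAlg

/-!
# Transcendence degree of a tensor product of domains over a field

If `A`, `B` are domains over a field `K` and `A ⊗[K] B` is a domain, then
`trdeg_A (A ⊗[K] B) = trdeg_K B` and `trdeg_K (A ⊗[K] B) = trdeg_K A + trdeg_K B`.
-/

set_option autoImplicit false
universe u v w

open TensorProduct Algebra MvPolynomial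

namespace Groth.Agent.CycA.TrdTensor

theorem algebraicIndependent_one_tmul {K : Type*} [Field K] (A : Type*) {B : Type*} [CommRing A]
    [Algebra K A] [CommRing B] [Algebra K B] {ι : Type*} {x : ι → B}
    (hx : AlgebraicIndependent K x) :
    AlgebraicIndependent A (fun i => (1 : A) ⊗ₜ[K] x i) := by
  rw [algebraicIndependent_iff_injective_aeval] at hx ⊢
  have h1 : Function.Injective (Algebra.TensorProduct.map (AlgHom.id A A) (aeval (R := K) x)) :=
    Module.Flat.lTensor_preserves_injective_linearMap (M := A) (aeval (R := K) x).toLinearMap hx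
  have h2 : aeval (R := A) (fun i => (1 : A) ⊗ₜ[K] x i) =
      (Algebra.TensorProduct.map (AlgHom.id A A) (aeval (R := K) x)).comp
        (MvPolynomial.algebraTensorAlgEquiv K A).symm.toAlgHom := by
    ext i
    simp
  rw [h2]
  exact h1.comp (MvPolynomial.algebraTensorAlgEquiv K A).symm.injective

theorem isAlgebraic_one_tmul {K : Type*} [Field K] (A : Type*) {B : Type*} [CommRing A]
    [Algebra K A] [Nontrivial A] [CommRing B] [Algebra K B] {s : Set B} {b : B}
    (hb : IsAlgebraic (Algebra.adjoin K s) b) :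
    IsAlgebraic (Algebra.adjoin A ((fun b : B => (1 : A) ⊗ₜ[K] b) '' s)) ((1 : A) ⊗ₜ[K] b) := by
  obtain ⟨p, hp, hpb⟩ := hb
  have hinj : Function.Injective (Algebra.TensorProduct.includeRight : B →ₐ[K] A ⊗[K] B) :=
    Algebra.TensorProduct.includeRight_injective (algebraMap K A).injective
  let E := Algebra.adjoin A ((fun b : B => (1 : A) ⊗ₜ[K] b) '' s)
  have hmem : ∀ c ∈ Algebra.adjoin K s,
      (Algebra.TensorProduct.includeRight : B →ₐ[K] A ⊗[K] B) c ∈ E := by
    intro c hc
    induction hc using Algebra.adjoin_induction with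
    | mem c hc => exact Algebra.subset_adjoin ⟨c, hc, rfl⟩
    | algebraMap k =>
      rw [AlgHom.commutes]
      rw [IsScalarTower.algebraMap_apply K A (A ⊗[K] B)]
      exact Subalgebra.algebraMap_mem _ _
    | add c d _ _ h1 h2 => rw [map_add]; exact add_mem h1 h2
    | mul c d _ _ h1 h2 => rw [map_mul]; exact mul_mem h1 h2
  let j : Algebra.adjoin K s →+* E :=
    ((Algebra.TensorProduct.includeRight : B →ₐ[K] A ⊗[K] B).toRingHom.comp
      (algebraMap (Algebra.adjoin K s) B)).codRestrict E.toSubring (fun c => hmem c.1 c.2)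
  have hj : Function.Injective j := by
    intro c d hcd
    apply Subtype.ext
    apply hinj
    exact congrArg (fun z : E => (z : A ⊗[K] B)) hcd
  refine ⟨p.map j, ?_, ?_⟩
  · rwa [Ne, Polynomial.map_eq_zero_iff hj]
  · rw [Polynomial.aeval_def, Polynomial.eval₂_map]
    have e1 : (algebraMap E (A ⊗[K] B)).comp j =
        (Algebra.TensorProduct.includeRight : B →ₐ[K] A ⊗[K] B).toRingHom.comp
          (algebraMap (Algebra.adjoin K s) B) := rfl
    rw [e1]
    have e2 := Polynomial.hom_eval₂ p (algebraMap (Algebra.adjoin K s) B)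
      (Algebra.TensorProduct.includeRight : B →ₐ[K] A ⊗[K] B).toRingHom b
    rw [← Polynomial.aeval_def, hpb, map_zero] at e2
    exact e2.symm

theorem isTranscendenceBasis_one_tmul {K : Type*} [Field K] (A : Type*) {B : Type*} [CommRing A]
    [Algebra K A] [Nontrivial A] [CommRing B] [Algebra K B] [IsDomain (A ⊗[K] B)] {ι : Type*}
    {x : ι → B} (hx : IsTranscendenceBasis K x) :
    IsTranscendenceBasis A (fun i => (1 : A) ⊗ₜ[K] x i) := by
  rw [isTranscendenceBasis_iff_algebraicIndependent_isAlgebraic] at hx ⊢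
  refine ⟨algebraicIndependent_one_tmul A hx.1, ⟨fun z => ?_⟩⟩
  have hrange : Set.range (fun i => (1 : A) ⊗ₜ[K] x i) =
      (fun b : B => (1 : A) ⊗ₜ[K] b) '' (Set.range x) := by
    rw [← Set.range_comp]; rfl
  rw [hrange]
  induction z using TensorProduct.induction_on with
  | zero => exact isAlgebraic_zero
  | tmul a b =>
    have h1 : a ⊗ₜ[K] b = (algebraMap A (A ⊗[K] B) a) * ((1 : A) ⊗ₜ[K] b) := by
      simp [Algebra.TensorProduct.algebraMap_apply]
    rw [h1]
    refine IsAlgebraic.mul ?_ (isAlgebraic_one_tmul A (hx.2.isAlgebraic b))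
    rw [IsScalarTower.algebraMap_apply A (Algebra.adjoin A
      ((fun b : B => (1 : A) ⊗ₜ[K] b) '' (Set.range x))) (A ⊗[K] B)]
    exact isAlgebraic_algebraMap _
  | add z w hz hw => exact hz.add hw

theorem trdeg_tensor {K : Type u} [Field K] (A B : Type u) [CommRing A] [Algebra K A]
    [Nontrivial A] [CommRing B] [Algebra K B] [Nontrivial B] [IsDomain (A ⊗[K] B)] :
    Algebra.trdeg A (A ⊗[K] B) = Algebra.trdeg K B := by
  have hinj : Function.Injective (Algebra.TensorProduct.includeRight : B →ₐ[K] A ⊗[K] B) :=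
    Algebra.TensorProduct.includeRight_injective (algebraMap K A).injective
  have : NoZeroDivisors B := hinj.noZeroDivisors _ (map_zero _) (map_mul _)
  obtain ⟨s, hs⟩ := exists_isTranscendenceBasis K B
  have h1 := hs.cardinalMk_eq_trdeg
  have h2 := (isTranscendenceBasis_one_tmul A hs).cardinalMk_eq_trdeg
  rw [← h1, ← h2]

theorem trdeg_tensor_add {K : Type u} [Field K] (A B : Type u) [CommRing A] [Algebra K A]
    [Nontrivial A] [CommRing B] [Algebra K B] [Nontrivial B] [IsDomain (A ⊗[K] B)] :
    Algebra.trdeg K (A ⊗[K] B) = Algebra.trdeg K A + Algebra.trdeg K B := by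
  have : FaithfulSMul A (A ⊗[K] B) := by
    rw [faithfulSMul_iff_algebraMap_injective]
    exact Algebra.TensorProduct.includeLeft_injective (S := K) (algebraMap K B).injective
  rw [← trdeg_tensor A B, trdeg_add_eq K A (A := A ⊗[K] B)]

end Groth.Agent.CycA.TrdTensor
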